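import Cfsg.Prelude.Def_PLocal
import Cfsg.Agent.Lib.Coprime.Action
import Cfsg.Agent.Lib.Solvable.PCore
import Mathlib.GroupTheory.Frattini

/-!
# The kernel of the action on `P / Φ(P)`
-/

namespace CfsgLib.PLocal

open Subgroup
open scoped commutatorElement

variable {G : Type*} [Group G] {p : ℕ}

theorem mem_sectionKernel {K N : Subgroup G} [N.Normal] {g : G} :
    g ∈ Cfsg.sectionKernel K N ↔ ∀ k ∈ K, k⁻¹ * g⁻¹ * k * g ∈ N := by
  simp only [Cfsg.sectionKernel, mem_comap, mem_centralizer_iff]
  constructor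
  · intro h k hk
    have h1 := h _ (mem_map_of_mem _ hk)
    simp only [QuotientGroup.mk'_apply, ← QuotientGroup.mk_mul] at h1
    have h2 := QuotientGroup.eq.1 h1.symm
    simpa [mul_assoc] using h2
  · rintro h _ ⟨k, hk, rfl⟩
    simp only [QuotientGroup.mk'_apply, ← QuotientGroup.mk_mul]
    refine (QuotientGroup.eq.2 ?_).symm
    simpa [mul_assoc] using h k hk

theorem map_frattini_le (P : Subgroup G) : (frattini P).map P.subtype ≤ P :=
  map_subtype_le _

/-- A coprime element trivial on `P / Φ(P)` centralises the `p`-group `P`. -/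
theorem centralizes_of_trivial_on_frattini_quotient [Finite G] [Fact p.Prime] {P : Subgroup G}
    (hP : IsPGroup p P) {g : G} (hg : g ∈ normalizer (P : Set G))
    (hcop : (orderOf g).Coprime p)
    (h : ∀ k ∈ P, k⁻¹ * g⁻¹ * k * g ∈ (frattini P).map P.subtype) :
    g ∈ centralizer (P : Set G) := by
  set N := (frattini P).map P.subtype
  have hA : zpowers g ≤ normalizer (P : Set G) := zpowers_le.2 hg
  have hNP : N ≤ P := map_frattini_le P
  have hgN : g ∈ normalizer (N : Set G) := by
    rw [mem_normalizer_iff_map_conj_eq]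
    let e : P ≃* P := P.normalizerMonoidHom ⟨g, hg⟩
    have hφ : (frattini P).map e.toMonoidHom = frattini P :=
      characteristic_iff_map_eq.1 inferInstance e
    show ((frattini P).map P.subtype).map (MulAut.conj g).toMonoidHom = N
    conv_rhs => rw [show N = (frattini P).map P.subtype from rfl, ← hφ]
    rw [map_map, map_map]
    rfl
  have hAN : zpowers g ≤ normalizer (N : Set G) := zpowers_le.2 hgN
  obtain ⟨n, hn⟩ := hP.exists_card_eq
  have hco : (Nat.card (zpowers g)).Coprime (Nat.card P) := by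
    rw [Nat.card_zpowers, hn]; exact hcop.pow_right _
  have hsol : Group.IsSolvable (zpowers g) ∨ Group.IsSolvable N :=
    Or.inl (Group.isSolvable_of_comm fun a b => mul_comm' a b)
  have key : ∀ x ∈ P, ∃ y ∈ N, x * y ∈ centralizer (zpowers g : Set G) := by
    intro x hx
    refine Coprime.exists_mem_centralizer_of_coset hA hAN hNP hco hsol hx ?_
    -- the elements fixing the coset `x N` form a subgroup containing `g`
    intro a ha
    let M : Subgroup G :=
      { carrier := {y | y ∈ normalizer (N : Set G) ∧ x⁻¹ * y * x * y⁻¹ ∈ N}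
        one_mem' := ⟨one_mem _, by simp⟩
        mul_mem' := fun {a b} ha hb => ⟨mul_mem ha.1 hb.1, by
          have h1 := mul_mem ha.2 ((mem_normalizer_iff.1 ha.1 _).1 hb.2)
          convert h1 using 1; group⟩
        inv_mem' := fun {a} ha => ⟨inv_mem ha.1, by
          have h1 := inv_mem ((mem_normalizer_iff.1 (inv_mem ha.1) _).1 ha.2)
          convert h1 using 1; group⟩ }
    have hgM : g ∈ M := ⟨hgN, by
      have h1 := (mem_normalizer_iff.1 hgN _).1 (h x hx)
      have h2 := inv_mem h1
      convert h2 using 1; group⟩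
    exact (zpowers_le.2 hgM ha).2
  -- `P = C_P(g) Φ(P)`
  have hsup : ((centralizer (zpowers g : Set G)).subgroupOf P) ⊔ frattini P = ⊤ := by
    refine eq_top_iff.2 fun x _ => ?_
    obtain ⟨y, ⟨⟨z, hz⟩, hzΦ, rfl⟩, hy⟩ := key x x.2
    have : x = (x * ⟨z, hz⟩) * (⟨z, hz⟩ : P)⁻¹ := by group
    rw [this]
    exact mul_mem (mem_sup_left hy) (mem_sup_right (inv_mem hzΦ))
  have htop := frattini_nongenerating hsup
  intro x hx
  have hxC : (⟨x, hx⟩ : P) ∈ (centralizer (zpowers g : Set G)).subgroupOf P := htop ▸ mem_top _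
  exact (hxC g (mem_zpowers g)).symm

theorem isPGroup_of_forall_coprime [Finite G] [hp : Fact p.Prime] {K : Subgroup G}
    (h : ∀ g ∈ K, (orderOf g).Coprime p → g = 1) : IsPGroup p K := by
  refine IsPGroup.of_card (n := (Nat.card K).primeFactorsList.length) ?_
  refine Nat.eq_prime_pow_of_unique_prime_dvd Nat.card_pos.ne' fun {q} hq hdvd => ?_
  by_contra hne
  have := Fact.mk hq
  obtain ⟨x, hx⟩ := exists_prime_orderOf_dvd_card' q hdvd
  have h1 := h x x.2 (by rw [Subgroup.orderOf_coe, hx]; exact (Nat.coprime_primes hq hp.out).2 hne)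
  have h2 : x = 1 := Subtype.ext h1
  rw [h2, orderOf_one] at hx
  exact hq.one_lt.ne hx

/-- If `C_G(P) ≤ P` then the kernel of the action on `P / Φ(P)` is a `p`-group. -/
theorem sectionKernel_frattini_isPGroup [Finite G] [Fact p.Prime] {P : Subgroup G} [P.Normal]
    (hP : IsPGroup p P) (hc : centralizer (P : Set G) ≤ P) :
    IsPGroup p (Cfsg.sectionKernel P ((frattini P).map P.subtype)) := by
  refine isPGroup_of_forall_coprime fun g hg hcop => ?_
  have hgP : g ∈ P := hc (centralizes_of_trivial_on_frattini_quotient hP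
    (by rw [normalizer_eq_top]; exact mem_top g) hcop (mem_sectionKernel.1 hg))
  obtain ⟨k, hk⟩ := (IsPGroup.iff_orderOf (G := P) (p := p)).1 hP ⟨g, hgP⟩
  rw [Subgroup.orderOf_mk] at hk
  refine orderOf_eq_one_iff.1 (Nat.eq_one_of_dvd_coprimes hcop dvd_rfl ?_)
  rcases k with _ | k
  · rw [pow_zero] at hk; rw [hk]; exact one_dvd p
  · exfalso
    have hd : p ∣ orderOf g := by rw [show orderOf g = p ^ (k + 1) from hk]; exact dvd_pow_self p k.succ_ne_zero
    exact (Fact.out : p.Prime).one_lt.ne' (Nat.eq_one_of_dvd_coprimes hcop hd dvd_rfl)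

end CfsgLib.PLocal
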