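import Cfsg.Agent.Lib.PLocal.Basic
import Mathlib.GroupTheory.Sylow

/-!
# The Thompson subgroup generated by the elementary abelian subgroups of largest order
-/

namespace CfsgLib.PLocal

open Subgroup
open scoped commutatorElement

universe u

variable {G : Type u} [Group G] {p : ℕ}

/-- The elementary abelian subgroups of largest order inside `U`, as subgroups of `G`. -/
def maxElemIn (p : ℕ) (U : Subgroup G) : Set (Subgroup G) :=
  {A | A ≤ U ∧ Cfsg.IsElementaryAbelian p A ∧
    ∀ B : Subgroup G, B ≤ U → Cfsg.IsElementaryAbelian p B → Nat.card B ≤ Nat.card A}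

theorem maxElemIn_eq_image (U : Subgroup G) :
    maxElemIn p U =
      (fun A : Subgroup U => A.map U.subtype) '' Cfsg.maxElementaryAbelianSubgroups p U := by
  ext A
  constructor
  · rintro ⟨hAU, hA, hmax⟩
    refine ⟨A.comap U.subtype, ⟨elemAb_comap_of_injective U.subtype_injective hA, fun B hB => ?_⟩,
      map_comap_eq_self (by rwa [range_subtype])⟩
    have := hmax (B.map U.subtype) (map_subtype_le B) (elemAb_map _ hB)
    rwa [card_map_of_injective U.subtype_injective,
      ← Nat.card_congr (subgroupOfEquivOfLe hAU).toEquiv] at this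
  · rintro ⟨A, ⟨hA, hmax⟩, rfl⟩
    refine ⟨map_subtype_le A, elemAb_map _ hA, fun B hBU hB => ?_⟩
    have := hmax (B.comap U.subtype) (elemAb_comap_of_injective U.subtype_injective hB)
    rw [card_map_of_injective U.subtype_injective]
    exact le_of_eq_of_le (Nat.card_congr (subgroupOfEquivOfLe hBU).toEquiv).symm this

theorem thompsonOf_eq (U : Subgroup G) :
    Cfsg.thompsonSubgroupOf p U = sSup (maxElemIn p U) := by
  unfold Cfsg.thompsonSubgroupOf Cfsg.thompsonSubgroup
  rw [maxElemIn_eq_image, sSup_image, (gc_map_comap U.subtype).l_sSup]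

theorem maxElemIn_top : maxElemIn p (⊤ : Subgroup G) = Cfsg.maxElementaryAbelianSubgroups p G := by
  ext A
  exact ⟨fun h => ⟨h.2.1, fun B hB => h.2.2 B le_top hB⟩,
    fun h => ⟨le_top, h.1, fun B _ hB => h.2 B hB⟩⟩

theorem exists_maxElemIn [Finite G] (p : ℕ) (U : Subgroup G) : (maxElemIn p U).Nonempty := by
  classical
  obtain ⟨A, hA, hmax⟩ := Set.exists_max_image
    {A : Subgroup G | A ≤ U ∧ Cfsg.IsElementaryAbelian p A} (fun A => Nat.card A)
    (Set.toFinite _) ⟨⊥, bot_le, elemAb_bot⟩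
  exact ⟨A, hA.1, hA.2, fun B hBU hB => hmax B ⟨hBU, hB⟩⟩

theorem exists_maxElem [Finite G] (p : ℕ) :
    (Cfsg.maxElementaryAbelianSubgroups p G).Nonempty :=
  maxElemIn_top (G := G) (p := p) ▸ exists_maxElemIn p ⊤

theorem thompsonOf_le (U : Subgroup G) : Cfsg.thompsonSubgroupOf p U ≤ U :=
  map_subtype_le _

theorem le_thompsonOf {U A : Subgroup G} (hA : A ∈ maxElemIn p U) :
    A ≤ Cfsg.thompsonSubgroupOf p U := by
  rw [thompsonOf_eq]; exact le_sSup hA

theorem le_thompson {A : Subgroup G} (hA : A ∈ Cfsg.maxElementaryAbelianSubgroups p G) :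
    A ≤ Cfsg.thompsonSubgroup p G :=
  le_sSup hA

theorem map_maxElem {H : Type u} [Group H] (e : G ≃* H) {A : Subgroup G}
    (hA : A ∈ Cfsg.maxElementaryAbelianSubgroups p G) :
    A.map e.toMonoidHom ∈ Cfsg.maxElementaryAbelianSubgroups p H := by
  refine ⟨elemAb_map _ hA.1, fun B hB => ?_⟩
  rw [card_map_of_injective e.injective]
  have := hA.2 (B.map e.symm.toMonoidHom) (elemAb_map _ hB)
  rwa [card_map_of_injective e.symm.injective] at this

theorem thompson_map_equiv {H : Type u} [Group H] (e : G ≃* H) :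
    (Cfsg.thompsonSubgroup p G).map e.toMonoidHom = Cfsg.thompsonSubgroup p H := by
  unfold Cfsg.thompsonSubgroup
  refine le_antisymm ?_ ?_
  · rw [map_le_iff_le_comap]
    exact sSup_le fun A hA => map_le_iff_le_comap.1 (le_sSup (map_maxElem e hA))
  · refine sSup_le fun B hB => ?_
    have := map_le_iff_le_comap.1 (le_refl (B.map e.symm.toMonoidHom))
    intro x hx
    exact ⟨e.symm x, le_sSup (map_maxElem e.symm hB) (mem_map_of_mem _ hx), e.apply_symm_apply x⟩

theorem thompson_characteristic : (Cfsg.thompsonSubgroup p G).Characteristic :=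
  characteristic_iff_map_eq.2 fun e => thompson_map_equiv e

theorem thompsonOf_map_conj (g : G) (U : Subgroup G) :
    (Cfsg.thompsonSubgroupOf p U).map (MulAut.conj g).toMonoidHom =
      Cfsg.thompsonSubgroupOf p (U.map (MulAut.conj g).toMonoidHom) := by
  unfold Cfsg.thompsonSubgroupOf
  erw [← thompson_map_equiv (p := p) ((MulAut.conj g).subgroupMap U), map_map, map_map]
  rfl

/-- The normaliser of `U` normalises `J(U)`. -/
theorem normalizer_le_normalizer_thompsonOf (U : Subgroup G) :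
    normalizer (U : Set G) ≤ normalizer (Cfsg.thompsonSubgroupOf p U : Set G) := by
  intro g hg
  have hU : U.map (MulAut.conj g).toMonoidHom = U := by
    ext x
    rw [mem_map_equiv]
    simpa [MulAut.conj_symm_apply] using (mem_normalizer_iff.1 (inv_mem hg) x).symm
  have h := thompsonOf_map_conj (p := p) g U
  rw [hU] at h
  rw [mem_normalizer_iff]
  intro x
  conv_rhs => rw [← h]
  rw [mem_map_equiv]
  simp [MulAut.conj_symm_apply, mul_assoc]

theorem maxElem_card_eq {A B : Subgroup G} (hA : A ∈ Cfsg.maxElementaryAbelianSubgroups p G)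
    (hB : B ∈ Cfsg.maxElementaryAbelianSubgroups p G) : Nat.card A = Nat.card B :=
  le_antisymm (hB.2 A hA.1) (hA.2 B hB.1)

/-- If `U` contains a maximal elementary abelian subgroup of largest order of `W ⊇ U`, the maximal
ones of `U` are those of `W` inside `U`. -/
theorem maxElemIn_of_le {U W : Subgroup G} (hUW : U ≤ W) {A₀ : Subgroup G}
    (hA₀ : A₀ ∈ maxElemIn p W) (h₀ : A₀ ≤ U) {A : Subgroup G} :
    A ∈ maxElemIn p U ↔ A ∈ maxElemIn p W ∧ A ≤ U := by
  constructor
  · rintro ⟨hAU, hA, hmax⟩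
    exact ⟨⟨hAU.trans hUW, hA, fun B hBW hB =>
      (hA₀.2.2 B hBW hB).trans (hmax A₀ h₀ hA₀.2.1)⟩, hAU⟩
  · rintro ⟨⟨_, hA, hmax⟩, hAU⟩
    exact ⟨hAU, hA, fun B hBU hB => hmax B (hBU.trans hUW) hB⟩

/-- `J(U) = J(W)` when `J(W) ≤ U ≤ W`. -/
theorem thompsonOf_eq_of_le [Finite G] {U W : Subgroup G}
    (h : Cfsg.thompsonSubgroupOf p W ≤ U) (hUW : U ≤ W) :
    Cfsg.thompsonSubgroupOf p U = Cfsg.thompsonSubgroupOf p W := by
  obtain ⟨A₀, hA₀⟩ := exists_maxElemIn p W
  have h₀ : A₀ ≤ U := (le_thompsonOf hA₀).trans h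
  rw [thompsonOf_eq, thompsonOf_eq]
  congr 1
  ext A
  rw [maxElemIn_of_le hUW hA₀ h₀]
  exact ⟨And.left, fun hA => ⟨hA, (le_thompsonOf hA).trans h⟩⟩

theorem thompsonOf_top : Cfsg.thompsonSubgroupOf p (⊤ : Subgroup G) = Cfsg.thompsonSubgroup p G := by
  rw [thompsonOf_eq, maxElemIn_top]; rfl

/-- An element with `x ^ p = 1` centralising every member of a nonempty family of maximal
elementary abelian subgroups of largest order lies in each of them. -/
theorem mem_maxElemIn_of_centralizes [Finite G] {U A : Subgroup G} (hA : A ∈ maxElemIn p U) {x : G}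
    (hxU : x ∈ U) (hxp : x ^ p = 1) (hc : x ∈ centralizer (A : Set G)) : x ∈ A := by
  have hEA : Cfsg.IsElementaryAbelian p (A ⊔ zpowers x) :=
    elemAb_sup hA.2.1 (elemAb_zpowers hxp) (le_centralizer_iff.1 (zpowers_le.2 hc))
  have hcard := hA.2.2 _ (sup_le hA.1 (zpowers_le.2 hxU)) hEA
  have heq : A = A ⊔ zpowers x := eq_of_le_of_card_ge le_sup_left hcard
  rw [heq]
  exact (le_sup_right : zpowers x ≤ A ⊔ zpowers x) (mem_zpowers x)

theorem thompson_ne_bot [Finite G] [Fact p.Prime] (h : p ∣ Nat.card G) :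
    Cfsg.thompsonSubgroup p G ≠ ⊥ := by
  obtain ⟨x, hx⟩ := exists_prime_orderOf_dvd_card' p h
  obtain ⟨A, hA⟩ := exists_maxElem (G := G) p
  intro hbot
  have hA1 : A = ⊥ := le_bot_iff.1 (hbot ▸ le_thompson hA)
  have hxp : x ^ p = 1 := by rw [← hx]; exact pow_orderOf_eq_one x
  have := hA.2 (zpowers x) (elemAb_zpowers hxp)
  rw [hA1, Nat.card_zpowers, hx, card_bot] at this
  exact absurd this (Nat.not_le.2 (Fact.out : p.Prime).one_lt)

/-- `Ω₁(Z(J(U)))` is the largest elementary abelian subgroup of `U` centralised by `J(U)`. -/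
theorem mem_omega_centerThompsonOf [Finite G] {U : Subgroup G} {x : G} (hxU : x ∈ U)
    (hxp : x ^ p = 1) (hc : x ∈ centralizer (Cfsg.thompsonSubgroupOf p U : Set G)) :
    x ∈ Cfsg.omegaOne p (Cfsg.centerThompsonOf p U) := by
  obtain ⟨A, hA⟩ := exists_maxElemIn p U
  have hxA : x ∈ A := mem_maxElemIn_of_centralizes hA hxU hxp
    (centralizer_le (le_thompsonOf hA) hc)
  exact subset_closure ⟨⟨le_thompsonOf hA hxA, hc⟩, hxp⟩

theorem omega_centerThompsonOf_elemAb (U : Subgroup G) :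
    Cfsg.IsElementaryAbelian p (Cfsg.omegaOne p (Cfsg.centerThompsonOf p U)) :=
  omegaCenter_elemAb _

/-- `Ω₁(Z(U)) ≤ Ω₁(Z(J(U)))`. -/
theorem omegaCenter_le_omega_centerThompsonOf [Finite G] (U : Subgroup G) :
    Cfsg.omegaOne p (U ⊓ centralizer (U : Set G)) ≤
      Cfsg.omegaOne p (Cfsg.centerThompsonOf p U) := by
  refine (closure_le _).2 ?_
  rintro x ⟨⟨hxU, hxc⟩, hxp⟩
  exact mem_omega_centerThompsonOf hxU hxp (centralizer_le (thompsonOf_le U) hxc)

theorem omega_centerThompsonOf_le_maxElemIn [Finite G] {U A : Subgroup G}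
    (hA : A ∈ maxElemIn p U) :
    Cfsg.omegaOne p (Cfsg.centerThompsonOf p U) ≤ A := by
  refine (closure_le _).2 ?_
  rintro x ⟨⟨hxJ, hxc⟩, hxp⟩
  exact mem_maxElemIn_of_centralizes hA (thompsonOf_le U hxJ) hxp
    (centralizer_le (le_thompsonOf hA) hxc)

theorem omegaCenterThompson_map (S : Subgroup G) :
    (Cfsg.omegaCenterThompson p S).map S.subtype =
      Cfsg.omegaOne p (Cfsg.centerThompsonOf p S) := by
  unfold Cfsg.omegaCenterThompson Cfsg.centerThompsonOf
  rw [omegaOne_map_injective S.subtype_injective]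
  congr 1
  unfold Cfsg.thompsonSubgroupOf
  ext x
  constructor
  · rintro ⟨y, ⟨hy, hc⟩, rfl⟩
    refine ⟨mem_map_of_mem _ hy, ?_⟩
    rintro _ ⟨z, hz, rfl⟩
    exact congrArg S.subtype (hc z hz)
  · rintro ⟨⟨y, hy, rfl⟩, hc⟩
    exact ⟨y, ⟨hy, fun z hz => S.subtype_injective (hc _ (mem_map_of_mem _ hz))⟩, rfl⟩

end CfsgLib.PLocal
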