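import Cfsg.Agent.Lib.PLocal.Replace

/-!
# Elementary abelian subgroups of largest order as best offenders; quadratic replacement
-/

namespace CfsgLib.PLocal

open Subgroup
open scoped commutatorElement

universe u

variable {G : Type u} [Group G] {p : ℕ}

theorem inf_centralizer_eq_inf_of_maxElemIn [Finite G] {U V A : Subgroup G} (hVU : V ≤ U)
    (hV : Cfsg.IsElementaryAbelian p V) (hA : A ∈ maxElemIn p U) :
    V ⊓ centralizer (A : Set G) = V ⊓ A :=
  le_antisymm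
    (fun x hx => ⟨hx.1, mem_maxElemIn_of_centralizes hA (hVU hx.1) (hV.2 x hx.1) hx.2⟩)
    (fun _ hx => ⟨hx.1, elemAb_le_centralizer hA.2.1 hx.2⟩)

/-- `|B| |C_V(B)| ≤ |A| |C_V(A)|` for `B ≤ A` when `A` is of largest order in `U ⊇ V`. -/
theorem maxElemIn_offender [Finite G] {U V A : Subgroup G} (hVU : V ≤ U)
    (hV : Cfsg.IsElementaryAbelian p V) (hA : A ∈ maxElemIn p U) {B : Subgroup G} (hB : B ≤ A) :
    Nat.card B * Nat.card ↥(V ⊓ centralizer (B : Set G)) ≤
      Nat.card A * Nat.card ↥(V ⊓ centralizer (A : Set G)) := by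
  refine (card_mul_le_card_sup_mul_inf _ _).trans (Nat.mul_le_mul ?_ ?_)
  · exact hA.2.2 _ (sup_le (hB.trans hA.1) (inf_le_left.trans hVU))
      (elemAb_sup (elemAb_mono hA.2.1 hB) (elemAb_mono hV inf_le_left)
        (le_centralizer_iff.1 inf_le_right))
  · refine Subgroup.card_le_of_le ?_
    rw [inf_centralizer_eq_inf_of_maxElemIn hVU hV hA]
    exact le_inf (inf_le_right.trans inf_le_left) (inf_le_left.trans hB)

theorem maxElemIn_commutator_le {V A : Subgroup G} {U : Subgroup G} (hA : A ∈ maxElemIn p U) :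
    ⁅A, A⁆ ≤ centralizer (V : Set G) ∧ ∀ a ∈ A, a ^ p ∈ centralizer (V : Set G) := by
  refine ⟨?_, fun a ha => ?_⟩
  · rw [commutator_eq_bot_iff_le_centralizer.2 (elemAb_le_centralizer hA.2.1)]
    exact bot_le
  · rw [hA.2.1.2 a ha]; exact one_mem _

theorem maxElemIn_isBestOffenderOn [Finite G] {U V A : Subgroup G} (hVU : V ≤ U)
    (hV : Cfsg.IsElementaryAbelian p V) (hA : A ∈ maxElemIn p U) :
    Cfsg.IsBestOffenderOn p V A :=
  ⟨fun _ hB => maxElemIn_offender hVU hV hA hB, maxElemIn_commutator_le hA⟩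

/-- Timmesfeld replacement for best offenders. -/
theorem bestOffender_replace [Finite G] [Fact p.Prime] {V A : Subgroup G}
    (hV : Cfsg.IsElementaryAbelian p V) (hAV : A ≤ normalizer (V : Set G))
    (hA : Cfsg.IsBestOffenderOn p V A) {U : Subgroup G} (hU : U ≤ V) :
    Cfsg.IsBestOffenderOn p V (A ⊓ centralizer ((⁅U, A⁆ : Subgroup G) : Set G)) ∧
      V ⊓ centralizer ((A ⊓ centralizer ((⁅U, A⁆ : Subgroup G) : Set G) : Subgroup G) : Set G) =
        ⁅U, A⁆ ⊔ (V ⊓ centralizer (A : Set G)) ∧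
      Nat.card A * Nat.card ↥(V ⊓ centralizer (A : Set G)) =
        Nat.card ↥(A ⊓ centralizer ((⁅U, A⁆ : Subgroup G) : Set G)) *
          Nat.card ↥(V ⊓ centralizer
            ((A ⊓ centralizer ((⁅U, A⁆ : Subgroup G) : Set G) : Subgroup G) : Set G)) ∧
      (⁅V, A⁆ ≠ ⊥ → ⁅V, A ⊓ centralizer ((⁅U, A⁆ : Subgroup G) : Set G)⁆ ≠ ⊥) := by
  have hVc := elemAb_le_centralizer hV
  obtain ⟨e1, e2⟩ := timmesfeld_eq hVc hAV hA.2.1 hA.1 hU
  refine ⟨⟨fun B hB => ?_, ?_, ?_⟩, e1, e2, fun hne hbot => hne ?_⟩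
  · exact (hA.1 B (hB.trans inf_le_left)).trans e2.le
  · exact (commutator_mono inf_le_left inf_le_left).trans hA.2.1
  · exact fun a ha => hA.2.2 a ha.1
  · refine commutator_eq_bot_of_le_sup hVc (elemAb_isPGroup hV) hAV hA.2.2 ?_
    rw [inf_eq_left.2 (commutator_eq_bot_iff_le_centralizer.1 hbot)] at e1
    exact le_trans e1.le (sup_le_sup_right (commutator_mono hU le_rfl) _)

/-- The quadratic replacement `A₀ = ⁅V, A⁆ C_A(⁅V, A⁆)`. -/
theorem maxElemIn_replace [Finite G] [Fact p.Prime] {U V A : Subgroup G} (hVU : V ≤ U)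
    (hUV : U ≤ normalizer (V : Set G)) (hV : Cfsg.IsElementaryAbelian p V)
    (hA : A ∈ maxElemIn p U) :
    (⁅V, A⁆ ⊔ (A ⊓ centralizer ((⁅V, A⁆ : Subgroup G) : Set G))) ∈ maxElemIn p U ∧
    ⁅⁅V, ⁅V, A⁆ ⊔ (A ⊓ centralizer ((⁅V, A⁆ : Subgroup G) : Set G))⁆,
      ⁅V, A⁆ ⊔ (A ⊓ centralizer ((⁅V, A⁆ : Subgroup G) : Set G))⁆ = ⊥ ∧
    (⁅V, A⁆ ≠ ⊥ →
      ⁅V, ⁅V, A⁆ ⊔ (A ⊓ centralizer ((⁅V, A⁆ : Subgroup G) : Set G))⁆ ≠ ⊥) := by
  have hVc := elemAb_le_centralizer hV
  have hAV : A ≤ normalizer (V : Set G) := hA.1.trans hUV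
  obtain ⟨-, e1, e2, hne⟩ := bestOffender_replace hV hAV (maxElemIn_isBestOffenderOn hVU hV hA)
    (le_refl V)
  set X := ⁅V, A⁆
  set B := A ⊓ centralizer (X : Set G)
  have hXV : X ≤ V := commutator_le_of_normalizes hAV le_rfl
  have hXB : X ≤ centralizer (B : Set G) := le_centralizer_iff.1 inf_le_right
  have hEA : Cfsg.IsElementaryAbelian p (X ⊔ B) :=
    elemAb_sup (elemAb_mono hV hXV) (elemAb_mono hA.2.1 inf_le_left) hXB
  have hCA : V ⊓ centralizer (A : Set G) ≤ B := by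
    rw [inf_centralizer_eq_inf_of_maxElemIn hVU hV hA]
    exact le_inf inf_le_right ((inf_le_left.trans hVc).trans (centralizer_le hXV))
  refine ⟨⟨sup_le (hXV.trans hVU) (inf_le_left.trans hA.1), hEA, fun D hDU hD => ?_⟩, ?_, ?_⟩
  · refine (hA.2.2 D hDU hD).trans (Nat.le_of_mul_le_mul_right ?_
      (Nat.card_pos (α := ↥(V ⊓ centralizer (A : Set G)))))
    rw [e2, e1, mul_comm (Nat.card ↥B)]
    refine (card_mul_le_card_sup_mul_inf _ _).trans (Nat.mul_le_mul ?_ ?_)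
    · exact Subgroup.card_le_of_le
        (sup_le (sup_le le_sup_left (hCA.trans le_sup_right)) le_sup_right)
    · refine Subgroup.card_le_of_le ?_
      rw [inf_centralizer_eq_inf_of_maxElemIn hVU hV hA]
      exact le_inf (inf_le_left.trans (sup_le hXV inf_le_left)) (inf_le_right.trans inf_le_left)
  · rw [commutator_eq_bot_iff_le_centralizer]
    have h1 : ⁅V, X ⊔ B⁆ ≤ X := by
      rw [commutator_le]
      intro v hv a ha
      rw [← SetLike.mem_coe, coe_mul_of_left_le_normalizer_right _ _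
        (hXB.trans (centralizer_le_normalizer _))] at ha
      obtain ⟨x, hx, b, hb, rfl⟩ := ha
      have h : v * x = x * v := hVc (hXV hx) v hv
      have e : ⁅v, x * b⁆ = x * ⁅v, b⁆ * x⁻¹ := by
        rw [commutatorElement_def, commutatorElement_def]
        calc v * (x * b) * v⁻¹ * (x * b)⁻¹ = (v * x) * b * v⁻¹ * b⁻¹ * x⁻¹ := by group
          _ = _ := by rw [h]; group
      have hmem : ⁅v, b⁆ ∈ X := commutator_mem_commutator hv hb.1
      rw [e]
      exact mul_mem (mul_mem hx hmem) (inv_mem hx)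
    exact h1.trans ((le_sup_left : X ≤ X ⊔ B).trans (elemAb_le_centralizer hEA))
  · exact fun h hbot => hne h (le_bot_iff.1 (le_trans (commutator_mono le_rfl le_sup_right) hbot.le))

end CfsgLib.PLocal
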