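import Cfsg.Agent.Lib.Transfer.Frobenius
import Cfsg.Agent.Lib.Solvable.PCore
import Mathlib.GroupTheory.Sylow

/-!
# Sylow intersections with normal subgroups, Frattini arguments
-/

namespace CfsgLib.PLocal

open Subgroup
open scoped commutatorElement Pointwise

variable {G : Type*} [Group G] [Finite G] {p : ℕ} [Fact p.Prime]

omit [Finite G] [Fact p.Prime] in
theorem mem_normalizer_map_conj {H : Subgroup G} {g : G} :
    g ∈ normalizer (H : Set G) ↔ H.map (MulAut.conj g).toMonoidHom = H :=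
  mem_normalizer_iff_map_conj_eq

omit [Finite G] [Fact p.Prime] in
theorem le_normalizer_of_normal (H N : Subgroup G) [N.Normal] : H ≤ normalizer (N : Set G) := by
  rw [normalizer_eq_top]; exact le_top

theorem sylow_inf_normal_not_dvd (P : Sylow p G) (N : Subgroup G) [N.Normal] :
    ¬ p ∣ ((P : Subgroup G) ⊓ N).relIndex N := by
  rw [inf_relIndex_right]
  obtain ⟨S, hS⟩ := Transfer.exists_sylow_eq_subgroupOf P N
  rw [relIndex, ← hS]
  exact S.not_dvd_index

omit [Fact p.Prime] in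
theorem sylow_inf_isPGroup (P : Sylow p G) (N : Subgroup G) :
    IsPGroup p ↥((P : Subgroup G) ⊓ N) :=
  P.2.to_le inf_le_left

/-- Frattini argument, product form. -/
theorem frattini_mul (P : Sylow p G) (N : Subgroup G) [N.Normal] (g : G) :
    ∃ c ∈ N, ∃ n ∈ normalizer (((P : Subgroup G) ⊓ N : Subgroup G) : Set G), g = c * n := by
  obtain ⟨S, hS⟩ := Transfer.exists_sylow_eq_subgroupOf P N
  have h := S.normalizer_sup_eq_top
  rw [hS, subgroupOf_map_subtype] at h
  have hg : g ∈ (N : Set G) *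
      (normalizer (((P : Subgroup G) ⊓ N : Subgroup G) : Set G) : Set G) := by
    rw [← normal_mul, sup_comm, h]
    trivial
  obtain ⟨c, hc, n, hn, e⟩ := hg
  exact ⟨c, hc, n, hn, e.symm⟩

theorem frattini_sup (P : Sylow p G) (N : Subgroup G) [N.Normal] :
    N ⊔ normalizer (((P : Subgroup G) ⊓ N : Subgroup G) : Set G) = ⊤ := by
  refine eq_top_iff.2 fun g _ => ?_
  obtain ⟨c, hc, n, hn, rfl⟩ := frattini_mul P N g
  exact mul_mem (mem_sup_left hc) (mem_sup_right hn)

/-- A normal subgroup `D ⊇ C` with `D / C` a `p`-group is covered by `C` and any Sylow subgroup. -/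
theorem normal_pGroup_quotient_le (P : Sylow p G) {C D : Subgroup G} [D.Normal] (hCD : C ≤ D)
    (h : ∃ k, C.relIndex D = p ^ k) : D ≤ C ⊔ ((P : Subgroup G) ⊓ D) := by
  obtain ⟨k, hk⟩ := h
  set W := C ⊔ ((P : Subgroup G) ⊓ D)
  have h1 : W.relIndex D ∣ p ^ k := hk ▸ relIndex_dvd_of_le_left D le_sup_left
  have h2 : ¬ p ∣ W.relIndex D := fun hd => sylow_inf_normal_not_dvd P D
    (hd.trans (relIndex_dvd_of_le_left D le_sup_right))
  obtain ⟨j, hj, hW⟩ := (Nat.dvd_prime_pow (Fact.out : p.Prime)).1 h1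
  rcases j with _ | j
  · exact relIndex_eq_one.1 (by rw [hW, pow_zero])
  · exact absurd (hW ▸ dvd_pow_self p j.succ_ne_zero) h2

/-- Preimage of `O_p` of a quotient. -/
theorem pCore_comap_relIndex (C : Subgroup G) [C.Normal] :
    ∃ k, C.relIndex ((Cfsg.pCore p (G ⧸ C)).comap (QuotientGroup.mk' C)) = p ^ k := by
  obtain ⟨n, hn⟩ := (Solvable.pCore_isPGroup (G := G ⧸ C) p).exists_card_eq
  refine ⟨n, ?_⟩
  have h := relIndex_comap (⊥ : Subgroup (G ⧸ C)) (QuotientGroup.mk' C)
    ((Cfsg.pCore p (G ⧸ C)).comap (QuotientGroup.mk' C))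
  rw [MonoidHom.comap_bot, QuotientGroup.ker_mk', map_comap_eq_self_of_surjective
    (QuotientGroup.mk'_surjective C), relIndex_bot_left, hn] at h
  exact h

/-- A normal `p`-subgroup-quotient lands in `O_p` of the quotient. -/
theorem le_pCore_comap {C D : Subgroup G} [C.Normal] [D.Normal] (hCD : C ≤ D)
    (h : ∃ k, C.relIndex D = p ^ k) :
    D ≤ (Cfsg.pCore p (G ⧸ C)).comap (QuotientGroup.mk' C) := by
  rw [← map_le_iff_le_comap]
  obtain ⟨k, hk⟩ := h
  refine Solvable.le_pCore (‹D.Normal›.map _ (QuotientGroup.mk'_surjective C))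
    (IsPGroup.of_card (n := k) ?_)
  rw [← hk, ← relIndex_bot_left, ← relIndex_comap, MonoidHom.comap_bot, QuotientGroup.ker_mk']

end CfsgLib.PLocal
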