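import Cfsg.Agent.Lib.PLocal.Basic
import Cfsg.Agent.Lib.PLocal.Sylow

/-!
# The subgroup generated by the `Ω₁(Z(S))`, `S` a Sylow subgroup
-/

namespace CfsgLib.PLocal

open Subgroup
open scoped commutatorElement Pointwise

variable {G : Type*} [Group G] {p : ℕ}

theorem inf_centralizer_map {H : Type*} [Group H] (e : G ≃* H) (U : Subgroup G) :
    (U ⊓ centralizer (U : Set G)).map e.toMonoidHom =
      U.map e.toMonoidHom ⊓ centralizer (U.map e.toMonoidHom : Set H) := by
  ext y
  constructor
  · rintro ⟨x, ⟨hx, hc⟩, rfl⟩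
    refine ⟨mem_map_of_mem _ hx, ?_⟩
    rintro _ ⟨z, hz, rfl⟩
    rw [← map_mul, ← map_mul, hc z hz]
  · rintro ⟨⟨x, hx, rfl⟩, hc⟩
    exact ⟨x, ⟨hx, fun z hz => e.injective
      (by rw [map_mul, map_mul]; exact hc _ (mem_map_of_mem _ hz))⟩, rfl⟩

theorem omegaCenter_smul (S : Sylow p G) (g : G) :
    (Cfsg.omegaOne p ((S : Subgroup G) ⊓ centralizer ((S : Subgroup G) : Set G))).map
        (MulAut.conj g).toMonoidHom =
      Cfsg.omegaOne p (((g • S : Sylow p G) : Subgroup G) ⊓
        centralizer (((g • S : Sylow p G) : Subgroup G) : Set G)) := by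
  rw [omegaOne_map_equiv, inf_centralizer_map]
  rfl

theorem omegaCenterJoin_normal :
    (⨆ S : Sylow p G,
      Cfsg.omegaOne p ((S : Subgroup G) ⊓ centralizer ((S : Subgroup G) : Set G))).Normal := by
  refine normalizer_eq_top_iff.1 (eq_top_iff.2 fun g _ => ?_)
  rw [mem_normalizer_iff_map_conj_eq, Subgroup.map_iSup]
  refine le_antisymm (iSup_le fun S => ?_) (iSup_le fun S => ?_)
  · exact (omegaCenter_smul S g).le.trans (le_iSup (fun T : Sylow p G =>
      Cfsg.omegaOne p ((T : Subgroup G) ⊓ centralizer ((T : Subgroup G) : Set G))) (g • S))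
  · refine le_trans ?_ (le_iSup (fun T : Sylow p G =>
      (Cfsg.omegaOne p ((T : Subgroup G) ⊓ centralizer ((T : Subgroup G) : Set G))).map
        (MulAut.conj g : G →* G)) (g⁻¹ • S))
    exact ((omegaCenter_smul (g⁻¹ • S) g).trans (by rw [smul_inv_smul])).ge

/-- A normal subgroup with `p`-power index over the centralizer of a `V` generated by fixed points
of Sylow subgroups centralises `V`. -/
theorem le_centralizer_of_generated [Finite G] [Fact p.Prime] {V : Subgroup G} [V.Normal]
    (f : Sylow p G → Subgroup G)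
    (hf : ∀ S : Sylow p G, f S ≤ centralizer ((S : Subgroup G) : Set G)) (hV : V = ⨆ S, f S)
    {D : Subgroup G} [D.Normal] (hCD : centralizer (V : Set G) ≤ D)
    (h : ∃ k, (centralizer (V : Set G)).relIndex D = p ^ k) : D ≤ centralizer (V : Set G) := by
  conv_rhs => rw [hV]
  rw [le_centralizer_iff]
  refine iSup_le fun S => ?_
  rw [le_centralizer_iff]
  refine (normal_pGroup_quotient_le S hCD h).trans (sup_le (centralizer_le ?_)
    (inf_le_left.trans (le_centralizer_iff.1 (hf S))))
  rw [hV]
  exact le_iSup f S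

end CfsgLib.PLocal
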