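import Cfsg.Prelude.Def_PLocal
import Mathlib.GroupTheory.PGroup
import Mathlib.Tactic.Group

/-!
# Elementary abelian subgroups, `omegaOne`, commutators with an element acting on an abelian subgroup
-/

namespace CfsgLib.PLocal

open Subgroup
open scoped commutatorElement

variable {G : Type*} [Group G] {p : ℕ}

theorem elemAb_mono {A B : Subgroup G} (hA : Cfsg.IsElementaryAbelian p A) (h : B ≤ A) :
    Cfsg.IsElementaryAbelian p B :=
  ⟨le_centralizer_iff_isMulCommutative.1 (fun x hx y hy =>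
    le_centralizer_iff_isMulCommutative.2 hA.1 (h hx) y (h hy)), fun a ha => hA.2 a (h ha)⟩

theorem elemAb_comm {A : Subgroup G} (hA : Cfsg.IsElementaryAbelian p A) {x y : G} (hx : x ∈ A)
    (hy : y ∈ A) : x * y = y * x :=
  (le_centralizer_iff_isMulCommutative.2 hA.1 hy) x hx

theorem elemAb_le_centralizer {A : Subgroup G} (hA : Cfsg.IsElementaryAbelian p A) :
    A ≤ centralizer (A : Set G) :=
  le_centralizer_iff_isMulCommutative.2 hA.1

theorem elemAb_isPGroup {A : Subgroup G} (hA : Cfsg.IsElementaryAbelian p A) : IsPGroup p A :=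
  fun x => ⟨1, Subtype.ext (by simpa using hA.2 x x.2)⟩

theorem elemAb_bot : Cfsg.IsElementaryAbelian p (⊥ : Subgroup G) :=
  ⟨le_centralizer_iff_isMulCommutative.1 (fun x hx => by simp [mem_bot.1 hx]),
    fun a ha => by simp [mem_bot.1 ha]⟩

theorem elemAb_map {H : Type*} [Group H] (f : G →* H) {A : Subgroup G}
    (hA : Cfsg.IsElementaryAbelian p A) : Cfsg.IsElementaryAbelian p (A.map f) := by
  refine ⟨le_centralizer_iff_isMulCommutative.1 ?_, ?_⟩
  · rintro _ ⟨x, hx, rfl⟩ _ ⟨y, hy, rfl⟩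
    rw [← map_mul, ← map_mul, elemAb_comm hA hx hy]
  · rintro _ ⟨x, hx, rfl⟩
    rw [← map_pow, hA.2 x hx, map_one]

theorem elemAb_comap_of_injective {H : Type*} [Group H] {f : G →* H} (hf : Function.Injective f)
    {A : Subgroup H} (hA : Cfsg.IsElementaryAbelian p A) :
    Cfsg.IsElementaryAbelian p (A.comap f) := by
  refine ⟨le_centralizer_iff_isMulCommutative.1 ?_, ?_⟩
  · intro x hx y hy
    apply hf
    rw [map_mul, map_mul, elemAb_comm hA hy hx]
  · intro x hx
    apply hf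
    rw [map_pow, hA.2 _ hx, map_one]

theorem elemAb_map_iff {H : Type*} [Group H] {f : G →* H} (hf : Function.Injective f)
    {A : Subgroup G} : Cfsg.IsElementaryAbelian p (A.map f) ↔ Cfsg.IsElementaryAbelian p A :=
  ⟨fun h => elemAb_mono (elemAb_comap_of_injective hf h) (le_comap_map f A), elemAb_map f⟩

/-- The join of two commuting elementary abelian subgroups is elementary abelian. -/
theorem elemAb_sup {A B : Subgroup G} (hA : Cfsg.IsElementaryAbelian p A)
    (hB : Cfsg.IsElementaryAbelian p B) (h : A ≤ centralizer (B : Set G)) :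
    Cfsg.IsElementaryAbelian p (A ⊔ B) := by
  have hAB : A ⊔ B ≤ centralizer ((A ⊔ B : Subgroup G) : Set G) := by
    refine sup_le ?_ ?_ <;> rw [le_centralizer_iff] <;> refine sup_le ?_ ?_
    · exact elemAb_le_centralizer hA
    · exact le_centralizer_iff.1 h
    · exact h
    · exact elemAb_le_centralizer hB
  refine ⟨le_centralizer_iff_isMulCommutative.1 hAB, fun a ha => ?_⟩
  rw [← zpowers_le] at ha
  have hn : A ≤ normalizer (B : Set G) := h.trans (centralizer_le_normalizer _)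
  have hmem : a ∈ (A ⊔ B : Subgroup G) := ha (mem_zpowers a)
  rw [← SetLike.mem_coe, coe_mul_of_left_le_normalizer_right A B hn] at hmem
  obtain ⟨x, hx, y, hy, rfl⟩ := hmem
  have hc : Commute x y := (h hx y hy).symm
  rw [hc.mul_pow, hA.2 x hx, hB.2 y hy, one_mul]

theorem elemAb_zpowers {x : G} (hx : x ^ p = 1) : Cfsg.IsElementaryAbelian p (zpowers x) := by
  refine ⟨zpowers_isMulCommutative x, ?_⟩
  rintro _ ⟨k, rfl⟩
  rw [← zpow_natCast, ← zpow_mul, mul_comm, zpow_mul, zpow_natCast, hx, one_zpow]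

theorem le_omegaOne {H A : Subgroup G} (hA : Cfsg.IsElementaryAbelian p A) (h : A ≤ H) :
    A ≤ Cfsg.omegaOne p H :=
  fun x hx => subset_closure ⟨h hx, hA.2 x hx⟩

theorem omegaOne_le (p : ℕ) (H : Subgroup G) : Cfsg.omegaOne p H ≤ H :=
  (closure_le _).2 fun _ hx => hx.1

theorem omegaOne_mono {H K : Subgroup G} (h : H ≤ K) :
    Cfsg.omegaOne p H ≤ Cfsg.omegaOne p K :=
  closure_mono fun _ hx => ⟨h hx.1, hx.2⟩

theorem omegaOne_map_equiv {H : Type*} [Group H] (e : G ≃* H) (K : Subgroup G) :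
    (Cfsg.omegaOne p K).map e.toMonoidHom = Cfsg.omegaOne p (K.map e.toMonoidHom) := by
  unfold Cfsg.omegaOne
  rw [MonoidHom.map_closure]
  congr 1
  ext y
  simp only [Set.mem_image, Set.mem_ofPred_eq, Subgroup.mem_map, MulEquiv.coe_toMonoidHom]
  constructor
  · rintro ⟨x, ⟨hx, hp⟩, rfl⟩
    exact ⟨⟨x, hx, rfl⟩, by rw [← map_pow, hp, map_one]⟩
  · rintro ⟨⟨x, hx, rfl⟩, hp⟩
    exact ⟨x, ⟨hx, e.injective (by rw [map_pow, map_one]; exact hp)⟩, rfl⟩

theorem omegaOne_map_injective {H : Type*} [Group H] {f : G →* H} (hf : Function.Injective f)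
    (K : Subgroup G) :
    (Cfsg.omegaOne p K).map f = Cfsg.omegaOne p (K.map f) := by
  unfold Cfsg.omegaOne
  rw [MonoidHom.map_closure]
  congr 1
  ext y
  simp only [Set.mem_image, Set.mem_ofPred_eq, Subgroup.mem_map]
  constructor
  · rintro ⟨x, ⟨hx, hp⟩, rfl⟩
    exact ⟨⟨x, hx, rfl⟩, by rw [← map_pow, hp, map_one]⟩
  · rintro ⟨⟨x, hx, rfl⟩, hp⟩
    exact ⟨x, ⟨hx, hf (by rw [map_pow, map_one]; exact hp)⟩, rfl⟩

/-- On a commutative subgroup, `Ω₁` is elementary abelian. -/
theorem omegaOne_elemAb {H : Subgroup G} (hH : H ≤ centralizer (H : Set G)) :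
    Cfsg.IsElementaryAbelian p (Cfsg.omegaOne p H) := by
  have hcomm : Cfsg.omegaOne p H ≤ centralizer (Cfsg.omegaOne p H : Set G) :=
    ((omegaOne_le p H).trans hH).trans (centralizer_le (omegaOne_le p H))
  refine ⟨le_centralizer_iff_isMulCommutative.1 hcomm, fun a ha => ?_⟩
  induction ha using closure_induction with
  | mem x hx => exact hx.2
  | one => simp
  | mul x y hx hy hxp hyp =>
    have hc : Commute x y := (hcomm hx y hy).symm
    rw [hc.mul_pow, hxp, hyp, one_mul]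
  | inv x hx hxp => rw [inv_pow, hxp, inv_one]

theorem centerInf_comm (H : Subgroup G) :
    H ⊓ centralizer (H : Set G) ≤
      centralizer ((H ⊓ centralizer (H : Set G) : Subgroup G) : Set G) :=
  fun _ hx y hy => hx.2 y hy.1

theorem omegaCenter_elemAb (H : Subgroup G) :
    Cfsg.IsElementaryAbelian p (Cfsg.omegaOne p (H ⊓ centralizer (H : Set G))) :=
  omegaOne_elemAb (centerInf_comm H)

/-! ### Acting on an abelian subgroup -/

/-- `v ↦ ⁅a, v⁆` on an abelian subgroup normalised by `a`, as a homomorphism. -/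
def commHom (V : Subgroup G) (hV : V ≤ centralizer (V : Set G)) (a : G)
    (ha : a ∈ normalizer (V : Set G)) : V →* V where
  toFun v := ⟨⁅a, (v : G)⁆, mul_mem ((mem_normalizer_iff.1 ha v).1 v.2) (inv_mem v.2)⟩
  map_one' := Subtype.ext (commutatorElement_one_right a)
  map_mul' v w := Subtype.ext (by
    have h1 : a * (w : G) * a⁻¹ ∈ V := (mem_normalizer_iff.1 ha w).1 w.2
    have h2 : (a * (w : G) * a⁻¹) * (v : G)⁻¹ = (v : G)⁻¹ * (a * (w : G) * a⁻¹) :=
      (hV (inv_mem v.2) _ h1)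
    have h3 : (w : G)⁻¹ * (v : G)⁻¹ = (v : G)⁻¹ * (w : G)⁻¹ :=
      hV (inv_mem v.2) _ (inv_mem w.2)
    show ⁅a, (v : G) * w⁆ = ⁅a, (v : G)⁆ * ⁅a, (w : G)⁆
    rw [commutatorElement_def, commutatorElement_def, commutatorElement_def, mul_inv_rev, h3,
      show a * ((v : G) * w) * a⁻¹ = (a * v * a⁻¹) * (a * w * a⁻¹) by group,
      mul_assoc (a * ↑v * a⁻¹), ← mul_assoc (a * ↑w * a⁻¹), h2]
    group)

@[simp] theorem commHom_coe (V : Subgroup G) (hV : V ≤ centralizer (V : Set G)) (a : G)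
    (ha : a ∈ normalizer (V : Set G)) (v : V) : (commHom V hV a ha v : G) = ⁅a, (v : G)⁆ := rfl

theorem commHom_ker {V : Subgroup G} (hV : V ≤ centralizer (V : Set G)) {a : G}
    (ha : a ∈ normalizer (V : Set G)) :
    (commHom V hV a ha).ker.map V.subtype = V ⊓ centralizer (zpowers a : Set G) := by
  ext x
  constructor
  · rintro ⟨v, hv, rfl⟩
    refine ⟨v.2, ?_⟩
    have hv' : ⁅a, (v : G)⁆ = 1 := congrArg (Subtype.val) (MonoidHom.mem_ker.1 hv)
    rw [commutatorElement_eq_one_iff_commute] at hv'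
    rintro _ ⟨k, rfl⟩
    exact (hv'.zpow_left k).eq
  · rintro ⟨hx, hc⟩
    exact ⟨⟨x, hx⟩, MonoidHom.mem_ker.2 (Subtype.ext
      (commutatorElement_eq_one_iff_mul_comm.2 (hc a (mem_zpowers a)))), rfl⟩

/-- Quadratic action of an element: `a` commutes with every `⁅a, v⁆`, `v ∈ V`. -/
theorem quad_elem {V : Subgroup G} {a : G}
    (hq : ⁅⁅V, zpowers a⁆, zpowers a⁆ = ⊥) {v : G} (hv : v ∈ V) :
    Commute a ⁅a, v⁆ := by
  have h1 : ⁅v, a⁆ ∈ ⁅V, zpowers a⁆ := commutator_mem_commutator hv (mem_zpowers a)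
  have h2 : Commute ⁅v, a⁆ a := by
    rw [commute_iff_eq]
    exact ((commutator_eq_bot_iff_le_centralizer.1 hq) h1 a (mem_zpowers a)).symm
  rw [← commutatorElement_inv]
  exact h2.inv_left.symm

/-- The group generated by `⁅V, zpowers a⁆` centralises `a` if each `⁅a, v⁆` does. -/
theorem quad_of_elem {V : Subgroup G} (hV : V ≤ centralizer (V : Set G)) {a : G}
    (ha : a ∈ normalizer (V : Set G)) (h : ∀ v ∈ V, Commute a ⁅a, v⁆) :
    ⁅⁅V, zpowers a⁆, zpowers a⁆ = ⊥ := by
  rw [commutator_eq_bot_iff_le_centralizer]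
  have hc : centralizer (zpowers a : Set G) = centralizer ({a} : Set G) := by
    rw [zpowers_eq_closure, centralizer_closure]
  rw [hc]
  have hmem : ∀ x : G, Commute a x → x ∈ centralizer ({a} : Set G) := by
    intro x hx y hy
    rw [Set.mem_singleton_iff.1 hy]
    exact hx.eq
  rw [commutator_le]
  intro v hv y hy
  -- the set of elements moving every `v ∈ V` inside `C(a) ∩ V` is a subgroup containing `a`
  let M : Subgroup G :=
    { carrier := {y | y ∈ normalizer (V : Set G) ∧ ∀ v ∈ V, Commute a ⁅v, y⁆}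
      one_mem' := ⟨one_mem _, fun v _ => by simp⟩
      mul_mem' := fun {x y} hx hy => ⟨mul_mem hx.1 hy.1, fun v hv => by
        have key2 : ⁅v, x * y⁆ = ⁅v, x⁆ * (x * ⁅v, y⁆ * x⁻¹) := by
          simp only [commutatorElement_def]; group
        rw [key2]
        have hwV : ⁅v, y⁆ ∈ V := by
          rw [commutatorElement_def, mul_assoc v, mul_assoc v]
          exact mul_mem hv ((mem_normalizer_iff.1 hy.1 _).1 (inv_mem hv))
        have h1 := hy.2 v hv
        have h2 := hx.2 _ hwV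
        have h3 : x * ⁅v, y⁆ * x⁻¹ = ⁅⁅v, y⁆, x⁆⁻¹ * ⁅v, y⁆ := by
          simp only [commutatorElement_def]; group
        rw [h3]
        exact (hx.2 v hv).mul_right (h2.inv_right.mul_right h1)⟩
      inv_mem' := fun {x} hx => ⟨inv_mem hx.1, fun v hv => by
        have hwV : x⁻¹ * v * x ∈ V := by
          have := (mem_normalizer_iff.1 (inv_mem hx.1) v).1 hv
          simpa using this
        have key : ⁅v, x⁻¹⁆ = ⁅x⁻¹ * v * x, x⁆⁻¹ := by
          simp only [commutatorElement_def]; group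
        rw [key]
        exact (hx.2 _ hwV).inv_right⟩ }
  have haM : a ∈ M := ⟨ha, fun v hv => by rw [← commutatorElement_inv]; exact (h v hv).inv_right⟩
  exact hmem _ ((zpowers_le.2 haM hy).2 v hv)

/-- `|V| ≤ |C_V(a)|²` for a quadratic element. -/
theorem card_le_sq_of_quad [Finite G] {V : Subgroup G} (hV : V ≤ centralizer (V : Set G)) {a : G}
    (ha : a ∈ normalizer (V : Set G)) (hq : ⁅⁅V, zpowers a⁆, zpowers a⁆ = ⊥) :
    Nat.card V ≤ Nat.card ↥(V ⊓ centralizer (zpowers a : Set G)) ^ 2 := by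
  set C := V ⊓ centralizer (zpowers a : Set G)
  set f := commHom V hV a ha
  have hk : Nat.card f.ker = Nat.card C := by
    rw [show C = f.ker.map V.subtype from (commHom_ker hV ha).symm]
    exact (Nat.card_congr (f.ker.equivMapOfInjective V.subtype V.subtype_injective).toEquiv)
  have hr : Nat.card f.range ≤ Nat.card C := by
    rw [Nat.card_congr (f.range.equivMapOfInjective V.subtype V.subtype_injective).toEquiv]
    refine Subgroup.card_le_of_le ?_
    rintro _ ⟨_, ⟨v, rfl⟩, rfl⟩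
    refine ⟨(f v).2, ?_⟩
    rintro _ ⟨k, rfl⟩
    exact ((quad_elem hq v.2).zpow_left k).eq
  rw [← f.ker.card_mul_index, index_ker, pow_two, hk]
  exact Nat.mul_le_mul_left _ hr

/-- If `A` acts on the abelian `V` and its derived subgroup centralises `V`, commutator maps of elements of `A`
commute. -/
theorem commutator_action_comm {V A : Subgroup G} (hV : V ≤ centralizer (V : Set G))
    (hAV : A ≤ normalizer (V : Set G)) (hab : ⁅A, A⁆ ≤ centralizer (V : Set G))
    {a b v : G} (ha : a ∈ A) (hb : b ∈ A) (hv : v ∈ V) :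
    ⁅a, ⁅b, v⁆⁆ = ⁅b, ⁅a, v⁆⁆ := by
  have hbv : b * v * b⁻¹ ∈ V := (mem_normalizer_iff.1 (hAV hb) v).1 hv
  have hav : a * v * a⁻¹ ∈ V := (mem_normalizer_iff.1 (hAV ha) v).1 hv
  have hba : (b * a) * v * (b * a)⁻¹ ∈ V :=
    (mem_normalizer_iff.1 (hAV (mul_mem hb ha)) v).1 hv
  have e1 : (a * b) * v * (a * b)⁻¹ = (b * a) * v * (b * a)⁻¹ := by
    have hc : ⁅a, b⁆ ∈ centralizer (V : Set G) := hab (commutator_mem_commutator ha hb)
    have hh := hc _ hba
    calc (a * b) * v * (a * b)⁻¹ = ⁅a, b⁆ * ((b * a) * v * (b * a)⁻¹) * ⁅a, b⁆⁻¹ := by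
          simp only [commutatorElement_def]; group
      _ = _ := by rw [← hh]; group
  have l : ∀ x y : G, ⁅x, ⁅y, v⁆⁆ =
      (x * y) * v * (x * y)⁻¹ * (x * v * x⁻¹)⁻¹ * v * (y * v * y⁻¹)⁻¹ := by
    intro x y; simp only [commutatorElement_def]; group
  rw [l, l, e1]
  have c1 : (a * v * a⁻¹)⁻¹ * v * (b * v * b⁻¹)⁻¹ = (b * v * b⁻¹)⁻¹ * v * (a * v * a⁻¹)⁻¹ := by
    rw [mul_assoc, hV (inv_mem hbv) v hv, hV (mul_mem (inv_mem hbv) hv) _ (inv_mem hav)]
  simp only [mul_assoc] at c1 ⊢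
  rw [c1]

/-! ### Elements moving a `p`-group's subgroup: `a ^ p` and quadratic action -/

theorem pow_commutator_of_quad {a v : G} (h : Commute a ⁅a, v⁆) (n : ℕ) :
    ⁅a ^ n, v⁆ = ⁅a, v⁆ ^ n := by
  induction n with
  | zero => simp
  | succ n ih =>
    have : ⁅a ^ (n + 1), v⁆ = a * ⁅a ^ n, v⁆ * a⁻¹ * ⁅a, v⁆ := by
      simp only [commutatorElement_def, pow_succ']; group
    rw [this, ih, (h.pow_right n).eq, mul_inv_cancel_right, pow_succ]

end CfsgLib.PLocal
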