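import Cfsg.Agent.Lib.PLocal.Thompson
import Cfsg.Agent.Lib.Transfer.Frobenius
import Mathlib.GroupTheory.SemidirectProduct
import Mathlib.Algebra.Order.Monoid.NatCast

/-!
# The replacement theorems of Thompson and Timmesfeld
-/

namespace CfsgLib.PLocal

open Subgroup
open scoped commutatorElement

universe u

variable {G : Type u} [Group G] {p : ℕ}

theorem card_mul_le_card_sup_mul_inf [Finite G] (A B : Subgroup G) :
    Nat.card A * Nat.card B ≤ Nat.card ↥(A ⊔ B) * Nat.card ↥(A ⊓ B) := by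
  have h1 : Nat.card ↥(A ⊓ B) * A.relIndex B = Nat.card B := by
    have := card_mul_index ((A ⊓ B).subgroupOf B)
    rw [Nat.card_congr (subgroupOfEquivOfLe (inf_le_right : A ⊓ B ≤ B)).toEquiv] at this
    rwa [← inf_relIndex_right, relIndex]
  have h2 : Nat.card A * A.relIndex (A ⊔ B) = Nat.card ↥(A ⊔ B) := by
    have := card_mul_index (A.subgroupOf (A ⊔ B))
    rwa [Nat.card_congr (subgroupOfEquivOfLe (le_sup_left : A ≤ A ⊔ B)).toEquiv] at this
  have h3 : A.relIndex B ≤ A.relIndex (A ⊔ B) :=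
    relIndex_le_of_le_right le_sup_right
      (index_ne_zero_of_finite (H := A.subgroupOf (A ⊔ B)))
  rw [← h1, ← h2]
  calc Nat.card A * (Nat.card ↥(A ⊓ B) * A.relIndex B)
      ≤ Nat.card A * (Nat.card ↥(A ⊓ B) * A.relIndex (A ⊔ B)) := by gcongr
    _ = Nat.card A * A.relIndex (A ⊔ B) * Nat.card ↥(A ⊓ B) := by
      rw [mul_assoc, mul_comm (Nat.card ↥(A ⊓ B))]

/-- If the abelian `p`-group `V` is generated by `⁅V, A⁆` and the fixed points of a group `A`
inducing a group of exponent `p` on it, `A` centralises `V`. -/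
theorem commutator_eq_bot_of_le_sup [Finite G] [Fact p.Prime] {V A : Subgroup G}
    (hV : V ≤ centralizer (V : Set G)) (hVp : IsPGroup p V) (hAV : A ≤ normalizer (V : Set G))
    (hAp : ∀ a ∈ A, a ^ p ∈ centralizer (V : Set G))
    (h : V ≤ ⁅V, A⁆ ⊔ (V ⊓ centralizer (A : Set G))) : ⁅V, A⁆ = ⊥ := by
  let r : A →* MulAut V := V.normalizerMonoidHom.comp (inclusion hAV)
  have hr : ∀ (a : A) (v : V), ((r a v : V) : G) = a * v * (a : G)⁻¹ := fun a v => rfl
  have hrp : IsPGroup p r.range := by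
    rintro ⟨_, a, rfl⟩
    refine ⟨1, Subtype.ext ?_⟩
    simp only [pow_one, SubmonoidClass.coe_pow, OneMemClass.coe_one]
    rw [← map_pow]
    refine MulEquiv.ext fun v => Subtype.ext ?_
    rw [hr, SubmonoidClass.coe_pow, ← (hAp a a.2) v v.2, mul_inv_cancel_right]
    rfl
  have hSfin : Finite (V ⋊[r.range.subtype] r.range) := Finite.of_equiv _ (SemidirectProduct.equivProd).symm
  have hSp : IsPGroup p (V ⋊[r.range.subtype] r.range) := by
    obtain ⟨m, hm⟩ := hVp.exists_card_eq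
    obtain ⟨k, hk⟩ := hrp.exists_card_eq
    refine IsPGroup.of_card (n := m + k) ?_
    rw [Nat.card_congr (SemidirectProduct.equivProd), Nat.card_prod, hm, hk, pow_add]
  have : Group.IsNilpotent (V ⋊[r.range.subtype] r.range) := hSp.isNilpotent
  have : Group.IsNilpotent (⊤ : Subgroup (V ⋊[r.range.subtype] r.range)) :=
    Group.nilpotent_of_mulEquiv Subgroup.topEquiv.symm
  -- the images of `⁅V, A⁆` and of the fixed points
  let ι : V →* (V ⋊[r.range.subtype] r.range) := SemidirectProduct.inl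
  have hkey : ∀ (v : V) (a : A), (ι (⟨⁅(v : G), (a : G)⁆, by
      rw [commutatorElement_def, mul_assoc (v : G), mul_assoc (v : G)]
      exact mul_mem v.2 ((mem_normalizer_iff.1 (hAV a.2) _).1 (inv_mem v.2))⟩) : (V ⋊[r.range.subtype] r.range)) =
      ⁅ι v, (SemidirectProduct.inr ⟨r a, a, rfl⟩ : (V ⋊[r.range.subtype] r.range))⁆ := by
    intro v a
    refine SemidirectProduct.ext ?_ ?_
    · apply Subtype.ext
      simp [ι, commutatorElement_def, hr, mul_assoc]
    · simp [ι, commutatorElement_def]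
  set Q : Subgroup (V ⋊[r.range.subtype] r.range) := ⁅ι.range, (⊤ : Subgroup (V ⋊[r.range.subtype] r.range))⁆
  have hW : ∀ w : G, (hw : w ∈ ⁅V, A⁆) → ∀ hwV : w ∈ V, ι ⟨w, hwV⟩ ∈ Q := by
    have hle : ⁅V, A⁆ ≤ (Q.comap ι).map V.subtype := by
      rw [commutator_le]
      intro v hv a ha
      exact ⟨_, by rw [SetLike.mem_coe, mem_comap, hkey ⟨v, hv⟩ ⟨a, ha⟩]; exact
        commutator_mem_commutator ⟨_, rfl⟩ (mem_top _), rfl⟩
    intro w hw hwV
    obtain ⟨⟨x, hx⟩, hxQ, rfl⟩ := hle hw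
    exact hxQ
  have hC : ∀ w : V, (w : G) ∈ centralizer (A : Set G) → ι w ∈ center (V ⋊[r.range.subtype] r.range) := by
    intro w hw
    rw [mem_center_iff]
    intro s
    refine SemidirectProduct.ext ?_ ?_
    · simp only [ι, SemidirectProduct.mul_left, SemidirectProduct.left_inl,
        SemidirectProduct.right_inl, map_one, MulAut.one_apply]
      obtain ⟨a, ha⟩ := s.right.2
      apply Subtype.ext
      have e : ((r.range.subtype s.right w : V) : G) = w := by
        show (((s.right : MulAut V) w : V) : G) = w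
        rw [← ha, hr, hw a a.2, mul_inv_cancel_right]
      simp only [Subgroup.coe_mul, e]
      exact (hV s.left.2 _ w.2).symm
    · simp [ι]
  have hQn : Q.Normal := by
    refine normalizer_eq_top_iff.1 (top_le_iff.1 ?_)
    exact normalizer_commutator_ge_right _ _
  have hQ : Q = ⊥ := by
    refine Transfer.eq_bot_of_le_commutator (K := ⊤) le_top ?_
    have hle : ι.range ≤ Q ⊔ center (V ⋊[r.range.subtype] r.range) := by
      rintro _ ⟨v, rfl⟩
      have hv := h v.2
      have hn : ⁅V, A⁆ ≤ normalizer ((V ⊓ centralizer (A : Set G) : Subgroup G) : Set G) := by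
        refine le_trans ?_ ((hV.trans (centralizer_le inf_le_left)).trans
          (centralizer_le_normalizer _))
        rw [commutator_le]
        intro v hv a ha
        rw [commutatorElement_def, mul_assoc v, mul_assoc v]
        exact mul_mem hv ((mem_normalizer_iff.1 (hAV ha) _).1 (inv_mem hv))
      rw [← SetLike.mem_coe, coe_mul_of_left_le_normalizer_right _ _ hn] at hv
      obtain ⟨x, hx, y, ⟨hyV, hyC⟩, hxy⟩ := hv
      have hxV : x ∈ V := by
        have : x = (v : G) * y⁻¹ := by rw [← hxy]; group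
        rw [this]; exact mul_mem v.2 (inv_mem hyV)
      have : v = ⟨x, hxV⟩ * ⟨y, hyV⟩ := Subtype.ext hxy.symm
      rw [this, map_mul]
      exact mul_mem (mem_sup_left (hW x hx hxV)) (mem_sup_right (hC ⟨y, hyV⟩ hyC))
    rw [commutator_le]
    intro x hx s _
    have hx' := hle hx
    rw [← SetLike.mem_coe, normal_mul Q (center (V ⋊[r.range.subtype] r.range))] at hx'
    obtain ⟨q, hq, z, hz, rfl⟩ := hx'
    have : ⁅q * z, s⁆ = ⁅q, s⁆ := by
      have hz' : ∀ t, t * z = z * t := fun t => mem_center_iff.1 hz t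
      rw [commutatorElement_def, commutatorElement_def, mul_inv_rev]
      calc q * z * s * (z⁻¹ * q⁻¹) * s⁻¹ = q * (z * s) * z⁻¹ * q⁻¹ * s⁻¹ := by group
        _ = _ := by rw [← hz' s]; group
    rw [this]
    exact commutator_mem_commutator hq (mem_top _)
  rw [eq_bot_iff]
  intro w hw
  have hwV : w ∈ V := (commutator_le.2 (fun v hv a ha => by
    rw [commutatorElement_def, mul_assoc v, mul_assoc v]
    exact mul_mem hv ((mem_normalizer_iff.1 (hAV ha) _).1 (inv_mem hv))) : ⁅V, A⁆ ≤ V) hw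
  have := hW w hw hwV
  rw [hQ, mem_bot] at this
  simpa [ι] using congrArg (fun s : (V ⋊[r.range.subtype] r.range) => ((s.left : V) : G)) this

variable {V A : Subgroup G}

theorem commutator_le_of_normalizes (hAV : A ≤ normalizer (V : Set G)) {U : Subgroup G}
    (hU : U ≤ V) : ⁅U, A⁆ ≤ V :=
  commutator_le.2 fun v hv a ha => by
    rw [commutatorElement_def, mul_assoc v, mul_assoc v]
    exact mul_mem (hU hv) ((mem_normalizer_iff.1 (hAV ha) _).1 (inv_mem (hU hv)))

theorem replace_cyclic [Finite G] (hV : V ≤ centralizer (V : Set G))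
    (hAV : A ≤ normalizer (V : Set G)) (hab : ⁅A, A⁆ ≤ centralizer (V : Set G)) {v : G}
    (hv : v ∈ V) :
    Nat.card A * Nat.card ↥(V ⊓ centralizer (A : Set G)) ≤
      Nat.card ↥(A ⊓ centralizer ((⁅zpowers v, A⁆ : Subgroup G) : Set G)) *
        Nat.card ↥(⁅zpowers v, A⁆ ⊔ (V ⊓ centralizer (A : Set G))) := by
  set X := ⁅zpowers v, A⁆
  set C := V ⊓ centralizer (A : Set G)
  set B := A ⊓ centralizer (X : Set G)
  set Y := X ⊔ C
  have hXV : X ≤ V := commutator_le_of_normalizes hAV (zpowers_le.2 hv)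
  have hmem : ∀ a ∈ A, ⁅a, v⁆ ∈ X := fun a ha => by
    rw [← commutatorElement_inv]
    exact inv_mem (commutator_mem_commutator (mem_zpowers v) ha)
  let f : (A ⧸ B.subgroupOf A) → (Y ⧸ C.subgroupOf Y) := fun q =>
    QuotientGroup.mk ⟨⁅(q.out : G), v⁆, mem_sup_left (hmem _ q.out.2)⟩
  have hf : Function.Injective f := by
    intro q₁ q₂ h
    set a : G := ((q₁.out : A) : G)
    set b : G := ((q₂.out : A) : G)
    have ha : a ∈ A := q₁.out.2
    have hb : b ∈ A := q₂.out.2
    have h' : (QuotientGroup.mk (⟨⁅a, v⁆, mem_sup_left (hmem a ha)⟩ : Y) : Y ⧸ C.subgroupOf Y) =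
        QuotientGroup.mk (⟨⁅b, v⁆, mem_sup_left (hmem b hb)⟩ : Y) := h
    have h'' := QuotientGroup.eq.1 h'
    have hC : ⁅a, v⁆⁻¹ * ⁅b, v⁆ ∈ C := h''
    have hcomm : a⁻¹ * b ∈ centralizer (X : Set G) := by
      suffices hX : X ≤ centralizer ({a⁻¹ * b} : Set G) by
        intro x hx
        exact (hX hx (a⁻¹ * b) rfl).symm
      rw [commutator_le]
      rintro _ ⟨k, rfl⟩ c hc y rfl
      -- `a` and `b` act in the same way on `⁅c, v⁆`
      have hcv : ⁅c, v⁆ ∈ V := mul_mem ((mem_normalizer_iff.1 (hAV hc) v).1 hv) (inv_mem hv)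
      have hav : ⁅a, v⁆ ∈ V := hXV (hmem a ha)
      have hbv : ⁅b, v⁆ ∈ V := hXV (hmem b hb)
      have h1 : ⁅c, ⁅a, v⁆⁆ = ⁅c, ⁅b, v⁆⁆ := by
        have e := map_mul (commHom V hV c (hAV hc)) ⟨_, hav⟩ ⟨_, mul_mem (inv_mem hav) hbv⟩
        have e' := congrArg Subtype.val e
        simp only [commHom_coe, Subgroup.coe_mul, mul_inv_cancel_left] at e'
        rw [e']
        have : ⁅c, ⁅a, v⁆⁻¹ * ⁅b, v⁆⁆ = 1 :=
          commutatorElement_eq_one_iff_mul_comm.2 (hC.2 c hc)
        rw [this, mul_one]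
      rw [commutator_action_comm hV hAV hab hc ha hv,
        commutator_action_comm hV hAV hab hc hb hv] at h1
      have h2 : a * ⁅c, v⁆ * a⁻¹ = b * ⁅c, v⁆ * b⁻¹ := by
        rw [commutatorElement_def a, commutatorElement_def b] at h1
        exact mul_right_cancel h1
      have h3 : Commute (a⁻¹ * b) ⁅c, v⁆ := by
        show a⁻¹ * b * ⁅c, v⁆ = ⁅c, v⁆ * (a⁻¹ * b)
        calc a⁻¹ * b * ⁅c, v⁆ = a⁻¹ * (b * ⁅c, v⁆ * b⁻¹) * b := by group
          _ = _ := by rw [← h2]; group
      have hk : ⁅c, v ^ k⁆ = ⁅c, v⁆ ^ k := by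
        have e := map_zpow (commHom V hV c (hAV hc)) ⟨v, hv⟩ k
        exact congrArg Subtype.val e
      show a⁻¹ * b * ⁅v ^ k, c⁆ = ⁅v ^ k, c⁆ * (a⁻¹ * b)
      rw [← commutatorElement_inv c, hk]
      exact ((h3.zpow_right k).inv_right).eq
    rw [← q₁.out_eq', ← q₂.out_eq', QuotientGroup.eq]
    exact (⟨A.mul_mem (A.inv_mem ha) hb, hcomm⟩ : a⁻¹ * b ∈ B)
  have hle : (B.subgroupOf A).index ≤ (C.subgroupOf Y).index := Nat.card_le_card_of_injective f hf
  have e1 : Nat.card B * (B.subgroupOf A).index = Nat.card A := by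
    rw [← Nat.card_congr (subgroupOfEquivOfLe (inf_le_left : B ≤ A)).toEquiv]
    exact card_mul_index _
  have e2 : Nat.card C * (C.subgroupOf Y).index = Nat.card Y := by
    rw [← Nat.card_congr (subgroupOfEquivOfLe (le_sup_right : C ≤ Y)).toEquiv]
    exact card_mul_index _
  rw [← e1, ← e2]
  calc Nat.card B * (B.subgroupOf A).index * Nat.card C
      ≤ Nat.card B * (C.subgroupOf Y).index * Nat.card C := by gcongr
    _ = Nat.card B * (Nat.card C * (C.subgroupOf Y).index) := by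
      rw [mul_assoc, mul_comm (Nat.card C)]

theorem centralizer_sup_eq (X Y : Subgroup G) :
    centralizer ((X ⊔ Y : Subgroup G) : Set G) =
      centralizer (X : Set G) ⊓ centralizer (Y : Set G) :=
  le_antisymm (le_inf (centralizer_le (le_sup_left : X ≤ X ⊔ Y)) (centralizer_le (le_sup_right : Y ≤ X ⊔ Y)))
    (le_centralizer_iff.1 (sup_le (le_centralizer_iff.1 inf_le_left)
      (le_centralizer_iff.1 inf_le_right)))

/-- Timmesfeld replacement, counting form. -/
theorem timmesfeld_ineq [Finite G] (hV : V ≤ centralizer (V : Set G))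
    (hAV : A ≤ normalizer (V : Set G)) (hab : ⁅A, A⁆ ≤ centralizer (V : Set G))
    (hmax : ∀ B : Subgroup G, B ≤ A → Nat.card B * Nat.card ↥(V ⊓ centralizer (B : Set G)) ≤
      Nat.card A * Nat.card ↥(V ⊓ centralizer (A : Set G)))
    {U : Subgroup G} (hU : U ≤ V) :
    Nat.card A * Nat.card ↥(V ⊓ centralizer (A : Set G)) ≤
      Nat.card ↥(A ⊓ centralizer ((⁅U, A⁆ : Subgroup G) : Set G)) *
        Nat.card ↥(⁅U, A⁆ ⊔ (V ⊓ centralizer (A : Set G))) := by
  classical
  suffices key : ∀ s : Finset G, (∀ x ∈ s, x ∈ V) →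
      Nat.card A * Nat.card ↥(V ⊓ centralizer (A : Set G)) ≤
      Nat.card ↥(A ⊓ centralizer ((⁅closure (s : Set G), A⁆ : Subgroup G) : Set G)) *
        Nat.card ↥(⁅closure (s : Set G), A⁆ ⊔ (V ⊓ centralizer (A : Set G))) by
    have := key (Set.toFinite (U : Set G)).toFinset (fun x hx => hU (by simpa using hx))
    rwa [Set.Finite.coe_toFinset, closure_eq] at this
  intro s
  induction s using Finset.induction_on with
  | empty =>
    intro _
    simp only [Finset.coe_empty, Subgroup.closure_empty, commutator_bot_left, bot_sup_eq]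
    gcongr
    · exact (Subgroup.card_le_of_le (le_inf le_rfl fun a _ x hx => by simp [mem_bot.1 hx]))
  | @insert x s hxs ih =>
    intro hs
    have hx : x ∈ V := hs x (Finset.mem_insert_self x s)
    have hsV : closure (s : Set G) ≤ V :=
      (closure_le _).2 fun y hy => hs y (Finset.mem_insert_of_mem hy)
    set U₁ := zpowers x
    set U₂ := closure (s : Set G)
    have hU₁ : U₁ ≤ V := zpowers_le.2 hx
    set C := V ⊓ centralizer (A : Set G)
    set X₁ := ⁅U₁, A⁆
    set X₂ := ⁅U₂, A⁆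
    have hXle : ⁅closure ((insert x s : Finset G) : Set G), A⁆ = X₁ ⊔ X₂ := by
      have hcl : closure ((insert x s : Finset G) : Set G) = U₁ ⊔ U₂ := by
        rw [Finset.coe_insert, Set.insert_eq, Subgroup.closure_union, ← zpowers_eq_closure]
      rw [hcl]
      refine le_antisymm ?_ (sup_le (commutator_mono le_sup_left le_rfl)
        (commutator_mono le_sup_right le_rfl))
      rw [commutator_le]
      intro u hu a ha
      have hn : U₁ ≤ normalizer (U₂ : Set G) := (hU₁.trans hV).trans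
        ((centralizer_le hsV).trans (centralizer_le_normalizer _))
      rw [← SetLike.mem_coe, coe_mul_of_left_le_normalizer_right _ _ hn] at hu
      obtain ⟨y, hy, z, hz, rfl⟩ := hu
      have e0 := congrArg Subtype.val
        (map_mul (commHom V hV a (hAV ha)) ⟨y, hU₁ hy⟩ ⟨z, hsV hz⟩)
      have e : ⁅a, y * z⁆ = ⁅a, y⁆ * ⁅a, z⁆ := e0
      rw [← commutatorElement_inv, e]
      refine inv_mem (mul_mem (mem_sup_left ?_) (mem_sup_right ?_)) <;>
        rw [← commutatorElement_inv] <;>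
        exact inv_mem (commutator_mem_commutator (by assumption) ha)
    rw [hXle]
    have hX₁V : X₁ ≤ V := commutator_le_of_normalizes hAV hU₁
    have hX₂V : X₂ ≤ V := commutator_le_of_normalizes hAV hsV
    set B₁ := A ⊓ centralizer (X₁ : Set G)
    set B₂ := A ⊓ centralizer (X₂ : Set G)
    set Y₁ := X₁ ⊔ C
    set Y₂ := X₂ ⊔ C
    have h₁ : Nat.card A * Nat.card C ≤ Nat.card B₁ * Nat.card Y₁ := replace_cyclic hV hAV hab hx
    have h₂ : Nat.card A * Nat.card C ≤ Nat.card B₂ * Nat.card Y₂ :=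
      ih fun y hy => hs y (Finset.mem_insert_of_mem hy)
    have hB : A ⊓ centralizer ((X₁ ⊔ X₂ : Subgroup G) : Set G) = B₁ ⊓ B₂ := by
      rw [centralizer_sup_eq]; exact inf_inf_distrib_left _ _ _
    have hY : Y₁ ⊔ Y₂ = X₁ ⊔ X₂ ⊔ C := by
      show (X₁ ⊔ C) ⊔ (X₂ ⊔ C) = X₁ ⊔ X₂ ⊔ C
      exact (sup_sup_distrib_right _ _ _).symm
    have hK := hmax (B₁ ⊔ B₂) (sup_le inf_le_left inf_le_left)
    have hYK : Y₁ ⊓ Y₂ ≤ V ⊓ centralizer ((B₁ ⊔ B₂ : Subgroup G) : Set G) := by
      rw [centralizer_sup_eq]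
      have t : ∀ X : Subgroup G, X ≤ V →
          X ⊔ C ≤ V ⊓ centralizer ((A ⊓ centralizer (X : Set G) : Subgroup G) : Set G) :=
        fun X hX => sup_le (le_inf hX (le_centralizer_iff.1 inf_le_right))
          (le_inf inf_le_left (le_trans inf_le_right (centralizer_le inf_le_left)))
      exact le_inf (le_trans inf_le_left ((t X₁ hX₁V).trans inf_le_left))
        (le_inf (le_trans inf_le_left ((t X₁ hX₁V).trans inf_le_right))
          (le_trans inf_le_right ((t X₂ hX₂V).trans inf_le_right)))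
    rw [hB, ← hY]
    have hp1 := card_mul_le_card_sup_mul_inf B₁ B₂
    have hp2 := card_mul_le_card_sup_mul_inf Y₁ Y₂
    have hsq : (Nat.card A * Nat.card C) * (Nat.card A * Nat.card C) ≤
        (Nat.card A * Nat.card C) * (Nat.card ↥(B₁ ⊓ B₂) * Nat.card ↥(Y₁ ⊔ Y₂)) :=
      calc _ ≤ (Nat.card B₁ * Nat.card Y₁) * (Nat.card B₂ * Nat.card Y₂) := Nat.mul_le_mul h₁ h₂
        _ = (Nat.card B₁ * Nat.card B₂) * (Nat.card Y₁ * Nat.card Y₂) := mul_mul_mul_comm _ _ _ _
        _ ≤ (Nat.card ↥(B₁ ⊔ B₂) * Nat.card ↥(B₁ ⊓ B₂)) *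
            (Nat.card ↥(Y₁ ⊔ Y₂) * Nat.card ↥(Y₁ ⊓ Y₂)) := Nat.mul_le_mul hp1 hp2
        _ = (Nat.card ↥(B₁ ⊔ B₂) * Nat.card ↥(Y₁ ⊓ Y₂)) *
            (Nat.card ↥(B₁ ⊓ B₂) * Nat.card ↥(Y₁ ⊔ Y₂)) := by
          rw [mul_comm (Nat.card ↥(Y₁ ⊔ Y₂)), mul_mul_mul_comm]
        _ ≤ _ := by
          gcongr ?_ * _
          exact le_trans (Nat.mul_le_mul_left _ (Subgroup.card_le_of_le hYK)) hK
    exact Nat.le_of_mul_le_mul_left hsq (Nat.mul_pos Nat.card_pos Nat.card_pos)

/-- Timmesfeld replacement: equalities. -/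
theorem timmesfeld_eq [Finite G] (hV : V ≤ centralizer (V : Set G))
    (hAV : A ≤ normalizer (V : Set G)) (hab : ⁅A, A⁆ ≤ centralizer (V : Set G))
    (hmax : ∀ B : Subgroup G, B ≤ A → Nat.card B * Nat.card ↥(V ⊓ centralizer (B : Set G)) ≤
      Nat.card A * Nat.card ↥(V ⊓ centralizer (A : Set G)))
    {U : Subgroup G} (hU : U ≤ V) :
    V ⊓ centralizer ((A ⊓ centralizer ((⁅U, A⁆ : Subgroup G) : Set G) : Subgroup G) : Set G) =
        ⁅U, A⁆ ⊔ (V ⊓ centralizer (A : Set G)) ∧
      Nat.card A * Nat.card ↥(V ⊓ centralizer (A : Set G)) =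
        Nat.card ↥(A ⊓ centralizer ((⁅U, A⁆ : Subgroup G) : Set G)) *
          Nat.card ↥(V ⊓ centralizer
            ((A ⊓ centralizer ((⁅U, A⁆ : Subgroup G) : Set G) : Subgroup G) : Set G)) := by
  set X := ⁅U, A⁆
  set B := A ⊓ centralizer (X : Set G)
  set C := V ⊓ centralizer (A : Set G)
  have hle : X ⊔ C ≤ V ⊓ centralizer (B : Set G) :=
    sup_le (le_inf (commutator_le_of_normalizes hAV hU) (le_centralizer_iff.1 inf_le_right))
      (le_inf inf_le_left (le_trans inf_le_right (centralizer_le inf_le_left)))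
  have h1 := timmesfeld_ineq hV hAV hab hmax hU
  have h2 := hmax B inf_le_left
  have h3 : Nat.card ↥(V ⊓ centralizer (B : Set G)) ≤ Nat.card ↥(X ⊔ C) :=
    Nat.le_of_mul_le_mul_left (h2.trans h1) Nat.card_pos
  have heq := eq_of_le_of_card_ge hle h3
  exact ⟨heq.symm, le_antisymm (heq ▸ h1) h2⟩

end CfsgLib.PLocal
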