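import Cfsg.Prelude.Def_ConjugacyFunctors
import Cfsg.Agent.Lib.Fusion.GroupSystem
import Cfsg.Agent.Lib.Transfer.Frobenius

/-!
# Sylow subgroups of subgroups as subgroups of the ambient group, conjugacy functors
-/

namespace CfsgLib.PLocal

open Subgroup

variable {G : Type*} [Group G] {p : ℕ}

/-- Conjugate subgroup `g P g⁻¹`. -/
abbrev conjMap (g : G) (P : Subgroup G) : Subgroup G := P.map (MulAut.conj g).toMonoidHom

theorem mem_conjMap {g x : G} {P : Subgroup G} : x ∈ conjMap g P ↔ g⁻¹ * x * g ∈ P := by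
  constructor
  · rintro ⟨y, hy, rfl⟩
    simpa [mul_assoc] using hy
  · intro h
    exact ⟨_, h, by simp [mul_assoc]⟩

theorem conj_mem_conjMap {g x : G} {P : Subgroup G} (h : x ∈ P) : g * x * g⁻¹ ∈ conjMap g P :=
  ⟨x, h, rfl⟩

theorem conjMap_conjMap (g h : G) (P : Subgroup G) :
    conjMap g (conjMap h P) = conjMap (g * h) P := by
  ext x; simp only [mem_conjMap, mul_inv_rev, mul_assoc]

@[simp] theorem conjMap_one (P : Subgroup G) : conjMap 1 P = P := by
  ext x; simp [mem_conjMap]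

theorem conjMap_inv_conjMap (g : G) (P : Subgroup G) : conjMap g⁻¹ (conjMap g P) = P := by
  rw [conjMap_conjMap, inv_mul_cancel, conjMap_one]

theorem conjMap_conjMap_inv (g : G) (P : Subgroup G) : conjMap g (conjMap g⁻¹ P) = P := by
  rw [conjMap_conjMap, mul_inv_cancel, conjMap_one]

theorem conjMap_top (g : G) : conjMap g (⊤ : Subgroup G) = ⊤ :=
  map_top_of_surjective _ (MulAut.conj g).surjective

theorem card_conjMap (g : G) (P : Subgroup G) : Nat.card (conjMap g P) = Nat.card P :=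
  card_map_of_injective (MulAut.conj g).injective

theorem conjMap_ne_bot {g : G} {P : Subgroup G} (h : P ≠ ⊥) : conjMap g P ≠ ⊥ := fun hb =>
  h ((map_eq_bot_iff_of_injective (f := (MulAut.conj g).toMonoidHom) _ (MulAut.conj g).injective).1 hb)

theorem conjMap_mono {g : G} {P Q : Subgroup G} (h : P ≤ Q) : conjMap g P ≤ conjMap g Q :=
  map_mono h

theorem conjMap_inf (g : G) (P Q : Subgroup G) :
    conjMap g (P ⊓ Q) = conjMap g P ⊓ conjMap g Q :=
  map_inf _ _ _ (MulAut.conj g).injective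

theorem conjMap_normalizer (g : G) (P : Subgroup G) :
    conjMap g (normalizer (P : Set G)) = normalizer (conjMap g P : Set G) :=
  map_equiv_normalizer_eq P (MulAut.conj g)

theorem conjMap_eq_self_iff {g : G} {P : Subgroup G} :
    conjMap g P = P ↔ g ∈ normalizer (P : Set G) :=
  mem_normalizer_iff_map_conj_eq.symm

/-- `T` is a Sylow `p`-subgroup of `H`, as subgroups of the ambient group. -/
def SylowIn (p : ℕ) (T H : Subgroup G) : Prop :=
  T ≤ H ∧ IsPGroup p T ∧ ¬ p ∣ T.relIndex H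

theorem sylowIn_top (S : Sylow p G) [Fact p.Prime] [Finite G] : SylowIn p (S : Subgroup G) ⊤ :=
  ⟨le_top, S.2, by rw [relIndex_top_right]; exact S.not_dvd_index⟩

theorem SylowIn.conj {T H : Subgroup G} (h : SylowIn p T H) (g : G) :
    SylowIn p (conjMap g T) (conjMap g H) :=
  ⟨conjMap_mono h.1, h.2.1.map _,
    by rw [relIndex_map_map_of_injective _ _ (MulAut.conj g).injective]; exact h.2.2⟩

variable [Finite G] [Fact p.Prime]

theorem SylowIn.exists_conj_le {T H R : Subgroup G} (h : SylowIn p T H) (hR : IsPGroup p R)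
    (hRH : R ≤ H) : ∃ k ∈ H, conjMap k R ≤ T :=
  CfsgLib.Fusion.exists_conj_le_of_sylow h.2.1 h.1 h.2.2 hR hRH

theorem SylowIn.card_le {T H R : Subgroup G} (h : SylowIn p T H) (hR : IsPGroup p R)
    (hRH : R ≤ H) : Nat.card R ≤ Nat.card T :=
  CfsgLib.Fusion.card_le_of_sylow h.2.1 h.1 h.2.2 hR hRH

theorem SylowIn.eq_of_le {T H R : Subgroup G} (h : SylowIn p T H) (hR : IsPGroup p R)
    (hRH : R ≤ H) (hTR : T ≤ R) : T = R :=
  Subgroup.eq_of_le_of_card_ge hTR (h.card_le hR hRH)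

theorem SylowIn.exists_conj_eq {T T' H : Subgroup G} (h : SylowIn p T H) (h' : SylowIn p T' H) :
    ∃ k ∈ H, conjMap k T' = T := by
  obtain ⟨k, hk, hle⟩ := h.exists_conj_le h'.2.1 h'.1
  exact ⟨k, hk, Subgroup.eq_of_le_of_card_ge hle (by rw [card_conjMap]; exact h'.card_le h.2.1 h.1)⟩

theorem SylowIn.of_card_le {T H R : Subgroup G} (h : SylowIn p T H) (hR : IsPGroup p R)
    (hRH : R ≤ H) (hc : Nat.card T ≤ Nat.card R) : SylowIn p R H :=
  ⟨hRH, hR, CfsgLib.Fusion.not_dvd_relIndex_of_card hR hRH fun _ hW hWH =>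
    (h.card_le hW hWH).trans hc⟩

theorem exists_sylowIn_le {H R : Subgroup G} (hR : IsPGroup p R) (hRH : R ≤ H) :
    ∃ T, SylowIn p T H ∧ R ≤ T := by
  obtain ⟨W, hW⟩ := (hR.of_equiv (subgroupOfEquivOfLe hRH).symm).exists_le_sylow
  refine ⟨(W : Subgroup H).map H.subtype, ⟨map_subtype_le _, W.2.map _, ?_⟩, ?_⟩
  · exact CfsgLib.Fusion.not_dvd_relIndex_of_sylow W
  · intro x hx
    exact ⟨⟨x, hRH hx⟩, hW hx, rfl⟩

theorem sylow_le_of_pGroup_ge {T H P : Subgroup G} (h : SylowIn p T H) (hP : IsPGroup p P)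
    (hTP : T ≤ P) : P ⊓ H = T :=
  (h.eq_of_le (hP.to_le inf_le_left) inf_le_right (le_inf hTP h.1)).symm

omit [Fact p.Prime] in
theorem sylowIn_inf_normalizer_iff {S U : Subgroup G} (hS : IsPGroup p S) :
    SylowIn p (S ⊓ normalizer (U : Set G)) (normalizer (U : Set G)) ↔
      ¬ p ∣ (S ⊓ normalizer (U : Set G)).relIndex (normalizer (U : Set G)) :=
  ⟨fun h => h.2.2, fun h => ⟨inf_le_right, hS.to_le inf_le_left, h⟩⟩

/-- In a `p`-group, the normalizer of a proper subgroup is bigger. -/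
theorem card_lt_card_inf_normalizer {S R : Subgroup G} (hS : IsPGroup p S) (hlt : R < S) :
    Nat.card R < Nat.card (S ⊓ normalizer (R : Set G) : Subgroup G) := by
  obtain ⟨x, hx, hxn, hxR⟩ := CfsgLib.Transfer.exists_mem_normalizer_not_mem hS hlt
  have hle : R ≤ S ⊓ normalizer (R : Set G) := le_inf hlt.le le_normalizer
  refine lt_of_le_of_ne (card_le_of_le hle) fun hc => hxR ?_
  rw [Subgroup.eq_of_le_of_card_ge hle hc.ge]
  exact ⟨hx, hxn⟩

section Functor

variable {W : Subgroup G → Subgroup G}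

omit [Finite G] [Fact p.Prime]

theorem functor_le (hW : Cfsg.IsConjugacyFunctor p W) {P : Subgroup G} (hP : IsPGroup p P) :
    W P ≤ P :=
  (hW P hP).1

theorem functor_ne_bot (hW : Cfsg.IsConjugacyFunctor p W) {P : Subgroup G} (hP : IsPGroup p P)
    (h : P ≠ ⊥) : W P ≠ ⊥ :=
  (hW P hP).2.1 h

theorem functor_conj (hW : Cfsg.IsConjugacyFunctor p W) {P : Subgroup G} (hP : IsPGroup p P)
    (g : G) : W (conjMap g P) = conjMap g (W P) :=
  (hW P hP).2.2 g

theorem normalizer_le_normalizer_functor (hW : Cfsg.IsConjugacyFunctor p W) {P : Subgroup G}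
    (hP : IsPGroup p P) : normalizer (P : Set G) ≤ normalizer (W P : Set G) := by
  intro g hg
  rw [← conjMap_eq_self_iff, ← functor_conj hW hP g, conjMap_eq_self_iff.2 hg]

theorem le_normalizer_functor (hW : Cfsg.IsConjugacyFunctor p W) {P : Subgroup G}
    (hP : IsPGroup p P) : P ≤ normalizer (W P : Set G) :=
  le_normalizer.trans (normalizer_le_normalizer_functor hW hP)

end Functor

end CfsgLib.PLocal
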