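import Cfsg.Agent.Lib.PLocal.ControlAbove

/-!
# Control of fusion by a conjugacy functor together with a central functor
-/

namespace CfsgLib.PLocal

open Subgroup

variable {G : Type*} [Group G] {p : ℕ}

theorem coe_conjMap (g : G) (P : Subgroup G) : (conjMap g P : Set G) = lconj g (P : Set G) := rfl

theorem conjMap_centralizer (g : G) (P : Subgroup G) :
    conjMap g (centralizer (P : Set G)) = centralizer (conjMap g P : Set G) := by
  ext x
  rw [mem_conjMap, mem_centralizer_iff, mem_centralizer_iff]
  constructor
  · intro h y hy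
    have h1 := h _ (mem_conjMap.1 hy)
    calc y * x = g * ((g⁻¹ * y * g) * (g⁻¹ * x * g)) * g⁻¹ := by group
      _ = g * ((g⁻¹ * x * g) * (g⁻¹ * y * g)) * g⁻¹ := by rw [h1]
      _ = x * y := by group
  · intro h y hy
    have h1 := h _ (conj_mem_conjMap (g := g) hy)
    calc y * (g⁻¹ * x * g) = g⁻¹ * ((g * y * g⁻¹) * x) * g := by group
      _ = g⁻¹ * (x * (g * y * g⁻¹)) * g := by rw [h1]
      _ = g⁻¹ * x * g * y := by group

/-- The steps allowed by the pair `W`, `V` in `H` with Sylow subgroup `T`. -/
def PairStep (W V : Subgroup G → Subgroup G) (H T : Subgroup G) (x : G) : Prop :=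
  x ∈ H ⊓ normalizer ((W T : Subgroup G) : Set G) ∨ x ∈ H ⊓ centralizer ((V T : Subgroup G) : Set G)

theorem PairStep.inv {W V : Subgroup G → Subgroup G} {H T : Subgroup G} {x : G}
    (h : PairStep W V H T x) : PairStep W V H T x⁻¹ :=
  h.imp inv_mem inv_mem

/-- `W` with `V` controls strong fusion in `H` at its Sylow subgroup `T`. -/
def PairFusion (W V : Subgroup G → Subgroup G) (H T : Subgroup G) : Prop :=
  ∀ (A : Set G) (h : G), h ∈ H → A ⊆ T → lconj h A ⊆ T → FusRel (PairStep W V H T) T A h

theorem PairFusion.conj {W V : Subgroup G → Subgroup G} (hW : Cfsg.IsConjugacyFunctor p W)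
    (hV : Cfsg.IsConjugacyFunctor p V) {H T : Subgroup G} (hT : IsPGroup p T)
    (h : PairFusion W V H T) (g : G) : PairFusion W V (conjMap g H) (conjMap g T) := by
  intro A y hy hA hyA
  have hA' : lconj g⁻¹ A ⊆ T := by
    rintro _ ⟨a, ha, rfl⟩
    simpa using mem_conjMap.1 (hA ha)
  have hyA' : lconj (g⁻¹ * y * g) (lconj g⁻¹ A) ⊆ T := by
    rw [lconj_lconj, mul_inv_cancel_right, ← lconj_lconj]
    rintro _ ⟨a, ha, rfl⟩
    simpa using mem_conjMap.1 (hyA ha)
  have := (h _ _ (mem_conjMap.1 hy) hA' hyA').conj g
    (Q := PairStep W V (conjMap g H) (conjMap g T)) ?_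
  · rw [lconj_lconj, mul_inv_cancel, lconj_one,
      show g * (g⁻¹ * y * g) * g⁻¹ = y by group] at this
    rwa [coe_conjMap]
  · intro x hx
    rcases hx with hx | hx
    · exact Or.inl ⟨conj_mem_conjMap hx.1, by
        rw [functor_conj hW hT, ← conjMap_normalizer]; exact conj_mem_conjMap hx.2⟩
    · exact Or.inr ⟨conj_mem_conjMap hx.1, by
        rw [functor_conj hV hT, ← conjMap_centralizer]; exact conj_mem_conjMap hx.2⟩

variable [Finite G] [Fact p.Prime]

theorem PairFusion.atSylow {W V : Subgroup G → Subgroup G} (hW : Cfsg.IsConjugacyFunctor p W)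
    (hV : Cfsg.IsConjugacyFunctor p V) {H T₀ T : Subgroup G} (hT₀ : SylowIn p T₀ H)
    (h : PairFusion W V H T₀) (hT : SylowIn p T H) : PairFusion W V H T := by
  obtain ⟨k, hk, rfl⟩ := hT.exists_conj_eq hT₀
  have h' := h.conj hW hV hT₀.2.1 k
  rwa [conjMap_eq_self_iff.2 (le_normalizer hk)] at h'

/-- Local control by a pair above the centre of a Sylow subgroup gives global control. -/
theorem pairFusion_top (S : Sylow p G) (hS0 : (S : Subgroup G) ≠ ⊥) (W V : Subgroup G → Subgroup G)
    (hW : Cfsg.IsConjugacyFunctor p W) (hV : Cfsg.IsConjugacyFunctor p V)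
    (hWZ : ∀ H : Subgroup G, IsPGroup p H → H ⊓ centralizer (H : Set G) ≤ W H)
    (hVmono : ∀ H K : Subgroup G, IsPGroup p H → IsPGroup p K → H ≠ ⊥ → K ≠ ⊥ →
      H ⊓ centralizer (H : Set G) ≤ K ⊓ centralizer (K : Set G) → V H ≤ V K)
    (hloc : ∀ U : Subgroup G, (S : Subgroup G) ⊓ centralizer ((S : Subgroup G) : Set G) ≤ U →
      U ≤ (S : Subgroup G) → ∃ Q, SylowIn p Q (normalizer (U : Set G)) ∧
        PairFusion W V (normalizer (U : Set G)) Q) :
    PairFusion W V ⊤ (S : Subgroup G) := by
  set S' : Subgroup G := (S : Subgroup G) with hS'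
  set P := PairStep W V ⊤ S' with hP
  have hsym : ∀ x, P x → P x⁻¹ := fun x hx => hx.inv
  set Z := S' ⊓ centralizer (S' : Set G) with hZdef
  have hne0 : ∀ T : Subgroup G, T ≤ S' → T ⊔ S' ⊓ centralizer (T : Set G) ≠ ⊥ := by
    intro T hTS h0
    obtain ⟨h1, h2⟩ := sup_eq_bot_iff.1 h0
    rw [h1] at h2
    refine hS0 (eq_bot_iff.2 fun z hz => h2.le ⟨hz, mem_centralizer_iff.2 fun t ht => ?_⟩)
    rw [SetLike.mem_coe, mem_bot] at ht; subst ht; simp
  -- one step through a fully normalized subgroup
  have stepT : ∀ (T : Subgroup G) (x : G) (A : Set G), T ∈ fullNormSet p S' →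
      x ∈ normalizer (T : Set G) → A ⊆ T →
      (∀ (T' : Subgroup G) (n : G), T ≤ T' → T' ≤ S' → T' ≠ S' → T' ≠ ⊥ → Z ≤ T' →
        n ∈ normalizer (T' : Set G) → A ⊆ (S' ⊓ normalizer (T' : Set G) : Subgroup G) →
        lconj n A ⊆ (S' ⊓ normalizer (T' : Set G) : Subgroup G) → FusRel P S' A n) →
      FusRel P S' A x := by
    intro T x A hT hx hA hI
    obtain ⟨n, hn, hnt⟩ := exists_normalizer_join_centralizer S hT hx
    set T' := T ⊔ S' ⊓ centralizer (T : Set G) with hT'
    have hTS := hT.1
    have hT'S : T' ≤ S' := sup_le hTS inf_le_left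
    have hAT' : A ⊆ (T' : Set G) := hA.trans (SetLike.coe_subset_coe.2 le_sup_left)
    have hnA : lconj n A ⊆ (T' : Set G) := by
      rintro _ ⟨a, ha, rfl⟩
      exact (mem_normalizer_iff.1 hn a).1 (hAT' ha)
    refine FusRel.congr ?_ (fun a ha => (hnt a (hA ha)).symm)
    by_cases hTe : T' = S'
    · rw [hTe] at hn hAT' hnA
      exact FusRel.single hAT'
        (Or.inl ⟨mem_top n, normalizer_le_normalizer_functor hW S.2 hn⟩) hnA
    · have hT'N : (T' : Set G) ⊆ (S' ⊓ normalizer (T' : Set G) : Subgroup G) :=
        SetLike.coe_subset_coe.2 (le_inf hT'S le_normalizer)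
      exact hI T' n le_sup_left hT'S hTe (hne0 T hTS)
        ((le_inf inf_le_left (inf_le_right.trans (centralizer_le hTS))).trans le_sup_right) hn
        (hAT'.trans hT'N) (hnA.trans hT'N)
  have main : ∀ n, ∀ U : Subgroup G, U ≠ ⊥ → U ≤ S' → Z ≤ U →
      Nat.card S' - Nat.card (S' ⊓ normalizer (U : Set G) : Subgroup G) = n →
      ∀ (y : G) (A : Set G), y ∈ normalizer (U : Set G) →
        A ⊆ (S' ⊓ normalizer (U : Set G) : Subgroup G) →
        lconj y A ⊆ (S' ⊓ normalizer (U : Set G) : Subgroup G) → FusRel P S' A y := by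
    intro n
    induction n using Nat.strong_induction_on with
    | _ n ih =>
      intro U hU hUS hZU hn
      obtain ⟨U₁, hU₁, ⟨a, ha⟩, hidx⟩ := exists_fullNormalized S hUS
      obtain ⟨b, rfl, hb⟩ := exists_conj_carry S.2 ha hidx
      have hVS : conjMap b U ≤ S' := hU₁.1
      have hVne : conjMap b U ≠ ⊥ := conjMap_ne_bot hU
      set R := S' ⊓ normalizer (conjMap b U : Set G) with hR
      have hcard : Nat.card (S' ⊓ normalizer (U : Set G) : Subgroup G) ≤ Nat.card R := by
        rw [← card_conjMap b]; exact card_le_of_le hb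
      have hUne : Nat.card (S' ⊓ normalizer (U : Set G) : Subgroup G) ≠ 0 := Nat.card_pos.ne'
      have hRp : IsPGroup p R := S.2.to_le inf_le_left
      have hRne : R ≠ ⊥ := fun h0 => hVne (eq_bot_iff.2 (h0 ▸ le_inf hVS le_normalizer))
      have hZR : Z ≤ R := le_inf inf_le_left
        ((inf_le_right.trans (centralizer_le hVS)).trans (centralizer_le_normalizer _))
      have hZZR : Z ≤ R ⊓ centralizer (R : Set G) :=
        le_inf hZR (inf_le_right.trans (centralizer_le (show R ≤ S' from inf_le_left)))
      have hlocR : PairFusion W V (normalizer (conjMap b U : Set G)) R := by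
        obtain ⟨Q, hQ, hQf⟩ := hloc U hZU hUS
        have hQb := hQ.conj b
        have hf := hQf.conj hW hV hQ.2.1 b
        rw [conjMap_normalizer] at hQb hf
        exact hf.atSylow hW hV hQb ((sylowIn_inf_normalizer_iff S.2).2 hidx)
      have local_ : ∀ (y : G) (A : Set G), y ∈ normalizer (conjMap b U : Set G) → A ⊆ R →
          lconj y A ⊆ R → FusRel P S' A y := by
        intro y A hy hA hyA
        have hr := hlocR A y hy hA hyA
        induction hr with
        | refl hA hfix => exact FusRel.refl (hA.trans (SetLike.coe_subset_coe.2 inf_le_left)) hfix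
        | @step A x h hA' hx hr' ih' =>
          have hxA : lconj x A ⊆ (R : Set G) := hr'.subset
          have hxN : x ∈ normalizer (conjMap b U : Set G) := hx.elim (fun h => h.1) (fun h => h.1)
          have hhy : h ∈ normalizer (conjMap b U : Set G) := by
            simpa using mul_mem hy (inv_mem hxN)
          have h1 : FusRel P S' A x := by
            rcases hx with ⟨-, hxW⟩ | ⟨-, hxV⟩
            · rcases eq_or_lt_of_le (inf_le_left : R ≤ S') with hRS | hRS
              · refine FusRel.single (hA.trans (SetLike.coe_subset_coe.2 inf_le_left)) ?_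
                  (hxA.trans (SetLike.coe_subset_coe.2 inf_le_left))
                exact Or.inl ⟨mem_top x, hRS ▸ hxW⟩
              · have hle : R ≤ S' ⊓ normalizer ((W R : Subgroup G) : Set G) :=
                  le_inf inf_le_left (le_normalizer_functor hW hRp)
                have hlt : Nat.card R <
                    Nat.card (S' ⊓ normalizer ((W R : Subgroup G) : Set G) : Subgroup G) :=
                  lt_of_lt_of_le (card_lt_card_inf_normalizer S.2 hRS) (card_le_of_le
                    (inf_le_inf_left _ (normalizer_le_normalizer_functor hW hRp)))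
                have hle2 : Nat.card (S' ⊓ normalizer ((W R : Subgroup G) : Set G) : Subgroup G) ≤
                    Nat.card S' := card_le_of_le inf_le_left
                exact ih _ (by omega) (W R) (functor_ne_bot hW hRp hRne)
                  ((functor_le hW hRp).trans inf_le_left) (hZZR.trans (hWZ R hRp)) rfl x A hxW
                  (hA.trans (SetLike.coe_subset_coe.2 hle)) (hxA.trans (SetLike.coe_subset_coe.2 hle))
            · exact FusRel.single (hA.trans (SetLike.coe_subset_coe.2 inf_le_left))
                (Or.inr ⟨mem_top x, centralizer_le (hVmono S' R S.2 hRp hS0 hRne hZZR) hxV⟩)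
                (hxA.trans (SetLike.coe_subset_coe.2 inf_le_left))
          refine h1.trans (ih' hhy hxA ?_)
          rwa [lconj_lconj]
      have conjStep : FusRel P S' ((S' ⊓ normalizer (U : Set G) : Subgroup G) : Set G) b := by
        have hch : RChain (fullNormSet p S')
            ((S' ⊓ normalizer (U : Set G) : Subgroup G) : Set G) b⁻¹ := by
          refine rchain_of_exists_good S (fun V hV => hV.1)
            (fun T hT => exists_fullNormalized S hT) _ _
            (SetLike.coe_subset_coe.2 inf_le_left) ?_
          rintro _ ⟨x, hx, rfl⟩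
          show _ ∈ S'
          simpa using (hb (conj_mem_conjMap hx)).1
        have key : ∀ (A : Set G) (g : G), RChain (fullNormSet p S') A g → ∀ D : Subgroup G,
            (D : Set G) = A → D ≤ S' → D ≠ ⊥ →
            Nat.card (S' ⊓ normalizer (U : Set G) : Subgroup G) ≤ Nat.card D →
            FusRel P S' A g⁻¹ := by
          intro A g hg
          induction hg with
          | nil A =>
            intro D hD hDS _ _
            exact FusRel.refl (hD ▸ SetLike.coe_subset_coe.2 hDS) (by simp)
          | @step A T x g hT hx hA _ ih' =>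
            intro D hD hDS hD1 hcD
            have hTS := hT.1
            have hxA : lconj x⁻¹ A ⊆ T := by
              rintro _ ⟨a, ha, rfl⟩
              simpa using (mem_normalizer_iff''.1 hx a).1 (hA ha)
            have hDT : D ≤ T := fun z hz => hA (hD ▸ hz)
            have h1 : FusRel P S' A x⁻¹ := by
              refine stepT T x⁻¹ A hT (inv_mem hx) hA
                fun T' n' hTT' hT'S hne hT'0 hZT' hn' hA1 hA2 => ?_
              have hlt : Nat.card T' < Nat.card (S' ⊓ normalizer (T' : Set G) : Subgroup G) :=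
                card_lt_card_inf_normalizer S.2 (lt_of_le_of_ne hT'S hne)
              have hle2 : Nat.card (S' ⊓ normalizer (T' : Set G) : Subgroup G) ≤ Nat.card S' :=
                card_le_of_le inf_le_left
              have hDTc : Nat.card D ≤ Nat.card T' := card_le_of_le (hDT.trans hTT')
              exact ih _ (by omega) T' hT'0 hT'S hZT' rfl n' A hn' hA1 hA2
            rw [mul_inv_rev]
            refine h1.trans ?_
            have e : lconj x⁻¹ A = rconj x A := by simp [lconj, rconj]
            rw [e]
            refine ih' (conjMap x⁻¹ D) ?_ ?_ (conjMap_ne_bot hD1) (hcD.trans (card_conjMap _ _).ge)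
            · rw [← e, ← hD, coe_conjMap]
            · intro z hz
              have hz' := mem_conjMap.1 hz
              rw [← SetLike.mem_coe, hD] at hz'
              exact hTS (by simpa [mul_assoc] using hxA ⟨_, hz', rfl⟩)
        have := key _ _ hch _ rfl inf_le_left
          (fun h0 => hU (eq_bot_iff.2 (h0 ▸ le_inf hUS le_normalizer))) le_rfl
        rwa [inv_inv] at this
      intro y A hy hA hyA
      have c1 := conjStep.mono hA
      have c3 := (conjStep.mono hyA).symm hsym
      rw [lconj_lconj] at c3
      have hb' : b * y * b⁻¹ ∈ normalizer (conjMap b U : Set G) := by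
        rw [← conjMap_normalizer]; exact conj_mem_conjMap hy
      have c2 := local_ _ (lconj b A) hb'
        ((lconj_subset_conjMap hA).trans (SetLike.coe_subset_coe.2 hb))
        (by rw [lconj_lconj, inv_mul_cancel_right, ← lconj_lconj]
            exact (lconj_subset_conjMap hyA).trans (SetLike.coe_subset_coe.2 hb))
      have c12 := c1.trans c2
      rw [inv_mul_cancel_right] at c12
      have := c12.trans c3
      rwa [inv_mul_cancel_left] at this
  intro A h _ hA hAh
  have hch : RChain (fullNormSet p S') A h⁻¹ := by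
    refine rchain_of_exists_good S (fun V hV => hV.1) (fun T hT => exists_fullNormalized S hT) A _
      hA ?_
    show rconj h⁻¹ A ⊆ S'
    simpa [rconj] using hAh
  suffices H : ∀ (A : Set G) (g : G), RChain (fullNormSet p S') A g → A ⊆ S' → FusRel P S' A g⁻¹ by
    simpa using H _ _ hch hA
  intro A g hg
  induction hg with
  | nil A => intro hA; exact FusRel.refl hA (by simp)
  | @step A T x g hT hx hA _ ih' =>
    intro hAS
    have hxA : lconj x⁻¹ A ⊆ T := by
      rintro _ ⟨a, ha, rfl⟩
      simpa using (mem_normalizer_iff''.1 hx a).1 (hA ha)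
    have e : lconj x⁻¹ A = rconj x A := by simp [lconj, rconj]
    have hnext : rconj x A ⊆ S' := e ▸ hxA.trans (SetLike.coe_subset_coe.2 hT.1)
    rw [mul_inv_rev]
    refine (stepT T x⁻¹ A hT (inv_mem hx) hA fun T' n' _ hT'S _ hT'0 hZT' hn' hA1 hA2 =>
      main _ T' hT'0 hT'S hZT' rfl n' A hn' hA1 hA2).trans ?_
    rw [e]
    exact ih' hnext

end CfsgLib.PLocal
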