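import Mathlib
import Cfsg.Agent.Lib.Classical.SLGen

/-!
# A subgroup of `SL₂(F)` with two Sylow `p`-subgroups contains `SL₂(p)`
-/

namespace CfsgLib.PLocal

open Subgroup
open scoped MatrixGroups

section Basic

variable {F : Type*} [Field F]

/-- The upper unitriangular element. -/
def upU (x : F) : SL(2, F) := ⟨!![1, x; 0, 1], by simp [Matrix.det_fin_two_of]⟩

/-- The lower unitriangular element. -/
def loL (x : F) : SL(2, F) := ⟨!![1, 0; x, 1], by simp [Matrix.det_fin_two_of]⟩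

theorem upU_coe (x : F) : (upU x : Matrix (Fin 2) (Fin 2) F) = !![1, x; 0, 1] := rfl

theorem loL_coe (x : F) : (loL x : Matrix (Fin 2) (Fin 2) F) = !![1, 0; x, 1] := rfl

theorem upU_mul (x y : F) : upU x * upU y = upU (x + y) := by
  apply Subtype.ext
  show !![1, x; 0, 1] * !![1, y; 0, 1] = !![1, x + y; 0, 1]
  rw [Matrix.mul_fin_two]
  simp [add_comm]

theorem loL_mul (x y : F) : loL x * loL y = loL (x + y) := by
  apply Subtype.ext
  show !![1, 0; x, 1] * !![1, 0; y, 1] = !![1, 0; x + y, 1]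
  rw [Matrix.mul_fin_two]
  simp

theorem upU_zero : upU (0 : F) = 1 := by
  apply Subtype.ext
  show !![1, (0 : F); 0, 1] = 1
  rw [Matrix.one_fin_two]

theorem loL_zero : loL (0 : F) = 1 := by
  apply Subtype.ext
  show !![1, (0 : F); 0, 1] = 1
  rw [Matrix.one_fin_two]

theorem upU_inv (x : F) : (upU x)⁻¹ = upU (-x) :=
  inv_eq_of_mul_eq_one_right (by rw [upU_mul, add_neg_cancel, upU_zero])

theorem upU_pow (x : F) (n : ℕ) : upU x ^ n = upU (n * x) := by
  induction n with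
  | zero => simp [upU_zero]
  | succ n ih => rw [pow_succ, ih, upU_mul]; push_cast; ring_nf

theorem loL_pow (x : F) (n : ℕ) : loL x ^ n = loL (n * x) := by
  induction n with
  | zero => simp [loL_zero]
  | succ n ih => rw [pow_succ, ih, loL_mul]; push_cast; ring_nf

theorem upU_injective : Function.Injective (upU : F → SL(2, F)) := fun x y h => by
  have := congrArg (fun g : SL(2, F) => (g : Matrix (Fin 2) (Fin 2) F) 0 1) h
  simpa [upU_coe] using this

theorem sl2_det (g : SL(2, F)) :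
    (g : Matrix (Fin 2) (Fin 2) F) 0 0 * (g : Matrix (Fin 2) (Fin 2) F) 1 1 -
      (g : Matrix (Fin 2) (Fin 2) F) 0 1 * (g : Matrix (Fin 2) (Fin 2) F) 1 0 = 1 := by
  rw [← Matrix.det_fin_two]
  exact g.2

theorem sl2_ext {g h : SL(2, F)} (h00 : (g : Matrix (Fin 2) (Fin 2) F) 0 0 = (h : Matrix (Fin 2) (Fin 2) F) 0 0)
    (h01 : (g : Matrix (Fin 2) (Fin 2) F) 0 1 = (h : Matrix (Fin 2) (Fin 2) F) 0 1)
    (h10 : (g : Matrix (Fin 2) (Fin 2) F) 1 0 = (h : Matrix (Fin 2) (Fin 2) F) 1 0)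
    (h11 : (g : Matrix (Fin 2) (Fin 2) F) 1 1 = (h : Matrix (Fin 2) (Fin 2) F) 1 1) : g = h := by
  apply Subtype.ext
  ext i j
  fin_cases i <;> fin_cases j <;> assumption

/-- The trace. -/
def tr2 (g : SL(2, F)) : F :=
  (g : Matrix (Fin 2) (Fin 2) F) 0 0 + (g : Matrix (Fin 2) (Fin 2) F) 1 1

/-- The lower left entry. -/
def low (g : SL(2, F)) : F := (g : Matrix (Fin 2) (Fin 2) F) 1 0

theorem upU_mul_apply (x : F) (g : SL(2, F)) :
    (((upU x * g : SL(2, F)) : Matrix (Fin 2) (Fin 2) F) 0 0 =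
        (g : Matrix (Fin 2) (Fin 2) F) 0 0 + x * low g) ∧
      (((upU x * g : SL(2, F)) : Matrix (Fin 2) (Fin 2) F) 0 1 =
        (g : Matrix (Fin 2) (Fin 2) F) 0 1 + x * (g : Matrix (Fin 2) (Fin 2) F) 1 1) ∧
      low (upU x * g) = low g ∧
      ((upU x * g : SL(2, F)) : Matrix (Fin 2) (Fin 2) F) 1 1 = (g : Matrix (Fin 2) (Fin 2) F) 1 1 := by
  simp [low, upU_coe, Matrix.SpecialLinearGroup.coe_mul, Matrix.mul_apply, Fin.sum_univ_two]

theorem tr2_upU_mul (x : F) (g : SL(2, F)) : tr2 (upU x * g) = tr2 g + x * low g := by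
  obtain ⟨h1, -, -, h4⟩ := upU_mul_apply x g
  rw [tr2, h1, h4, tr2]; ring

theorem eq_upU_of_tr2 {g : SL(2, F)} (h0 : low g = 0) (h2 : tr2 g = 2) :
    g = upU ((g : Matrix (Fin 2) (Fin 2) F) 0 1) := by
  have hd := sl2_det g
  have h0' : (g : Matrix (Fin 2) (Fin 2) F) 1 0 = 0 := h0
  rw [h0', mul_zero, sub_zero] at hd
  have h2' : (g : Matrix (Fin 2) (Fin 2) F) 0 0 + (g : Matrix (Fin 2) (Fin 2) F) 1 1 = 2 := h2
  have ha : ((g : Matrix (Fin 2) (Fin 2) F) 0 0 - 1) ^ 2 = 0 := by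
    have : (g : Matrix (Fin 2) (Fin 2) F) 1 1 = 2 - (g : Matrix (Fin 2) (Fin 2) F) 0 0 := by
      linear_combination h2'
    rw [this] at hd
    linear_combination -hd
  rw [sq_eq_zero_iff, sub_eq_zero] at ha
  refine sl2_ext ?_ ?_ ?_ ?_
  · simpa [upU_coe] using ha
  · simp [upU_coe]
  · simpa [upU_coe] using h0'
  · simp only [upU_coe]
    rw [ha] at h2'
    simp
    linear_combination h2'

theorem conj_upU_apply (g : SL(2, F)) (x : F) :
    (((g * upU x * g⁻¹ : SL(2, F)) : Matrix (Fin 2) (Fin 2) F) 0 1 =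
        (g : Matrix (Fin 2) (Fin 2) F) 0 0 ^ 2 * x) ∧
      low (g * upU x * g⁻¹) = -(low g ^ 2 * x) ∧ tr2 (g * upU x * g⁻¹) = 2 := by
  have hd := sl2_det g
  rw [tr2, low, low]
  simp only [upU_coe, Matrix.SpecialLinearGroup.coe_mul, Matrix.SpecialLinearGroup.coe_inv,
    Matrix.adjugate_fin_two, Matrix.mul_apply, Fin.sum_univ_two]
  simp
  refine ⟨by ring, by ring, ?_⟩
  linear_combination 2 * hd

theorem tr2_neg_one_mul (g : SL(2, F)) : tr2 (-1 * g) = -tr2 g ∧ low (-1 * g) = -low g := by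
  simp [tr2, low, Matrix.SpecialLinearGroup.coe_mul]
  ring

variable {p : ℕ} [hp : Fact p.Prime] [CharP F p]

/-- `SL₂(p)` scaled by `x`. -/
def scaledHom (x : F) (hx : x ≠ 0) : SL(2, ZMod p) →* SL(2, F) where
  toFun M := ⟨!![ZMod.castHom (dvd_refl p) F ((M : Matrix (Fin 2) (Fin 2) (ZMod p)) 0 0),
      ZMod.castHom (dvd_refl p) F ((M : Matrix (Fin 2) (Fin 2) (ZMod p)) 0 1) * x;
      ZMod.castHom (dvd_refl p) F ((M : Matrix (Fin 2) (Fin 2) (ZMod p)) 1 0) * x⁻¹,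
      ZMod.castHom (dvd_refl p) F ((M : Matrix (Fin 2) (Fin 2) (ZMod p)) 1 1)], by
    rw [Matrix.det_fin_two_of, mul_mul_mul_comm, mul_inv_cancel₀ hx, mul_one, ← map_mul, ← map_mul,
      ← map_sub, sl2_det, map_one]⟩
  map_one' := by
    apply Subtype.ext
    simp [Matrix.one_fin_two]
  map_mul' M N := by
    refine Subtype.ext ?_
    refine Eq.trans ?_ (Matrix.SpecialLinearGroup.coe_mul _ _).symm
    show !![_, _; _, _] = !![_, _; _, _] * !![_, _; _, _]
    rw [Matrix.mul_fin_two]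
    simp [Matrix.SpecialLinearGroup.coe_mul, Matrix.mul_apply, Fin.sum_univ_two]
    refine ⟨⟨?_, ?_⟩, ?_, ?_⟩ <;> field_simp

theorem scaledHom_coe (x : F) (hx : x ≠ 0) (M : SL(2, ZMod p)) :
    (scaledHom (p := p) x hx M : Matrix (Fin 2) (Fin 2) F) =
      !![ZMod.castHom (dvd_refl p) F ((M : Matrix (Fin 2) (Fin 2) (ZMod p)) 0 0),
        ZMod.castHom (dvd_refl p) F ((M : Matrix (Fin 2) (Fin 2) (ZMod p)) 0 1) * x;
        ZMod.castHom (dvd_refl p) F ((M : Matrix (Fin 2) (Fin 2) (ZMod p)) 1 0) * x⁻¹,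
        ZMod.castHom (dvd_refl p) F ((M : Matrix (Fin 2) (Fin 2) (ZMod p)) 1 1)] := rfl

theorem scaledHom_injective (x : F) (hx : x ≠ 0) :
    Function.Injective (scaledHom (p := p) x hx) := by
  intro M N h
  have hf : Function.Injective (ZMod.castHom (dvd_refl p) F) := RingHom.injective _
  have e : ∀ i j, ((scaledHom (p := p) x hx M : SL(2, F)) : Matrix (Fin 2) (Fin 2) F) i j =
      ((scaledHom (p := p) x hx N : SL(2, F)) : Matrix (Fin 2) (Fin 2) F) i j := fun i j => by rw [h]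
  refine sl2_ext (hf ?_) (hf ?_) (hf ?_) (hf ?_)
  · simpa [scaledHom_coe] using e 0 0
  · simpa [scaledHom_coe, hx] using e 0 1
  · simpa [scaledHom_coe, hx] using e 1 0
  · simpa [scaledHom_coe] using e 1 1

theorem scaledHom_upU (x : F) (hx : x ≠ 0) :
    scaledHom (p := p) x hx (upU 1) = upU x ∧ scaledHom (p := p) x hx (loL 1) = loL x⁻¹ := by
  constructor <;> apply Subtype.ext <;> simp [scaledHom_coe, upU_coe, loL_coe]

theorem closure_upU_loL : Subgroup.closure ({upU 1, loL 1} : Set SL(2, ZMod p)) = ⊤ := by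
  refine CfsgLib.Classical.sl_transvection_induction _ fun i j hij c => ?_
  obtain ⟨k, rfl⟩ : ∃ k : ℕ, (k : ZMod p) = c := ⟨c.val, ZMod.natCast_zmod_val c⟩
  fin_cases i <;> fin_cases j <;> first | exact absurd rfl hij | skip
  · have e : Matrix.SpecialLinearGroup.transvection hij (k : ZMod p) = upU 1 ^ k := by
      rw [upU_pow, mul_one]
      apply Subtype.ext
      ext a b
      fin_cases a <;> fin_cases b <;>
        simp [Matrix.SpecialLinearGroup.transvection, Matrix.transvection, upU_coe]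
    rw [e]
    exact pow_mem (subset_closure (Set.mem_insert _ _)) _
  · have e : Matrix.SpecialLinearGroup.transvection hij (k : ZMod p) = loL 1 ^ k := by
      rw [loL_pow, mul_one]
      apply Subtype.ext
      ext a b
      fin_cases a <;> fin_cases b <;>
        simp [Matrix.SpecialLinearGroup.transvection, Matrix.transvection, loL_coe]
    rw [e]
    exact pow_mem (subset_closure (Set.mem_insert_of_mem _ (Set.mem_singleton _))) _

/-- The criterion: `upU x ∈ H` and an element of `H` with `x · low h` a non-zero integer. -/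
theorem exists_slTwo_of_relation (H : Subgroup SL(2, F)) {x : F} (hx : x ≠ 0) (hxH : upU x ∈ H)
    {h : SL(2, F)} (hh : h ∈ H) (hc : low h ≠ 0) {m : ℤ} (hm : (m : F) ≠ 0) (hrel : x * low h = m) :
    ∃ φ : SL(2, ZMod p) →* SL(2, F), Function.Injective φ ∧ φ.range ≤ H := by
  set c := low h with hcdef
  set a := (h : Matrix (Fin 2) (Fin 2) F) 0 0 with ha
  set T := upU (-a / c) with hT
  set φ₀ := scaledHom (p := p) x hx with hφ₀
  refine ⟨(MulAut.conj T⁻¹).toMonoidHom.comp φ₀, (MulAut.conj T⁻¹).injective.comp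
    (scaledHom_injective x hx), ?_⟩
  rw [MonoidHom.range_eq_map, ← closure_upU_loL, MonoidHom.map_closure, closure_le]
  obtain ⟨e1, e2⟩ := scaledHom_upU (p := p) x hx
  have hkey : T * (h * upU x * h⁻¹) * T⁻¹ = loL (-(c ^ 2 * x)) := by
    set h' := T * h with hh'
    have e : T * (h * upU x * h⁻¹) * T⁻¹ = h' * upU x * h'⁻¹ := by rw [hh']; group
    rw [e]
    obtain ⟨t1, t2, t3, -⟩ := upU_mul_apply (-a / c) h
    have hz : (h' : Matrix (Fin 2) (Fin 2) F) 0 0 = 0 := by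
      rw [hh', hT, t1, ← ha, ← hcdef]; field_simp; ring
    have hlow : low h' = c := t3
    obtain ⟨u1, u2, u3⟩ := conj_upU_apply h' x
    have hd := sl2_det (h' * upU x * h'⁻¹)
    rw [hz] at u1
    have h00 : ((h' * upU x * h'⁻¹ : SL(2, F)) : Matrix (Fin 2) (Fin 2) F) 0 0 = 1 := by
      have h3 : ((h' * upU x * h'⁻¹ : SL(2, F)) : Matrix (Fin 2) (Fin 2) F) 0 0 +
          ((h' * upU x * h'⁻¹ : SL(2, F)) : Matrix (Fin 2) (Fin 2) F) 1 1 = 2 := u3
      rw [u1] at hd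
      have : (((h' * upU x * h'⁻¹ : SL(2, F)) : Matrix (Fin 2) (Fin 2) F) 0 0 - 1) ^ 2 = 0 := by
        linear_combination -hd + ((h' * upU x * h'⁻¹ : SL(2, F)) : Matrix (Fin 2) (Fin 2) F) 0 0 * h3
      rwa [sq_eq_zero_iff, sub_eq_zero] at this
    refine sl2_ext ?_ ?_ ?_ ?_
    · simpa [loL_coe] using h00
    · simpa [loL_coe] using u1
    · show low (h' * upU x * h'⁻¹) = _
      rw [u2, hlow]; simp [loL_coe]
    · have h3 : ((h' * upU x * h'⁻¹ : SL(2, F)) : Matrix (Fin 2) (Fin 2) F) 0 0 +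
          ((h' * upU x * h'⁻¹ : SL(2, F)) : Matrix (Fin 2) (Fin 2) F) 1 1 = 2 := u3
      simp [loL_coe]
      linear_combination h3 - h00
  -- `loL x⁻¹` is a power of `loL (-c² x)`
  obtain ⟨k, hk⟩ : ∃ k : ℕ, loL x⁻¹ = loL (-(c ^ 2 * x)) ^ k := by
    have hm' : ((-(m : ZMod p) ^ 2)⁻¹ : ZMod p) ≠ 0 := by
      refine inv_ne_zero (neg_ne_zero.2 (pow_ne_zero 2 fun h0 => hm ?_))
      rw [← map_intCast (ZMod.castHom (dvd_refl p) F), h0, map_zero]
    refine ⟨((-(m : ZMod p) ^ 2)⁻¹).val, ?_⟩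
    rw [loL_pow]
    congr 1
    have hcast : (((-(m : ZMod p) ^ 2)⁻¹).val : F) = (-(m : F) ^ 2)⁻¹ := by
      rw [← map_natCast (ZMod.castHom (dvd_refl p) F), ZMod.natCast_zmod_val, map_inv₀, map_neg,
        map_pow, map_intCast]
    rw [hcast, ← hrel]
    field_simp
  rintro _ ⟨y, hy, rfl⟩
  rcases hy with rfl | rfl
  · show T⁻¹ * φ₀ (upU 1) * T⁻¹⁻¹ ∈ H
    rw [hφ₀, e1, hT, upU_inv, upU_inv, upU_mul, upU_mul]
    ring_nf
    exact hxH
  · show T⁻¹ * φ₀ (loL 1) * T⁻¹⁻¹ ∈ H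
    rw [hφ₀, e2, hk, ← conj_pow]
    refine pow_mem ?_ k
    rw [← hkey, show T⁻¹ * (T * (h * upU x * h⁻¹) * T⁻¹) * T⁻¹⁻¹ = h * upU x * h⁻¹ by group]
    exact H.mul_mem (H.mul_mem hh hxH) (H.inv_mem hh)

end Basic

end CfsgLib.PLocal
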