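import Mathlib
import Cfsg.Agent.Lib.PLocal.DicksonSLTwo

/-!
# Two quadratically acting generators: a two-dimensional composition factor
-/

set_option autoImplicit false

namespace CfsgLib.PLocal

open Subgroup
open scoped MatrixGroups

universe u

/-- Induction along a generating set of a finite group, without inverses. -/
theorem closure_pair_induction {H : Type*} [Group H] [Finite H] {a b : H}
    (hgen : Subgroup.closure {a, b} = ⊤) {P : H → Prop} (h1 : P 1) (ha : P a) (hb : P b)
    (hmul : ∀ g h, P g → P h → P (g * h)) (g : H) : P g := by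
  have hg : g ∈ (Subgroup.closure {a, b}).toSubmonoid := by rw [hgen]; exact Subgroup.mem_top g
  rw [Subgroup.closure_toSubmonoid_of_finite] at hg
  induction hg using Submonoid.closure_induction with
  | mem x hx => rcases hx with rfl | rfl <;> assumption
  | one => exact h1
  | mul x y _ _ hx hy => exact hmul x y hx hy

theorem one_add_pow_of_sq_zero {R : Type*} [Ring R] {n : R} (hn : n * n = 0) (m : ℕ) :
    (1 + n) ^ m = 1 + m • n := by
  induction m with
  | zero => simp
  | succ m ih => rw [pow_succ, ih, succ_nsmul, mul_add, mul_one, add_mul, one_mul, smul_mul_assoc,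
      hn, smul_zero, add_zero, add_assoc]

variable {K : Type*} [Field K] {p : ℕ} [hp : Fact p.Prime] [CharP K p]

/-- In characteristic `p` a quadratically acting element has order dividing `p`. -/
theorem pow_eq_one_of_quadratic {W : Type*} [AddCommGroup W] [Module K W] {A : Module.End K W}
    (hA : (A - 1) * (A - 1) = 0) : A ^ p = 1 := by
  have e : A = 1 + (A - 1) := by abel
  rw [e, one_add_pow_of_sq_zero hA, ← Nat.cast_smul_eq_nsmul K, CharP.cast_eq_zero, zero_smul,
    add_zero]

section Rep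

variable {H : Type*} [Group H] [Finite H]

/-- `p`-images on an invariant submodule and on the quotient give a `p`-image. -/
theorem pImage_of_filtration {W : Type*} [AddCommGroup W] [Module K W] (ρ : H →* Module.End K W)
    (U : Submodule K W)
    (h1 : ∀ g, ∃ k : ℕ, ∀ w ∈ U, (ρ (g ^ p ^ k)) w = w)
    (h2 : ∀ g, ∃ k : ℕ, ∀ w, (ρ (g ^ p ^ k)) w - w ∈ U) (g : H) :
    ∃ k : ℕ, ρ g ^ p ^ k = 1 := by
  obtain ⟨i, hi⟩ := h1 g
  obtain ⟨j, hj⟩ := h2 (g ^ p ^ i)
  set x := g ^ p ^ i with hx
  set A := ρ (x ^ p ^ j) with hA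
  have hiter : ∀ (n : ℕ), ∀ w ∈ U, (ρ (x ^ n)) w = w := by
    intro n w hw
    induction n with
    | zero => simp
    | succ n ih => rw [pow_succ, map_mul, Module.End.mul_apply, hx, hi w hw, ← hx, ih]
  have hsq : (A - 1) * (A - 1) = 0 := by
    refine LinearMap.ext fun w => ?_
    have hw : A w - w ∈ U := hj w
    have := hiter (p ^ j) (A w - w) hw
    rw [← hA] at this
    rw [Module.End.mul_apply, LinearMap.sub_apply, LinearMap.sub_apply, Module.End.one_apply,
      Module.End.one_apply, this, sub_self, LinearMap.zero_apply]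
  refine ⟨i + j + 1, ?_⟩
  have := pow_eq_one_of_quadratic (p := p) hsq
  rw [hA, hx, ← map_pow, ← pow_mul, ← pow_mul, ← pow_succ, ← pow_add, ← add_assoc] at this
  rwa [← map_pow]

end Rep

/-- The irreducible case. -/
theorem exists_slTwo_hom_of_irreducible [Fintype K] {H : Type*} [Group H] [Finite H] {a b : H}
    (hgen : Subgroup.closure {a, b} = ⊤) {W : Type*} [AddCommGroup W] [Module K W]
    [FiniteDimensional K W] [Nontrivial W] (ρ : H →* Module.End K W)
    (ha : (ρ a - 1) * (ρ a - 1) = 0) (hb : (ρ b - 1) * (ρ b - 1) = 0)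
    (hnp : ¬ ∀ g, ∃ k : ℕ, ρ g ^ p ^ k = 1)
    (hk : ∃ e k : ℕ, (a * b) ^ (p ^ e * k) = 1 ∧ k ∣ Fintype.card K - 1)
    (hirr : ∀ U : Submodule K W, (∀ g, ∀ w ∈ U, ρ g w ∈ U) → U = ⊥ ∨ U = ⊤) :
    ∃ (φ : H →* SL(2, K)) (x : K), x ≠ 0 ∧ φ a = upU x ∧ φ b = loL 1 ∧ ∃ (U : Submodule K W) (v w : W), v ∉ U ∧ (∀ g, ∀ z ∈ U, ρ g z ∈ U) ∧
        ∀ g, ρ g v - ((φ g : Matrix (Fin 2) (Fin 2) K) 0 0 • v +
              (φ g : Matrix (Fin 2) (Fin 2) K) 1 0 • w) ∈ U ∧
          ρ g w - ((φ g : Matrix (Fin 2) (Fin 2) K) 0 1 • v +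
              (φ g : Matrix (Fin 2) (Fin 2) K) 1 1 • w) ∈ U := by
  classical
  set N := ρ a - 1 with hN
  set M := ρ b - 1 with hM
  have hA : ρ a = 1 + N := by rw [hN]; abel
  have hB : ρ b = 1 + M := by rw [hM]; abel
  -- invariance is tested on `N` and `M`
  have hinv : ∀ U : Submodule K W, (∀ w ∈ U, N w ∈ U) → (∀ w ∈ U, M w ∈ U) → U = ⊥ ∨ U = ⊤ := by
    intro U hUN hUM
    refine hirr U fun g => ?_
    refine closure_pair_induction hgen (P := fun g => ∀ w ∈ U, ρ g w ∈ U) ?_ ?_ ?_ ?_ g
    · intro w hw; simpa using hw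
    · intro w hw; rw [hA]; exact U.add_mem hw (hUN w hw)
    · intro w hw; rw [hB]; exact U.add_mem hw (hUM w hw)
    · intro g h hg hh w hw; rw [map_mul]; exact hg _ (hh w hw)
  -- the central element
  set T := N * M + M * N with hT
  obtain ⟨μ, v₀, hv₀, hμ⟩ : ∃ (μ : K) (v : W), v ≠ 0 ∧ ρ (a * b) v = μ • v := by
    obtain ⟨e, k, hek, hkd⟩ := hk
    set C := ρ (a * b) with hC
    have hCk : (C ^ (Fintype.card K - 1)) ^ p ^ e = 1 := by
      obtain ⟨c, hc⟩ := hkd
      rw [← pow_mul, hc, show k * c * p ^ e = p ^ e * k * c by ring, pow_mul, hC, ← map_pow, hek,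
        map_one, one_pow]
    haveI : CharP (Module.End K W) p := charP_of_injective_algebraMap
      (FaithfulSMul.algebraMap_injective K (Module.End K W)) p
    have hnil : (C ^ (Fintype.card K - 1) - 1) ^ p ^ e = 0 := by
      rw [sub_pow_char_pow_of_commute _ _ (Commute.one_right _), hCk, one_pow, sub_self]
    have hqpos : 1 ≤ Fintype.card K := Fintype.card_pos
    have hnu : ¬ IsUnit (C ^ (Fintype.card K - 1) - 1) := fun hu => by
      have h0 := hu.pow (p ^ e)
      rw [hnil, isUnit_zero_iff] at h0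
      exact zero_ne_one h0
    have hprod : ∃ μ : K, ¬ IsUnit (C - algebraMap K (Module.End K W) μ) := by
      by_contra hall
      push Not at hall
      have hq : (∏ c : K, (Polynomial.X - Polynomial.C c)) =
          Polynomial.X ^ Fintype.card K - Polynomial.X := by
        have h2 := FiniteField.roots_X_pow_card_sub_X K
        have hmonic : (Polynomial.X ^ Fintype.card K - Polynomial.X : Polynomial K).Monic :=
          Polynomial.monic_X_pow_sub (by
            rw [Polynomial.degree_X]; exact_mod_cast Fintype.one_lt_card)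
        have hs : (Polynomial.X ^ Fintype.card K - Polynomial.X : Polynomial K).natDegree =
            Fintype.card K := FiniteField.X_pow_card_sub_X_natDegree_eq K Fintype.one_lt_card
        have h3 := Polynomial.prod_multiset_X_sub_C_of_monic_of_roots_card_eq hmonic (by
          rw [h2, hs]; rfl)
        rw [h2] at h3
        rw [← h3]; rfl
      have hev : Polynomial.aeval C (∏ c : K, (Polynomial.X - Polynomial.C c)) =
          C * (C ^ (Fintype.card K - 1) - 1) := by
        rw [hq, map_sub, map_pow, Polynomial.aeval_X, mul_sub, mul_one, ← pow_succ',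
          Nat.sub_add_cancel hqpos]
      have hu : IsUnit (Polynomial.aeval C (∏ c : K, (Polynomial.X - Polynomial.C c))) := by
        rw [← Finset.prod_map_toList]
        rw [map_list_prod, List.map_map]
        refine List.prod_induction _ (fun x y => IsUnit.mul) isUnit_one ?_
        intro x hx
        obtain ⟨c, -, rfl⟩ := List.mem_map.1 hx
        simpa [Polynomial.aeval_C] using hall c
      rw [hev] at hu
      have hCu : IsUnit C := (Group.isUnit (a * b)).map ρ
      exact hnu (IsUnit.mul_iff.1 hu).2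
    obtain ⟨μ, hμu⟩ := hprod
    obtain ⟨v, hv, hv0⟩ := Submodule.exists_mem_ne_zero_of_ne_bot
      (fun hbot => hμu ((LinearMap.isUnit_iff_ker_eq_bot _).2 hbot))
    refine ⟨μ, v, hv0, ?_⟩
    have := LinearMap.mem_ker.1 hv
    rwa [LinearMap.sub_apply, Module.algebraMap_end_apply, sub_eq_zero] at this
  have hAB : ρ (a * b) = 1 + N + M + N * M := by rw [map_mul, hA, hB]; noncomm_ring
  have hBA : (1 - M) * (1 - N) * ρ (a * b) = 1 := by
    rw [map_mul, hA, hB]
    calc (1 - M) * (1 - N) * ((1 + N) * (1 + M))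
        = (1 - M) * (1 - N * N) * (1 + M) := by noncomm_ring
      _ = 1 := by rw [ha]; calc (1 - M) * (1 - 0) * (1 + M) = 1 - M * M := by noncomm_ring
                    _ = 1 := by rw [hb, sub_zero]
  have hμ0 : μ ≠ 0 := by
    intro h0
    have := LinearMap.congr_fun hBA v₀
    rw [Module.End.mul_apply, hμ, h0, zero_smul, map_zero, Module.End.one_apply] at this
    exact hv₀ this.symm
  set l := μ + μ⁻¹ - 2 with hl
  have hTv : T v₀ = l • v₀ := by
    have e : T = ρ (a * b) + (1 - M) * (1 - N) - 1 - 1 := by rw [hAB, hT]; noncomm_ring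
    have hi : ((1 - M) * (1 - N)) v₀ = μ⁻¹ • v₀ := by
      have := congrArg (fun f : Module.End K W => f v₀) hBA
      rw [Module.End.mul_apply, hμ, map_smul, Module.End.one_apply] at this
      rw [← smul_right_inj hμ0, this, smul_smul, mul_inv_cancel₀ hμ0, one_smul]
    rw [e, LinearMap.sub_apply, LinearMap.sub_apply, LinearMap.add_apply, hμ, hi,
      Module.End.one_apply, hl, sub_smul, add_smul, two_smul]
    abel
  have hTN : T * N = N * T := by
    rw [hT, add_mul, mul_add, mul_assoc M N N, ha, ← mul_assoc N N M, ha]; simp [mul_assoc]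
  have hTM : T * M = M * T := by
    rw [hT, add_mul, mul_add, mul_assoc N M M, hb, ← mul_assoc M M N, hb]; simp [mul_assoc]
  have hTtop : ∀ w, T w = l • w := by
    set U := LinearMap.ker (T - algebraMap K (Module.End K W) l) with hU
    have hmem : ∀ w, w ∈ U ↔ T w = l • w := fun w => by
      rw [hU, LinearMap.mem_ker, LinearMap.sub_apply, Module.algebraMap_end_apply, sub_eq_zero]
    have h := hinv U (fun w hw => (hmem _).2 (by
        rw [← Module.End.mul_apply, hTN, Module.End.mul_apply, (hmem w).1 hw, map_smul]))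
      (fun w hw => (hmem _).2 (by
        rw [← Module.End.mul_apply, hTM, Module.End.mul_apply, (hmem w).1 hw, map_smul]))
    rcases h with h | h
    · exact absurd (h ▸ (hmem v₀).2 hTv : v₀ ∈ (⊥ : Submodule K W)) (by simpa using hv₀)
    · exact fun w => (hmem w).1 (h ▸ Submodule.mem_top)
  -- `N` is not zero
  have hN0 : N ≠ 0 := fun h0 => hnp fun g => ⟨1, closure_pair_induction hgen
    (P := fun g => ρ g ^ p ^ 1 = 1 ∧ ∀ h, Commute (ρ g) (ρ h)) ?_ ?_ ?_ ?_ g |>.1⟩
  rotate_left
  · exact ⟨by simp, fun h => by simp⟩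
  · exact ⟨by simp [hA, h0], fun h => by simp [hA, h0]⟩
  · refine ⟨by rw [pow_one]; exact pow_eq_one_of_quadratic hb, fun h => ?_⟩
    refine closure_pair_induction hgen (P := fun h => Commute (ρ b) (ρ h)) ?_ ?_ ?_ ?_ h
    · simp
    · simp [hA, h0]
    · exact Commute.refl _
    · intro x y hx hy; rw [map_mul]; exact hx.mul_right hy
  · rintro x y ⟨hx, hxc⟩ ⟨hy, hyc⟩
    refine ⟨by rw [map_mul, (hxc y).mul_pow, hx, hy, one_mul], fun h => ?_⟩
    rw [map_mul]; exact (hxc h).mul_left (hyc h)
  obtain ⟨v, hv, hNv⟩ : ∃ v : W, v ≠ 0 ∧ N v = 0 := by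
    obtain ⟨u, hu⟩ : ∃ u, N u ≠ 0 := by
      by_contra hall; push Not at hall; exact hN0 (LinearMap.ext hall)
    exact ⟨N u, hu, by rw [← Module.End.mul_apply, ha, LinearMap.zero_apply]⟩
  set w := M v with hwdef
  have hMw : M w = 0 := by rw [hwdef, ← Module.End.mul_apply, hb, LinearMap.zero_apply]
  have hNw : N w = l • v := by
    have := hTtop v
    rw [hT, LinearMap.add_apply, Module.End.mul_apply, Module.End.mul_apply, hNv, map_zero,
      add_zero] at this
    exact this
  have hli : LinearIndependent K ![v, w] := by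
    rw [LinearIndependent.pair_iff' hv]
    intro c hc
    have h1 : c • w = 0 := by rw [hwdef, ← map_smul, hc, hMw]
    have hw0 : w = 0 := by
      rcases smul_eq_zero.1 h1 with h | h
      · rw [← hc, h, zero_smul]
      · exact h
    have hl0 : l • v = 0 := by rw [← hNw, hw0, map_zero]
    rcases hinv (K ∙ v) (fun x hx => by
        obtain ⟨s, rfl⟩ := Submodule.mem_span_singleton.1 hx
        simp [hNv])
      (fun x hx => by
        obtain ⟨s, rfl⟩ := Submodule.mem_span_singleton.1 hx
        simp [← hwdef, hw0]) with h | h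
    · exact hv (by simpa using h)
    · refine hN0 (LinearMap.ext fun x => ?_)
      obtain ⟨s, rfl⟩ := Submodule.mem_span_singleton.1 (h ▸ Submodule.mem_top : x ∈ K ∙ v)
      simp [hNv]
  have hspan : ⊤ ≤ Submodule.span K (Set.range ![v, w]) := by
    rw [Matrix.range_cons_cons_empty]
    rcases hinv (Submodule.span K {v, w}) (fun x hx => by
        obtain ⟨s, t, rfl⟩ := Submodule.mem_span_pair.1 hx
        exact Submodule.mem_span_pair.2 ⟨t * l, 0, by simp [hNv, hNw, smul_smul]⟩)
      (fun x hx => by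
        obtain ⟨s, t, rfl⟩ := Submodule.mem_span_pair.1 hx
        exact Submodule.mem_span_pair.2 ⟨0, s, by simp [← hwdef, hMw]⟩) with h | h
    · exact absurd (h ▸ Submodule.subset_span (Set.mem_insert v _) : v ∈ (⊥ : Submodule K W))
        (by simpa using hv)
    · exact h.ge
  have hl0 : l ≠ 0 := fun h0 => by
    rcases hinv (K ∙ w) (fun x hx => by
        obtain ⟨s, rfl⟩ := Submodule.mem_span_singleton.1 hx
        simp [hNw, h0])
      (fun x hx => by
        obtain ⟨s, rfl⟩ := Submodule.mem_span_singleton.1 hx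
        simp [hMw]) with h | h
    · exact (hli.ne_zero 1) (by simpa using h)
    · obtain ⟨s, hs⟩ := Submodule.mem_span_singleton.1 (h ▸ Submodule.mem_top : v ∈ K ∙ w)
      exact (LinearIndependent.pair_iff.1 hli 1 (-s) (by simp [← hs])).1 |> one_ne_zero
  set bas := Module.Basis.mk hli hspan with hbas
  have hb0 : bas 0 = v := by simp [hbas]
  have hb1 : bas 1 = w := by simp [hbas]
  let ψ : H →* Matrix (Fin 2) (Fin 2) K :=
    (LinearMap.toMatrixAlgEquiv bas).toMonoidHom.comp ρ
  have hψ : ∀ g i j, ψ g i j = bas.repr (ρ g (bas j)) i := fun g i j =>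
    LinearMap.toMatrixAlgEquiv_apply bas (ρ g) i j
  have hψa : ψ a = (upU l : Matrix (Fin 2) (Fin 2) K) := by
    rw [upU_coe]
    ext i j
    rw [hψ, hA, LinearMap.add_apply, Module.End.one_apply, map_add, Finsupp.add_apply]
    have e0 : N (bas 0) = 0 := by rw [hb0, hNv]
    have e1 : N (bas 1) = l • bas 0 := by rw [hb0, hb1, hNw]
    fin_cases j <;> fin_cases i <;> simp [e0, e1, Module.Basis.repr_self, Finsupp.single_apply]
  have hψb : ψ b = ((loL (1 : K) : SL(2, K)) : Matrix (Fin 2) (Fin 2) K) := by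
    rw [loL_coe]
    ext i j
    rw [hψ, hB, LinearMap.add_apply, Module.End.one_apply, map_add, Finsupp.add_apply]
    have e0 : M (bas 0) = bas 1 := by rw [hb0, hb1, hwdef]
    have e1 : M (bas 1) = 0 := by rw [hb1, hMw]
    fin_cases j <;> fin_cases i <;> simp [e0, e1, Module.Basis.repr_self, Finsupp.single_apply]
  have hdet : ∀ g, (ψ g).det = 1 := fun g => closure_pair_induction hgen
    (P := fun g => (ψ g).det = 1) (by simp) (by rw [hψa]; exact (upU l).2)
    (by rw [hψb]; exact (loL (1 : K)).2) (fun x y hx hy => by rw [map_mul, Matrix.det_mul, hx, hy, one_mul]) g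
  refine ⟨{ toFun := fun g => ⟨ψ g, hdet g⟩
            map_one' := Subtype.ext (by simp)
            map_mul' := fun x y => Subtype.ext ((map_mul ψ x y).trans rfl) }, l, hl0,
    Subtype.ext hψa, Subtype.ext hψb, ⊥, v, w, by simpa using hv, by simp, fun g => ?_⟩
  have hexp : ∀ j, ρ g (bas j) = ψ g 0 j • bas 0 + ψ g 1 j • bas 1 := fun j => by
    rw [hψ, hψ, ← Fin.sum_univ_two (f := fun i => bas.repr (ρ g (bas j)) i • bas i), bas.sum_repr]
  have h0 := hexp 0
  have h1 := hexp 1
  rw [hb0, hb1] at h0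
  rw [hb0, hb1] at h1
  exact ⟨by rw [Submodule.mem_bot, sub_eq_zero]; exact h0,
    by rw [Submodule.mem_bot, sub_eq_zero]; exact h1⟩

/-- Two quadratic generators of a linear group that is not a `p`-group give a homomorphism to
`SL₂(K)` taking them to opposite transvections. -/
theorem exists_slTwo_hom [Fintype K] {H : Type*} [Group H] [Finite H] {a b : H}
    (hgen : Subgroup.closure {a, b} = ⊤) {W : Type u} [AddCommGroup W] [Module K W]
    [FiniteDimensional K W] (ρ : H →* Module.End K W)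
    (ha : (ρ a - 1) * (ρ a - 1) = 0) (hb : (ρ b - 1) * (ρ b - 1) = 0)
    (hnp : ¬ ∀ g, ∃ k : ℕ, ρ g ^ p ^ k = 1)
    (hk : ∃ e k : ℕ, (a * b) ^ (p ^ e * k) = 1 ∧ k ∣ Fintype.card K - 1) :
    ∃ (φ : H →* SL(2, K)) (x : K), x ≠ 0 ∧ φ a = upU x ∧ φ b = loL 1 ∧ ∃ (U : Submodule K W) (v w : W), v ∉ U ∧ (∀ g, ∀ z ∈ U, ρ g z ∈ U) ∧
        ∀ g, ρ g v - ((φ g : Matrix (Fin 2) (Fin 2) K) 0 0 • v +
              (φ g : Matrix (Fin 2) (Fin 2) K) 1 0 • w) ∈ U ∧
          ρ g w - ((φ g : Matrix (Fin 2) (Fin 2) K) 0 1 • v +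
              (φ g : Matrix (Fin 2) (Fin 2) K) 1 1 • w) ∈ U := by
  suffices ∀ n (W : Type u) [AddCommGroup W] [Module K W] [FiniteDimensional K W]
      (ρ : H →* Module.End K W), Module.finrank K W = n → (ρ a - 1) * (ρ a - 1) = 0 →
      (ρ b - 1) * (ρ b - 1) = 0 → (¬ ∀ g, ∃ k : ℕ, ρ g ^ p ^ k = 1) →
      ∃ (φ : H →* SL(2, K)) (x : K), x ≠ 0 ∧ φ a = upU x ∧ φ b = loL 1 ∧ ∃ (U : Submodule K W) (v w : W), v ∉ U ∧ (∀ g, ∀ z ∈ U, ρ g z ∈ U) ∧
        ∀ g, ρ g v - ((φ g : Matrix (Fin 2) (Fin 2) K) 0 0 • v +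
              (φ g : Matrix (Fin 2) (Fin 2) K) 1 0 • w) ∈ U ∧
          ρ g w - ((φ g : Matrix (Fin 2) (Fin 2) K) 0 1 • v +
              (φ g : Matrix (Fin 2) (Fin 2) K) 1 1 • w) ∈ U from
    this _ W ρ rfl ha hb hnp
  intro n
  induction n using Nat.strong_induction_on with
  | _ n ih =>
    intro W _ _ _ ρ hn ha hb hnp
    haveI : Nontrivial W := by
      by_contra hc
      haveI := not_nontrivial_iff_subsingleton.1 hc
      exact hnp fun g => ⟨0, Subsingleton.elim _ _⟩
    by_cases hirr : ∀ U : Submodule K W, (∀ g, ∀ w ∈ U, ρ g w ∈ U) → U = ⊥ ∨ U = ⊤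
    · exact exists_slTwo_hom_of_irreducible hgen ρ ha hb hnp hk hirr
    push Not at hirr
    obtain ⟨U, hU, hb0, ht0⟩ := hirr
    let ρU : H →* Module.End K U :=
      { toFun := fun g => (ρ g).restrict (hU g)
        map_one' := by ext; simp
        map_mul' := fun x y => by ext; simp [Module.End.mul_apply] }
    let ρQ : H →* Module.End K (W ⧸ U) :=
      { toFun := fun g => U.mapQ U (ρ g) (hU g)
        map_one' := Submodule.linearMap_qext _ (by ext; simp)
        map_mul' := fun x y => Submodule.linearMap_qext _ (by ext; simp [Module.End.mul_apply]) }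
    have qU : ∀ g, (ρ g - 1) * (ρ g - 1) = 0 → (ρU g - 1) * (ρU g - 1) = 0 := fun g hg => by
      ext w
      simpa [ρU, Module.End.mul_apply] using LinearMap.congr_fun hg w.1
    have qQ : ∀ g, (ρ g - 1) * (ρ g - 1) = 0 → (ρQ g - 1) * (ρQ g - 1) = 0 := fun g hg => by
      refine Submodule.linearMap_qext _ ?_
      ext w
      have := congrArg (Submodule.Quotient.mk (p := U)) (LinearMap.congr_fun hg w)
      simpa [ρQ, Module.End.mul_apply] using this
    by_cases hpU : ∀ g, ∃ k : ℕ, ρU g ^ p ^ k = 1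
    · by_cases hpQ : ∀ g, ∃ k : ℕ, ρQ g ^ p ^ k = 1
      · refine absurd (fun g => pImage_of_filtration ρ U (fun g => ?_) (fun g => ?_) g) hnp
        · obtain ⟨k, hk'⟩ := hpU g
          refine ⟨k, fun w hw => ?_⟩
          rw [← map_pow] at hk'
          simpa [ρU] using congrArg Subtype.val (LinearMap.congr_fun hk' ⟨w, hw⟩)
        · obtain ⟨k, hk'⟩ := hpQ g
          refine ⟨k, fun w => ?_⟩
          rw [← map_pow] at hk'
          have := LinearMap.congr_fun hk' (Submodule.Quotient.mk w)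
          exact (Submodule.Quotient.eq U).1 (by simpa [ρQ] using this)
      · obtain ⟨φ, x, hx, hφa, hφb, U', v', w', hv', hU', hrel⟩ := ih _ (hn ▸ by
          have := Submodule.finrank_quotient_add_finrank U
          have := Submodule.one_le_finrank_iff.2 hb0
          omega) (W ⧸ U) ρQ rfl (qQ a ha) (qQ b hb) hpQ
        obtain ⟨v, rfl⟩ := Submodule.Quotient.mk_surjective U v'
        obtain ⟨w, rfl⟩ := Submodule.Quotient.mk_surjective U w'
        refine ⟨φ, x, hx, hφa, hφb, U'.comap U.mkQ, v, w, hv', fun g z hz => ?_, fun g => ?_⟩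
        · simpa [ρQ] using hU' g _ hz
        · constructor
          · simpa [ρQ] using (hrel g).1
          · simpa [ρQ] using (hrel g).2
    · obtain ⟨φ, x, hx, hφa, hφb, U', v', w', hv', hU', hrel⟩ :=
        ih _ (hn ▸ Submodule.finrank_lt ht0) U ρU rfl (qU a ha) (qU b hb) hpU
      have hmem : ∀ z : U, (z : W) ∈ U'.map U.subtype ↔ z ∈ U' := fun z => by simp
      refine ⟨φ, x, hx, hφa, hφb, U'.map U.subtype, v', w', fun h => hv' ((hmem v').1 h),
        ?_, fun g => ⟨?_, ?_⟩⟩
      · rintro g _ ⟨z, hz, rfl⟩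
        exact ⟨ρU g z, hU' g z hz, rfl⟩
      · exact ⟨_, (hrel g).1, rfl⟩
      · exact ⟨_, (hrel g).2, rfl⟩

end CfsgLib.PLocal
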