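import Cfsg.Agent.Lib.PLocal.DicksonSLTwo

/-! Dickson: a subgroup of `SL(2, F)`, `F` finite of odd characteristic `p`, with more than one
Sylow `p`-subgroup contains a copy of `SL(2, p)`: the counting argument. -/

set_option autoImplicit false

namespace CfsgLib.PLocal

open Subgroup
open scoped MatrixGroups

section Count
set_option maxHeartbeats 1000000

variable {F : Type*} [Field F] [Finite F] {p : ℕ} [hp : Fact p.Prime] [CharP F p]

omit [Finite F] in
theorem natCast_small_ne_zero (h2 : p ≠ 2) : ((2 : ℤ) : F) ≠ 0 ∧ ((4 : ℤ) : F) ≠ 0 := by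
  have h : (2 : F) ≠ 0 := Ring.two_ne_zero (R := F) (by rwa [ringChar.eq F p])
  exact ⟨by exact_mod_cast h, by
    rw [show ((4 : ℤ) : F) = 2 * 2 by norm_num]; exact mul_ne_zero h h⟩

omit [Finite F] in
theorem card_lt_of_inj_not_surj {α β : Type*} [Finite β] {f : α → β} (hi : Function.Injective f)
    (hs : ¬ Function.Surjective f) : Nat.card α < Nat.card β := by
  haveI := Finite.of_injective f hi
  exact (Nat.card_le_card_of_injective f hi).lt_of_ne fun e =>
    hs ((Nat.bijective_iff_injective_and_card f).2 ⟨hi, e⟩).2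

/-- The elements of `H` moving the fixed point of the upper transvections. -/
abbrev lowPart (H : Subgroup SL(2, F)) := {g : SL(2, F) // g ∈ H ∧ low g ≠ 0}

/-- The triangular elements of `H`. -/
abbrev triPart (H : Subgroup SL(2, F)) := {g : SL(2, F) // g ∈ H ∧ low g = 0}

/-- The parameters of the upper transvections in `H`. -/
abbrev upPart (H : Subgroup SL(2, F)) := {x : F // upU x ∈ H}

/-- The non-zero parameters of the upper transvections in `H`. -/
abbrev upPart' (H : Subgroup SL(2, F)) := {x : F // upU x ∈ H ∧ x ≠ 0}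

/-- The non-triangular transvections in `H`. -/
abbrev unipPart (H : Subgroup SL(2, F)) := {g : SL(2, F) // g ∈ H ∧ low g ≠ 0 ∧ tr2 g = 2}

theorem card_lowPart_le (H : Subgroup SL(2, F)) :
    Nat.card (lowPart H × upPart' H) ≤ Nat.card (unipPart H × triPart H) := by
  rcases isEmpty_or_nonempty (lowPart H × upPart' H) with he | he
  · simp
  let Ψ : lowPart H × upPart' H → unipPart H := fun t => ⟨t.1.1 * upU t.2.1 * t.1.1⁻¹,
    H.mul_mem (H.mul_mem t.1.2.1 t.2.2.1) (H.inv_mem t.1.2.1),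
    by rw [(conj_upU_apply _ _).2.1]; exact neg_ne_zero.2 (mul_ne_zero (pow_ne_zero 2 t.1.2.2) t.2.2.2),
    (conj_upU_apply _ _).2.2⟩
  have hfib : ∀ t t', Ψ t = Ψ t' → low (t.1.1⁻¹ * t'.1.1) = 0 := by
    rintro ⟨⟨g, hg⟩, ⟨x, hx⟩⟩ ⟨⟨g', hg'⟩, ⟨x', hx'⟩⟩ he
    have he' : g * upU x * g⁻¹ = g' * upU x' * g'⁻¹ := congrArg Subtype.val he
    have e : (g⁻¹ * g') * upU x' * (g⁻¹ * g')⁻¹ = upU x := by
      rw [show (g⁻¹ * g') * upU x' * (g⁻¹ * g')⁻¹ = g⁻¹ * (g' * upU x' * g'⁻¹) * g by group, ← he']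
      group
    have h1 := (conj_upU_apply (g⁻¹ * g') x').2.1
    rw [e, show low (upU x) = 0 by simp [low, upU_coe]] at h1
    exact (pow_eq_zero_iff two_ne_zero).1 ((mul_eq_zero.1 (neg_eq_zero.1 h1.symm)).resolve_right hx'.2)
  have hinv : ∀ t, Ψ (Function.invFun Ψ (Ψ t)) = Ψ t := fun t => Function.invFun_eq ⟨t, rfl⟩
  refine Nat.card_le_card_of_injective (fun t => (Ψ t, (⟨(Function.invFun Ψ (Ψ t)).1.1⁻¹ * t.1.1,
    H.mul_mem (H.inv_mem (Function.invFun Ψ (Ψ t)).1.2.1) t.1.2.1, hfib _ _ (hinv t)⟩ : triPart H))) ?_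
  intro t t' he
  have h1 : Ψ t = Ψ t' := congrArg Prod.fst he
  have h2' : (Function.invFun Ψ (Ψ t)).1.1⁻¹ * t.1.1 = (Function.invFun Ψ (Ψ t')).1.1⁻¹ * t'.1.1 :=
    congrArg (fun z : unipPart H × triPart H => (z.2 : SL(2, F))) he
  rw [h1] at h2'
  have h3 : t.1.1 = t'.1.1 := mul_left_cancel h2'
  have h4 : t.1.1 * upU t.2.1 * t.1.1⁻¹ = t'.1.1 * upU t'.2.1 * t'.1.1⁻¹ := congrArg Subtype.val h1
  rw [h3] at h4
  exact Prod.ext (Subtype.ext h3)
    (Subtype.ext (upU_injective (mul_left_cancel (mul_right_cancel h4))))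

omit [Finite F] in
theorem tri_det {g : SL(2, F)} (h : low g = 0) :
    (g : Matrix (Fin 2) (Fin 2) F) 0 0 * (g : Matrix (Fin 2) (Fin 2) F) 1 1 = 1 := by
  have := sl2_det g
  rwa [show (g : Matrix (Fin 2) (Fin 2) F) 1 0 = 0 from h, mul_zero, sub_zero] at this

omit [Finite F] in
/-- Triangular matrices with the same diagonal differ by an upper transvection. -/
theorem exists_upU_of_same_diag {g g' : SL(2, F)} (hg : low g = 0) (hg' : low g' = 0)
    (h00 : (g' : Matrix (Fin 2) (Fin 2) F) 0 0 = (g : Matrix (Fin 2) (Fin 2) F) 0 0) :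
    ∃ y, g' * g⁻¹ = upU y := by
  have hd := tri_det hg
  have hd' := tri_det hg'
  have hne : (g : Matrix (Fin 2) (Fin 2) F) 0 0 ≠ 0 := left_ne_zero_of_mul (by rw [hd]; exact one_ne_zero)
  have e : (g' * g⁻¹ : SL(2, F)).1 = (g' : Matrix (Fin 2) (Fin 2) F) *
      !![(g : Matrix (Fin 2) (Fin 2) F) 1 1, -(g : Matrix (Fin 2) (Fin 2) F) 0 1;
        -(g : Matrix (Fin 2) (Fin 2) F) 1 0, (g : Matrix (Fin 2) (Fin 2) F) 0 0] := by
    rw [Matrix.SpecialLinearGroup.coe_mul, Matrix.SpecialLinearGroup.coe_inv, Matrix.adjugate_fin_two]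
  have h10 : (g : Matrix (Fin 2) (Fin 2) F) 1 0 = 0 := hg
  have h10' : (g' : Matrix (Fin 2) (Fin 2) F) 1 0 = 0 := hg'
  refine ⟨_, eq_upU_of_tr2 ?_ ?_⟩
  · simp [low, e, Matrix.mul_apply, Fin.sum_univ_two, h10, h10']
  · simp [tr2, e, Matrix.mul_apply, Fin.sum_univ_two, h10, h10']
    rw [h00] at hd' ⊢
    linear_combination hd + hd'

/-- The image of a triangular element under `g ↦ g₀₀² x₀`. -/
theorem tri_sq_mem (H : Subgroup SL(2, F)) {x₀ : F} (hx₀ : x₀ ≠ 0) (hx₀H : upU x₀ ∈ H)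
    (n : triPart H) : upU ((n.1 : Matrix (Fin 2) (Fin 2) F) 0 0 ^ 2 * x₀) ∈ H ∧
      (n.1 : Matrix (Fin 2) (Fin 2) F) 0 0 ^ 2 * x₀ ≠ 0 := by
  refine ⟨?_, mul_ne_zero (pow_ne_zero 2
    (left_ne_zero_of_mul (by rw [tri_det n.2.2]; exact one_ne_zero))) hx₀⟩
  have hm := H.mul_mem (H.mul_mem n.2.1 hx₀H) (H.inv_mem n.2.1)
  obtain ⟨h01, hlow, htr'⟩ := conj_upU_apply n.1 x₀
  rw [n.2.2] at hlow
  rw [eq_upU_of_tr2 (by simpa using hlow) htr', h01] at hm
  exact hm

/-- The sign `±1`. -/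
def boolSign (b : Bool) : SL(2, F) := if b then 1 else -1

theorem boolSign_mem {H : Subgroup SL(2, F)} (hneg : (-1 : SL(2, F)) ∈ H) (b : Bool) :
    (boolSign b : SL(2, F)) ∈ H := by
  cases b
  · simpa [boolSign] using hneg
  · simp [boolSign]

omit [Finite F] in
theorem boolSign_tr2_low (b : Bool) (g : SL(2, F)) :
    tr2 (boolSign b * g) = (if b then 1 else -1) * tr2 g ∧
      low (boolSign b * g) = (if b then 1 else -1) * low g := by
  cases b
  · obtain ⟨h1, h2⟩ := tr2_neg_one_mul g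
    constructor <;>
      simp only [boolSign, Bool.false_eq_true, if_false]
    · rw [h1, _root_.neg_one_mul]
    · rw [h2, _root_.neg_one_mul]
  · simp [boolSign]

/-- `triPart H` has at most `|upPart' H| · |upPart H| · 2` elements, with equality only if every
parameter is `g₀₀² x₀`. -/
theorem card_triPart (H : Subgroup SL(2, F)) (hneg : (-1 : SL(2, F)) ∈ H) {x₀ : F} (hx₀ : x₀ ≠ 0)
    (hx₀H : upU x₀ ∈ H) :
    Nat.card (triPart H) ≤ Nat.card (upPart' H × upPart H × Bool) ∧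
      (∀ x : upPart' H, (∀ n : triPart H, (n.1 : Matrix (Fin 2) (Fin 2) F) 0 0 ^ 2 * x₀ ≠ x) →
        Nat.card (triPart H) < Nat.card (upPart' H × upPart H × Bool)) := by
  let sq : triPart H → upPart' H := fun n => ⟨_, tri_sq_mem H hx₀ hx₀H n⟩
  haveI : Nonempty (triPart H) := ⟨⟨1, H.one_mem, by simp [low]⟩⟩
  have hrec : ∀ n : triPart H, ∃ (y : upPart H) (b : Bool),
      n.1 = upU y.1 * (boolSign b * (Function.invFun sq (sq n)).1) := by
    intro n
    set n' := Function.invFun sq (sq n)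
    have he : sq n' = sq n := Function.invFun_eq ⟨n, rfl⟩
    have he' : (n.1 : Matrix (Fin 2) (Fin 2) F) 0 0 ^ 2 = (n'.1 : Matrix (Fin 2) (Fin 2) F) 0 0 ^ 2 :=
      (mul_right_cancel₀ hx₀ (congrArg Subtype.val he)).symm
    have hmain : ∀ b : Bool, (n.1 : Matrix (Fin 2) (Fin 2) F) 0 0 =
        ((boolSign b * n'.1 : SL(2, F)) : Matrix (Fin 2) (Fin 2) F) 0 0 →
        ∃ (y : upPart H) (b : Bool), n.1 = upU y.1 * (boolSign b * n'.1) := by
      intro b h00
      obtain ⟨y, hy⟩ := exists_upU_of_same_diag (g := boolSign b * n'.1) (g' := n.1)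
        (by rw [(boolSign_tr2_low b _).2, n'.2.2, mul_zero]) n.2.2 h00
      exact ⟨⟨y, hy ▸ H.mul_mem n.2.1 (H.inv_mem (H.mul_mem (boolSign_mem hneg b) n'.2.1))⟩, b,
        eq_mul_of_mul_inv_eq hy⟩
    rcases sq_eq_sq_iff_eq_or_eq_neg.1 he' with h | h
    · exact hmain true (by simpa [boolSign] using h)
    · exact hmain false (by simpa [boolSign, Matrix.SpecialLinearGroup.coe_mul] using h)
  choose ξ β hξβ using hrec
  have hinj : Function.Injective (fun n => (sq n, ξ n, β n)) := by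
    intro n n' he
    simp only [Prod.mk.injEq] at he
    obtain ⟨h1, h2', h3⟩ := he
    refine Subtype.ext ?_
    rw [hξβ n, hξβ n', h1, h2', h3]
  refine ⟨Nat.card_le_card_of_injective _ hinj, fun x hx =>
    card_lt_of_inj_not_surj hinj fun hf => ?_⟩
  obtain ⟨n, hn⟩ := hf (x, ⟨0, by rw [upU_zero]; exact H.one_mem⟩, true)
  exact hx n (congrArg Subtype.val (congrArg Prod.fst hn))

theorem shift_injective (H : Subgroup SL(2, F)) (hneg : (-1 : SL(2, F)) ∈ H)
    (hshift : ∀ g ∈ H, low g ≠ 0 → ∀ x : F, upU x ∈ H → ∀ m : ℤ, (m : F) ≠ 0 → x * low g ≠ m)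
    (hfour : ((4 : ℤ) : F) ≠ 0) :
    Function.Injective (fun t : upPart H × Bool × unipPart H => upU t.1.1 * (boolSign t.2.1 * t.2.2.1)) := by
  rintro ⟨⟨x, hx⟩, b, g⟩ ⟨⟨x', hx'⟩, b', g'⟩ he
  have hxx : upU (x - x') ∈ H := by
    rw [sub_eq_add_neg, ← upU_mul, ← upU_inv]
    exact H.mul_mem hx (H.inv_mem hx')
  have e : upU (x - x') * (boolSign b * g.1) = boolSign b' * g'.1 := by
    rw [sub_eq_neg_add, ← upU_mul, mul_assoc]
    simp only at he
    rw [he, ← upU_inv, inv_mul_cancel_left]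
  obtain ⟨ht, hl⟩ := boolSign_tr2_low b g.1
  obtain ⟨ht', -⟩ := boolSign_tr2_low b' g'.1
  have hlow : low (boolSign b * g.1) ≠ 0 := by
    rw [hl]
    refine mul_ne_zero ?_ g.2.2.1
    cases b <;> simp
  have hd : (x - x') * low (boolSign b * g.1) =
      (if b' then 1 else -1) * 2 - (if b then 1 else -1) * 2 := by
    have h1 := tr2_upU_mul (x - x') (boolSign b * g.1)
    rw [e, ht, ht', g.2.2.2, g'.2.2.2] at h1
    linear_combination -h1
  have hbb : b = b' := by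
    by_contra hne
    have hm := H.mul_mem (boolSign_mem hneg b) g.2.1
    cases b <;> cases b' <;> first | exact hne rfl | skip
    · exact hshift _ hm hlow _ hxx 4 hfour (by rw [hd]; push_cast; simp; ring)
    · exact hshift _ hm hlow _ hxx (-4) (by simpa using hfour) (by rw [hd]; push_cast; simp; ring)
  subst hbb
  rw [sub_self] at hd
  have hxe : x = x' := sub_eq_zero.1 ((mul_eq_zero.1 hd).resolve_right hlow)
  subst hxe
  rw [sub_self, upU_zero, one_mul] at e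
  rw [Subtype.ext (mul_left_cancel e) (a1 := g) (a2 := g')]

omit [Finite F] in
theorem trace_zero_conj {s h : SL(2, F)} (hs0 : low s = 0)
    (hs1 : (s : Matrix (Fin 2) (Fin 2) F) 1 1 = -(s : Matrix (Fin 2) (Fin 2) F) 0 0) :
    tr2 (h * s * h⁻¹) = 0 ∧ low (h * s * h⁻¹) =
      low h * (2 * (s : Matrix (Fin 2) (Fin 2) F) 0 0 * (h : Matrix (Fin 2) (Fin 2) F) 1 1 -
        low h * (s : Matrix (Fin 2) (Fin 2) F) 0 1) := by
  have h10 : (s : Matrix (Fin 2) (Fin 2) F) 1 0 = 0 := hs0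
  rw [tr2, low, low]
  simp [Matrix.SpecialLinearGroup.coe_mul, Matrix.SpecialLinearGroup.coe_inv,
    Matrix.adjugate_fin_two, Matrix.mul_apply, Fin.sum_univ_two, h10, hs1]
  constructor <;> ring

/-- Trace counting: two opposite-type transvections and `-1` give `SL₂(p)`. -/
theorem exists_slTwo_of_unipotents (h2 : p ≠ 2) (H : Subgroup SL(2, F)) (hneg : (-1 : SL(2, F)) ∈ H)
    {x₀ : F} (hx₀ : x₀ ≠ 0) (hx₀H : upU x₀ ∈ H) {h₀ : SL(2, F)} (hh₀ : h₀ ∈ H) (hc₀ : low h₀ ≠ 0) :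
    ∃ φ : SL(2, ZMod p) →* SL(2, F), Function.Injective φ ∧ φ.range ≤ H := by
  obtain ⟨htwo, hfour⟩ := natCast_small_ne_zero (F := F) h2
  by_contra hcon
  have hshift : ∀ g ∈ H, low g ≠ 0 → ∀ x : F, upU x ∈ H → ∀ m : ℤ, (m : F) ≠ 0 → x * low g ≠ m :=
    fun g hg hc x hxH m hm hd =>
      hcon (exists_slTwo_of_relation H (fun h => hm (by rw [← hd, h, zero_mul])) hxH hg hc hm hd)
  have hlowU : ∀ x (g : SL(2, F)), low (upU x * g) = low g := fun x g => (upU_mul_apply x g).2.2.1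
  have hmemY : ∀ t : upPart H × Bool × unipPart H,
      upU t.1.1 * (boolSign t.2.1 * t.2.2.1) ∈ H ∧ low (upU t.1.1 * (boolSign t.2.1 * t.2.2.1)) ≠ 0 := by
    rintro ⟨x, b, g⟩
    refine ⟨H.mul_mem x.2 (H.mul_mem (boolSign_mem hneg b) g.2.1), ?_⟩
    rw [hlowU, (boolSign_tr2_low b g.1).2]
    refine mul_ne_zero ?_ g.2.2.1
    cases b <;> simp
  let Φ : upPart H × Bool × unipPart H → lowPart H := fun t => ⟨_, hmemY t⟩
  have hΦ : Function.Injective Φ := fun t t' he =>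
    shift_injective H hneg hshift hfour (congrArg Subtype.val he)
  have hcardY := card_lowPart_le H
  obtain ⟨hNle, hNlt⟩ := card_triPart H hneg hx₀ hx₀H
  have hΦle := Nat.card_le_card_of_injective _ hΦ
  have hYpos : 0 < Nat.card (lowPart H) := by
    haveI : Nonempty (lowPart H) := ⟨⟨h₀, hh₀, hc₀⟩⟩
    exact Nat.card_pos
  have hA'pos : 0 < Nat.card (upPart' H) := by
    haveI : Nonempty (upPart' H) := ⟨⟨x₀, hx₀H, hx₀⟩⟩
    exact Nat.card_pos
  simp only [Nat.card_prod] at hcardY hNle hNlt hΦle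
  have hX : 0 < Nat.card (unipPart H) := Nat.pos_of_ne_zero fun h0 => by
    rw [h0, zero_mul] at hcardY
    exact absurd hcardY (Nat.not_le_of_gt (Nat.mul_pos hYpos hA'pos))
  obtain ⟨s, hs⟩ : ∃ n : triPart H, (n.1 : Matrix (Fin 2) (Fin 2) F) 0 0 ^ 2 * x₀ = -x₀ := by
    by_contra hno
    push Not at hno
    have h1 := hNlt ⟨-x₀, by rw [← upU_inv]; exact H.inv_mem hx₀H, neg_ne_zero.2 hx₀⟩ hno
    have h3 := Nat.mul_lt_mul_of_pos_left h1 hX
    have h4 := Nat.mul_le_mul_left (Nat.card (upPart' H)) hΦle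
    rw [Nat.mul_comm (Nat.card (lowPart H))] at hcardY
    nlinarith [h3, h4, hcardY]
  have hΦs : Function.Surjective Φ := by
    by_contra hns
    have h1 := card_lt_of_inj_not_surj hΦ hns
    simp only [Nat.card_prod] at h1
    have h3 := Nat.mul_le_mul_left (Nat.card (unipPart H)) hNle
    have h4 := Nat.mul_lt_mul_of_pos_left h1 hA'pos
    nlinarith [h3, h4, hcardY]
  have hs' : (s.1 : Matrix (Fin 2) (Fin 2) F) 0 0 ^ 2 = -1 :=
    mul_right_cancel₀ hx₀ (by rw [hs, neg_one_mul])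
  have hsne : (s.1 : Matrix (Fin 2) (Fin 2) F) 0 0 ≠ 0 := by
    intro h; rw [h] at hs'; simp at hs'
  have hs11 : (s.1 : Matrix (Fin 2) (Fin 2) F) 1 1 = -(s.1 : Matrix (Fin 2) (Fin 2) F) 0 0 := by
    refine mul_left_cancel₀ hsne ?_
    rw [tri_det s.2.2]; linear_combination hs'
  obtain ⟨h, hhH, hlow⟩ : ∃ h ∈ H, low (h * s.1 * h⁻¹) ≠ 0 := by
    by_contra hno
    push Not at hno
    have h1 := hno h₀ hh₀
    have h2' := hno _ (H.mul_mem hh₀ hx₀H)
    rw [(trace_zero_conj s.2.2 hs11).2] at h1 h2'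
    have e11 : ((h₀ * upU x₀ : SL(2, F)) : Matrix (Fin 2) (Fin 2) F) 1 1 =
        (h₀ : Matrix (Fin 2) (Fin 2) F) 1 1 + low h₀ * x₀ ∧ low (h₀ * upU x₀) = low h₀ := by
      simp [low, upU_coe, Matrix.SpecialLinearGroup.coe_mul, Matrix.mul_apply, Fin.sum_univ_two]
      ring
    rw [e11.1, e11.2] at h2'
    have h3 := (mul_eq_zero.1 h1).resolve_left hc₀
    have h4 := (mul_eq_zero.1 h2').resolve_left hc₀
    have : (2 : F) * (s.1 : Matrix (Fin 2) (Fin 2) F) 0 0 * (low h₀ * x₀) = 0 := by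
      linear_combination h4 - h3
    exact mul_ne_zero (mul_ne_zero (by exact_mod_cast htwo) hsne) (mul_ne_zero hc₀ hx₀) this
  obtain ⟨⟨x, b, g⟩, hg⟩ := hΦs ⟨h * s.1 * h⁻¹, H.mul_mem (H.mul_mem hhH s.2.1) (H.inv_mem hhH), hlow⟩
  have hg' : upU x.1 * (boolSign b * g.1) = h * s.1 * h⁻¹ := congrArg Subtype.val hg
  have hlow2 : low (boolSign b * g.1) ≠ 0 := by rw [← hlowU x.1, hg']; exact hlow
  have h1 := tr2_upU_mul x.1 (boolSign b * g.1)
  rw [hg', (trace_zero_conj s.2.2 hs11).1, (boolSign_tr2_low b g.1).1, g.2.2.2] at h1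
  refine hshift _ (H.mul_mem (boolSign_mem hneg b) g.2.1) hlow2 x.1 x.2 (if b then -2 else 2) ?_ ?_
  · cases b <;> simpa using htwo
  · cases b <;> simp at h1 ⊢ <;> linear_combination -h1

/-- **Dickson**: two non-commuting `p`-elements give `SL₂(p)`. -/
theorem exists_slTwo_le_of_two_sylow (h2 : p ≠ 2) (H : Subgroup SL(2, F))
    (hH : 1 < Nat.card (Sylow p H)) :
    ∃ φ : SL(2, ZMod p) →* SL(2, F), Function.Injective φ ∧ φ.range ≤ H := by
  -- unipotence of `p`-elements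
  have hunip : ∀ z : SL(2, F), ∀ k, z ^ p ^ k = 1 → tr2 z = 2 := by
    intro z k hk
    have h1 : ((z : Matrix (Fin 2) (Fin 2) F) - 1) ^ p ^ k = 0 := by
      rw [sub_pow_char_pow_of_commute _ _ (Commute.one_right _), one_pow, ← Matrix.SpecialLinearGroup.coe_pow, hk]
      simp
    have h3 := (Matrix.isNilpotent_trace_of_isNilpotent ⟨_, h1⟩).eq_zero
    rw [Matrix.trace_fin_two, Matrix.sub_apply, Matrix.sub_apply, Matrix.one_apply_eq, Matrix.one_apply_eq] at h3
    show (z : Matrix (Fin 2) (Fin 2) F) 0 0 + (z : Matrix (Fin 2) (Fin 2) F) 1 1 = 2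
    linear_combination h3
  haveI := Finite.one_lt_card_iff_nontrivial.1 hH
  obtain ⟨P, Q, hPQ⟩ := exists_pair_ne (Sylow p H)
  have hPne : (P : Subgroup H) ≠ ⊥ := by
    intro h0
    refine hPQ (Sylow.ext ?_)
    have hc := (P.card_eq_multiplicity).trans (Q.card_eq_multiplicity).symm
    rw [h0, card_bot] at hc
    rw [h0, (card_eq_one.1 hc.symm)]
  obtain ⟨⟨z, hz⟩, hz1⟩ := Subgroup.ne_bot_iff_exists_ne_one.1 hPne
  obtain ⟨k, hk⟩ := P.2 ⟨z, hz⟩
  have hzk : (z : SL(2, F)) ^ p ^ k = 1 := congrArg (fun w : (P : Subgroup H) => ((w : H) : SL(2, F))) hk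
  have hzne : (z : SL(2, F)) ≠ 1 := fun h => hz1 (Subtype.ext (Subtype.ext h))
  -- conjugate a `p`-element to an upper transvection
  have htri : ∀ w : SL(2, F), tr2 w = 2 → ∃ T : SL(2, F), low (T * w * T⁻¹) = 0 := by
    intro w hw
    by_cases hl : low w = 0
    · exact ⟨1, by simpa using hl⟩
    have hd := sl2_det w
    have hw' : (w : Matrix (Fin 2) (Fin 2) F) 0 0 + (w : Matrix (Fin 2) (Fin 2) F) 1 1 = 2 := hw
    set a := (w : Matrix (Fin 2) (Fin 2) F) 0 0
    set c := (w : Matrix (Fin 2) (Fin 2) F) 1 0 with hc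
    have hc0 : c ≠ 0 := hl
    obtain ⟨Wm, hWm⟩ : ∃ Wm : SL(2, F), (Wm : Matrix (Fin 2) (Fin 2) F) = !![0, 1; -1, 0] :=
      ⟨⟨!![0, 1; -1, 0], by simp [Matrix.det_fin_two_of]⟩, rfl⟩
    refine ⟨Wm * upU ((1 - a) / c), ?_⟩
    rw [low, Matrix.SpecialLinearGroup.coe_mul, Matrix.SpecialLinearGroup.coe_mul,
      Matrix.SpecialLinearGroup.coe_mul, Matrix.SpecialLinearGroup.coe_inv,
      Matrix.SpecialLinearGroup.coe_mul, upU_coe, hWm, Matrix.eta_fin_two (w : Matrix (Fin 2) (Fin 2) F)]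
    simp only [Matrix.mul_fin_two, Matrix.adjugate_fin_two_of]
    simp only [Matrix.of_apply, Matrix.cons_val_zero, Matrix.cons_val_one, ← hc]
    field_simp
    have hd' : a * (w : Matrix (Fin 2) (Fin 2) F) 1 1 - (w : Matrix (Fin 2) (Fin 2) F) 0 1 * c = 1 := hd
    linear_combination hd' - hw'
  obtain ⟨T, hT⟩ := htri z (hunip _ k hzk)
  set H' : Subgroup SL(2, F) := H.map (MulAut.conj T).toMonoidHom with hH'
  set u : SL(2, F) := T * (z : SL(2, F)) * T⁻¹ with hu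
  have huk : u ^ p ^ k = 1 := by rw [hu, conj_pow, hzk, mul_one, mul_inv_cancel]
  have huH : u ∈ H' := ⟨(z : SL(2, F)), (z : H).2, rfl⟩
  have hue := eq_upU_of_tr2 hT (hunip u k huk)
  set x₀ := (u : Matrix (Fin 2) (Fin 2) F) 0 1
  have hx₀ : x₀ ≠ 0 := by
    intro h
    rw [h, upU_zero, hu, conj_eq_one_iff] at hue
    exact hzne hue
  -- some element of `H'` is not triangular
  obtain ⟨h₀, hh₀, hc₀⟩ : ∃ h₀ ∈ H', low h₀ ≠ 0 := by
    by_contra hno
    push Not at hno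
    let U : Subgroup H :=
      { carrier := {g | ∃ y, T * (g : SL(2, F)) * T⁻¹ = upU y}
        one_mem' := ⟨0, by simp [upU_zero]⟩
        mul_mem' := fun {a b} ⟨y, hy⟩ ⟨y', hy'⟩ => ⟨y + y', by
          rw [← upU_mul, ← hy, ← hy', Subgroup.coe_mul]; group⟩
        inv_mem' := fun {a} ⟨y, hy⟩ => ⟨-y, by
          rw [← upU_inv, ← hy, InvMemClass.coe_inv]; group⟩ }
    have hUp : IsPGroup p U := by
      rintro ⟨g, y, hy⟩
      refine ⟨1, Subtype.ext (Subtype.ext ?_)⟩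
      show (g : SL(2, F)) ^ p ^ 1 = 1
      have h1 := congrArg (fun w => w ^ p) hy
      simp only [conj_pow, upU_pow, CharP.cast_eq_zero, zero_mul, upU_zero, conj_eq_one_iff] at h1
      rwa [pow_one]
    have hle : ∀ R : Sylow p H, (R : Subgroup H) ≤ U := by
      intro R r hr
      obtain ⟨j, hj⟩ := R.2 ⟨r, hr⟩
      have hrj : (r : SL(2, F)) ^ p ^ j = 1 :=
        congrArg (fun w : (R : Subgroup H) => ((w : H) : SL(2, F))) hj
      exact ⟨_, eq_upU_of_tr2 (hno _ ⟨_, r.2, rfl⟩) (hunip _ j (by rw [conj_pow, hrj, mul_one, mul_inv_cancel]))⟩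
    exact hPQ (Sylow.ext ((P.is_maximal' hUp (hle P)).symm.trans (Q.is_maximal' hUp (hle Q))))
  -- adjoin `-1`
  set H'' : Subgroup SL(2, F) :=
    { carrier := {g | g ∈ H' ∨ -1 * g ∈ H'}
      one_mem' := Or.inl H'.one_mem
      mul_mem' := fun {a b} ha hb => by
        rcases ha with ha | ha <;> rcases hb with hb | hb
        · exact Or.inl (H'.mul_mem ha hb)
        · exact Or.inr (by simpa [mul_assoc] using H'.mul_mem ha hb)
        · exact Or.inr (by simpa [mul_assoc] using H'.mul_mem ha hb)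
        · exact Or.inl (by simpa [mul_assoc] using H'.mul_mem ha hb)
      inv_mem' := fun {a} ha => by
        rcases ha with ha | ha
        · exact Or.inl (H'.inv_mem ha)
        · exact Or.inr (by simpa using H'.inv_mem ha) } with hH''
  obtain ⟨φ, hφi, hφr⟩ := exists_slTwo_of_unipotents h2 H'' (Or.inr (by simp)) hx₀
    (Or.inl (hue ▸ huH)) (Or.inl hh₀) hc₀
  have hle : φ.range ≤ H' := by
    rw [MonoidHom.range_eq_map, ← closure_upU_loL, MonoidHom.map_closure, closure_le]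
    rintro _ ⟨y, hy, rfl⟩
    have hyp : φ y ^ p = 1 := by
      rw [← map_pow]
      rcases hy with rfl | rfl
      · rw [upU_pow, CharP.cast_eq_zero, zero_mul, upU_zero, map_one]
      · rw [loL_pow, CharP.cast_eq_zero, zero_mul, loL_zero, map_one]
    rcases hφr ⟨y, rfl⟩ with h | h
    · exact h
    · have he : φ y = (-1 * φ y) ^ (p + 1) := by
        rw [(Commute.neg_one_left _).mul_pow, Even.neg_one_pow, one_mul, pow_succ, hyp, one_mul]
        exact (hp.out.odd_of_ne_two h2).add_one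
      rw [he]
      exact H'.pow_mem h _
  refine ⟨(MulAut.conj T⁻¹).toMonoidHom.comp φ, (MulAut.conj T⁻¹).injective.comp hφi, ?_⟩
  rintro _ ⟨y, rfl⟩
  obtain ⟨g, hg, hge⟩ := hle ⟨y, rfl⟩
  show T⁻¹ * φ y * T⁻¹⁻¹ ∈ H
  rw [← hge]
  simpa [MulAut.conj_apply, mul_assoc] using hg

end Count

end CfsgLib.PLocal
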