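import Mathlib
import Cfsg.Prelude.Def_Local
import Cfsg.Agent.Lib.PLocal.DicksonSLTwoCount

/-!
# Sections isomorphic to `SL₂(p)`: what excludes them
-/

set_option autoImplicit false

namespace CfsgLib.PLocal

open Subgroup
open scoped MatrixGroups

section Opposite

variable {F : Type*} [Field F] {p : ℕ} [hp : Fact p.Prime] [CharP F p]

/-- A `p`-subgroup of `SL₂(F)` cannot contain two opposite transvections. -/
theorem not_isPGroup_of_opposite (R : Subgroup SL(2, F)) {x : F} (hx : x ≠ 0)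
    (hu : upU x ∈ R) (hl : loL 1 ∈ R) : ¬ IsPGroup p R := by
  intro hR
  obtain ⟨k, hk⟩ := hR ⟨upU x * loL 1, R.mul_mem hu hl⟩
  set g : Matrix (Fin 2) (Fin 2) F := ((upU x * loL 1 : SL(2, F)) : Matrix (Fin 2) (Fin 2) F)
    with hg
  have h1 : g ^ p ^ k = 1 := by
    have := congrArg (fun z : R => ((z : SL(2, F)) : Matrix (Fin 2) (Fin 2) F)) hk
    simpa [hg] using this
  have hn : IsNilpotent (g - 1) :=
    ⟨p ^ k, by rw [sub_pow_char_pow_of_commute _ _ (Commute.one_right _), h1, one_pow, sub_self]⟩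
  have ht := (Matrix.isNilpotent_trace_of_isNilpotent hn).eq_zero
  rw [hg, Matrix.SpecialLinearGroup.coe_mul, upU_coe, loL_coe] at ht
  simp [Matrix.trace_fin_two, Matrix.mul_apply, Fin.sum_univ_two] at ht
  exact hx (by linear_combination ht)

/-- Opposite transvections force more than one Sylow subgroup. -/
theorem one_lt_card_sylow_of_opposite [Finite F] (R : Subgroup SL(2, F)) {x : F} (hx : x ≠ 0)
    (hu : upU x ∈ R) (hl : loL 1 ∈ R) : 1 < Nat.card (Sylow p R) := by
  by_contra hle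
  have hpos : 0 < Nat.card (Sylow p R) := Nat.card_pos
  haveI hsub : Subsingleton (Sylow p R) :=
    (Nat.card_eq_one_iff_unique.1 (by omega)).1
  set P : Sylow p R := default
  have hall : ∀ g : R, g ^ p = 1 → g ∈ (P : Subgroup R) := by
    intro g hg
    have hz : IsPGroup p (Subgroup.zpowers g) := by
      rintro ⟨y, hy⟩
      obtain ⟨m, rfl⟩ := Subgroup.mem_zpowers_iff.1 hy
      refine ⟨1, Subtype.ext ?_⟩
      show (g ^ m) ^ p ^ 1 = 1
      rw [pow_one, ← zpow_natCast, ← zpow_mul, mul_comm, zpow_mul, zpow_natCast, hg, one_zpow]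
    obtain ⟨Q, hQ⟩ := hz.exists_le_sylow
    rw [Subsingleton.elim P Q]
    exact hQ (Subgroup.mem_zpowers g)
  have h1 := hall ⟨_, hu⟩ (Subtype.ext (by
    show upU x ^ p = 1
    rw [upU_pow, CharP.cast_eq_zero, zero_mul, upU_zero]))
  have h2 := hall ⟨_, hl⟩ (Subtype.ext (by
    show loL (1 : F) ^ p = 1
    rw [loL_pow, CharP.cast_eq_zero, zero_mul, loL_zero]))
  exact not_isPGroup_of_opposite ((P : Subgroup R).map R.subtype) hx
    (Subgroup.mem_map_of_mem R.subtype h1) (Subgroup.mem_map_of_mem R.subtype h2)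
    (P.2.map R.subtype)

end Opposite

variable {p : ℕ} [hp : Fact p.Prime]

/-- For odd `p` the group `SL₂(p)` has two non-commuting elements generating a `2`-group. -/
theorem exists_two_group_noncomm (h2 : p ≠ 2) :
    ∃ T : Subgroup SL(2, ZMod p), IsPGroup 2 T ∧ ¬ IsMulCommutative T := by
  obtain ⟨c, d, hcd⟩ := ZMod.sq_add_sq p (-1 : ZMod p)
  set i : SL(2, ZMod p) := ⟨!![0, 1; -1, 0], by simp [Matrix.det_fin_two_of]⟩ with hi
  set j : SL(2, ZMod p) := ⟨!![c, d; d, -c], by
    rw [Matrix.det_fin_two_of]; linear_combination -hcd⟩ with hj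
  have hic : (i : Matrix (Fin 2) (Fin 2) (ZMod p)) = !![0, 1; -1, 0] := rfl
  have hjc : (j : Matrix (Fin 2) (Fin 2) (ZMod p)) = !![c, d; d, -c] := rfl
  have hii : i * i = -1 := Subtype.ext (by
    show (i : Matrix (Fin 2) (Fin 2) (ZMod p)) * i = _
    rw [hic]; ext a b; fin_cases a <;> fin_cases b <;> simp)
  have hjj : j * j = -1 := Subtype.ext (by
    show (j : Matrix (Fin 2) (Fin 2) (ZMod p)) * j = _
    rw [hjc]; ext a b; fin_cases a <;> fin_cases b <;> simp <;>
      first | ring1 | linear_combination hcd)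
  have hji : j * i = -1 * (i * j) := Subtype.ext (by
    show (j : Matrix (Fin 2) (Fin 2) (ZMod p)) * i = _
    rw [Matrix.SpecialLinearGroup.coe_mul, Matrix.SpecialLinearGroup.coe_mul, hic, hjc]
    ext a b; fin_cases a <;> fin_cases b <;> simp)
  have hneg2 : (-1 : SL(2, ZMod p)) * -1 = 1 := by
    exact Subtype.ext (by simp)
  have h4 : ∀ y : SL(2, ZMod p), y * y = -1 → IsPGroup 2 (Subgroup.zpowers y) := by
    intro y hy
    have h : y ^ 2 ^ 2 = 1 := by
      rw [show (2 : ℕ) ^ 2 = 2 + 2 from rfl, pow_add, sq, hy, hneg2]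
    rintro ⟨z, hz⟩
    obtain ⟨m, rfl⟩ := Subgroup.mem_zpowers_iff.1 hz
    refine ⟨2, Subtype.ext ?_⟩
    show (y ^ m) ^ 2 ^ 2 = 1
    rw [← zpow_natCast, ← zpow_mul, mul_comm, zpow_mul, zpow_natCast, h, one_zpow]
  have hneg_comm : ∀ y : SL(2, ZMod p), -1 * y = y * -1 := fun y => Subtype.ext (by simp)
  have hconj : j * i * j⁻¹ = i⁻¹ := by
    have e : i⁻¹ = -1 * i := (eq_inv_of_mul_eq_one_left (by rw [mul_assoc, hii, hneg2])).symm
    rw [e, hji, mul_assoc, mul_assoc, mul_inv_cancel, mul_one]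
  have hnorm : Subgroup.zpowers j ≤ Subgroup.normalizer (Subgroup.zpowers i : Set SL(2, ZMod p)) := by
    rw [Subgroup.zpowers_le, Subgroup.mem_normalizer_iff]
    refine fun y => ⟨fun hy => ?_, fun hy => ?_⟩
    · obtain ⟨m, rfl⟩ := Subgroup.mem_zpowers_iff.1 hy
      rw [← conj_zpow, hconj]
      exact zpow_mem (inv_mem (Subgroup.mem_zpowers i)) m
    · obtain ⟨m, hm⟩ := Subgroup.mem_zpowers_iff.1 hy
      have : y = j⁻¹ * i ^ m * j := by rw [hm]; group
      have hback : j⁻¹ * i * j = i⁻¹ := by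
        have hi2 : i = j⁻¹ * i⁻¹ * j := by rw [← hconj]; group
        calc j⁻¹ * i * j = (j⁻¹ * i⁻¹ * j)⁻¹ := by group
          _ = i⁻¹ := by rw [← hi2]
      rw [this, show j⁻¹ * i ^ m * j = j⁻¹ * i ^ m * j⁻¹⁻¹ by rw [inv_inv], ← conj_zpow, inv_inv,
        hback]
      exact zpow_mem (inv_mem (Subgroup.mem_zpowers i)) m
  refine ⟨Subgroup.zpowers i ⊔ Subgroup.zpowers j,
    (h4 i hii).to_sup_of_normal_left' (h4 j hjj) hnorm, fun hc => ?_⟩
  have e := congrArg Subtype.val (hc.1.1
    (⟨i, mem_sup_left (Subgroup.mem_zpowers i)⟩ :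
      (Subgroup.zpowers i ⊔ Subgroup.zpowers j : Subgroup _))
    ⟨j, mem_sup_right (Subgroup.mem_zpowers j)⟩)
  change i * j = j * i at e
  rw [hji] at e
  have h1 : (1 : SL(2, ZMod p)) = -1 := mul_right_cancel (b := i * j) (by rw [one_mul]; exact e)
  have h00 := congrArg (fun g : SL(2, ZMod p) => (g : Matrix (Fin 2) (Fin 2) (ZMod p)) 0 0) h1
  simp at h00
  haveI : Fact (2 < p) := ⟨by have := hp.out.two_le; omega⟩
  exact ZMod.neg_one_ne_one h00.symm

/-- A group with abelian Sylow `2`-subgroups has no section `SL₂(p)`, `p` odd. -/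
theorem no_slTwo_section_of_comm_sylow {G : Type*} [Group G] [Finite G] (h2 : p ≠ 2)
    (T : Sylow 2 G) (hT : IsMulCommutative T) (K : Subgroup G)
    (f : K →* SL(2, ZMod p)) : ¬ Function.Surjective f := by
  intro hf
  obtain ⟨S, hS, hnc⟩ := exists_two_group_noncomm (p := p) h2
  haveI : Fact (Nat.Prime 2) := ⟨Nat.prime_two⟩
  obtain ⟨Q, hQ⟩ := hS.exists_le_sylow
  obtain ⟨R, hR⟩ := Sylow.mapSurjective_surjective hf 2 Q
  obtain ⟨T', hT'⟩ := (R.2.map K.subtype).exists_le_sylow
  obtain ⟨g, hg⟩ := MulAction.exists_smul_eq G T T'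
  refine hnc ⟨⟨fun x y => ?_⟩⟩
  have hx := hQ x.2
  have hy := hQ y.2
  rw [← hR, Sylow.coe_mapSurjective, Subgroup.mem_map] at hx hy
  obtain ⟨u, hu, hux⟩ := hx
  obtain ⟨v, hv, hvy⟩ := hy
  have hu' : ((u : G)) ∈ ((g • T : Sylow 2 G) : Subgroup G) :=
    hg ▸ hT' (Subgroup.mem_map_of_mem K.subtype hu)
  have hv' : ((v : G)) ∈ ((g • T : Sylow 2 G) : Subgroup G) :=
    hg ▸ hT' (Subgroup.mem_map_of_mem K.subtype hv)
  rw [Sylow.coe_subgroup_smul] at hu' hv'
  obtain ⟨u₀, hu₀, eu⟩ := hu'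
  obtain ⟨v₀, hv₀, ev⟩ := hv'
  change MulAut.conj g u₀ = (u : G) at eu
  change MulAut.conj g v₀ = (v : G) at ev
  have e := congrArg Subtype.val (hT.1.1 ⟨u₀, hu₀⟩ ⟨v₀, hv₀⟩)
  have huv : u * v = v * u := Subtype.ext (by
    show (u : G) * v = v * u
    rw [← eu, ← ev, ← map_mul, ← map_mul]
    exact congrArg _ e)
  refine Subtype.ext ?_
  show (x : SL(2, ZMod p)) * y = y * x
  rw [← hux, ← hvy, ← map_mul, ← map_mul, huv]

/-- A `p`-solvable group has no section `SL₂(p)` for `p ≥ 5`. -/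
theorem no_slTwo_section_of_isPSolvable {G : Type*} [Group G] [Finite G] (h5 : 5 ≤ p)
    (hs : Cfsg.IsPSolvable p G) (K : Subgroup G) (f : K →* SL(2, ZMod p)) :
    ¬ Function.Surjective f := by
  intro hf
  obtain ⟨n, H, h0, hl, hmono, hn, hfac⟩ := hs
  set N : Fin (n + 1) → Subgroup SL(2, ZMod p) := fun i => ((H i).subgroupOf K).map f with hN
  have hNn : ∀ i, (N i).Normal := fun i =>
    haveI := hn i
    ((hn i).subgroupOf K).map f hf
  have hu1 : upU (1 : ZMod p) ≠ 1 := fun h => one_ne_zero (upU_injective (h.trans upU_zero.symm))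
  -- a normal subgroup containing `upU 1` is everything
  have htop : ∀ i, upU (1 : ZMod p) ∈ N i → N i = ⊤ := by
    intro i hi
    haveI := hNn i
    rw [eq_top_iff, ← closure_upU_loL, Subgroup.closure_le]
    rintro y (rfl | rfl)
    · exact hi
    · set w : SL(2, ZMod p) := ⟨!![0, 1; -1, 0], by simp [Matrix.det_fin_two_of]⟩ with hw
      have hwc : (w : Matrix (Fin 2) (Fin 2) (ZMod p)) = !![0, 1; -1, 0] := rfl
      have e : w * (upU (1 : ZMod p))⁻¹ = loL 1 * w := by
        rw [upU_inv]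
        refine Subtype.ext ?_
        rw [Matrix.SpecialLinearGroup.coe_mul, Matrix.SpecialLinearGroup.coe_mul, hwc, upU_coe,
          loL_coe]
        ext a b; fin_cases a <;> fin_cases b <;> simp
      have e2 : loL (1 : ZMod p) = w * (upU (1 : ZMod p))⁻¹ * w⁻¹ := by
        rw [e, mul_assoc, mul_inv_cancel, mul_one]
      rw [e2]
      exact Subgroup.Normal.conj_mem (hNn i) _ (inv_mem hi) w
  have hmem0 : upU (1 : ZMod p) ∉ N 0 := by
    rw [hN]
    simp only
    rintro ⟨y, hy, hye⟩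
    have hy' : (y : G) = 1 := by simpa [h0, Subgroup.mem_subgroupOf] using hy
    rw [show y = 1 from Subtype.ext hy', map_one] at hye
    exact hu1 hye.symm
  suffices ∀ i, upU (1 : ZMod p) ∉ N i by
    refine this (Fin.last n) ?_
    obtain ⟨y, hy⟩ := hf (upU 1)
    exact ⟨y, by simp [hl], hy⟩
  intro i
  induction i using Fin.induction with
  | zero => exact hmem0
  | succ i ih =>
    intro hi
    have hall := htop _ hi
    set m := (H i.castSucc).relIndex (H i.succ) with hm
    have hpow : ∀ y, y ^ m ∈ N i.castSucc := by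
      intro y
      have hy : y ∈ N i.succ := by rw [hall]; exact Subgroup.mem_top y
      obtain ⟨k, hk, rfl⟩ := hy
      refine ⟨k ^ m, ?_, map_pow f k m⟩
      haveI := hn i.castSucc
      show ((k ^ m : K) : G) ∈ H i.castSucc
      rw [SubmonoidClass.coe_pow]
      haveI : ((H i.castSucc).subgroupOf (H i.succ)).Normal := (hn i.castSucc).subgroupOf _
      have := Subgroup.pow_index_mem ((H i.castSucc).subgroupOf (H i.succ))
        (⟨(k : G), hk⟩ : H i.succ)
      simpa [hm, Subgroup.relIndex, Subgroup.mem_subgroupOf] using this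
    haveI := hNn i.castSucc
    rcases hfac i with ⟨t, ht⟩ | hc
    · -- the diagonal element lies in every subgroup of `p`-power index
      have h20 : (2 : ZMod p) ≠ 0 := fun h => by
        have h' : ((2 : ℕ) : ZMod p) = 0 := by exact_mod_cast h
        have := Nat.le_of_dvd two_pos ((ZMod.natCast_eq_zero_iff 2 p).1 h')
        omega
      have h30 : (3 : ZMod p) ≠ 0 := fun h => by
        have h' : ((3 : ℕ) : ZMod p) = 0 := by exact_mod_cast h
        have := Nat.le_of_dvd (by omega) ((ZMod.natCast_eq_zero_iff 3 p).1 h')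
        omega
      set d : SL(2, ZMod p) := ⟨!![2, 0; 0, 2⁻¹], by
        rw [Matrix.det_fin_two_of, mul_inv_cancel₀ h20]; ring⟩ with hd
      have hdc : (d : Matrix (Fin 2) (Fin 2) (ZMod p)) = !![2, 0; 0, 2⁻¹] := rfl
      have hdpow : d ^ (p - 1) = 1 := by
        refine Subtype.ext ?_
        rw [Matrix.SpecialLinearGroup.coe_pow, hdc,
          show (!![2, 0; 0, 2⁻¹] : Matrix (Fin 2) (Fin 2) (ZMod p)) = Matrix.diagonal ![2, 2⁻¹] by
            ext a b; fin_cases a <;> fin_cases b <;> simp, Matrix.diagonal_pow]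
        ext a b
        fin_cases a <;> fin_cases b <;>
          simp [ZMod.pow_card_sub_one_eq_one h20, ZMod.pow_card_sub_one_eq_one (inv_ne_zero h20)]
      have hd_mem : d ∈ N i.castSucc := by
        have hcop : Nat.Coprime m (p - 1) := by
          rw [hm.trans ht]
          exact Nat.Coprime.pow_left t ((hp.out.coprime_iff_not_dvd).2 fun h => by
            have := Nat.le_of_dvd (by omega) h; omega)
        have := Nat.gcd_eq_gcd_ab m (p - 1)
        rw [hcop] at this
        have e : d = (d ^ m) ^ (Nat.gcdA m (p - 1)) * (d ^ (p - 1)) ^ (Nat.gcdB m (p - 1)) := by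
          rw [← zpow_natCast d m, ← zpow_natCast d (p - 1), ← zpow_mul, ← zpow_mul, ← zpow_add,
            ← this, Nat.cast_one, zpow_one]
        rw [e, hdpow, one_zpow, mul_one]
        exact zpow_mem (hpow d) _
      have hcomm : d * upU ((3 : ZMod p)⁻¹) * d⁻¹ * (upU ((3 : ZMod p)⁻¹))⁻¹ = upU 1 := by
        have e : d * upU ((3 : ZMod p)⁻¹) = upU (4 * (3 : ZMod p)⁻¹) * d := by
          refine Subtype.ext ?_
          rw [Matrix.SpecialLinearGroup.coe_mul, Matrix.SpecialLinearGroup.coe_mul, hdc, upU_coe,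
            upU_coe]
          ext a b; fin_cases a <;> fin_cases b <;> simp [h20] <;> field_simp <;> ring
        rw [e, mul_inv_cancel_right, upU_inv, upU_mul]
        congr 1
        field_simp
        norm_num
      refine ih (hcomm ▸ ?_)
      rw [mul_assoc, mul_assoc]
      refine mul_mem hd_mem ?_
      rw [← mul_assoc]
      exact Subgroup.Normal.conj_mem (hNn i.castSucc) _ (inv_mem hd_mem) _
    · refine ih ?_
      have h1 : upU (1 : ZMod p) ^ p = 1 := by
        rw [upU_pow, ZMod.natCast_self, zero_mul, upU_zero]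
      have hcop : Nat.Coprime m p := hc
      have := Nat.gcd_eq_gcd_ab m p
      rw [hcop] at this
      have e : upU (1 : ZMod p) = (upU 1 ^ m) ^ (Nat.gcdA m p) * (upU 1 ^ p) ^ (Nat.gcdB m p) := by
        rw [← zpow_natCast _ m, ← zpow_natCast _ p, ← zpow_mul, ← zpow_mul, ← zpow_add, ← this,
          Nat.cast_one, zpow_one]
      rw [e, h1, one_zpow, mul_one]
      exact zpow_mem (hpow _) _

end CfsgLib.PLocal
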