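import Mathlib
import Cfsg.Prelude.Def_PLocal
import Cfsg.Prelude.Def_Solvable
import Cfsg.Prelude.Def_Transfer
import Cfsg.Agent.Lib.PLocal.QuadraticTwo
import Cfsg.Agent.Lib.PLocal.SLTwoSection
import Cfsg.Agent.Lib.Solvable.PCore
import Cfsg.Agent.Lib.Trans3.BaerSuzuki

/-!
# Quadratic elements outside `O_p` force a section `SL₂(p)`
-/

set_option autoImplicit false

namespace CfsgLib.PLocal

open Subgroup
open scoped MatrixGroups commutatorElement

universe u v w

section Transfer

variable {G : Type u} [Group G] {S : Type v} [Group S]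

/-- A section of a quotient is a section of the group. -/
theorem sec_of_quotient (N : Subgroup G) [N.Normal] {K : Subgroup (G ⧸ N)} (f : K →* S)
    (hf : Function.Surjective f) :
    ∃ (K' : Subgroup G) (f' : K' →* S), N ≤ K' ∧ Function.Surjective f' := by
  refine ⟨K.comap (QuotientGroup.mk' N),
    f.comp (((QuotientGroup.mk' N).comp (K.comap (QuotientGroup.mk' N)).subtype).codRestrict K
      fun x => x.2), fun x hx => ?_, hf.comp fun y => ?_⟩
  · show QuotientGroup.mk' N x ∈ K
    rw [(QuotientGroup.eq_one_iff x).2 hx |> (fun h => (h : QuotientGroup.mk' N x = 1))]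
    exact one_mem K
  · obtain ⟨x, hx⟩ := QuotientGroup.mk'_surjective N (y : G ⧸ N)
    exact ⟨⟨x, show QuotientGroup.mk' N x ∈ K by rw [hx]; exact y.2⟩, Subtype.ext hx⟩

/-- A section of a subgroup is a section of the group. -/
theorem sec_of_subgroup (H : Subgroup G) {K : Subgroup H} (f : K →* S)
    (hf : Function.Surjective f) :
    ∃ (K' : Subgroup G) (f' : K' →* S), K' ≤ H ∧ Function.Surjective f' :=
  ⟨K.map H.subtype, f.comp (K.equivMapOfInjective H.subtype H.subtype_injective).symm.toMonoidHom,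
    Subgroup.map_subtype_le K,
    hf.comp (K.equivMapOfInjective H.subtype H.subtype_injective).symm.surjective⟩

/-- A section written as a quotient of subgroups of the ambient group. -/
theorem sec_quotient_form {H K : Subgroup G} (hK : K ≤ H) (f : K →* S) (hf : Function.Surjective f) :
    ∃ (K' L : Subgroup G) (_ : (L.subgroupOf K').Normal), K' ≤ H ∧
      Nonempty ((K' ⧸ L.subgroupOf K') ≃* S) := by
  have e : (f.ker.map K.subtype).subgroupOf K = f.ker := by
    rw [Subgroup.subgroupOf, Subgroup.comap_map_eq_self_of_injective K.subtype_injective]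
  haveI hN : ((f.ker.map K.subtype).subgroupOf K).Normal := by rw [e]; infer_instance
  refine ⟨K, f.ker.map K.subtype, hN, hK, ⟨?_⟩⟩
  exact (QuotientGroup.quotientMulEquivOfEq e).trans
    (QuotientGroup.quotientKerEquivOfSurjective f hf)

/-- A subgroup of the image of a homomorphism is a section. -/
theorem sec_of_hom {L : Subgroup G} {M : Type w} [Group M] (φ : L →* M) (ψ : S →* M)
    (hψ : Function.Injective ψ) (hle : ψ.range ≤ φ.range) :
    ∃ (K : Subgroup G) (f : K →* S), K ≤ L ∧ Function.Surjective f := by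
  let g : (ψ.range.comap φ) →* ψ.range :=
    (φ.comp (ψ.range.comap φ).subtype).codRestrict ψ.range fun x => x.2
  have hg : Function.Surjective g := fun y => by
    obtain ⟨x, hx⟩ := hle y.2
    exact ⟨⟨x, show φ x ∈ ψ.range by rw [hx]; exact y.2⟩, Subtype.ext hx⟩
  obtain ⟨K, f, hK, hf⟩ := sec_of_subgroup L
    ((MonoidHom.ofInjective hψ).symm.toMonoidHom.comp g)
    ((MonoidHom.ofInjective hψ).symm.surjective.comp hg)
  exact ⟨K, f, hK, hf⟩

end Transfer

variable {p : ℕ} [hp : Fact p.Prime]

/-- Two quadratic generators over the prime field: after a finite extension they map to opposite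
transvections. -/
theorem exists_field_slTwo_hom {H : Type u} [Group H] [Finite H] {a b : H}
    (hgen : Subgroup.closure {a, b} = ⊤) {V : Type v} [AddCommGroup V] [Module (ZMod p) V]
    [Finite V] (ρ : H →* Module.End (ZMod p) V) (ha : (ρ a - 1) * (ρ a - 1) = 0)
    (hb : (ρ b - 1) * (ρ b - 1) = 0) (hnp : ¬ ∀ g, ∃ k : ℕ, ρ g ^ p ^ k = 1) :
    ∃ (F : Type) (_ : Field F) (_ : Fintype F) (_ : CharP F p) (φ : H →* SL(2, F)) (x : F),
      x ≠ 0 ∧ φ a = upU x ∧ φ b = loL 1 := by
  classical
  haveI : Module.Finite (ZMod p) V := Module.Finite.of_finite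
  set n := orderOf (a * b) with hn
  have hn0 : n ≠ 0 := (orderOf_pos (a * b)).ne'
  set k := ordCompl[p] n with hk
  have hkpos : 0 < k := Nat.ordCompl_pos p hn0
  set m := Nat.totient k with hm
  have hm0 : m ≠ 0 := (Nat.totient_pos.2 hkpos).ne'
  have hcop : Nat.Coprime p k := Nat.coprime_ordCompl hp.out hn0
  haveI : Fintype (GaloisField p m) := Fintype.ofFinite _
  have hdvd : k ∣ Fintype.card (GaloisField p m) - 1 := by
    rw [← Nat.card_eq_fintype_card, GaloisField.card p m hm0,
      ← Nat.modEq_iff_dvd' (Nat.one_le_pow _ _ hp.out.pos)]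
    exact (Nat.ModEq.pow_totient hcop).symm
  let bas := Module.finBasis (ZMod p) V
  let Φ : Module.End (ZMod p) V →+*
      Module.End (GaloisField p m) (Fin (Module.finrank (ZMod p) V) → GaloisField p m) :=
    ((Matrix.toLinAlgEquiv' (R := GaloisField p m)).toRingEquiv.toRingHom.comp
      (algebraMap (ZMod p) (GaloisField p m)).mapMatrix).comp
      (LinearMap.toMatrixAlgEquiv bas).toRingEquiv.toRingHom
  have hΦ : Function.Injective Φ :=
    ((Matrix.toLinAlgEquiv' (R := GaloisField p m)).injective.comp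
      (Matrix.map_injective (algebraMap (ZMod p) (GaloisField p m)).injective)).comp
      (LinearMap.toMatrixAlgEquiv bas).injective
  have hq : ∀ g, (ρ g - 1) * (ρ g - 1) = 0 → (Φ (ρ g) - 1) * (Φ (ρ g) - 1) = 0 := fun g hg => by
    rw [← map_one Φ, ← map_sub, ← map_mul, hg, map_zero]
  obtain ⟨φ, x, hx, hφa, hφb, -⟩ := exists_slTwo_hom (p := p) hgen (Φ.toMonoidHom.comp ρ) (hq a ha)
    (hq b hb) (fun hall => hnp fun g => by
      obtain ⟨i, hi⟩ := hall g
      refine ⟨i, hΦ ?_⟩
      rw [map_pow, map_one]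
      exact hi)
    ⟨n.factorization p, k, by rw [hk, Nat.ordProj_mul_ordCompl_eq_self, hn, pow_orderOf_eq_one],
      hdvd⟩
  exact ⟨GaloisField p m, inferInstance, inferInstance, inferInstance, φ, x, hx, hφa, hφb⟩

/-- Two quadratic elements generating a group whose image is not a `p`-group give a section
`SL₂(p)`. -/
theorem sec_of_two_quadratic {G : Type u} [Group G] [Finite G] (h2 : p ≠ 2) {L : Subgroup G}
    {a b : L} (hgen : Subgroup.closure {a, b} = ⊤) {V : Type v} [AddCommGroup V]
    [Module (ZMod p) V] [Finite V] (ρ : L →* Module.End (ZMod p) V)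
    (ha : (ρ a - 1) * (ρ a - 1) = 0) (hb : (ρ b - 1) * (ρ b - 1) = 0)
    (hnp : ¬ ∀ g, ∃ k : ℕ, ρ g ^ p ^ k = 1) :
    ∃ (K : Subgroup G) (f : K →* SL(2, ZMod p)), K ≤ L ∧ Function.Surjective f := by
  obtain ⟨F, iF, iFin, iC, φ, x, hx, hφa, hφb⟩ := exists_field_slTwo_hom hgen ρ ha hb hnp
  obtain ⟨ψ, hψ, hle⟩ := exists_slTwo_le_of_two_sylow h2 φ.range
    (one_lt_card_sylow_of_opposite φ.range hx ⟨a, hφa⟩ ⟨b, hφb⟩)
  exact sec_of_hom φ ψ hψ hle

/-- A quadratic element outside `O_p` of a faithful linear group gives a section `SL₂(p)`. -/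
theorem sec_of_quadratic_not_mem_pCore {G : Type u} [Group G] [Finite G] (h2 : p ≠ 2) {V : Type v}
    [AddCommGroup V] [Module (ZMod p) V] [Finite V] (ρ : G →* Module.End (ZMod p) V)
    (hρ : Function.Injective ρ) {a : G} (ha : (ρ a - 1) * (ρ a - 1) = 0)
    (hna : a ∉ Cfsg.pCore p G) :
    ∃ (K : Subgroup G) (f : K →* SL(2, ZMod p)), Function.Surjective f := by
  have hap : a ^ p = 1 := hρ (by rw [map_pow, map_one]; exact pow_eq_one_of_quadratic ha)
  have hX : IsPGroup p (Subgroup.zpowers a) := by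
    rintro ⟨y, hy⟩
    obtain ⟨m, rfl⟩ := Subgroup.mem_zpowers_iff.1 hy
    refine ⟨1, Subtype.ext ?_⟩
    show (a ^ m) ^ p ^ 1 = 1
    rw [pow_one, ← zpow_natCast, ← zpow_mul, mul_comm, zpow_mul, zpow_natCast, hap, one_zpow]
  obtain ⟨g, hg⟩ : ∃ g : G, ¬ IsPGroup p
      ↥(Subgroup.zpowers a ⊔ (Subgroup.zpowers a).map (MulAut.conj g).toMonoidHom) := by
    by_contra hall
    push Not at hall
    obtain ⟨N, hN, hNp, hle⟩ := CfsgLib.Trans3.baer_suzuki (Subgroup.zpowers a) hall
    exact hna (CfsgLib.Solvable.le_pCore hN hNp (hle (Subgroup.mem_zpowers a)))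
  set b := g * a * g⁻¹ with hb
  set L := Subgroup.closure {a, b} with hL
  have hle : Subgroup.zpowers a ⊔ (Subgroup.zpowers a).map (MulAut.conj g).toMonoidHom ≤ L := by
    rw [MonoidHom.map_zpowers, sup_le_iff, Subgroup.zpowers_le, Subgroup.zpowers_le]
    exact ⟨Subgroup.subset_closure (Set.mem_insert _ _),
      Subgroup.subset_closure (Set.mem_insert_of_mem _ rfl)⟩
  have haL : a ∈ L := Subgroup.subset_closure (Set.mem_insert _ _)
  have hbL : b ∈ L := Subgroup.subset_closure (Set.mem_insert_of_mem _ rfl)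
  have hgen : Subgroup.closure {(⟨a, haL⟩ : L), ⟨b, hbL⟩} = ⊤ := by
    apply Subgroup.map_injective L.subtype_injective
    rw [MonoidHom.map_closure, Set.image_pair, ← MonoidHom.range_eq_map, Subgroup.range_subtype]
    rfl
  have hbq : (ρ b - 1) * (ρ b - 1) = 0 := by
    have e : ρ b - 1 = ρ g * (ρ a - 1) * ρ g⁻¹ := by
      rw [hb, map_mul, map_mul, mul_sub, sub_mul, mul_one, ← map_mul ρ g g⁻¹, mul_inv_cancel,
        map_one]
    rw [e, show ρ g * (ρ a - 1) * ρ g⁻¹ * (ρ g * (ρ a - 1) * ρ g⁻¹) =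
      ρ g * (ρ a - 1) * (ρ g⁻¹ * ρ g) * (ρ a - 1) * ρ g⁻¹ by simp only [mul_assoc],
      ← map_mul ρ g⁻¹ g, inv_mul_cancel, map_one, mul_one, mul_assoc (ρ g), ha, mul_zero, zero_mul]
  obtain ⟨K, f, -, hf⟩ := sec_of_two_quadratic h2 hgen (ρ.comp L.subtype) ha hbq fun hall => hg
    (IsPGroup.to_le (fun y => by
      obtain ⟨k, hk⟩ := hall y
      refine ⟨k, Subtype.ext (hρ ?_)⟩
      show ρ ((y ^ p ^ k : L) : G) = ρ 1
      rw [SubmonoidClass.coe_pow, map_pow, map_one]
      exact hk) hle)
  exact ⟨K, f, hf⟩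

/-- A quadratic element outside the preimage of `O_p` of the image of the action gives a section. -/
theorem sec_of_quadratic_not_stable {G : Type u} [Group G] [Finite G] (h2 : p ≠ 2) {V : Type v}
    [AddCommGroup V] [Module (ZMod p) V] [Finite V] (ρ : G →* Module.End (ZMod p) V)
    {C : Subgroup G} [C.Normal] (hC : ρ.ker = C) {a : G} (ha : (ρ a - 1) * (ρ a - 1) = 0)
    (hna : (QuotientGroup.mk a : G ⧸ C) ∉ Cfsg.pCore p (G ⧸ C)) :
    ∃ (K : Subgroup G) (f : K →* SL(2, ZMod p)), Function.Surjective f := by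
  subst hC
  have hinj : Function.Injective (QuotientGroup.lift ρ.ker ρ le_rfl) := by
    intro x y h
    obtain ⟨x, rfl⟩ := QuotientGroup.mk_surjective x
    obtain ⟨y, rfl⟩ := QuotientGroup.mk_surjective y
    have h' : ρ x = ρ y := h
    refine QuotientGroup.eq.2 (MonoidHom.mem_ker.2 ?_)
    rw [map_mul, ← h', ← map_mul, inv_mul_cancel, map_one]
  obtain ⟨K, f, hf⟩ := sec_of_quadratic_not_mem_pCore h2 (QuotientGroup.lift ρ.ker ρ le_rfl) hinj
    (a := (a : G ⧸ ρ.ker)) ha hna
  obtain ⟨K', f', -, hf'⟩ := sec_of_quotient ρ.ker f hf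
  exact ⟨K', f', hf'⟩

/-- Automorphisms of an abelian group of exponent `p` as linear maps over the prime field. -/
def autRep (p : ℕ) (V : Type*) [CommGroup V] [Module (ZMod p) (Additive V)] :
    MulAut V →* Module.End (ZMod p) (Additive V) where
  toFun e := AddMonoidHom.toZModLinearMap p (MonoidHom.toAdditive e.toMonoidHom)
  map_one' := LinearMap.ext fun _ => rfl
  map_mul' _ _ := LinearMap.ext fun _ => rfl

theorem autRep_apply (V : Type*) [CommGroup V] [Module (ZMod p) (Additive V)] (e : MulAut V)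
    (x : Additive V) : Additive.toMul (autRep p V e x) = e (Additive.toMul x) := rfl

theorem autRep_injective (V : Type*) [CommGroup V] [Module (ZMod p) (Additive V)] :
    Function.Injective (autRep p V) := fun e e' h => MulEquiv.ext fun x => by
  simpa [autRep_apply] using
    congrArg (fun f : Module.End (ZMod p) (Additive V) => Additive.toMul (f (Additive.ofMul x))) h

/-- An action by automorphisms on an abelian group of exponent `p`, as a linear representation. -/
theorem exists_rep_of_autHom {H : Type v} [Group H] {V : Type u} [CommGroup V] [Finite V]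
    (hexp : ∀ v : V, v ^ p = 1) (θ : H →* MulAut V) :
    ∃ (W : Type u) (_ : AddCommGroup W) (_ : Module (ZMod p) W) (_ : Finite W)
      (ρ : H →* Module.End (ZMod p) W), ρ.ker = θ.ker ∧
      ∀ a : H, (∀ v : V, θ a (θ a v / v) = θ a v / v) → (ρ a - 1) * (ρ a - 1) = 0 := by
  haveI iM : Module (ZMod p) (Additive V) := AddCommGroup.zmodModule (n := p) fun x => by
    show Additive.ofMul ((Additive.toMul x) ^ p) = 0
    rw [hexp, ofMul_one]
  refine ⟨Additive V, inferInstance, iM, inferInstanceAs (Finite V), ?_⟩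
  refine ⟨(autRep p V).comp θ, ?_, fun a ha => ?_⟩
  · ext h
    rw [MonoidHom.mem_ker, MonoidHom.mem_ker, MonoidHom.comp_apply,
      map_eq_one_iff _ (autRep_injective V)]
  · refine LinearMap.ext fun x => ?_
    show Additive.ofMul (θ a (θ a (Additive.toMul x) / Additive.toMul x) /
      (θ a (Additive.toMul x) / Additive.toMul x)) = 0
    rw [ha, div_self', ofMul_one]

/-- The action by conjugation on an elementary abelian subgroup, as a linear representation. -/
theorem exists_conjRep {G : Type u} [Group G] [Finite G] {V H : Subgroup G}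
    (hV : Cfsg.IsElementaryAbelian p V) (hHV : H ≤ Subgroup.normalizer (V : Set G)) :
    ∃ (W : Type u) (_ : AddCommGroup W) (_ : Module (ZMod p) W) (_ : Finite W)
      (ρ : H →* Module.End (ZMod p) W), ρ.ker = (Subgroup.centralizer (V : Set G)).subgroupOf H ∧
      ∀ a : H, ⁅⁅V, Subgroup.zpowers (a : G)⁆, Subgroup.zpowers (a : G)⁆ = ⊥ →
        (ρ a - 1) * (ρ a - 1) = 0 := by
  let θ : H →* MulAut V := V.normalizerMonoidHom.comp (Subgroup.inclusion hHV)
  have hθ : ∀ (a : H) (y : V), ((θ a y : V) : G) = (a : G) * y * (a : G)⁻¹ := fun _ _ => rfl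
  obtain ⟨W, i1, i2, i3, ρ, hker, hsq⟩ := @exists_rep_of_autHom p _ H _ V
    { (inferInstance : Group V) with mul_comm := fun x y => hV.1.1.comm x y } inferInstance
    (fun v => Subtype.ext (hV.2 _ v.2)) θ
  refine ⟨W, i1, i2, i3, ρ, ?_, fun a hq => hsq a fun v => ?_⟩
  · rw [hker, show θ.ker = V.normalizerMonoidHom.ker.comap (Subgroup.inclusion hHV) from
      (MonoidHom.comap_ker _ _).symm, Subgroup.normalizerMonoidHom_ker]
    rfl
  · set u := θ a v / v with hu
    have huG : (u : G) ∈ ⁅V, Subgroup.zpowers (a : G)⁆ := by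
      have e : (u : G) = ⁅(a : G), (v : G)⁆ := by
        show ((θ a v : V) : G) / (v : G) = _
        rw [hθ, div_eq_mul_inv, commutatorElement_def]
      rw [e, Subgroup.commutator_comm]
      exact Subgroup.commutator_mem_commutator (Subgroup.mem_zpowers _) v.2
    have h1 := Subgroup.commutator_mem_commutator huG (Subgroup.mem_zpowers (a : G))
    rw [hq, Subgroup.mem_bot, commutatorElement_eq_one_iff_mul_comm] at h1
    exact Subtype.ext (by rw [hθ, ← h1, mul_inv_cancel_right])

end CfsgLib.PLocal
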