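import Mathlib
import Cfsg.Agent.Lib.PLocal.SLTwoInvolve

/-!
# A natural `SL₂(p)`-section in the module of a quadratic pair
-/

set_option autoImplicit false

namespace CfsgLib.PLocal

open Subgroup
open scoped MatrixGroups

universe u v w

variable {p : ℕ} [hp : Fact p.Prime]

/-- Two operators act on the pair `v, w` modulo the invariant submodule `U` like `upU 1`, `loL 1`. -/
def IsNaturalPair {M : Type*} [AddCommGroup M] [Module (ZMod p) M] (A B : Module.End (ZMod p) M)
    (U : Submodule (ZMod p) M) (v w : M) : Prop :=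
  v ∉ U ∧ (∀ z ∈ U, A z ∈ U ∧ B z ∈ U) ∧
    A v - v ∈ U ∧ A w - (v + w) ∈ U ∧ B v - (v + w) ∈ U ∧ B w - w ∈ U

/-- A natural pair descends along a jointly injective family of equivariant maps. -/
theorem naturalPair_descend {M : Type*} [AddCommGroup M] [Module (ZMod p) M] {V : Type*}
    [AddCommGroup V] [Module (ZMod p) V] {ι : Type*} [Fintype ι] (π : ι → M →ₗ[ZMod p] V)
    (hinj : ∀ x, (∀ j, π j x = 0) → x = 0) {A B : Module.End (ZMod p) M}
    {A' B' : Module.End (ZMod p) V} (hA : ∀ j x, π j (A x) = A' (π j x))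
    (hB : ∀ j x, π j (B x) = B' (π j x)) {U : Submodule (ZMod p) M} {v w : M}
    (h : IsNaturalPair A B U v w) : ∃ U' v' w', IsNaturalPair A' B' U' v' w' := by
  classical
  let Ker : Finset ι → Submodule (ZMod p) M := fun s => ⨅ j ∈ sᶜ, LinearMap.ker (π j)
  have hK : ∀ s x, x ∈ Ker s ↔ ∀ j, j ∉ s → π j x = 0 := fun s x => by simp [Ker]
  suffices ∀ (s : Finset ι) (U : Submodule (ZMod p) M) (v w : M), IsNaturalPair A B U v w →
      U ≤ Ker s → v ∈ Ker s → w ∈ Ker s → ∃ U' v' w', IsNaturalPair A' B' U' v' w' from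
    this Finset.univ U v w h (fun x _ => (hK _ x).2 fun j hj => absurd (Finset.mem_univ j) hj)
      ((hK _ v).2 fun j hj => absurd (Finset.mem_univ j) hj)
      ((hK _ w).2 fun j hj => absurd (Finset.mem_univ j) hj)
  intro s
  induction s using Finset.induction with
  | empty =>
    intro U v w h _ hv _
    exact absurd (hinj v fun j => (hK _ v).1 hv j (Finset.notMem_empty j) ▸ rfl)
      fun h0 => h.1 (h0 ▸ U.zero_mem)
  | @insert j s hjs ih =>
    intro U v w h hU hv hw
    obtain ⟨hvU, hinv, hAv, hAw, hBv, hBw⟩ := h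
    set P := π j with hP
    have hKins : ∀ x, x ∈ Ker (insert j s) → P x = 0 → x ∈ Ker s := fun x hx hx0 =>
      (hK s x).2 fun i hi => by
        by_cases hij : i = j
        · exact hij ▸ hx0
        · exact (hK _ x).1 hx i (by simp [hij, hi])
    have hKs : Ker s ≤ Ker (insert j s) := fun x hx =>
      (hK _ x).2 fun i hi => (hK s x).1 hx i fun h' => hi (Finset.mem_insert_of_mem h')
    have hKinv : ∀ (t : Finset ι) x, x ∈ Ker t → A x ∈ Ker t ∧ B x ∈ Ker t := fun t x hx =>
      ⟨(hK t _).2 fun i hi => by rw [hA, (hK t x).1 hx i hi, map_zero],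
        (hK t _).2 fun i hi => by rw [hB, (hK t x).1 hx i hi, map_zero]⟩
    by_cases hc : v ∈ U ⊔ Ker s
    · obtain ⟨u₀, hu₀, k, hk, hvk⟩ := Submodule.mem_sup.1 hc
      have hkey : v - k ∈ U := by rw [← hvk]; simpa using hu₀
      set k' := B k - k with hk'
      have hk's : k' ∈ Ker s := (Ker s).sub_mem (hKinv s k hk).2 hk
      have hwk : w - k' ∈ U := by
        have h1 : B (v - k) ∈ U := (hinv _ hkey).2
        have e : w - k' = B (v - k) - (v - k) - (B v - (v + w)) := by rw [hk', map_sub]; abel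
        rw [e]; exact U.sub_mem (U.sub_mem h1 hkey) hBv
      refine ih (U ⊓ Ker s) k k' ⟨fun h' => hvU ?_, fun z hz =>
        ⟨⟨(hinv z hz.1).1, (hKinv s z hz.2).1⟩, ⟨(hinv z hz.1).2, (hKinv s z hz.2).2⟩⟩, ?_, ?_, ?_, ?_⟩
        inf_le_right hk hk's
      · simpa using U.add_mem hkey h'.1
      · refine ⟨?_, (Ker s).sub_mem (hKinv s k hk).1 hk⟩
        have e : A k - k = (A v - v) - (A (v - k) - (v - k)) := by rw [map_sub]; abel
        rw [e]; exact U.sub_mem hAv (U.sub_mem (hinv _ hkey).1 hkey)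
      · refine ⟨?_, (Ker s).sub_mem (hKinv s k' hk's).1 ((Ker s).add_mem hk hk's)⟩
        have e : A k' - (k + k') =
            (A w - (v + w)) - A (w - k') + ((v - k) + (w - k')) := by simp only [map_sub]; abel
        rw [e]; exact U.add_mem (U.sub_mem hAw (hinv _ hwk).1) (U.add_mem hkey hwk)
      · refine ⟨?_, (Ker s).sub_mem (hKinv s k hk).2 ((Ker s).add_mem hk hk's)⟩
        rw [hk']; simp
      · refine ⟨?_, (Ker s).sub_mem (hKinv s k' hk's).2 hk's⟩
        have e : B k' - k' = (B w - w) - (B (w - k') - (w - k')) := by simp only [map_sub]; abel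
        rw [e]; exact U.sub_mem hBw (U.sub_mem (hinv _ hwk).2 hwk)
    · refine ⟨U.map P, P v, P w, ?_, ?_, ⟨_, hAv, ?_⟩, ⟨_, hAw, ?_⟩, ⟨_, hBv, ?_⟩, ⟨_, hBw, ?_⟩⟩
      · rintro ⟨u₀, hu₀, he⟩
        refine hc (Submodule.mem_sup.2 ⟨u₀, hu₀, v - u₀, ?_, by abel⟩)
        exact hKins _ ((Ker _).sub_mem hv (hU hu₀)) (by rw [map_sub, he, sub_self])
      · rintro _ ⟨z, hz, rfl⟩
        exact ⟨⟨A z, (hinv z hz).1, hA j z⟩, ⟨B z, (hinv z hz).2, hB j z⟩⟩
      all_goals simp [hP, hA, hB]

section Two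

variable {F : Type*} [Field F] [CharP F p]

theorem sq_zero_of_nilpotent_two {M : Matrix (Fin 2) (Fin 2) F} (h : IsNilpotent M) : M * M = 0 := by
  have ht : M 0 0 + M 1 1 = 0 := by
    rw [← Matrix.trace_fin_two]; exact (Matrix.isNilpotent_trace_of_isNilpotent h).eq_zero
  have hd : M 0 0 * M 1 1 - M 0 1 * M 1 0 = 0 := by
    rw [← Matrix.det_fin_two]
    obtain ⟨n, hn⟩ := h
    have := congrArg Matrix.det hn
    rw [Matrix.det_pow, Matrix.det_zero] at this
    exact eq_zero_of_pow_eq_zero this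
  ext i j
  fin_cases i <;> fin_cases j <;> simp [Matrix.mul_apply, Fin.sum_univ_two]
  · linear_combination M 0 0 * ht - hd
  · linear_combination M 0 1 * ht
  · linear_combination M 1 0 * ht
  · linear_combination M 1 1 * ht - hd

/-- An injective homomorphism `SL₂(p) → SL₂(F)` has natural vectors. -/
theorem exists_natural_vectors (h2 : p ≠ 2) (ψ : SL(2, ZMod p) →* SL(2, F))
    (hψ : Function.Injective ψ) :
    ∃ v w : Fin 2 → F, v ≠ 0 ∧
      (ψ (upU 1) : Matrix (Fin 2) (Fin 2) F).mulVec v = v ∧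
      (ψ (upU 1) : Matrix (Fin 2) (Fin 2) F).mulVec w = v + w ∧
      (ψ (loL 1) : Matrix (Fin 2) (Fin 2) F).mulVec v = v + w ∧
      (ψ (loL 1) : Matrix (Fin 2) (Fin 2) F).mulVec w = w := by
  set A := (ψ (upU 1) : Matrix (Fin 2) (Fin 2) F) with hA
  set B := (ψ (loL 1) : Matrix (Fin 2) (Fin 2) F) with hB
  have hq : ∀ g : SL(2, ZMod p), g ^ p = 1 →
      ((ψ g : Matrix (Fin 2) (Fin 2) F) - 1) * ((ψ g : Matrix (Fin 2) (Fin 2) F) - 1) = 0 := by
    intro g hg
    refine sq_zero_of_nilpotent_two ⟨p, ?_⟩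
    rw [sub_pow_char_of_commute p (Commute.one_right _), one_pow,
      ← Matrix.SpecialLinearGroup.coe_pow, ← map_pow, hg, map_one, Matrix.SpecialLinearGroup.coe_one,
      sub_self]
  have hup : upU (1 : ZMod p) ^ p = 1 := by
    rw [upU_pow, ZMod.natCast_self, zero_mul, upU_zero]
  have hlo : loL (1 : ZMod p) ^ p = 1 := by
    rw [loL_pow, ZMod.natCast_self, zero_mul, loL_zero]
  have hN := hq _ hup
  have hM := hq _ hlo
  rw [← hA] at hN
  rw [← hB] at hM
  obtain ⟨e, he⟩ : ∃ e, (A - 1).mulVec e ≠ 0 := by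
    by_contra hall
    push Not at hall
    have h0 : A - 1 = 0 := by
      ext i j
      have := congrFun (hall (Pi.single j 1)) i
      simpa using this
    have h1 : ψ (upU 1) = 1 := Subtype.ext (by simpa [sub_eq_zero] using h0)
    exact one_ne_zero (upU_injective ((hψ (h1.trans (map_one ψ).symm)).trans upU_zero.symm))
  set v := (A - 1).mulVec e with hv
  set w := (B - 1).mulVec v with hw
  have hAv : A.mulVec v = v := by
    have : (A - 1).mulVec v = 0 := by rw [hv, Matrix.mulVec_mulVec, hN, Matrix.zero_mulVec]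
    rwa [Matrix.sub_mulVec, Matrix.one_mulVec, sub_eq_zero] at this
  have hBv : B.mulVec v = v + w := by rw [hw, Matrix.sub_mulVec, Matrix.one_mulVec]; abel
  have hBw : B.mulVec w = w := by
    have : (B - 1).mulVec w = 0 := by rw [hw, Matrix.mulVec_mulVec, hM, Matrix.zero_mulVec]
    rwa [Matrix.sub_mulVec, Matrix.one_mulVec, sub_eq_zero] at this
  have hli : LinearIndependent F ![v, w] := by
    rw [LinearIndependent.pair_iff' he]
    intro c hc
    have h1 : c • w = 0 := by
      have : (B - 1).mulVec (c • v) = (B - 1).mulVec w := by rw [hc]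
      rw [Matrix.mulVec_smul, ← hw, Matrix.sub_mulVec B, hBw, Matrix.one_mulVec, sub_self] at this
      exact this
    have hw0 : w = 0 := by
      rcases smul_eq_zero.1 h1 with h | h
      · rw [← hc, h, zero_smul]
      · exact h
    -- `B` fixes the line of `A`: the two transvections commute
    have hlr : ∀ z : Fin 2 → F, ∃ r : F, (A - 1).mulVec z = r • v ∧ ∃ t : F, (B - 1).mulVec z = t • v := by
      intro z
      have hker : ∀ (C : Matrix (Fin 2) (Fin 2) F), C * C = 0 → C.mulVec v = 0 →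
          ∃ r : F, C.mulVec z = r • v := by
        intro C hC hCv
        by_contra hne
        push Not at hne
        have hzli : LinearIndependent F ![v, C.mulVec z] := by
          rw [LinearIndependent.pair_iff' he]; exact fun r => (hne r).symm
        have hsp := hzli.span_eq_top_of_card_eq_finrank (by simp)
        rw [Matrix.range_cons_cons_empty] at hsp
        obtain ⟨s, t, hst⟩ := Submodule.mem_span_pair.1 (hsp ▸ Submodule.mem_top : z ∈ _)
        have := congrArg C.mulVec hst
        rw [Matrix.mulVec_add, Matrix.mulVec_smul, Matrix.mulVec_smul, hCv, Matrix.mulVec_mulVec, hC,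
          Matrix.zero_mulVec, smul_zero, smul_zero, add_zero] at this
        exact hne 0 (by rw [← this, zero_smul])
      obtain ⟨r, hr⟩ := hker (A - 1) hN (by rw [Matrix.sub_mulVec, hAv, Matrix.one_mulVec, sub_self])
      obtain ⟨t, ht⟩ := hker (B - 1) hM (hw.symm.trans hw0)
      exact ⟨r, hr, t, ht⟩
    have hcomm : A * B = B * A := by
      have h0 : ∀ z, ((A - 1) * (B - 1)).mulVec z = 0 ∧ ((B - 1) * (A - 1)).mulVec z = 0 := fun z => by
        obtain ⟨r, hr, t, ht⟩ := hlr z
        rw [← Matrix.mulVec_mulVec, ← Matrix.mulVec_mulVec, hr, ht, Matrix.mulVec_smul,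
          Matrix.mulVec_smul, ← hw, hw0, Matrix.sub_mulVec, hAv, Matrix.one_mulVec, sub_self]
        simp
      have e1 : (A - 1) * (B - 1) = (B - 1) * (A - 1) :=
        Matrix.ext_of_mulVec_single fun i => by rw [(h0 _).1, (h0 _).2]
      calc A * B = (A - 1) * (B - 1) + A + B - 1 := by noncomm_ring
        _ = (B - 1) * (A - 1) + A + B - 1 := by rw [e1]
        _ = B * A := by noncomm_ring
    have h2' : upU (1 : ZMod p) * loL 1 = loL 1 * upU 1 := hψ (by
      rw [map_mul, map_mul]; exact Subtype.ext hcomm)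
    have := congrArg (fun g : SL(2, ZMod p) => (g : Matrix (Fin 2) (Fin 2) (ZMod p)) 0 0) h2'
    simp [upU_coe, loL_coe, Matrix.mul_apply, Fin.sum_univ_two] at this
  have hAw' : ∃ l : F, A.mulVec w = l • v + w := by
    have hsp := hli.span_eq_top_of_card_eq_finrank (by simp)
    rw [Matrix.range_cons_cons_empty] at hsp
    obtain ⟨s, t, hst⟩ := Submodule.mem_span_pair.1 (hsp ▸ Submodule.mem_top : (A - 1).mulVec w ∈ _)
    have h0 : (A - 1).mulVec ((A - 1).mulVec w) = 0 := by
      rw [Matrix.mulVec_mulVec, hN, Matrix.zero_mulVec]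
    have hAN : (A - 1).mulVec v = 0 := by rw [Matrix.sub_mulVec, hAv, Matrix.one_mulVec, sub_self]
    rw [← hst, Matrix.mulVec_add, Matrix.mulVec_smul, Matrix.mulVec_smul, hAN, smul_zero, zero_add,
      ← hst, smul_add, smul_smul, smul_smul] at h0
    have ht : t = 0 := mul_self_eq_zero.1 (LinearIndependent.pair_iff.1 hli _ _ h0).2
    refine ⟨s, ?_⟩
    rw [ht, zero_smul, add_zero, Matrix.sub_mulVec, Matrix.one_mulVec] at hst
    rw [hst]; abel
  obtain ⟨l, hAw⟩ := hAw'
  -- `(u l⁻¹ u)² = -1`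
  have hneg : ψ (-1) = -1 := by
    have hsq : ψ (-1) * ψ (-1) = 1 := by
      rw [← map_mul, ← map_one ψ]; exact congrArg ψ (Subtype.ext (by simp))
    have hne : ψ (-1) ≠ 1 := fun h => by
      have := congrArg (fun g : SL(2, ZMod p) => (g : Matrix (Fin 2) (Fin 2) (ZMod p)) 0 0)
        (hψ (h.trans (map_one ψ).symm))
      simp at this
      haveI h3p : Fact (2 < p) := ⟨by have := hp.out.two_le; omega⟩
      exact ZMod.neg_one_ne_one this
    set Z := (ψ (-1) : Matrix (Fin 2) (Fin 2) F) with hZ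
    have hz : Z * Z = 1 := congrArg Subtype.val hsq
    have hd : Z 0 0 * Z 1 1 - Z 0 1 * Z 1 0 = 1 := by rw [← Matrix.det_fin_two]; exact (ψ (-1)).2
    have h00 : ∀ i j, (Z * Z) i j = (1 : Matrix (Fin 2) (Fin 2) F) i j := fun i j => by rw [hz]
    have e00 := h00 0 0
    have e01 := h00 0 1
    have e10 := h00 1 0
    have e11 := h00 1 1
    simp [Matrix.mul_apply, Fin.sum_univ_two] at e00 e01 e10 e11
    have h20 : (2 : F) ≠ 0 := by
      intro h
      have h' : ((2 : ℕ) : F) = 0 := by exact_mod_cast h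
      have := Nat.le_of_dvd two_pos ((CharP.cast_eq_zero_iff F p 2).1 h')
      have := hp.out.two_le
      omega
    have hT : Z 0 0 + Z 1 1 ≠ 0 := fun h0 => h20 (by linear_combination -hd - e00 + Z 0 0 * h0)
    have hb : Z 0 1 = 0 := by
      have : Z 0 1 * (Z 0 0 + Z 1 1) = 0 := by linear_combination e01
      simpa [hT] using this
    have hc : Z 1 0 = 0 := by
      have : Z 1 0 * (Z 0 0 + Z 1 1) = 0 := by linear_combination e10
      simpa [hT] using this
    rw [hb] at e00 e11 hd
    rw [hc] at e00 e11 hd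
    have had : Z 0 0 = Z 1 1 := by
      have : Z 0 0 * (Z 0 0 - Z 1 1) = 0 := by linear_combination e00 - hd
      rcases mul_eq_zero.1 this with h | h
      · rw [h] at hd; simp at hd
      · exact sub_eq_zero.1 h
    have hm1 : Z 0 0 = -1 := by
      have : (Z 0 0 - 1) * (Z 0 0 + 1) = 0 := by linear_combination e00
      rcases mul_eq_zero.1 this with h | h
      · refine absurd (Subtype.ext ?_) hne
        show Z = 1
        ext i j
        fin_cases i <;> fin_cases j <;> simp [hb, hc, ← had, sub_eq_zero.1 h]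
      · exact eq_neg_of_add_eq_zero_left h
    refine Subtype.ext ?_
    show Z = _
    ext i j
    fin_cases i <;> fin_cases j <;> simp [hb, hc, ← had, hm1]
  set X := upU (1 : ZMod p) * (loL 1)⁻¹ * upU 1 with hX
  have hX2 : X * X = -1 := by
    have e : (loL (1 : ZMod p))⁻¹ = loL (-1) :=
      inv_eq_of_mul_eq_one_right (by rw [loL_mul, add_neg_cancel, loL_zero])
    refine Subtype.ext ?_
    rw [hX, e]
    simp only [Matrix.SpecialLinearGroup.coe_mul, upU_coe, loL_coe]
    ext i j; fin_cases i <;> fin_cases j <;> simp <;> ring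
  have hBi : ∀ z, (ψ (loL 1)⁻¹ : Matrix (Fin 2) (Fin 2) F).mulVec (B.mulVec z) = z := fun z => by
    rw [Matrix.mulVec_mulVec, hB, ← Matrix.SpecialLinearGroup.coe_mul, ← map_mul, inv_mul_cancel,
      map_one, Matrix.SpecialLinearGroup.coe_one, Matrix.one_mulVec]
  set Bi := (ψ (loL 1)⁻¹ : Matrix (Fin 2) (Fin 2) F) with hBidef
  have hBiw : Bi.mulVec w = w := by conv_lhs => rw [← hBw, hBi]
  have hBiv : Bi.mulVec v = v - w := by
    have := hBi v
    rw [hBv, Matrix.mulVec_add, hBiw] at this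
    rw [eq_sub_iff_add_eq]; exact this
  have hXc : (ψ X : Matrix (Fin 2) (Fin 2) F) = A * Bi * A := by
    rw [hX, map_mul, map_mul, Matrix.SpecialLinearGroup.coe_mul, Matrix.SpecialLinearGroup.coe_mul]
  have hXv : (A * Bi * A).mulVec v = (1 - l) • v - w := by
    rw [← Matrix.mulVec_mulVec, ← Matrix.mulVec_mulVec, hAv, hBiv, Matrix.mulVec_sub, hAv, hAw,
      sub_smul, one_smul]
    abel
  have hXw : (A * Bi * A).mulVec w = (2 * l - l * l) • v + (1 - l) • w := by
    rw [← Matrix.mulVec_mulVec, ← Matrix.mulVec_mulVec, hAw, Matrix.mulVec_add, hBiw,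
      Matrix.mulVec_smul, hBiv, Matrix.mulVec_add, Matrix.mulVec_smul, Matrix.mulVec_sub, hAv, hAw]
    module
  have hl : l = 1 := by
    have h1 : ((A * Bi * A) * (A * Bi * A)).mulVec v = -v := by
      rw [← hXc, ← Matrix.SpecialLinearGroup.coe_mul, ← map_mul, hX2, hneg]
      simp [Matrix.neg_mulVec]
    rw [← Matrix.mulVec_mulVec, hXv, Matrix.mulVec_sub, Matrix.mulVec_smul, hXv, hXw] at h1
    have h3 : ((1 - l) * (1 - l) - (2 * l - l * l) + 1) • v + (-(2 * (1 - l))) • w = 0 := by
      calc _ = ((1 - l) • ((1 - l) • v - w) - ((2 * l - l * l) • v + (1 - l) • w)) + v := by module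
        _ = 0 := by rw [h1, neg_add_cancel]
    have := (LinearIndependent.pair_iff.1 hli _ _ h3).2
    have h20 : (2 : F) ≠ 0 := by
      intro h
      have h' : ((2 : ℕ) : F) = 0 := by exact_mod_cast h
      have := Nat.le_of_dvd two_pos ((CharP.cast_eq_zero_iff F p 2).1 h')
      have := hp.out.two_le
      omega
    rw [neg_eq_zero, mul_eq_zero, sub_eq_zero] at this
    exact (this.resolve_left h20).symm
  exact ⟨v, w, he, hAv, by rw [hAw, hl, one_smul], hBv, hBw⟩

end Two

/-- A quadratic pair whose image is not a `p`-group has a natural pair in its module. -/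
theorem exists_natural_pair (h2 : p ≠ 2) {H : Type u} [Group H] [Finite H] {a b : H}
    (hgen : Subgroup.closure {a, b} = ⊤) {V : Type v} [AddCommGroup V] [Module (ZMod p) V]
    [Finite V] (ρ : H →* Module.End (ZMod p) V) (ha : (ρ a - 1) * (ρ a - 1) = 0)
    (hb : (ρ b - 1) * (ρ b - 1) = 0) (hnp : ¬ ∀ g, ∃ k : ℕ, ρ g ^ p ^ k = 1) :
    ∃ (u l : H) (U : Submodule (ZMod p) V) (v w : V), IsNaturalPair (ρ u) (ρ l) U v w := by
  classical
  haveI : Module.Finite (ZMod p) V := Module.Finite.of_finite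
  set n := orderOf (a * b) with hn
  have hn0 : n ≠ 0 := (orderOf_pos (a * b)).ne'
  set k := ordCompl[p] n with hk
  have hkpos : 0 < k := Nat.ordCompl_pos p hn0
  set m := Nat.totient k with hm
  have hm0 : m ≠ 0 := (Nat.totient_pos.2 hkpos).ne'
  have hcop : Nat.Coprime p k := Nat.coprime_ordCompl hp.out hn0
  haveI : Fintype (GaloisField p m) := Fintype.ofFinite _
  have hdvd : k ∣ Fintype.card (GaloisField p m) - 1 := by
    rw [← Nat.card_eq_fintype_card, GaloisField.card p m hm0,
      ← Nat.modEq_iff_dvd' (Nat.one_le_pow _ _ hp.out.pos)]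
    exact (Nat.ModEq.pow_totient hcop).symm
  let bas := Module.finBasis (ZMod p) V
  let Φ : Module.End (ZMod p) V →+*
      Module.End (GaloisField p m) (Fin (Module.finrank (ZMod p) V) → GaloisField p m) :=
    ((Matrix.toLinAlgEquiv' (R := GaloisField p m)).toRingEquiv.toRingHom.comp
      (algebraMap (ZMod p) (GaloisField p m)).mapMatrix).comp
      (LinearMap.toMatrixAlgEquiv bas).toRingEquiv.toRingHom
  have hΦ : Function.Injective Φ :=
    ((Matrix.toLinAlgEquiv' (R := GaloisField p m)).injective.comp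
      (Matrix.map_injective (algebraMap (ZMod p) (GaloisField p m)).injective)).comp
      (LinearMap.toMatrixAlgEquiv bas).injective
  have hq : ∀ g, (ρ g - 1) * (ρ g - 1) = 0 → (Φ (ρ g) - 1) * (Φ (ρ g) - 1) = 0 := fun g hg => by
    rw [← map_one Φ, ← map_sub, ← map_mul, hg, map_zero]
  obtain ⟨φ, x, hx, hφa, hφb, U, v₀, w₀, hv₀, hUinv, hrel⟩ :=
    exists_slTwo_hom (p := p) hgen (Φ.toMonoidHom.comp ρ) (hq a ha) (hq b hb) (fun hall => hnp fun g => by
      obtain ⟨i, hi⟩ := hall g
      refine ⟨i, hΦ ?_⟩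
      rw [map_pow, map_one]
      exact hi)
    ⟨n.factorization p, k, by rw [hk, Nat.ordProj_mul_ordCompl_eq_self, hn, pow_orderOf_eq_one],
      hdvd⟩
  obtain ⟨ψ, hψ, hle⟩ := exists_slTwo_le_of_two_sylow h2 φ.range
    (one_lt_card_sylow_of_opposite φ.range hx ⟨a, hφa⟩ ⟨b, hφb⟩)
  obtain ⟨vv, ww, hvv, r1, r2, r3, r4⟩ := exists_natural_vectors h2 ψ hψ
  obtain ⟨u, hu⟩ := hle ⟨upU 1, rfl⟩
  obtain ⟨l, hl⟩ := hle ⟨loL 1, rfl⟩
  let lift : (Fin 2 → GaloisField p m) →
      (Fin (Module.finrank (ZMod p) V) → GaloisField p m) := fun c => c 0 • v₀ + c 1 • w₀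
  have hlift : ∀ g c, Φ (ρ g) (lift c) -
      lift ((φ g : Matrix (Fin 2) (Fin 2) (GaloisField p m)).mulVec c) ∈ U := by
    intro g c
    have e : Φ (ρ g) (lift c) - lift ((φ g : Matrix (Fin 2) (Fin 2) (GaloisField p m)).mulVec c) =
        c 0 • (Φ (ρ g) v₀ - ((φ g : Matrix (Fin 2) (Fin 2) (GaloisField p m)) 0 0 • v₀ +
          (φ g : Matrix (Fin 2) (Fin 2) (GaloisField p m)) 1 0 • w₀)) +
        c 1 • (Φ (ρ g) w₀ - ((φ g : Matrix (Fin 2) (Fin 2) (GaloisField p m)) 0 1 • v₀ +
          (φ g : Matrix (Fin 2) (Fin 2) (GaloisField p m)) 1 1 • w₀)) := by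
      simp only [lift, map_add, map_smul, Matrix.mulVec, dotProduct, Fin.sum_univ_two]
      module
    rw [e]
    exact U.add_mem (U.smul_mem _ (hrel g).1) (U.smul_mem _ (hrel g).2)
  have hindep : ∀ c, lift c ∈ U → c = 0 := by
    intro c hc
    have h1 := hlift a c
    rw [hφa] at h1
    have h2 : lift ((upU x : Matrix (Fin 2) (Fin 2) (GaloisField p m)).mulVec c) ∈ U := by
      have := U.sub_mem (hUinv a _ hc) h1
      simpa using this
    have h3 : (x * c 1) • v₀ ∈ U := by
      have := U.sub_mem h2 hc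
      convert this using 1
      simp [lift, upU_coe, Matrix.mulVec, dotProduct, Fin.sum_univ_two]
      module
    have hc1 : c 1 = 0 := by
      by_contra hne
      exact hv₀ ((U.smul_mem_iff (mul_ne_zero hx hne)).1 h3)
    have hc0 : c 0 = 0 := by
      by_contra hne
      have : c 0 • v₀ ∈ U := by simpa [lift, hc1] using hc
      exact hv₀ ((U.smul_mem_iff hne).1 this)
    funext i; fin_cases i <;> simp [hc0, hc1]
  have hadd : ∀ c d, lift (c + d) = lift c + lift d := fun c d => by simp [lift]; module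
  let A₀ : Module.End (ZMod p) (Fin (Module.finrank (ZMod p) V) → GaloisField p m) :=
    (Φ (ρ u)).restrictScalars (ZMod p)
  let B₀ : Module.End (ZMod p) (Fin (Module.finrank (ZMod p) V) → GaloisField p m) :=
    (Φ (ρ l)).restrictScalars (ZMod p)
  have hpair : IsNaturalPair A₀ B₀ (U.restrictScalars (ZMod p)) (lift vv) (lift ww) := by
    refine ⟨fun h => hvv (hindep _ h), fun z hz => ⟨hUinv u z hz, hUinv l z hz⟩, ?_, ?_, ?_, ?_⟩
    · have := hlift u vv; rwa [hu, r1] at this
    · have := hlift u ww; rw [hu, r2, hadd] at this; exact this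
    · have := hlift l vv; rw [hl, r3, hadd] at this; exact this
    · have := hlift l ww; rwa [hl, r4] at this
  let bF := Module.finBasis (ZMod p) (GaloisField p m)
  let π : Fin (Module.finrank (ZMod p) (GaloisField p m)) →
      (Fin (Module.finrank (ZMod p) V) → GaloisField p m) →ₗ[ZMod p] V := fun j =>
    ∑ i, ((bF.coord j).comp (LinearMap.proj i)).smulRight (bas i)
  have hπ : ∀ j z, π j z = ∑ i, bF.coord j (z i) • bas i := fun j z => by simp [π]
  have hequiv : ∀ (T : Module.End (ZMod p) V) j z, π j (Φ T z) = T (π j z) := by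
    intro T j z
    have hz : ∀ i, Φ T z i = ∑ k, (LinearMap.toMatrix bas bas T i k) • z k := fun i => by
      show ((LinearMap.toMatrixAlgEquiv bas T).map (algebraMap (ZMod p) (GaloisField p m))).mulVec z i = _
      simp [Matrix.mulVec, dotProduct, Algebra.smul_def]
      rfl
    rw [hπ, hπ, map_sum]
    simp only [hz, map_sum, map_smul, Finset.sum_smul]
    rw [Finset.sum_comm]
    refine Finset.sum_congr rfl fun k _ => ?_
    conv_rhs => rw [← bas.sum_repr (T (bas k)), Finset.smul_sum]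
    refine Finset.sum_congr rfl fun i _ => ?_
    rw [LinearMap.toMatrix_apply, smul_smul, smul_eq_mul, mul_comm]
  have hinjπ : ∀ z, (∀ j, π j z = 0) → z = 0 := fun z hz => funext fun i => bF.ext_elem fun j => by
    have := congrArg (fun y => bas.repr y i) (hz j)
    simpa [hπ, Finsupp.single_apply] using this
  obtain ⟨U', v', w', h'⟩ := naturalPair_descend π hinjπ (A' := ρ u) (B' := ρ l)
    (fun j z => hequiv (ρ u) j z) (fun j z => hequiv (ρ l) j z) hpair
  exact ⟨u, l, U', v', w', h'⟩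

end CfsgLib.PLocal
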