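import Mathlib
import Cfsg.Prelude.Def_PLocal
import Cfsg.Prelude.Def_LocalEven
import Cfsg.Agent.Lib.PLocal.SLTwoInvolve

/-!
# A natural pair of elements gives a section `Qd(p)`
-/

set_option autoImplicit false

namespace CfsgLib.PLocal

open Subgroup
open scoped MatrixGroups

universe u

variable {p : ℕ} [hp : Fact p.Prime]

/-- The affine transformation `x ↦ M x + t` as a matrix in `SL₃`. -/
def affMat (t : Fin 2 → ZMod p) (M : SL(2, ZMod p)) : SL(3, ZMod p) :=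
  ⟨!![(M : Matrix (Fin 2) (Fin 2) (ZMod p)) 0 0, (M : Matrix (Fin 2) (Fin 2) (ZMod p)) 0 1, t 0;
      (M : Matrix (Fin 2) (Fin 2) (ZMod p)) 1 0, (M : Matrix (Fin 2) (Fin 2) (ZMod p)) 1 1, t 1;
      0, 0, 1], by
    have h := sl2_det M
    rw [Matrix.det_fin_three]
    simp
    linear_combination h⟩

theorem affMat_coe (t : Fin 2 → ZMod p) (M : SL(2, ZMod p)) :
    (affMat t M : Matrix (Fin 3) (Fin 3) (ZMod p)) =
    !![(M : Matrix (Fin 2) (Fin 2) (ZMod p)) 0 0, (M : Matrix (Fin 2) (Fin 2) (ZMod p)) 0 1, t 0;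
      (M : Matrix (Fin 2) (Fin 2) (ZMod p)) 1 0, (M : Matrix (Fin 2) (Fin 2) (ZMod p)) 1 1, t 1;
      0, 0, 1] := rfl

theorem affMat_mul (s t : Fin 2 → ZMod p) (M N : SL(2, ZMod p)) :
    affMat s M * affMat t N =
      affMat (s + (M : Matrix (Fin 2) (Fin 2) (ZMod p)).mulVec t) (M * N) := by
  refine Subtype.ext ?_
  rw [Matrix.SpecialLinearGroup.coe_mul, affMat_coe, affMat_coe, affMat_coe,
    Matrix.SpecialLinearGroup.coe_mul]
  ext i j
  fin_cases i <;> fin_cases j <;>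
    simp [Matrix.mul_apply, Fin.sum_univ_three, Fin.sum_univ_two, Matrix.mulVec, dotProduct] <;> ring

theorem affMat_mem_qd (t : Fin 2 → ZMod p) (M : SL(2, ZMod p)) : affMat t M ∈ Cfsg.qd p :=
  Subgroup.subset_closure ⟨rfl, rfl, rfl⟩

theorem exists_hom_onto_qd_aux {X : Type u} [Group X] (F : X →* ↥(Cfsg.qd p))
    (h : ∀ M : SL(3, ZMod p), (M : Matrix (Fin 3) (Fin 3) (ZMod p)) 2 0 = 0 ∧
      (M : Matrix (Fin 3) (Fin 3) (ZMod p)) 2 1 = 0 ∧ (M : Matrix (Fin 3) (Fin 3) (ZMod p)) 2 2 = 1 →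
      ∃ x, ((F x : ↥(Cfsg.qd p)) : SL(3, ZMod p)) = M) : Function.Surjective F := by
  have hle : Cfsg.qd p ≤ ((Cfsg.qd p).subtype.comp F).range :=
    (Subgroup.closure_le _).2 fun M hM => by
      obtain ⟨x, hx⟩ := h M hM
      exact ⟨x, hx⟩
  intro y
  obtain ⟨x, hx⟩ := hle y.2
  exact ⟨x, Subtype.ext hx⟩

/-- Two commuting elements of order `p` acted on naturally give a section `Qd(p)`. -/
theorem qd_sec_of_natural_elements {G : Type u} [Group G] [Finite G] (h2 : p ≠ 2) {u l v w : G}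
    (hvp : v ^ p = 1) (hwp : w ^ p = 1) (hvw : Commute v w) (hv1 : v ≠ 1)
    (huv : u * v * u⁻¹ = v) (huw : u * w * u⁻¹ = v * w) (hlv : l * v * l⁻¹ = v * w)
    (hlw : l * w * l⁻¹ = w) :
    ∃ (K : Subgroup G) (f : K →* ↥(Cfsg.qd p)), Function.Surjective f := by
  classical
  let t : (Fin 2 → ZMod p) → G := fun x => v ^ (x 0).val * w ^ (x 1).val
  have hval : ∀ (g : G), g ^ p = 1 → ∀ a b : ZMod p, g ^ (a + b).val = g ^ a.val * g ^ b.val := by
    intro g hg a b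
    rw [← pow_add, ZMod.val_add, ← pow_eq_pow_mod _ hg]
  have hadd : ∀ x y, t (x + y) = t x * t y := by
    intro x y
    show v ^ (x 0 + y 0).val * w ^ (x 1 + y 1).val = _
    rw [hval v hvp, hval w hwp, mul_assoc, mul_assoc, ← mul_assoc (v ^ (y 0).val),
      ← mul_assoc (w ^ (x 1).val), ((hvw.pow_pow (y 0).val (x 1).val)).eq, mul_assoc]
  have ht0 : t 0 = 1 := by simp [t]
  have hcast : ∀ (g : G), g ^ p = 1 → ∀ n : ℕ, g ^ n = g ^ (n : ZMod p).val := fun g hg n => by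
    rw [ZMod.val_natCast, ← pow_eq_pow_mod n hg]
  have hconj : ∀ (g : G) (x : Fin 2 → ZMod p), g * t x * g⁻¹ =
      (g * v * g⁻¹) ^ (x 0).val * (g * w * g⁻¹) ^ (x 1).val := fun g x => by
    rw [conj_pow, conj_pow]; simp [t, mul_assoc]
  have hu : ∀ x, u * t x * u⁻¹ =
      t ((upU (1 : ZMod p) : Matrix (Fin 2) (Fin 2) (ZMod p)).mulVec x) := by
    intro x
    rw [hconj, huv, huw, hvw.mul_pow, ← mul_assoc, ← hval v hvp]
    simp [t, upU_coe, Matrix.mulVec, dotProduct, Fin.sum_univ_two]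
  have hl : ∀ x, l * t x * l⁻¹ =
      t ((loL (1 : ZMod p) : Matrix (Fin 2) (Fin 2) (ZMod p)).mulVec x) := by
    intro x
    rw [hconj, hlv, hlw, hvw.mul_pow, mul_assoc, ← hval w hwp]
    simp [t, loL_coe, Matrix.mulVec, dotProduct, Fin.sum_univ_two]
  have hinj : Function.Injective t := by
    have key : ∀ x, t x = 1 → x = 0 := by
      intro x hx
      have h1 := hu x
      rw [hx, mul_one, mul_inv_cancel] at h1
      have h2' : v ^ (x 1).val * t x = 1 := by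
        rw [h1]
        simp only [t, upU_coe, Matrix.mulVec, dotProduct, Fin.sum_univ_two]
        simp [hval v hvp, ← mul_assoc, (Commute.refl v).pow_pow (x 1).val (x 0).val |>.eq]
      rw [hx, mul_one] at h2'
      have hord : orderOf v = p := orderOf_eq_prime hvp hv1
      have hx1 : x 1 = 0 := by
        have := orderOf_dvd_of_pow_eq_one h2'
        rw [hord] at this
        rw [← ZMod.natCast_zmod_val (x 1)]
        exact (ZMod.natCast_eq_zero_iff _ _).2 this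
      have hx0 : x 0 = 0 := by
        have : v ^ (x 0).val = 1 := by simpa [t, hx1] using hx
        have := orderOf_dvd_of_pow_eq_one this
        rw [hord] at this
        rw [← ZMod.natCast_zmod_val (x 0)]
        exact (ZMod.natCast_eq_zero_iff _ _).2 this
      funext i; fin_cases i <;> simp [hx0, hx1]
    intro x y hxy
    have h1 : t (x + -y) = 1 := by rw [hadd, hxy, ← hadd, add_neg_cancel, ht0]
    have := key _ h1
    rwa [← sub_eq_add_neg, sub_eq_zero] at this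
  let X : Subgroup G :=
    { carrier := {g | ∃ M : SL(2, ZMod p), ∀ x,
        g * t x * g⁻¹ = t ((M : Matrix (Fin 2) (Fin 2) (ZMod p)).mulVec x)}
      one_mem' := ⟨1, fun x => by simp⟩
      mul_mem' := fun {g h} ⟨M, hM⟩ ⟨N, hN⟩ => ⟨M * N, fun x => by
        rw [show g * h * t x * (g * h)⁻¹ = g * (h * t x * h⁻¹) * g⁻¹ by group, hN, hM,
          Matrix.SpecialLinearGroup.coe_mul, Matrix.mulVec_mulVec]⟩
      inv_mem' := fun {g} ⟨M, hM⟩ => ⟨M⁻¹, fun x => by
        have := hM ((↑(M⁻¹) : Matrix (Fin 2) (Fin 2) (ZMod p)).mulVec x)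
        rw [Matrix.mulVec_mulVec, ← Matrix.SpecialLinearGroup.coe_mul, mul_inv_cancel,
          Matrix.SpecialLinearGroup.coe_one, Matrix.one_mulVec] at this
        rw [← this]; group⟩ }
  choose f₀ hf₀ using fun g : X => g.2
  have huniq : ∀ (g : X) (M : SL(2, ZMod p)),
      (∀ x, (g : G) * t x * (g : G)⁻¹ = t ((M : Matrix (Fin 2) (Fin 2) (ZMod p)).mulVec x)) →
      f₀ g = M := fun g M hM =>
    Subtype.ext (Matrix.ext_of_mulVec_single fun i => hinj ((hf₀ g _).symm.trans (hM _)))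
  let f : X →* SL(2, ZMod p) := MonoidHom.mk' f₀ fun g h => huniq _ _ fun x => by
    rw [Subgroup.coe_mul, show (g : G) * h * t x * ((g : G) * h)⁻¹ =
        (g : G) * ((h : G) * t x * (h : G)⁻¹) * (g : G)⁻¹ by group, hf₀, hf₀,
      Matrix.SpecialLinearGroup.coe_mul, Matrix.mulVec_mulVec]
  have hfs : Function.Surjective f := by
    rw [← MonoidHom.range_eq_top, eq_top_iff, ← closure_upU_loL, Subgroup.closure_le]
    rintro y (rfl | rfl)
    · exact ⟨⟨u, _, hu⟩, huniq _ _ hu⟩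
    · exact ⟨⟨l, _, hl⟩, huniq _ _ hl⟩
  have hcomm : ∀ x y, t x * t y = t y * t x := fun x y => by rw [← hadd, ← hadd, add_comm]
  have htX : ∀ x, t x ∈ X := fun x => ⟨1, fun y => by
    rw [hcomm x y, mul_inv_cancel_right]; simp⟩
  -- a `2`-element over `-1`
  obtain ⟨z₀, hz₀⟩ := hfs (-1)
  set m := ordCompl[2] (orderOf z₀) with hm
  set z := z₀ ^ m with hz
  have hmodd : Odd m := by
    rw [Nat.odd_iff, ← Nat.not_even_iff, even_iff_two_dvd]
    exact Nat.not_dvd_ordCompl Nat.prime_two (orderOf_pos z₀).ne'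
  have hfz : f z = -1 := by
    rw [hz, map_pow, hz₀]
    obtain ⟨j, hj⟩ := hmodd
    rw [hj, pow_succ, pow_mul, sq, show (-1 : SL(2, ZMod p)) * -1 = 1 from Subtype.ext (by simp),
      one_pow, one_mul]
  set Z₀ := (Subgroup.zpowers (-1 : SL(2, ZMod p))).comap f with hZ₀
  haveI : (Subgroup.zpowers (-1 : SL(2, ZMod p))).Normal :=
    ⟨fun a ha g => by
      obtain ⟨i, rfl⟩ := Subgroup.mem_zpowers_iff.1 ha
      have hc : Commute g (-1 : SL(2, ZMod p)) := Subtype.ext (by simp)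
      rw [(hc.zpow_right i).eq, mul_inv_cancel_right]
      exact zpow_mem (Subgroup.mem_zpowers _) _⟩
  haveI : Z₀.Normal := Subgroup.Normal.comap inferInstance f
  have hzZ : z ∈ Z₀ := by
    rw [hZ₀, Subgroup.mem_comap, hfz]; exact Subgroup.mem_zpowers _
  haveI : Fact (Nat.Prime 2) := ⟨Nat.prime_two⟩
  have hz2 : IsPGroup 2 (Subgroup.zpowers (⟨z, hzZ⟩ : Z₀)) := by
    have h : (⟨z, hzZ⟩ : Z₀) ^ 2 ^ (orderOf z₀).factorization 2 = 1 := Subtype.ext (by
      show z ^ 2 ^ (orderOf z₀).factorization 2 = 1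
      rw [hz, ← pow_mul, hm, mul_comm, Nat.ordProj_mul_ordCompl_eq_self, pow_orderOf_eq_one])
    rintro ⟨y, hy⟩
    obtain ⟨i, rfl⟩ := Subgroup.mem_zpowers_iff.1 hy
    refine ⟨(orderOf z₀).factorization 2, Subtype.ext ?_⟩
    show ((⟨z, hzZ⟩ : Z₀) ^ i) ^ 2 ^ (orderOf z₀).factorization 2 = 1
    rw [← zpow_natCast, ← zpow_mul, mul_comm, zpow_mul, zpow_natCast, h, one_zpow]
  obtain ⟨T, hT⟩ := hz2.exists_le_sylow
  set T' := (T : Subgroup Z₀).map Z₀.subtype with hT'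
  set Y := Subgroup.normalizer (T' : Set X) with hY
  have hzT : z ∈ T' := ⟨⟨z, hzZ⟩, hT (Subgroup.mem_zpowers _), rfl⟩
  have hzY : z ∈ Y := Subgroup.le_normalizer hzT
  have hfY : ∀ M, ∃ y ∈ Y, f y = M := by
    intro M
    obtain ⟨g, rfl⟩ := hfs M
    have hg : g ∈ Y ⊔ Z₀ := by rw [hY, hT', Sylow.normalizer_sup_eq_top T]; exact Subgroup.mem_top g
    obtain ⟨y, hy, n, hn, rfl⟩ := Subgroup.mem_sup_of_normal_right.1 hg
    obtain ⟨i, hi⟩ := Subgroup.mem_zpowers_iff.1 (show f n ∈ _ from hn)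
    exact ⟨y * z ^ i, Y.mul_mem hy (Y.zpow_mem hzY i), by rw [map_mul, map_zpow, hfz, hi, map_mul]⟩
  have hdisj : ∀ x, (⟨t x, htX x⟩ : X) ∈ Y → x = 0 := by
    intro x hx
    have h1 : z * (⟨t x, htX x⟩ : X) * z⁻¹ * (⟨t x, htX x⟩ : X)⁻¹ ∈ T' := by
      have := (Subgroup.mem_normalizer_iff.1 hx _).1 (inv_mem hzT)
      rw [mul_assoc, mul_assoc]
      exact T'.mul_mem hzT (by simpa [mul_assoc] using this)
    obtain ⟨⟨d, hdZ⟩, hd, hde⟩ := h1
    obtain ⟨i, hi⟩ := T.2 ⟨_, hd⟩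
    have hdG : ((d : X) : G) = t (-x + -x) := by
      have h := congrArg Subtype.val hde
      rw [show ((d : X) : G) = ((Z₀.subtype ⟨d, hdZ⟩ : X) : G) from rfl, h]
      push_cast
      have hzt := hf₀ z x
      rw [show f₀ z = f z from rfl, hfz] at hzt
      rw [hzt, hadd]
      have e : ((↑(-1 : SL(2, ZMod p)) : Matrix (Fin 2) (Fin 2) (ZMod p))).mulVec x = -x := by
        simp [Matrix.neg_mulVec]
      rw [e]
      congr 1
      rw [inv_eq_iff_mul_eq_one, ← hadd, add_neg_cancel, ht0]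
    have h2i : ((d : X) : G) ^ 2 ^ i = 1 := by
      have h1 := congrArg Subtype.val hi
      rw [SubmonoidClass.coe_pow] at h1
      simpa using congrArg (fun y : Z₀ => (((y : X)) : G)) h1
    have hdp : ((d : X) : G) ^ p = 1 := by
      rw [hdG]; show (v ^ _ * w ^ _) ^ p = 1
      rw [(hvw.pow_pow _ _).mul_pow, ← pow_mul, ← pow_mul, mul_comm, pow_mul, hvp, one_pow, mul_comm,
        pow_mul, hwp, one_pow, mul_one]
    have hd1 : ((d : X) : G) = 1 := orderOf_eq_one_iff.1 (Nat.eq_one_of_dvd_coprimes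
      (((Nat.coprime_primes Nat.prime_two hp.out).2 (Ne.symm h2)).pow_left i)
      (orderOf_dvd_of_pow_eq_one h2i) (orderOf_dvd_of_pow_eq_one hdp))
    have hx2 : -x + -x = 0 := hinj (by rw [← hdG, hd1, ht0])
    funext j
    have := congrFun hx2 j
    simp only [Pi.add_apply, Pi.neg_apply, Pi.zero_apply] at this
    have h20 : (2 : ZMod p) ≠ 0 := fun h => h2 (by
      have h' : ((2 : ℕ) : ZMod p) = 0 := by exact_mod_cast h
      exact ((Nat.prime_dvd_prime_iff_eq hp.out Nat.prime_two).1 ((ZMod.natCast_eq_zero_iff 2 p).1 h')))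
    have h3 : (2 : ZMod p) * x j = 0 := by linear_combination -this
    simpa [h20] using h3
  let S : Subgroup G :=
    { carrier := {g | ∃ (x : Fin 2 → ZMod p) (y : X), y ∈ Y ∧ g = t x * (y : G)}
      one_mem' := ⟨0, 1, Y.one_mem, by simp [ht0]⟩
      mul_mem' := by
        rintro _ _ ⟨x, y, hy, rfl⟩ ⟨x', y', hy', rfl⟩
        refine ⟨x + (f₀ y : Matrix (Fin 2) (Fin 2) (ZMod p)).mulVec x', y * y', Y.mul_mem hy hy', ?_⟩
        rw [hadd, ← hf₀, Subgroup.coe_mul]; group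
      inv_mem' := by
        rintro _ ⟨x, y, hy, rfl⟩
        refine ⟨(f₀ y⁻¹ : Matrix (Fin 2) (Fin 2) (ZMod p)).mulVec (-x), y⁻¹, Y.inv_mem hy, ?_⟩
        have e : t (-x) = (t x)⁻¹ := eq_inv_of_mul_eq_one_left (by rw [← hadd, neg_add_cancel, ht0])
        rw [← hf₀, e, Subgroup.coe_inv]; group }
  choose xc yc hyc hgc using fun g : S => g.2
  have huq : ∀ x x' (y y' : X), y ∈ Y → y' ∈ Y → t x * (y : G) = t x' * (y' : G) → x = x' ∧ y = y' := by
    intro x x' y y' hy hy' h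
    have e : (⟨t (-x' + x), htX _⟩ : X) = y' * y⁻¹ := by
      refine Subtype.ext ?_
      show t (-x' + x) = (y' : G) * (y : G)⁻¹
      have e2 : t (-x') = (t x')⁻¹ := eq_inv_of_mul_eq_one_left (by rw [← hadd, neg_add_cancel, ht0])
      rw [hadd, e2, eq_mul_inv_iff_mul_eq, mul_assoc, h, inv_mul_cancel_left]
    have hxx : x = x' := (sub_eq_zero.1 (by
      rw [sub_eq_neg_add]; exact hdisj _ (e ▸ Y.mul_mem hy' (Y.inv_mem hy))))
    exact ⟨hxx, Subtype.ext (by rw [hxx] at h; exact mul_left_cancel h)⟩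
  let F : S →* ↥(Cfsg.qd p) :=
    MonoidHom.mk' (fun g => ⟨affMat (xc g) (f (yc g)), affMat_mem_qd _ _⟩) fun g h => by
      refine Subtype.ext ?_
      show affMat (xc (g * h)) (f (yc (g * h))) = affMat (xc g) (f (yc g)) * affMat (xc h) (f (yc h))
      obtain ⟨h1, h1'⟩ := huq (xc (g * h))
        (xc g + (f₀ (yc g) : Matrix (Fin 2) (Fin 2) (ZMod p)).mulVec (xc h)) (yc (g * h))
        (yc g * yc h) (hyc _) (Y.mul_mem (hyc g) (hyc h)) (by
          rw [← hgc (g * h), Subgroup.coe_mul, Subgroup.coe_mul, hgc g, hgc h, hadd, ← hf₀]; group)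
      rw [affMat_mul, h1, h1', map_mul]
      rfl
  refine ⟨S, F, exists_hom_onto_qd_aux F fun M hM => ?_⟩
  have hd := M.2
  rw [Matrix.det_fin_three, hM.1, hM.2.1, hM.2.2] at hd
  let M₂ : SL(2, ZMod p) := ⟨!![(M : Matrix (Fin 3) (Fin 3) (ZMod p)) 0 0,
      (M : Matrix (Fin 3) (Fin 3) (ZMod p)) 0 1; (M : Matrix (Fin 3) (Fin 3) (ZMod p)) 1 0,
      (M : Matrix (Fin 3) (Fin 3) (ZMod p)) 1 1], by
    rw [Matrix.det_fin_two_of]; linear_combination hd⟩
  obtain ⟨y, hy, hfy⟩ := hfY M₂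
  let x : Fin 2 → ZMod p :=
    ![(M : Matrix (Fin 3) (Fin 3) (ZMod p)) 0 2, (M : Matrix (Fin 3) (Fin 3) (ZMod p)) 1 2]
  let g : S := ⟨t x * (y : G), x, y, hy, rfl⟩
  obtain ⟨h1, h1'⟩ := huq (xc g) x (yc g) y (hyc g) hy (hgc g).symm
  refine ⟨g, ?_⟩
  show affMat (xc g) (f (yc g)) = M
  rw [h1, h1', hfy]
  refine Subtype.ext ?_
  rw [affMat_coe]
  ext i j
  fin_cases i <;> fin_cases j <;> simp [M₂, x, hM.1, hM.2.1, hM.2.2]

end CfsgLib.PLocal
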