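import Mathlib
import Cfsg.Agent.Lib.PLocal.QdPair
import Cfsg.Agent.Lib.PLocal.QdSection

/-!
# A failure of `p`-stability gives a section `Qd(p)`
-/

set_option autoImplicit false

namespace CfsgLib.PLocal

open Subgroup
open scoped MatrixGroups commutatorElement

universe u

variable {p : ℕ} [hp : Fact p.Prime]

/-- A natural pair in an elementary abelian subgroup, modulo an invariant subgroup. -/
theorem qd_sec_of_pair_mod {G : Type u} [Group G] [Finite G] (h2 : p ≠ 2) {V U : Subgroup G}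
    (hV : Cfsg.IsElementaryAbelian p V) {u l v w : G}
    (hu : u ∈ Subgroup.normalizer (U : Set G)) (hl : l ∈ Subgroup.normalizer (U : Set G))
    (hvU : v ∈ Subgroup.normalizer (U : Set G)) (hwU : w ∈ Subgroup.normalizer (U : Set G))
    (hv : v ∈ V) (hw : w ∈ V) (hv1 : v ∉ U)
    (h1 : u * v * u⁻¹ * v⁻¹ ∈ U) (h2' : u * w * u⁻¹ * (v * w)⁻¹ ∈ U)
    (h3 : l * v * l⁻¹ * (v * w)⁻¹ ∈ U) (h4 : l * w * l⁻¹ * w⁻¹ ∈ U) :
    ∃ (K : Subgroup G) (f : K →* ↥(Cfsg.qd p)), Function.Surjective f := by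
  set N := Subgroup.normalizer (U : Set G) with hN
  haveI : (U.subgroupOf N).Normal := Subgroup.normal_subgroupOf_of_le_normalizer le_rfl
  set π := QuotientGroup.mk' (U.subgroupOf N) with hπ
  have hcong : ∀ x y : N, (x : G) * (y : G)⁻¹ ∈ U → π x = π y := fun x y h => by
    rw [← mul_inv_eq_one, ← map_inv, ← map_mul]
    exact (QuotientGroup.eq_one_iff _).2 h
  have hpow : ∀ x : N, (x : G) ∈ V → π x ^ p = 1 := fun x hx => by
    rw [← map_pow, show x ^ p = 1 from Subtype.ext (hV.2 _ hx), map_one]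
  have hcomm : (⟨v, hvU⟩ : N) * ⟨w, hwU⟩ = ⟨w, hwU⟩ * ⟨v, hvU⟩ :=
    Subtype.ext (show v * w = w * v from congrArg Subtype.val (hV.1.1.comm ⟨v, hv⟩ ⟨w, hw⟩))
  obtain ⟨K, f, hf⟩ := qd_sec_of_natural_elements (p := p) h2 (u := π ⟨u, hu⟩) (l := π ⟨l, hl⟩)
    (v := π ⟨v, hvU⟩) (w := π ⟨w, hwU⟩) (hpow _ hv) (hpow _ hw)
    (by show π _ * π _ = π _ * π _; rw [← map_mul, hcomm, map_mul])
    (fun h => hv1 (Subgroup.mem_subgroupOf.1 ((QuotientGroup.eq_one_iff (⟨v, hvU⟩ : N)).1 h)))
    (by rw [← map_inv, ← map_mul, ← map_mul]; exact hcong _ _ h1)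
    (by rw [← map_inv, ← map_mul, ← map_mul, ← map_mul]; exact hcong _ _ h2')
    (by rw [← map_inv, ← map_mul, ← map_mul, ← map_mul]; exact hcong _ _ h3)
    (by rw [← map_inv, ← map_mul, ← map_mul]; exact hcong _ _ h4)
  obtain ⟨K', f', -, hf'⟩ := sec_of_quotient (U.subgroupOf N) f hf
  obtain ⟨K'', f'', -, hf''⟩ := sec_of_subgroup N f' hf'
  exact ⟨K'', f'', hf''⟩

/-- A quadratic element outside `O_p` of the group induced on an elementary abelian normal subgroup
gives a section `Qd(p)`. -/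
theorem qd_sec_of_not_pStableOn {G : Type u} [Group G] [Finite G] (h2 : p ≠ 2) (V : Subgroup G)
    [hn : V.Normal] (hV : Cfsg.IsElementaryAbelian p V) (h : ¬ Cfsg.IsPStableOn p V) :
    ∃ (K : Subgroup G) (f : K →* ↥(Cfsg.qd p)), Function.Surjective f := by
  classical
  unfold Cfsg.IsPStableOn at h
  push Not at h
  obtain ⟨a, hq, hna⟩ := h
  let iV : CommGroup V := { (inferInstance : Group V) with mul_comm := fun x y => hV.1.1.comm x y }
  haveI iM : Module (ZMod p) (Additive V) := AddCommGroup.zmodModule (n := p) fun x => by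
    show Additive.ofMul ((Additive.toMul x) ^ p) = 0
    rw [show (Additive.toMul x) ^ p = 1 from Subtype.ext (hV.2 _ (Additive.toMul x).2), ofMul_one]
  let θ : G →* MulAut V := MulAut.conjNormal
  let ρ : G →* Module.End (ZMod p) (Additive V) := MonoidHom.comp (autRep p V) θ
  have hρ : ∀ (g : G) (x : Additive V),
      ((Additive.toMul (ρ g x) : V) : G) = g * (Additive.toMul x : V) * g⁻¹ :=
    fun g x => MulAut.conjNormal_apply g _
  set C := Subgroup.centralizer (V : Set G) with hC
  have hker : ∀ g, ρ g = 1 ↔ g ∈ C := by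
    intro g
    rw [show ρ g = autRep p V (θ g) from rfl, map_eq_one_iff _ (autRep_injective V), hC,
      Subgroup.mem_centralizer_iff]
    refine ⟨fun he x hx => ?_, fun he => MulEquiv.ext fun x => Subtype.ext ?_⟩
    · have := congrArg (fun e : MulAut V => ((e ⟨x, hx⟩ : V) : G)) he
      simp [θ, MulAut.conjNormal_apply] at this
      exact (mul_inv_eq_iff_eq_mul.1 this).symm
    · show ((MulAut.conjNormal g x : V) : G) = x
      rw [MulAut.conjNormal_apply, ← he _ x.2, mul_inv_cancel_right]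
  have hsq : (ρ a - 1) * (ρ a - 1) = 0 := by
    refine LinearMap.ext fun x => ?_
    rw [Module.End.mul_apply, LinearMap.sub_apply, Module.End.one_apply, LinearMap.zero_apply,
      sub_eq_zero]
    refine Additive.toMul.injective (Subtype.ext ?_)
    rw [hρ]
    set c := ((Additive.toMul ((ρ a - 1) x) : V) : G) with hcdef
    have hcmem : c ∈ ⁅V, Subgroup.zpowers a⁆ := by
      have e : c = ⁅a, ((Additive.toMul x : V) : G)⁆ := by
        rw [hcdef, LinearMap.sub_apply, Module.End.one_apply, toMul_sub, Subgroup.coe_div, hρ,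
          div_eq_mul_inv, commutatorElement_def]
      rw [e, Subgroup.commutator_comm]
      exact Subgroup.commutator_mem_commutator (Subgroup.mem_zpowers _) (Additive.toMul x : V).2
    have h1 := Subgroup.commutator_mem_commutator hcmem (Subgroup.mem_zpowers a)
    rw [hq, Subgroup.mem_bot, commutatorElement_eq_one_iff_mul_comm] at h1
    rw [← h1, mul_inv_cancel_right]
  -- a conjugate generating with `a` a group whose image is not a `p`-group
  set π := QuotientGroup.mk' C with hπ
  have hap : π a ^ p = 1 := by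
    rw [← map_pow, hπ, QuotientGroup.mk'_apply, QuotientGroup.eq_one_iff, ← hker, map_pow]
    exact pow_eq_one_of_quadratic hsq
  obtain ⟨g', hg'⟩ : ∃ g : G ⧸ C, ¬ IsPGroup p
      ↥(Subgroup.zpowers (π a) ⊔ (Subgroup.zpowers (π a)).map (MulAut.conj g).toMonoidHom) := by
    by_contra hall
    push Not at hall
    obtain ⟨N, hN, hNp, hle⟩ := CfsgLib.Trans3.baer_suzuki (Subgroup.zpowers (π a)) hall
    exact hna (CfsgLib.Solvable.le_pCore hN hNp (hle (Subgroup.mem_zpowers _)))
  obtain ⟨g, rfl⟩ := QuotientGroup.mk'_surjective C g'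
  set b := g * a * g⁻¹ with hb
  set L := Subgroup.closure {a, b} with hL
  have haL : a ∈ L := Subgroup.subset_closure (Set.mem_insert _ _)
  have hbL : b ∈ L := Subgroup.subset_closure (Set.mem_insert_of_mem _ rfl)
  have hgen : Subgroup.closure {(⟨a, haL⟩ : L), ⟨b, hbL⟩} = ⊤ := by
    apply Subgroup.map_injective L.subtype_injective
    rw [MonoidHom.map_closure, Set.image_pair, ← MonoidHom.range_eq_map, Subgroup.range_subtype]
    rfl
  have hle : Subgroup.zpowers (π a) ⊔ (Subgroup.zpowers (π a)).map (MulAut.conj (π g)).toMonoidHom ≤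
      L.map π := by
    rw [MonoidHom.map_zpowers, sup_le_iff, Subgroup.zpowers_le, Subgroup.zpowers_le]
    exact ⟨⟨a, haL, rfl⟩, ⟨b, hbL, by simp [hb]⟩⟩
  have hbq : (ρ b - 1) * (ρ b - 1) = 0 := by
    have e : ρ b - 1 = ρ g * (ρ a - 1) * ρ g⁻¹ := by
      rw [hb, map_mul, map_mul, mul_sub, sub_mul, mul_one, ← map_mul ρ g g⁻¹, mul_inv_cancel,
        map_one]
    rw [e, show ρ g * (ρ a - 1) * ρ g⁻¹ * (ρ g * (ρ a - 1) * ρ g⁻¹) =
      ρ g * (ρ a - 1) * (ρ g⁻¹ * ρ g) * (ρ a - 1) * ρ g⁻¹ by simp only [mul_assoc],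
      ← map_mul ρ g⁻¹ g, inv_mul_cancel, map_one, mul_one, mul_assoc (ρ g), hsq, mul_zero, zero_mul]
  obtain ⟨u, l, U₀, v₀, w₀, hv₀, hinv, r1, r2, r3, r4⟩ :=
    exists_natural_pair h2 hgen (ρ.comp L.subtype) hsq hbq fun hall => hg' (IsPGroup.to_le (by
      rintro ⟨_, y, hy, rfl⟩
      obtain ⟨k, hk⟩ := hall ⟨y, hy⟩
      refine ⟨k, Subtype.ext ?_⟩
      show π y ^ p ^ k = 1
      rw [← map_pow, hπ, QuotientGroup.mk'_apply, QuotientGroup.eq_one_iff, ← hker, map_pow]
      exact hk) hle)
  set U := (Submodule.toAddSubgroup U₀).toSubgroup'.map V.subtype with hUdef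
  have hUmem : ∀ x : V, (x : G) ∈ U ↔ Additive.ofMul x ∈ U₀ := fun x => by
    rw [hUdef, show ((x : V) : G) = V.subtype x from rfl,
      Subgroup.mem_map_iff_mem V.subtype_injective]
    rfl
  have hVN : V ≤ Subgroup.normalizer (U : Set G) := fun x hx => by
    exact Subgroup.centralizer_le_normalizer _ fun y hy => congrArg Subtype.val
      (hV.1.1.comm ⟨y, (Subgroup.map_subtype_le _ : U ≤ V) hy⟩ ⟨x, hx⟩)
  have hstab : ∀ k : L, (∀ z ∈ U₀, ρ (k : G) z ∈ U₀) → (k : G) ∈ Subgroup.normalizer (U : Set G) := by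
    intro k hk
    refine Subgroup.mem_normalizer_iff_map_conj_eq.2 (Subgroup.eq_of_le_of_card_ge ?_ ?_)
    · rintro _ ⟨y, ⟨x, hx, rfl⟩, rfl⟩
      refine ⟨Additive.toMul (ρ (k : G) (Additive.ofMul x)), hk _ hx, ?_⟩
      show ((Additive.toMul (ρ (k : G) (Additive.ofMul x)) : V) : G) = _
      rw [hρ]; rfl
    · exact (Nat.card_congr (U.equivMapOfInjective (MulAut.conj (k : G)).toMonoidHom (MulAut.conj (k : G)).injective).toEquiv).le
  have key : ∀ (k : L) (x y : Additive V), ρ (k : G) x - y ∈ U₀ →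
      (k : G) * (Additive.toMul x : V) * (k : G)⁻¹ * ((Additive.toMul y : V) : G)⁻¹ ∈ U := by
    intro k x y h
    have h' := (hUmem (Additive.toMul (ρ (k : G) x - y))).2 h
    rwa [toMul_sub, Subgroup.coe_div, hρ, div_eq_mul_inv] at h'
  refine qd_sec_of_pair_mod h2 hV (U := U) (u := (u : G)) (l := (l : G))
    (v := ((Additive.toMul v₀ : V) : G)) (w := ((Additive.toMul w₀ : V) : G))
    (hstab u fun z hz => (hinv z hz).1) (hstab l fun z hz => (hinv z hz).2)
    (hVN (Additive.toMul v₀).2) (hVN (Additive.toMul w₀).2) (Additive.toMul v₀).2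
    (Additive.toMul w₀).2 (fun h => hv₀ ((hUmem _).1 h)) (key u v₀ v₀ r1) ?_ ?_ (key l w₀ w₀ r4)
  · simpa using key u w₀ (v₀ + w₀) r2
  · simpa using key l v₀ (v₀ + w₀) r3

/-- The group induced on a minimal normal subgroup has trivial `O_p`. -/
theorem mem_centralizer_of_mem_pCore {G : Type u} [Group G] [Finite G] {U : Subgroup G}
    [U.Normal] (hU : IsPGroup p U) (hne : U ≠ ⊥)
    (hmin : ∀ N : Subgroup G, N.Normal → N ≤ U → N = ⊥ ∨ N = U) {g : G}
    (hg : (QuotientGroup.mk g : G ⧸ Subgroup.centralizer (U : Set G)) ∈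
      Cfsg.pCore p (G ⧸ Subgroup.centralizer (U : Set G))) :
    g ∈ Subgroup.centralizer (U : Set G) := by
  set C := Subgroup.centralizer (U : Set G) with hC
  haveI := Cfsg.pCore_normal p (G ⧸ C)
  set D := (Cfsg.pCore p (G ⧸ C)).comap (QuotientGroup.mk' C) with hD
  let φ : D →* MulAut U := (MulAut.conjNormal (H := U)).comp D.subtype
  have hR : IsPGroup p φ.range := by
    rintro ⟨_, d, rfl⟩
    obtain ⟨k, hk⟩ := CfsgLib.Solvable.pCore_isPGroup (G := G ⧸ C) p ⟨_, d.2⟩
    refine ⟨k, Subtype.ext ?_⟩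
    show φ d ^ p ^ k = 1
    rw [← map_pow]
    have h1 : ((d ^ p ^ k : D) : G) ∈ C := (QuotientGroup.eq_one_iff _).1 (by
      have := congrArg Subtype.val hk
      simpa using this)
    refine MulEquiv.ext fun x => Subtype.ext ?_
    show ((MulAut.conjNormal (H := U) ((d ^ p ^ k : D) : G)) x : G) = (x : G)
    rw [MulAut.conjNormal_apply, ← Subgroup.mem_centralizer_iff.1 h1 _ x.2, mul_inv_cancel_right]
  haveI : Nontrivial U := (Subgroup.nontrivial_iff_ne_bot U).2 hne
  obtain ⟨n, hn0, hcard⟩ := hU.nontrivial_iff_card.1 inferInstance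
  obtain ⟨z, hz, hz1⟩ := hR.exists_fixed_point_of_prime_dvd_card_of_fixed_point (α := U)
    (hcard ▸ dvd_pow_self p hn0.ne') (a := 1) (fun a => map_one (a : MulAut U))
  have hzM : (z : G) ∈ U ⊓ Subgroup.centralizer (D : Set G) :=
    ⟨z.2, Subgroup.mem_centralizer_iff.2 fun d hd => by
      have h2 : φ ⟨d, hd⟩ z = z := hz ⟨φ ⟨d, hd⟩, ⟨⟨d, hd⟩, rfl⟩⟩
      have h3 : d * (z : G) * d⁻¹ = z := by
        have := congrArg Subtype.val h2
        simpa [φ, MulAut.conjNormal_apply] using this
      exact mul_inv_eq_iff_eq_mul.1 h3⟩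
  rcases hmin (U ⊓ Subgroup.centralizer (D : Set G)) inferInstance inf_le_left with h0 | h0
  · exact absurd (Subtype.ext (Subgroup.mem_bot.1 (h0 ▸ hzM)).symm) hz1
  · exact fun x hx => ((h0.symm.le hx).2 g hg).symm

/-- A minimal normal `p`-subgroup is elementary abelian. -/
theorem elemAb_of_minimal {G : Type u} [Group G] [Finite G] {U : Subgroup G} [U.Normal]
    (hU : IsPGroup p U) (hne : U ≠ ⊥)
    (hmin : ∀ N : Subgroup G, N.Normal → N ≤ U → N = ⊥ ∨ N = U) :
    Cfsg.IsElementaryAbelian p U := by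
  haveI : Nontrivial U := (Subgroup.nontrivial_iff_ne_bot U).2 hne
  have hab : IsMulCommutative U := by
    rcases hmin ⁅U, U⁆ inferInstance (Subgroup.commutator_le_left U U) with h | h
    · exact Subgroup.le_centralizer_iff_isMulCommutative.1
        (Subgroup.commutator_eq_bot_iff_le_centralizer.1 h)
    · exfalso
      haveI := hU.isNilpotent
      refine (Group.IsSolvable.commutator_lt_top_of_nontrivial (G := U)).ne ?_
      apply Subgroup.map_injective U.subtype_injective
      rw [← MonoidHom.range_eq_map, Subgroup.range_subtype, _root_.commutator_def,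
        Subgroup.map_commutator, ← MonoidHom.range_eq_map, Subgroup.range_subtype, h]
  have hc : ∀ x ∈ U, ∀ y ∈ U, Commute x y := fun x hx y hy =>
    congrArg Subtype.val (hab.1.comm ⟨x, hx⟩ ⟨y, hy⟩)
  let E : Subgroup G :=
    { carrier := {x | x ∈ U ∧ x ^ p = 1}
      one_mem' := ⟨U.one_mem, one_pow p⟩
      mul_mem' := fun {x y} hx hy => ⟨U.mul_mem hx.1 hy.1, by
        rw [(hc x hx.1 y hy.1).mul_pow, hx.2, hy.2, one_mul]⟩
      inv_mem' := fun {x} hx => ⟨U.inv_mem hx.1, by rw [inv_pow, hx.2, inv_one]⟩ }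
  haveI : E.Normal := ⟨fun x hx g => ⟨Subgroup.Normal.conj_mem inferInstance x hx.1 g, by
    rw [conj_pow, hx.2, mul_one, mul_inv_cancel]⟩⟩
  rcases hmin E inferInstance (fun x hx => hx.1) with h | h
  · exfalso
    obtain ⟨n, hn0, hcard⟩ := hU.nontrivial_iff_card.1 inferInstance
    obtain ⟨x, hx⟩ := exists_prime_orderOf_dvd_card' (G := U) p (hcard ▸ dvd_pow_self p hn0.ne')
    have hxE : (x : G) ∈ E := ⟨x.2, by
      rw [← hx, ← Subgroup.orderOf_coe]; exact pow_orderOf_eq_one _⟩
    rw [h, Subgroup.mem_bot, OneMemClass.coe_eq_one] at hxE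
    rw [hxE, orderOf_one] at hx
    exact hp.out.one_lt.ne hx
  · exact ⟨hab, fun x hx => ((h.symm.le hx : x ∈ E)).2⟩

/-- Without a section `Qd(p)` quadratic elements are in `O_p` of the induced group, on every normal
`p`-subgroup. -/
theorem isPStableOn_of_no_qd {G : Type u} [Group G] [Finite G] (h2 : p ≠ 2)
    (hno : ∀ (K : Subgroup G) (f : K →* ↥(Cfsg.qd p)), ¬ Function.Surjective f) (P : Subgroup G)
    [P.Normal] (hP : IsPGroup p P) : Cfsg.IsPStableOn p P := by
  induction hn : Nat.card P using Nat.strong_induction_on generalizing G with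
  | _ n ih =>
    subst hn
    intro a hq
    by_cases hP1 : P = ⊥
    · have : (QuotientGroup.mk a : G ⧸ Subgroup.centralizer (P : Set G)) = 1 :=
        (QuotientGroup.eq_one_iff a).2 (fun x hx => by
          rw [hP1] at hx
          obtain rfl := Subgroup.mem_bot.1 hx
          simp)
      rw [this]; exact one_mem _
    obtain ⟨U, -, hU⟩ := Finite.exists_le_minimal
      (p := fun N : Subgroup G => N.Normal ∧ N ≤ P ∧ N ≠ ⊥) (a := P) ⟨inferInstance, le_rfl, hP1⟩
    obtain ⟨hUn, hUP, hU1⟩ := hU.prop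
    have hUmin : ∀ N : Subgroup G, N.Normal → N ≤ U → N = ⊥ ∨ N = U := fun N hN hNU => by
      by_cases hN1 : N = ⊥
      · exact Or.inl hN1
      · exact Or.inr (le_antisymm hNU (hU.le_of_le ⟨hN, hNU.trans hUP, hN1⟩ hNU))
    have hUp := hP.to_le hUP
    have hUe := elemAb_of_minimal hUp hU1 hUmin
    have haU : a ∈ Subgroup.centralizer (U : Set G) := by
      refine mem_centralizer_of_mem_pCore hUp hU1 hUmin ?_
      by_contra hna
      obtain ⟨K, f, hf⟩ := qd_sec_of_not_pStableOn h2 U hUe fun hst => hna (hst a (le_bot_iff.1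
        ((Subgroup.commutator_mono (Subgroup.commutator_mono hUP le_rfl) le_rfl).trans hq.le)))
      exact hno K f hf
    set π := QuotientGroup.mk' U with hπ
    set P' := P.map π with hP'
    haveI : P'.Normal := Subgroup.Normal.map inferInstance π (QuotientGroup.mk'_surjective U)
    have hlt : Nat.card P' < Nat.card P := by
      have h := U.card_eq_card_quotient_mul_card_subgroup
      have e : Nat.card P' * Nat.card U = Nat.card P := by
        have hi := Subgroup.relIndex_mul_relIndex ⊥ U P bot_le hUP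
        rw [Subgroup.relIndex_bot_left, Subgroup.relIndex_bot_left] at hi
        rw [← hi, mul_comm]
        congr 1
        rw [hP', ← Subgroup.relIndex_bot_left (P.map π),
          show (⊥ : Subgroup (G ⧸ U)) = U.map π from
            ((Subgroup.map_eq_bot_iff U).2 (by rw [hπ, QuotientGroup.ker_mk'])).symm,
          Subgroup.relIndex_map_map, hπ, QuotientGroup.ker_mk', sup_idem, sup_eq_left.2 hUP]
      have h2U : 2 ≤ Nat.card U := by
        haveI : Nontrivial U := (Subgroup.nontrivial_iff_ne_bot U).2 hU1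
        exact Finite.one_lt_card
      have : 0 < Nat.card P' := Nat.card_pos
      nlinarith
    have hst' := ih _ hlt (G := G ⧸ U) (fun K f hf => by
      obtain ⟨K', f', -, hf'⟩ := sec_of_quotient U f hf
      exact hno K' f' hf') P' (hP.map π) rfl (π a) (by
      rw [hP', ← MonoidHom.map_zpowers, ← Subgroup.map_commutator, ← Subgroup.map_commutator, hq,
        Subgroup.map_bot])
    set C' := Subgroup.centralizer (P' : Set (G ⧸ U)) with hC'
    set C := Subgroup.centralizer (P : Set G) with hC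
    haveI := Cfsg.pCore_normal p ((G ⧸ U) ⧸ C')
    set D := Subgroup.centralizer (U : Set G) ⊓
      ((Cfsg.pCore p ((G ⧸ U) ⧸ C')).comap (QuotientGroup.mk' C')).comap π with hD
    haveI : D.Normal := inferInstance
    refine CfsgLib.Solvable.le_pCore (N := D.map (QuotientGroup.mk' C))
      (Subgroup.Normal.map inferInstance _ (QuotientGroup.mk'_surjective C)) ?_ ⟨a, ⟨haU, hst'⟩, rfl⟩
    rintro ⟨_, d, hd, rfl⟩
    obtain ⟨k, hk⟩ := CfsgLib.Solvable.pCore_isPGroup (G := (G ⧸ U) ⧸ C') p ⟨_, hd.2⟩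
    obtain ⟨m, hm⟩ := hUp.exists_card_eq
    refine ⟨k + m, Subtype.ext ?_⟩
    show (QuotientGroup.mk' C d) ^ p ^ (k + m) = 1
    rw [← map_pow, QuotientGroup.mk'_apply, QuotientGroup.eq_one_iff, pow_add, pow_mul, ← hm]
    set y := d ^ p ^ k with hy
    have hyU : y ∈ Subgroup.centralizer (U : Set G) := pow_mem hd.1 _
    have hyC : π y ∈ C' := (QuotientGroup.eq_one_iff _).1 (by
      have h1 : (QuotientGroup.mk' C' (π d)) ^ p ^ k = 1 := congrArg Subtype.val hk
      rw [hy, map_pow, ← QuotientGroup.mk'_apply, map_pow]; exact h1)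
    intro x hx
    have hc : x⁻¹ * (y * x * y⁻¹) ∈ U := by
      have h1 := Subgroup.mem_centralizer_iff.1 hyC (π x) ⟨x, hx, rfl⟩
      rw [← map_mul, ← map_mul] at h1
      have h2 := Subgroup.Normal.conj_mem (inferInstance : U.Normal) _ (QuotientGroup.eq.1 h1) y
      rw [show x⁻¹ * (y * x * y⁻¹) = y * ((x * y)⁻¹ * (y * x)) * y⁻¹ by group]
      exact h2
    set c := x⁻¹ * (y * x * y⁻¹) with hcdef
    have hyc : Commute y c := (Subgroup.mem_centralizer_iff.1 hyU c hc).symm
    have hiter : ∀ j : ℕ, y ^ j * x * (y ^ j)⁻¹ = x * c ^ j := by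
      intro j
      induction j with
      | zero => simp
      | succ j ihj =>
        calc y ^ (j + 1) * x * (y ^ (j + 1))⁻¹ = y * (y ^ j * x * (y ^ j)⁻¹) * y⁻¹ := by
              rw [pow_succ']; group
          _ = y * x * y⁻¹ * (y * c ^ j * y⁻¹) := by rw [ihj]; group
          _ = x * c * c ^ j := by
              rw [(hyc.pow_right j).eq, mul_inv_cancel_right, hcdef]; group
          _ = x * c ^ (j + 1) := by rw [pow_succ', mul_assoc]
    have hcn : c ^ Nat.card U = 1 := congrArg Subtype.val (pow_card_eq_one' (x := (⟨c, hc⟩ : U)))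
    have := hiter (Nat.card U)
    rw [hcn, mul_one, mul_inv_eq_iff_eq_mul] at this
    exact this.symm

/-- Without a section `Qd(p)` the group is `p`-stable in the normalizer sense. -/
theorem isNormalizerPStable_of_no_qd {G : Type u} [Group G] [Finite G] (h2 : p ≠ 2)
    (hno : ∀ (K : Subgroup G) (f : K →* ↥(Cfsg.qd p)), ¬ Function.Surjective f) :
    Cfsg.IsNormalizerPStable p G := by
  intro P hP g hg hq
  set N := Subgroup.normalizer (P : Set G) with hN
  haveI : (P.subgroupOf N).Normal := Subgroup.normal_in_normalizer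
  have hle : P ≤ N := Subgroup.le_normalizer
  have hmap : (P.subgroupOf N).map N.subtype = P := Subgroup.map_subgroupOf_eq_of_le hle
  have h := isPStableOn_of_no_qd h2 (fun K f hf => by
      obtain ⟨K', f', -, hf'⟩ := sec_of_subgroup N f hf
      exact hno K' f' hf') (P.subgroupOf N) (hP.comap_subtype) ⟨g, hg⟩ (by
      apply Subgroup.map_injective N.subtype_injective
      rw [Subgroup.map_bot, Subgroup.map_commutator, Subgroup.map_commutator, hmap,
        MonoidHom.map_zpowers]
      exact hq)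
  have hceq : Subgroup.centralizer ((P.subgroupOf N : Subgroup N) : Set N) =
      (Subgroup.centralizer (P : Set G)).subgroupOf N := by
    ext x
    simp only [Subgroup.mem_centralizer_iff, Subgroup.mem_subgroupOf, SetLike.mem_coe]
    exact ⟨fun hx y hy => congrArg Subtype.val (hx ⟨y, hle hy⟩ hy),
      fun hx y hy => Subtype.ext (hx y hy)⟩
  haveI : ((Subgroup.centralizer (P : Set G)).subgroupOf N).Normal := hceq ▸ inferInstance
  have h' := Subgroup.mem_map_of_mem
    (QuotientGroup.congr (Subgroup.centralizer ((P.subgroupOf N : Subgroup N) : Set N))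
      ((Subgroup.centralizer (P : Set G)).subgroupOf N) (MulEquiv.refl N) (by
        rw [← hceq]; exact Subgroup.map_id _)).toMonoidHom h
  rw [CfsgLib.Solvable.map_pCore_equiv] at h'
  exact h'

end CfsgLib.PLocal
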