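import Mathlib
import Cfsg.Agent.Lib.PLocal.QdSection
import Cfsg.Agent.Lib.Solvable.PCore

/-!
# `Qd(p)` is not `p`-stable
-/

set_option autoImplicit false

namespace CfsgLib.PLocal

open Subgroup
open scoped MatrixGroups commutatorElement

variable {p : ℕ} [hp : Fact p.Prime]

theorem affMat_injective {s t : Fin 2 → ZMod p} {M N : SL(2, ZMod p)}
    (h : affMat s M = affMat t N) : s = t ∧ M = N := by
  have e : ∀ i j, (affMat s M : Matrix (Fin 3) (Fin 3) (ZMod p)) i j =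
      (affMat t N : Matrix (Fin 3) (Fin 3) (ZMod p)) i j := fun i j => by rw [h]
  refine ⟨?_, sl2_ext ?_ ?_ ?_ ?_⟩
  · funext i
    fin_cases i
    · simpa [affMat_coe] using e 0 2
    · simpa [affMat_coe] using e 1 2
  · simpa [affMat_coe] using e 0 0
  · simpa [affMat_coe] using e 0 1
  · simpa [affMat_coe] using e 1 0
  · simpa [affMat_coe] using e 1 1

theorem affMat_zero_one : affMat (0 : Fin 2 → ZMod p) 1 = 1 := by
  refine Subtype.ext ?_
  rw [affMat_coe]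
  ext i j
  fin_cases i <;> fin_cases j <;> simp

theorem sl3_det_row (M : SL(3, ZMod p))
    (hM : (M : Matrix (Fin 3) (Fin 3) (ZMod p)) 2 0 = 0 ∧
      (M : Matrix (Fin 3) (Fin 3) (ZMod p)) 2 1 = 0 ∧ (M : Matrix (Fin 3) (Fin 3) (ZMod p)) 2 2 = 1) :
    (M : Matrix (Fin 3) (Fin 3) (ZMod p)) 0 0 * (M : Matrix (Fin 3) (Fin 3) (ZMod p)) 1 1 -
      (M : Matrix (Fin 3) (Fin 3) (ZMod p)) 0 1 * (M : Matrix (Fin 3) (Fin 3) (ZMod p)) 1 0 = 1 := by
  have hd := M.2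
  rw [Matrix.det_fin_three, hM.1, hM.2.1, hM.2.2] at hd
  linear_combination hd

theorem eq_affMat_of_row (M : SL(3, ZMod p))
    (hM : (M : Matrix (Fin 3) (Fin 3) (ZMod p)) 2 0 = 0 ∧
      (M : Matrix (Fin 3) (Fin 3) (ZMod p)) 2 1 = 0 ∧ (M : Matrix (Fin 3) (Fin 3) (ZMod p)) 2 2 = 1) :
    ∃ t N, M = affMat t N := by
  have hd := sl3_det_row M hM
  refine ⟨![(M : Matrix (Fin 3) (Fin 3) (ZMod p)) 0 2, (M : Matrix (Fin 3) (Fin 3) (ZMod p)) 1 2],
    ⟨!![(M : Matrix (Fin 3) (Fin 3) (ZMod p)) 0 0, (M : Matrix (Fin 3) (Fin 3) (ZMod p)) 0 1;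
      (M : Matrix (Fin 3) (Fin 3) (ZMod p)) 1 0, (M : Matrix (Fin 3) (Fin 3) (ZMod p)) 1 1],
      by rw [Matrix.det_fin_two_of]; linear_combination hd⟩, Matrix.SpecialLinearGroup.ext _ _ ?_⟩
  intro i j
  fin_cases i <;> fin_cases j <;> simp [affMat, hM.1, hM.2.1, hM.2.2]

theorem exists_affMat_of_mem_qd {g : SL(3, ZMod p)} (hg : g ∈ Cfsg.qd p) :
    ∃ t M, g = affMat t M := by
  induction hg using Subgroup.closure_induction with
  | mem M hM => exact eq_affMat_of_row M hM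
  | one => exact ⟨0, 1, affMat_zero_one.symm⟩
  | mul x y _ _ hx hy =>
    obtain ⟨s, M, rfl⟩ := hx
    obtain ⟨t, N, rfl⟩ := hy
    exact ⟨_, _, affMat_mul s t M N⟩
  | inv x _ hx =>
    obtain ⟨s, M, rfl⟩ := hx
    refine ⟨-(↑(M⁻¹) : Matrix (Fin 2) (Fin 2) (ZMod p)).mulVec s, M⁻¹,
      inv_eq_of_mul_eq_one_right ?_⟩
    rw [affMat_mul, Matrix.mulVec_neg, Matrix.mulVec_mulVec, ← Matrix.SpecialLinearGroup.coe_mul,
      mul_inv_cancel, Matrix.SpecialLinearGroup.coe_one, Matrix.one_mulVec, add_neg_cancel,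
      affMat_zero_one]

omit hp in
theorem commutator_zpowers_mem_aux {Q : Type*} [Group Q] {P E : Subgroup Q} {a : Q}
    (h1 : ∀ g ∈ P, ⁅g, a⁆ ∈ E) (hE : a ∈ Subgroup.normalizer (E : Set Q)) {g : Q} (hg : g ∈ P)
    (i : ℤ) : ⁅g, a ^ i⁆ ∈ E := by
  let M : Subgroup Q :=
    { carrier := {k | k ∈ Subgroup.normalizer (E : Set Q) ∧ ∀ g ∈ P, ⁅g, k⁆ ∈ E}
      one_mem' := ⟨one_mem _, fun g _ => by rw [commutatorElement_one_right]; exact one_mem _⟩
      mul_mem' := fun {x y} hx hy => ⟨mul_mem hx.1 hy.1, fun g hg => by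
        rw [show ⁅g, x * y⁆ = ⁅g, x⁆ * (x * ⁅g, y⁆ * x⁻¹) by simp only [commutatorElement_def]; group]
        exact mul_mem (hx.2 g hg) ((Subgroup.mem_normalizer_iff.1 hx.1 _).1 (hy.2 g hg))⟩
      inv_mem' := fun {x} hx => ⟨inv_mem hx.1, fun g hg => by
        rw [show ⁅g, x⁻¹⁆ = x⁻¹ * ⁅g, x⁆⁻¹ * x⁻¹⁻¹ by simp only [commutatorElement_def]; group]
        exact (Subgroup.mem_normalizer_iff.1 (inv_mem hx.1) _).1 (inv_mem (hx.2 g hg))⟩ }
  exact ((Subgroup.zpow_mem M (show a ∈ M from ⟨hE, h1⟩) i).2 g hg)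

/-- A group with the structure of an affine group `p² ⋊ SL₂(p)` is not `p`-stable. -/
theorem not_normalizerPStable_of_affine {Q : Type*} [Group Q] [Finite Q] (π : Q →* SL(2, ZMod p))
    (τ : (Fin 2 → ZMod p) → Q) (hτ : Function.Injective τ) (hadd : ∀ x y, τ (x + y) = τ x * τ y)
    (hker : ∀ g, π g = 1 ↔ ∃ x, τ x = g)
    (hconj : ∀ g x, g * τ x * g⁻¹ = τ ((π g : Matrix (Fin 2) (Fin 2) (ZMod p)).mulVec x))
    {a b : Q} (ha : π a = upU 1) (hb : π b = loL 1) (hab : ∃ g, π (g * a⁻¹ * g⁻¹) = π b) :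
    ¬ Cfsg.IsNormalizerPStable p Q := by
  intro hst
  set P := π.ker with hPdef
  have hτ0 : τ 0 = 1 := by
    have h := hadd 0 0
    rw [add_zero, left_eq_mul] at h
    exact h
  have hmemP : ∀ g, g ∈ P ↔ ∃ x, τ x = g := fun g => hker g
  have hPp : IsPGroup p P := by
    rintro ⟨g, hg⟩
    obtain ⟨x, rfl⟩ := (hmemP g).1 hg
    refine ⟨1, Subtype.ext ?_⟩
    show τ x ^ p ^ 1 = 1
    have : ∀ n : ℕ, τ x ^ n = τ (n • x) := by
      intro n
      induction n with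
      | zero => rw [pow_zero, zero_smul, hτ0]
      | succ n ih => rw [pow_succ, ih, succ_nsmul, hadd]
    rw [pow_one, this, show (p : ℕ) • x = 0 by ext i; simp, hτ0]
  have hNtop : Subgroup.normalizer (P : Set Q) = ⊤ := Subgroup.normalizer_eq_top_iff.2 π.normal_ker
  have hquad : ⁅⁅P, Subgroup.zpowers a⁆, Subgroup.zpowers a⁆ = ⊥ := by
    rw [Subgroup.commutator_eq_bot_iff_le_centralizer]
    have hEn : a ∈ Subgroup.normalizer
        ((Subgroup.centralizer (Subgroup.zpowers a : Set Q) ⊓ P : Subgroup Q) : Set Q) := by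
      rw [Subgroup.mem_normalizer_iff_map_conj_eq, Subgroup.map_inf _ _ _ (MulAut.conj a).injective,
        Subgroup.mem_normalizer_iff_map_conj_eq.1 (hNtop ▸ Subgroup.mem_top a : a ∈ Subgroup.normalizer (P : Set Q))]
      congr 1
      refine Subgroup.mem_normalizer_iff_map_conj_eq.1 ?_
      exact Subgroup.le_normalizer (Subgroup.mem_centralizer_iff.2 fun k hk => by
        obtain ⟨i, rfl⟩ := Subgroup.mem_zpowers_iff.1 hk
        exact ((Commute.refl a).zpow_left i).eq)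
    refine le_trans ?_ (inf_le_left : Subgroup.centralizer (Subgroup.zpowers a : Set Q) ⊓ P ≤ _)
    rw [Subgroup.commutator_le]
    intro g hg k hk
    obtain ⟨i, rfl⟩ := Subgroup.mem_zpowers_iff.1 hk
    refine commutator_zpowers_mem_aux ?_ hEn hg i
    intro g hg
    obtain ⟨x, rfl⟩ := (hmemP g).1 hg
    have hneg : ∀ y, (τ y)⁻¹ = τ (-y) := fun y =>
      inv_eq_of_mul_eq_one_right (by rw [← hadd, add_neg_cancel, hτ0])
    have he : ⁅τ x, a⁆ = τ (x + (π a : Matrix (Fin 2) (Fin 2) (ZMod p)).mulVec (-x)) := by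
      rw [commutatorElement_def, hadd, ← hconj a (-x), hneg]; group
    refine ⟨?_, (hmemP _).2 ⟨_, he.symm⟩⟩
    rw [Subgroup.zpowers_eq_closure, Subgroup.centralizer_closure]
    refine Subgroup.mem_centralizer_iff.2 ?_
    rintro _ rfl
    rw [← mul_inv_eq_iff_eq_mul, he, hconj]
    congr 1
    rw [ha]
    funext i
    fin_cases i <;> simp [upU_coe, Matrix.mulVec, dotProduct]
  set N := Subgroup.normalizer (P : Set Q) with hN
  have haN : a ∈ N := hNtop ▸ Subgroup.mem_top a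
  have hmem := hst P hPp a haN hquad
  set C := (Subgroup.centralizer (P : Set Q)).subgroupOf N with hC
  haveI : C.Normal := inferInstance
  haveI := Cfsg.pCore_normal p (N ⧸ C)
  set D := (Cfsg.pCore p (N ⧸ C)).comap (QuotientGroup.mk' C) with hD
  haveI : D.Normal := Subgroup.Normal.comap inferInstance _
  set R := D.map (π.comp N.subtype) with hR
  have hRp : IsPGroup p R := by
    rintro ⟨_, d, hd, rfl⟩
    obtain ⟨k, hk⟩ := CfsgLib.Solvable.pCore_isPGroup (G := N ⧸ C) p ⟨_, hd⟩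
    refine ⟨k, Subtype.ext ?_⟩
    show π (d : Q) ^ p ^ k = 1
    have h1 : d ^ p ^ k ∈ C := (QuotientGroup.eq_one_iff _).1 (by
      have h := congrArg Subtype.val hk
      simpa using h)
    rw [← map_pow]
    refine Subtype.ext (Matrix.ext_of_mulVec_single fun i => ?_)
    rw [Matrix.SpecialLinearGroup.coe_one, Matrix.one_mulVec]
    refine hτ ?_
    rw [← hconj]
    have h3 := Subgroup.mem_centralizer_iff.1 (show ((d ^ p ^ k : N) : Q) ∈ Subgroup.centralizer (P : Set Q) from h1)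
      (τ (Pi.single i 1)) ((hmemP _).2 ⟨_, rfl⟩)
    rw [SubmonoidClass.coe_pow] at h3
    rw [← h3, mul_inv_cancel_right]
  refine not_isPGroup_of_opposite R one_ne_zero ⟨⟨a, haN⟩, Subgroup.mem_comap.2 hmem, ha⟩ ?_ hRp
  obtain ⟨g, hg⟩ := hab
  exact ⟨(⟨g, hNtop ▸ Subgroup.mem_top g⟩ : N) * (⟨a, haN⟩ : N)⁻¹ * (⟨g, hNtop ▸ Subgroup.mem_top g⟩ : N)⁻¹,
    Subgroup.Normal.conj_mem inferInstance _ (inv_mem (Subgroup.mem_comap.2 hmem)) _, hg.trans hb⟩

/-- `Qd(p)` is not `p`-stable. -/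
theorem qd_not_normalizerPStable : ¬ Cfsg.IsNormalizerPStable p ↥(Cfsg.qd p) := by
  classical
  choose tr blk hblk using fun g : ↥(Cfsg.qd p) => exists_affMat_of_mem_qd g.2
  have huniq : ∀ (g : ↥(Cfsg.qd p)) t M, (g : SL(3, ZMod p)) = affMat t M → tr g = t ∧ blk g = M := fun g t M h =>
    affMat_injective ((hblk g).symm.trans h)
  let π : ↥(Cfsg.qd p) →* SL(2, ZMod p) := MonoidHom.mk' blk fun g h =>
    (huniq (g * h) _ _ (by rw [Subgroup.coe_mul, hblk g, hblk h, affMat_mul])).2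
  let τ : (Fin 2 → ZMod p) → ↥(Cfsg.qd p) := fun x => ⟨affMat x 1, affMat_mem_qd x 1⟩
  have hπ : ∀ t M, π ⟨affMat t M, affMat_mem_qd t M⟩ = M := fun t M => (huniq _ t M rfl).2
  let w₀ : SL(2, ZMod p) := ⟨!![0, 1; -1, 0], by simp [Matrix.det_fin_two_of]⟩
  refine not_normalizerPStable_of_affine π τ
    (fun x y h => (affMat_injective (congrArg Subtype.val h)).1)
    (fun x y => Subtype.ext (by
      show affMat (x + y) 1 = affMat x 1 * affMat y 1
      rw [affMat_mul, Matrix.SpecialLinearGroup.coe_one, Matrix.one_mulVec, one_mul]))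
    (fun g => ⟨fun h => ⟨tr g, Subtype.ext ?_⟩, ?_⟩) (fun g x => Subtype.ext ?_)
    (a := ⟨affMat 0 (upU 1), affMat_mem_qd _ _⟩) (b := ⟨affMat 0 (loL 1), affMat_mem_qd _ _⟩)
    (hπ _ _) (hπ _ _) ⟨⟨affMat 0 w₀, affMat_mem_qd _ _⟩, ?_⟩
  · show affMat (tr g) 1 = g
    rw [hblk g, show blk g = 1 from h]
  · rintro ⟨x, rfl⟩
    exact hπ x 1
  · rw [Subgroup.coe_mul, Subgroup.coe_mul, Subgroup.coe_inv, mul_inv_eq_iff_eq_mul]
    show (g : SL(3, ZMod p)) * affMat x 1 = affMat _ 1 * (g : SL(3, ZMod p))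
    rw [hblk g, affMat_mul, affMat_mul, Matrix.SpecialLinearGroup.coe_one, Matrix.one_mulVec, mul_one,
      one_mul, add_comm]
    rfl
  · rw [map_mul, map_mul, map_inv, map_inv, hπ, hπ, hπ, upU_inv, mul_inv_eq_iff_eq_mul]
    refine Matrix.SpecialLinearGroup.ext _ _ fun i j => ?_
    rw [Matrix.SpecialLinearGroup.coe_mul, Matrix.SpecialLinearGroup.coe_mul, upU_coe, loL_coe]
    fin_cases i <;> fin_cases j <;> simp [w₀, Matrix.mul_apply, Fin.sum_univ_two]

end CfsgLib.PLocal
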