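import Cfsg.Agent.Lib.PLocal.ConjFamily

/-!
# Fully normalized conjugates
-/

namespace CfsgLib.PLocal

open Subgroup

variable {G : Type*} [Group G] [Finite G] {p : ℕ} [Fact p.Prime]

/-- The fully normalized subgroups of `S`. -/
def fullNormSet (p : ℕ) (S : Subgroup G) : Set (Subgroup G) :=
  {U | U ≤ S ∧ ¬ p ∣ (S ⊓ normalizer (U : Set G)).relIndex (normalizer (U : Set G))}

theorem exists_fullNormalized (S : Sylow p G) {T : Subgroup G} (hT : T ≤ (S : Subgroup G)) :
    ∃ U ∈ fullNormSet p (S : Subgroup G), (∃ g : G, conjMap g T = U) ∧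
      ¬ p ∣ ((S : Subgroup G) ⊓ normalizer (U : Set G)).relIndex (normalizer (U : Set G)) := by
  obtain ⟨R, hR, hle⟩ := exists_sylowIn_le
    (S.2.to_le (inf_le_left : (S : Subgroup G) ⊓ normalizer (T : Set G) ≤ _)) inf_le_right
  obtain ⟨x, -, hx⟩ := (sylowIn_top S).exists_conj_le hR.2.1 le_top
  have hU : conjMap x T ≤ (S : Subgroup G) :=
    (conjMap_mono ((le_inf hT le_normalizer).trans hle)).trans hx
  have hs := hR.conj x
  rw [conjMap_normalizer] at hs
  have := (hs.of_card_le (S.2.to_le inf_le_left) inf_le_right (card_le_of_le (le_inf hx hs.1))).2.2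
  exact ⟨_, ⟨hU, this⟩, ⟨x, rfl⟩, this⟩

end CfsgLib.PLocal
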