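import Cfsg.Agent.Lib.PLocal.TransferFailure

/-!
# Control of transfer in all sections from the exclusion of minimal failures
-/

namespace CfsgLib.PLocal

open Subgroup

universe u

variable {p : ℕ} [Fact p.Prime] {𝓦 : Set (∀ (Q : Type u) [Group Q], Subgroup Q)}

omit [Fact p.Prime] in
theorem IsSec.of_equiv {X Y G : Type u} [Group X] [Group Y] [Group G] (h : IsSec X G) (e : X ≃* Y) :
    IsSec Y G := by
  obtain ⟨K, f, hf⟩ := h
  exact ⟨K, e.toMonoidHom.comp f, e.surjective.comp hf⟩

theorem TransferFailure.equiv {X Y : Type u} [Group X] [Finite X] [Group Y] [Finite Y] (e : X ≃* Y)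
    (h : TransferFailure p 𝓦 X) : TransferFailure p 𝓦 Y := by
  refine ⟨h.functor, h.nonempty, fun H hH => ?_, fun N hN hne => ?_,
    fun hc => h.fail (ctrlT_equiv h.functor e.symm hc)⟩
  · set H' := H.map e.symm.toMonoidHom with hH'
    have hne' : H' ≠ ⊤ := fun h0 => hH (by
      have h1 := congrArg (Subgroup.map e.toMonoidHom) h0
      rw [hH', Subgroup.map_map, Subgroup.map_top_of_surjective e.toMonoidHom e.surjective] at h1
      convert h1
      ext; simp)
    exact ctrlT_equiv h.functor (H.equivMapOfInjective _ e.symm.injective).symm (h.subgroup H' hne')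
  · set N' := N.map e.symm.toMonoidHom with hN'
    haveI : N'.Normal := hN.map _ e.symm.surjective
    have hne' : N' ≠ ⊥ := fun h0 => hne
      ((map_eq_bot_iff_of_injective (f := e.symm.toMonoidHom) _ e.symm.injective).1 h0)
    refine ctrlT_equiv h.functor (QuotientGroup.congr N' N e ?_) (h.quotient N' hne')
    rw [hN', Subgroup.map_map]
    ext; simp

/-- If no section of `G` is a minimal failure, transfer is controlled in every section. -/
theorem ctrlT_of_sections (h𝓦 : ∀ W ∈ 𝓦, Cfsg.IsCharPFunctor.{u} p W) (hne : 𝓦.Nonempty)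
    {G : Type u} [Group G] [Finite G]
    (hno : ∀ (K R : Subgroup G) [(R.subgroupOf K).Normal], ¬ TransferFailure p 𝓦 (↥K ⧸ R.subgroupOf K)) :
    ∀ (X : Type u) [Group X] [Finite X], IsSec X G → CtrlT p 𝓦 X := by
  suffices H : ∀ (n : ℕ) (X : Type u) [Group X] [Finite X], Nat.card X = n → IsSec X G → CtrlT p 𝓦 X from
    fun X _ _ hX => H _ X rfl hX
  intro n
  induction n using Nat.strong_induction_on with
  | _ n ih =>
    intro X _ _ hn hX
    by_contra hc
    have hsub : ∀ {X : Type u} [Group X] (H : Subgroup X), IsSec X G → IsSec H G := by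
      intro X _ H hX
      obtain ⟨K, f, hf⟩ := hX
      refine ⟨(H.comap f).map K.subtype, ((f.subgroupComap H)).comp
        ((H.comap f).equivMapOfInjective _ K.subtype_injective).symm.toMonoidHom, ?_⟩
      exact (MonoidHom.subgroupComap_surjective_of_surjective _ _ hf).comp
        ((H.comap f).equivMapOfInjective _ K.subtype_injective).symm.surjective
    have hquo : ∀ {X : Type u} [Group X] (N : Subgroup X) [N.Normal], IsSec X G → IsSec (X ⧸ N) G := by
      intro X _ N _ hX
      obtain ⟨K, f, hf⟩ := hX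
      exact ⟨K, (QuotientGroup.mk' N).comp f, (QuotientGroup.mk'_surjective N).comp hf⟩
    have hfail : TransferFailure p 𝓦 X := by
      refine ⟨h𝓦, hne, fun H hH => ?_, fun N _ hN => ?_, hc⟩
      · exact ih _ (hn ▸ lt_of_le_of_ne (card_le_card_group H) fun hc => hH (eq_top_of_card_eq _ hc))
          H rfl (hsub H hX)
      · exact ih _ (by rw [← hn, card_eq_card_quotient_mul_card_subgroup N]
                       exact lt_mul_of_one_lt_right Nat.card_pos ((one_lt_card_iff_ne_bot _).2 hN))
          (X ⧸ N) rfl (hquo N hX)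
    obtain ⟨K, R, hR, ⟨e⟩⟩ := hX.exists_quotient
    exact @hno K R hR (hfail.equiv e.symm)

theorem isSec_quotient {G : Type u} [Group G] (K R : Subgroup G) [(R.subgroupOf K).Normal] :
    IsSec (↥K ⧸ R.subgroupOf K) G :=
  ⟨K, QuotientGroup.mk' _, QuotientGroup.mk'_surjective _⟩

omit [Fact p.Prime] in
theorem isSec_self (G : Type u) [Group G] : IsSec G G :=
  ⟨⊤, (⊤ : Subgroup G).subtype, fun x => ⟨⟨x, mem_top x⟩, rfl⟩⟩

theorem controlsTransferIn_iff {G : Type u} [Group G] (W : ∀ (Q : Type u) [Group Q], Subgroup Q) :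
    Cfsg.ControlsTransferIn p (Cfsg.inducedFunctor (G := G) W) ⊤ ↔ CtrlT p {W} G := by
  unfold CtrlT indSet
  rw [Set.image_singleton]
  unfold Cfsg.ControlsTransferIn Cfsg.FamilyControlsTransferIn
  simp only [Set.mem_singleton_iff, iSup_iSup_eq_left]

end CfsgLib.PLocal
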