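import Cfsg.Agent.Lib.PLocal.KInfinityFour
import Cfsg.Agent.Lib.PLocal.TransferReduce
import Cfsg.Agent.Lib.PLocal.StrongReduce

/-!
# Control of strong fusion by the K-infinity subgroups
-/

namespace CfsgLib.PLocal

open Subgroup
open scoped commutatorElement

universe u

variable {p : ℕ} [hp : Fact p.Prime]

theorem isNormalizerPStable_equiv {X Y : Type*} [Group X] [Finite X] [Group Y] [Finite Y] (e : X ≃* Y)
    (h : Cfsg.IsNormalizerPStable p X) : Cfsg.IsNormalizerPStable p Y := by
  intro P hP g hg hquad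
  set f := e.symm.toMonoidHom with hf
  have hfb : Function.Bijective f := e.symm.bijective
  set P' := P.map f with hP'
  have hNeq : (normalizer (P : Set Y)).map f = normalizer (P' : Set X) :=
    map_normalizer_eq_of_bijective P hfb
  have hg' : f g ∈ normalizer (P' : Set X) := hNeq ▸ mem_map_of_mem f hg
  have h1 := h P' (hP.map f) (f g) hg' (by
    rw [← MonoidHom.map_zpowers, ← Subgroup.map_commutator, ← Subgroup.map_commutator, hquad,
      Subgroup.map_bot])
  let ψ : normalizer (P' : Set X) ≃* normalizer (P : Set Y) :=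
    ((MulEquiv.subgroupCongr hNeq).symm.trans
      ((normalizer (P : Set Y)).equivMapOfInjective f hfb.1).symm)
  set C := (centralizer (P : Set Y)).subgroupOf (normalizer (P : Set Y)) with hC
  set C' := (centralizer (P' : Set X)).subgroupOf (normalizer (P' : Set X)) with hC'
  have hψ : ∀ x : normalizer (P' : Set X), ((ψ x : normalizer (P : Set Y)) : Y) = e (x : X) := by
    intro x
    obtain ⟨y, rfl⟩ := ψ.symm.surjective x
    rw [MulEquiv.apply_symm_apply]
    show (y : Y) = e (e.symm (y : Y))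
    rw [MulEquiv.apply_symm_apply]
  have hCC : C'.map ψ.toMonoidHom = C := by
    ext y
    constructor
    · rintro ⟨x, hx, rfl⟩
      refine mem_centralizer_iff.2 fun z hz => ?_
      show z * ((ψ x : normalizer (P : Set Y)) : Y) = ((ψ x : normalizer (P : Set Y)) : Y) * z
      rw [hψ]
      have := congrArg e (mem_centralizer_iff.1 hx _ (mem_map_of_mem f hz))
      simpa [hf] using this
    · intro hy
      refine ⟨ψ.symm y, mem_centralizer_iff.2 ?_, ψ.apply_symm_apply y⟩
      rintro _ ⟨z, hz, rfl⟩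
      show f z * f (y : Y) = f (y : Y) * f z
      rw [← map_mul, ← map_mul]
      exact congrArg f (mem_centralizer_iff.1 hy z hz)
  haveI : C.Normal := inferInstance
  haveI : C'.Normal := inferInstance
  have h2 := mem_map_of_mem (QuotientGroup.congr C' C ψ hCC).toMonoidHom h1
  rw [pCore_map_equiv'] at h2
  have he : ψ ⟨f g, hg'⟩ = ⟨g, hg⟩ := Subtype.ext ((hψ _).trans (e.apply_symm_apply g))
  rw [← he]
  exact h2

variable {G : Type u} [Group G] [Finite G]

theorem controlsStrongFusion_of_ctrl {W : ∀ (Q : Type u) [Group Q], Subgroup Q}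
    (hW : Cfsg.IsCharPFunctor.{u} p W) (hc : Ctrl p ({W} : Set _) G) (S : Sylow p G) :
    Cfsg.ControlsStrongFusion p (Cfsg.inducedFunctor (G := G) W (S : Subgroup G)) := by
  have h𝓦 : ∀ W' ∈ ({W} : Set _), Cfsg.IsCharPFunctor.{u} p W' := by
    rintro W' rfl; exact hW
  refine ⟨S, functor_le (induced_isConjugacyFunctor hW) S.2, fun A hA => ⟨hA, fun g hg => ?_⟩⟩
  have h1 := familyControls_at (indSet_functor h𝓦) hc (sylowIn_top S) A g (mem_top g) hA hg
  have h2 := h1.map_mono (Q := fun x => x ∈ normalizer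
    ((Cfsg.inducedFunctor (G := G) W (S : Subgroup G) : Subgroup G) : Set G)) ?_
  · obtain ⟨x, hx, he⟩ := h2.exists_single
    exact ⟨x, hx, fun a ha => (he a ha).symm⟩
  · rintro x ⟨_, ⟨W', rfl, rfl⟩, hx⟩
    exact hx.2

/-- In a constrained group all of whose quotients are `p`-stable the K-infinity subgroups are normal. -/
theorem kInf_normal_of_constrained (hc : Constrained p G)
    (hst : ∀ (N : Subgroup G) [N.Normal], Cfsg.IsNormalizerPStable p (G ⧸ N)) (S : Sylow p G) :
    (Cfsg.inducedFunctor Cfsg.kInfLower (S : Subgroup G)).Normal ∧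
      (Cfsg.inducedFunctor Cfsg.kInfUpper (S : Subgroup G)).Normal := by
  by_contra hno
  obtain ⟨g, -, -, -, -, h⟩ := exists_quartic_element S (not_and_or.1 hno)
  obtain ⟨N, hN, hbad⟩ := h hc
  exact hbad (hst N)

theorem ctrl_of_normal {W : ∀ (Q : Type u) [Group Q], Subgroup Q} (S : Sylow p G)
    (hn : (Cfsg.inducedFunctor (G := G) W (S : Subgroup G)).Normal) : Ctrl p ({W} : Set _) G := by
  refine familyControls_iff.2 ⟨(S : Subgroup G), sylowIn_top S, fun A h _ hA hAh => ?_⟩
  refine FusRel.single hA ⟨_, ⟨W, rfl, rfl⟩, mem_top h, ?_⟩ hAh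
  show h ∈ normalizer ((Cfsg.inducedFunctor (G := G) W (S : Subgroup G) : Subgroup G) : Set G)
  rw [normalizer_eq_top_iff.2 hn]
  exact mem_top h

theorem ctrl_kInf_of_pStable
    (hst : ∀ (K R : Subgroup G) [(R.subgroupOf K).Normal], Cfsg.IsNormalizerPStable p (↥K ⧸ R.subgroupOf K))
    (W : ∀ (Q : Type u) [Group Q], Subgroup Q) (hW : Cfsg.IsCharPFunctor.{u} p W)
    (hWK : ∀ (X : Type u) [Group X] [Finite X] (T : Sylow p X),
      (Cfsg.inducedFunctor Cfsg.kInfLower (T : Subgroup X)).Normal ∧
        (Cfsg.inducedFunctor Cfsg.kInfUpper (T : Subgroup X)).Normal →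
      (Cfsg.inducedFunctor (G := X) W (T : Subgroup X)).Normal) :
    Ctrl p ({W} : Set _) G := by
  refine ctrl_of_constrained (fun W' h => by rw [Set.mem_singleton_iff] at h; subst h; exact hW) G
    fun X _ _ hX hc => ?_
  obtain ⟨T⟩ : Nonempty (Sylow p X) := inferInstance
  refine ctrl_of_normal T (hWK X T (kInf_normal_of_constrained hc (fun N _ => ?_) T))
  obtain ⟨K, f, hf⟩ := hX
  have hsec : IsSec (X ⧸ N) G := ⟨K, (QuotientGroup.mk' N).comp f,
    (QuotientGroup.mk'_surjective N).comp hf⟩
  obtain ⟨K', R', hR', ⟨e⟩⟩ := IsSec.exists_quotient hsec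
  exact isNormalizerPStable_equiv e (hst K' R')

end CfsgLib.PLocal
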