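import Mathlib
import Cfsg.Agent.Lib.PLocal.QdInvolve
import Cfsg.Agent.Lib.PLocal.QdStable
import Cfsg.Agent.Lib.PLocal.KControl

/-!
# `Qd(p)`-free groups are the groups with `p`-stable sections
-/

set_option autoImplicit false

namespace CfsgLib.PLocal

open Subgroup
open scoped MatrixGroups

universe u v

variable {p : ℕ} [hp : Fact p.Prime]

omit hp in
/-- `Involves` in terms of surjections from subgroups. -/
theorem involves_of_sec {S : Type u} [Group S] {G : Type v} [Group G] {K : Subgroup G} (f : K →* S)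
    (hf : Function.Surjective f) : Cfsg.Involves S G := by
  obtain ⟨K', L, hL, -, h⟩ := sec_quotient_form (le_refl K) f hf
  exact ⟨K', L, hL, h⟩

omit hp in
theorem exists_sec_of_involves {S : Type u} [Group S] {G : Type v} [Group G]
    (h : Cfsg.Involves S G) : ∃ (K : Subgroup G) (f : K →* S), Function.Surjective f := by
  obtain ⟨K, R, hR, ⟨e⟩⟩ := h
  exact ⟨K, e.toMonoidHom.comp (QuotientGroup.mk' _),
    e.surjective.comp (QuotientGroup.mk'_surjective _)⟩

/-- For odd `p` a group is `Qd(p)`-free if and only if all its sections are `p`-stable. -/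
theorem not_involves_qd_iff {G : Type u} [Group G] [Finite G] (h2 : p ≠ 2) :
    ¬ Cfsg.Involves ↥(Cfsg.qd p) G ↔
      ∀ (K R : Subgroup G) [(R.subgroupOf K).Normal],
        Cfsg.IsNormalizerPStable p (↥K ⧸ R.subgroupOf K) := by
  constructor
  · intro hno K R _
    refine isNormalizerPStable_of_no_qd h2 fun X f hf => hno ?_
    obtain ⟨X', f', -, hf'⟩ := sec_of_quotient (R.subgroupOf K) f hf
    obtain ⟨X'', f'', -, hf''⟩ := sec_of_subgroup K f' hf'
    exact involves_of_sec f'' hf''
  · rintro hst ⟨K, R, hR, ⟨e⟩⟩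
    exact qd_not_normalizerPStable (isNormalizerPStable_equiv e (hst K R))

/-- A `Qd(p)`-free group is `p`-stable on each of its normal `p`-subgroups. -/
theorem isPStableOn_of_not_involves_qd {G : Type u} [Group G] [Finite G] (h2 : p ≠ 2)
    (hno : ¬ Cfsg.Involves ↥(Cfsg.qd p) G) (P : Subgroup G) [P.Normal] (hP : IsPGroup p P) :
    Cfsg.IsPStableOn p P :=
  isPStableOn_of_no_qd h2 (fun _ f hf => hno (involves_of_sec f hf)) P hP

/-- Without a section `SL₂(p)` there is no section `Qd(p)`. -/
theorem not_involves_qd_of_no_sl {G : Type u} [Group G]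
    (hno : ∀ (K : Subgroup G) (f : K →* SL(2, ZMod p)), ¬ Function.Surjective f) :
    ¬ Cfsg.Involves ↥(Cfsg.qd p) G := by
  intro h
  classical
  obtain ⟨K, f, hf⟩ := exists_sec_of_involves h
  choose tr blk hblk using fun g : ↥(Cfsg.qd p) => exists_affMat_of_mem_qd g.2
  have hu : ∀ (g : ↥(Cfsg.qd p)) t M, (g : SL(3, ZMod p)) = affMat t M → blk g = M := fun g t M e =>
    (affMat_injective ((hblk g).symm.trans e)).2
  let π : ↥(Cfsg.qd p) →* SL(2, ZMod p) := MonoidHom.mk' blk fun g h =>
    hu (g * h) _ _ (by rw [Subgroup.coe_mul, hblk g, hblk h, affMat_mul])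
  exact hno K (π.comp f)
    ((show Function.Surjective π from fun M =>
      ⟨⟨affMat 0 M, affMat_mem_qd 0 M⟩, hu _ 0 M rfl⟩).comp hf)

end CfsgLib.PLocal
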