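import Cfsg.Agent.Lib.PLocal.SylowIn

/-!
# Fusion relations generated by a set of elements
-/

namespace CfsgLib.PLocal

open Subgroup

variable {G : Type*} [Group G]

/-- Left conjugation of a set. -/
abbrev lconj (g : G) (A : Set G) : Set G := (fun a => g * a * g⁻¹) '' A

theorem lconj_lconj (g h : G) (A : Set G) : lconj g (lconj h A) = lconj (g * h) A := by
  rw [lconj, lconj, Set.image_image]
  exact Set.image_congr fun a _ => by group

theorem lconj_one (A : Set G) : lconj 1 A = A := by simp [lconj]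

theorem lconj_congr {g h : G} {A : Set G} (he : ∀ a ∈ A, g * a * g⁻¹ = h * a * h⁻¹) :
    lconj g A = lconj h A :=
  Set.image_congr he

/-- `a ↦ h a h⁻¹` on `A` is performed step by step, inside `S`, by elements of `P`. -/
inductive FusRel (P : G → Prop) (S : Set G) : Set G → G → Prop
  | refl {A : Set G} {h : G} : A ⊆ S → (∀ a ∈ A, h * a * h⁻¹ = a) → FusRel P S A h
  | step {A : Set G} {x h : G} : A ⊆ S → P x → FusRel P S (lconj x A) h → FusRel P S A (h * x)

variable {P : G → Prop} {S : Set G}

theorem FusRel.subset {A : Set G} {h : G} (hr : FusRel P S A h) : A ⊆ S := by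
  cases hr with
  | refl hA => exact hA
  | step hA _ _ => exact hA

theorem FusRel.congr {A : Set G} {h h' : G} (hr : FusRel P S A h)
    (he : ∀ a ∈ A, h' * a * h'⁻¹ = h * a * h⁻¹) : FusRel P S A h' := by
  induction hr generalizing h' with
  | refl hA hfix => exact FusRel.refl hA fun a ha => (he a ha).trans (hfix a ha)
  | @step A x h hA hx _ ih =>
    have := FusRel.step (h := h' * x⁻¹) hA hx (ih ?_)
    · simpa using this
    · rintro _ ⟨a, ha, rfl⟩
      have e1 : h' * x⁻¹ * (x * a * x⁻¹) * (h' * x⁻¹)⁻¹ = h' * a * h'⁻¹ := by group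
      rw [e1, he a ha]; group

theorem FusRel.image_subset {A : Set G} {h : G} (hr : FusRel P S A h) : lconj h A ⊆ S := by
  induction hr with
  | refl hA hfix => rintro _ ⟨a, ha, rfl⟩; show _ ∈ S; dsimp only; rw [hfix a ha]; exact hA ha
  | step _ _ _ ih => rwa [lconj_lconj] at ih

theorem FusRel.trans {A : Set G} {h h' : G} (hr : FusRel P S A h)
    (hr' : FusRel P S (lconj h A) h') : FusRel P S A (h' * h) := by
  induction hr with
  | @refl A h hA hfix =>
    have e : lconj h A = A := by
      rw [lconj_congr (g := h) (h := 1) (fun a ha => by rw [hfix a ha]; group), lconj_one]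
    rw [e] at hr'
    refine hr'.congr fun a ha => ?_
    calc h' * h * a * (h' * h)⁻¹ = h' * (h * a * h⁻¹) * h'⁻¹ := by group
      _ = _ := by rw [hfix a ha]
  | @step A x h hA hx hr ih =>
    rw [← mul_assoc]
    refine FusRel.step hA hx (ih ?_)
    rwa [lconj_lconj]

theorem FusRel.single {A : Set G} {x : G} (hA : A ⊆ S) (hx : P x) (hxA : lconj x A ⊆ S) :
    FusRel P S A x := by
  simpa using FusRel.step hA hx (FusRel.refl (h := (1 : G)) hxA (by simp))

theorem FusRel.mono {A B : Set G} {h : G} (hr : FusRel P S A h) (hB : B ⊆ A) :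
    FusRel P S B h := by
  induction hr generalizing B with
  | refl hA hfix => exact FusRel.refl (hB.trans hA) fun a ha => hfix a (hB ha)
  | step hA hx _ ih => exact FusRel.step (hB.trans hA) hx (ih (Set.image_mono hB))

theorem FusRel.symm (hP : ∀ x, P x → P x⁻¹) {A : Set G} {h : G} (hr : FusRel P S A h) :
    FusRel P S (lconj h A) h⁻¹ := by
  induction hr with
  | @refl A h hA hfix =>
    refine FusRel.refl ?_ ?_
    · rintro _ ⟨a, ha, rfl⟩; show _ ∈ S; dsimp only; rw [hfix a ha]; exact hA ha
    · rintro _ ⟨a, ha, rfl⟩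
      show h⁻¹ * (h * a * h⁻¹) * h⁻¹⁻¹ = h * a * h⁻¹
      rw [hfix a ha, inv_inv]
      calc h⁻¹ * a * h = h⁻¹ * (h * a * h⁻¹) * h := by rw [hfix a ha]
        _ = a := by group
  | @step A x h hA hx hr ih =>
    rw [lconj_lconj] at ih
    rw [mul_inv_rev]
    refine ih.trans (FusRel.single ?_ (hP x hx) ?_)
    · rw [lconj_lconj, inv_mul_cancel_left]; exact hr.subset
    · rw [lconj_lconj, lconj_lconj, show x⁻¹ * h⁻¹ * (h * x) = 1 by group, lconj_one]; exact hA

/-- From the sequence form. -/
theorem fusRel_of_data {A : Set G} {h : G} {n : ℕ} {c : Fin (n + 1) → G} (hc0 : c 0 = 1)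
    (hstep : ∀ i : Fin n, P (c i.succ * (c i.castSucc)⁻¹))
    (himg : ∀ i : Fin (n + 1), lconj (c i) A ⊆ S)
    (hlast : ∀ a ∈ A, c (Fin.last n) * a * (c (Fin.last n))⁻¹ = h * a * h⁻¹) :
    FusRel P S A h := by
  have key : ∀ i : Fin (n + 1), FusRel P S A (c i) := by
    intro i
    induction i using Fin.induction with
    | zero =>
      have h0 := himg 0
      rw [hc0, lconj_one] at h0
      exact FusRel.refl h0 (by simp [hc0])
    | succ i ih =>
      have := ih.trans (FusRel.single (x := c i.succ * (c i.castSucc)⁻¹) (himg i.castSucc) (hstep i)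
        (by rw [lconj_lconj, inv_mul_cancel_right]; exact himg i.succ))
      rwa [inv_mul_cancel_right] at this
  exact (key _).congr fun a ha => (hlast a ha).symm

/-- To the sequence form. -/
theorem FusRel.exists_data {A : Set G} {h : G} (hr : FusRel P S A h) :
    ∃ (n : ℕ) (c : Fin (n + 1) → G), c 0 = 1 ∧
      (∀ i : Fin n, P (c i.succ * (c i.castSucc)⁻¹)) ∧
      (∀ i : Fin (n + 1), lconj (c i) A ⊆ S) ∧
      ∀ a ∈ A, c (Fin.last n) * a * (c (Fin.last n))⁻¹ = h * a * h⁻¹ := by
  induction hr with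
  | @refl A h hA hfix =>
    exact ⟨0, fun _ => 1, rfl, fun i => i.elim0, fun i => by rw [lconj_one]; exact hA,
      fun a ha => by rw [hfix a ha]; group⟩
  | @step A x h hA hx _ ih =>
    obtain ⟨n, c, hc0, hstep, himg, hlast⟩ := ih
    refine ⟨n + 1, Fin.cons 1 (fun i => c i * x), by simp, ?_, ?_, ?_⟩
    · intro i
      refine Fin.cases ?_ (fun j => ?_) i
      · simpa [hc0] using hx
      · rw [← Fin.succ_castSucc, Fin.cons_succ, Fin.cons_succ]
        simpa [mul_assoc] using hstep j
    · intro i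
      refine Fin.cases ?_ (fun j => ?_) i
      · rw [Fin.cons_zero, lconj_one]; exact hA
      · rw [Fin.cons_succ, ← lconj_lconj]; exact himg j
    · intro a ha
      rw [← Fin.succ_last, Fin.cons_succ]
      have := hlast _ ⟨a, ha, rfl⟩
      simpa [mul_assoc] using this

theorem FusRel.map_mono {Q : G → Prop} (hPQ : ∀ x, P x → Q x) {A : Set G} {h : G}
    (hr : FusRel P S A h) : FusRel Q S A h := by
  induction hr with
  | refl hA hfix => exact FusRel.refl hA hfix
  | step hA hx _ ih => exact FusRel.step hA (hPQ _ hx) ih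

/-- A single element suffices when `P` is a subgroup. -/
theorem FusRel.exists_single {N : Subgroup G} {A : Set G} {h : G}
    (hr : FusRel (fun x => x ∈ N) S A h) :
    ∃ x ∈ N, ∀ a ∈ A, x * a * x⁻¹ = h * a * h⁻¹ := by
  induction hr with
  | @refl A h hA hfix => exact ⟨1, N.one_mem, fun a ha => by rw [hfix a ha]; group⟩
  | @step A x h hA hx _ ih =>
    obtain ⟨y, hy, he⟩ := ih
    refine ⟨y * x, N.mul_mem hy hx, fun a ha => ?_⟩
    have := he _ ⟨a, ha, rfl⟩
    simpa [mul_assoc] using this

theorem FusRel.conj {A : Set G} {h : G} (hr : FusRel P S A h) (k : G) {Q : G → Prop}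
    (hPQ : ∀ x, P x → Q (k * x * k⁻¹)) :
    FusRel Q (lconj k S) (lconj k A) (k * h * k⁻¹) := by
  induction hr with
  | @refl A h hA hfix =>
    refine FusRel.refl (Set.image_mono hA) ?_
    rintro _ ⟨a, ha, rfl⟩
    calc k * h * k⁻¹ * (k * a * k⁻¹) * (k * h * k⁻¹)⁻¹ = k * (h * a * h⁻¹) * k⁻¹ := by group
      _ = _ := by rw [hfix a ha]
  | @step A x h hA hx _ ih =>
    have e : k * (h * x) * k⁻¹ = (k * h * k⁻¹) * (k * x * k⁻¹) := by group
    rw [e]
    refine FusRel.step (Set.image_mono hA) (hPQ x hx) ?_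
    rw [lconj_lconj, show k * x * k⁻¹ * k = k * x by group, ← lconj_lconj]
    exact ih

end CfsgLib.PLocal
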