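import Cfsg.Agent.Lib.PLocal.ConjFamily
import Cfsg.Agent.Lib.PLocal.FusRel
import Cfsg.Agent.Lib.Transfer.Focal

/-!
# Local to global control of fusion and transfer by conjugacy functors
-/

namespace CfsgLib.PLocal

open Subgroup

variable {G : Type*} [Group G] {p : ℕ}

/-- The steps allowed by a family in `H` with Sylow subgroup `T`. -/
def FamStep (𝓦 : Set (Subgroup G → Subgroup G)) (H T : Subgroup G) (x : G) : Prop :=
  ∃ W ∈ 𝓦, x ∈ H ⊓ normalizer ((W T : Subgroup G) : Set G)

theorem FamStep.inv {𝓦 : Set (Subgroup G → Subgroup G)} {H T : Subgroup G} {x : G}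
    (h : FamStep 𝓦 H T x) : FamStep 𝓦 H T x⁻¹ := by
  obtain ⟨W, hW, hx⟩ := h
  exact ⟨W, hW, inv_mem hx⟩

theorem familyControls_iff {𝓦 : Set (Subgroup G → Subgroup G)} {H : Subgroup G} :
    Cfsg.FamilyControlsStrongFusionIn p 𝓦 H ↔ ∃ T, SylowIn p T H ∧
      ∀ (A : Set G) (h : G), h ∈ H → A ⊆ T → lconj h A ⊆ T → FusRel (FamStep 𝓦 H T) T A h := by
  constructor
  · rintro ⟨T, h1, h2, h3, h4⟩
    refine ⟨T, ⟨h1, h2, h3⟩, fun A h hh hA hAh => ?_⟩
    obtain ⟨n, c, hc, hs, hi, hl⟩ := h4 A h hh hA hAh
    exact fusRel_of_data hc hs hi hl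
  · rintro ⟨T, ⟨h1, h2, h3⟩, h4⟩
    exact ⟨T, h1, h2, h3, fun A h hh hA hAh => (h4 A h hh hA hAh).exists_data⟩

variable [Finite G] [Fact p.Prime]

theorem familyControls_at {𝓦 : Set (Subgroup G → Subgroup G)}
    (h𝓦 : ∀ W ∈ 𝓦, Cfsg.IsConjugacyFunctor p W) {H : Subgroup G}
    (hc : Cfsg.FamilyControlsStrongFusionIn p 𝓦 H) {T : Subgroup G} (hT : SylowIn p T H) :
    ∀ (A : Set G) (h : G), h ∈ H → A ⊆ T → lconj h A ⊆ T → FusRel (FamStep 𝓦 H T) T A h := by
  obtain ⟨T₀, hT₀, h4⟩ := familyControls_iff.1 hc
  obtain ⟨k, hk, rfl⟩ := hT.exists_conj_eq hT₀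
  intro A h hh hA hAh
  have hA' : lconj k⁻¹ A ⊆ T₀ := by
    rintro _ ⟨a, ha, rfl⟩
    simpa using mem_conjMap.1 (hA ha)
  have hAh' : lconj (k⁻¹ * h * k) (lconj k⁻¹ A) ⊆ T₀ := by
    rw [lconj_lconj, mul_inv_cancel_right, ← lconj_lconj]
    rintro _ ⟨a, ha, rfl⟩
    simpa using mem_conjMap.1 (hAh ha)
  have := (h4 _ _ (H.mul_mem (H.mul_mem (inv_mem hk) hh) hk) hA' hAh').conj k
    (Q := FamStep 𝓦 H (conjMap k T₀)) ?_
  · rw [lconj_lconj, mul_inv_cancel, lconj_one,
      show k * (k⁻¹ * h * k) * k⁻¹ = h by group] at this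
    convert this using 2
    ext x
    constructor
    · intro hx; exact ⟨_, mem_conjMap.1 hx, by group⟩
    · rintro ⟨y, hy, rfl⟩; exact conj_mem_conjMap hy
  · rintro x ⟨W, hW, hx⟩
    refine ⟨W, hW, H.mul_mem (H.mul_mem hk hx.1) (inv_mem hk), ?_⟩
    rw [functor_conj (h𝓦 W hW) hT₀.2.1, ← conjMap_normalizer]
    exact conj_mem_conjMap hx.2

theorem controls_iff_family (W : Subgroup G → Subgroup G) (H : Subgroup G) :
    Cfsg.ControlsStrongFusionIn p W H ↔ Cfsg.FamilyControlsStrongFusionIn p {W} H := by
  rw [familyControls_iff]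
  constructor
  · rintro ⟨T, h1, h2, h3, h4⟩
    refine ⟨T, ⟨h1, h2, h3⟩, fun A h hh hA hAh => ?_⟩
    obtain ⟨x, hx, he⟩ := h4 A h hh hA hAh
    refine (FusRel.single hA ⟨W, rfl, hx⟩ ?_).congr fun a ha => (he a ha).symm
    rw [lconj_congr he]; exact hAh
  · rintro ⟨T, ⟨h1, h2, h3⟩, h4⟩
    refine ⟨T, h1, h2, h3, fun A h hh hA hAh => ?_⟩
    have := (h4 A h hh hA hAh).map_mono
      (Q := fun x => x ∈ H ⊓ normalizer ((W T : Subgroup G) : Set G)) ?_
    · exact this.exists_single
    · rintro x ⟨W', rfl, hx⟩; exact hx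

omit [Fact p.Prime] in
theorem lconj_subset_conjMap {g : G} {A : Set G} {T : Subgroup G} (hA : A ⊆ T) :
    lconj g A ⊆ conjMap g T := by
  rintro _ ⟨a, ha, rfl⟩; exact conj_mem_conjMap (hA ha)

/-- Local control of strong fusion gives global control. -/
theorem familyControls_top (S : Sylow p G) (𝓦 : Set (Subgroup G → Subgroup G))
    (h𝓦 : ∀ W ∈ 𝓦, Cfsg.IsConjugacyFunctor p W) (good : Set (Subgroup G))
    (hgood : ∀ U ∈ good, U ≤ (S : Subgroup G) ∧
      ¬ p ∣ ((S : Subgroup G) ⊓ normalizer (U : Set G)).relIndex (normalizer (U : Set G)))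
    (hex : ∀ T : Subgroup G, T ≤ (S : Subgroup G) → ∃ U ∈ good, (∃ g : G, conjMap g T = U) ∧
      ¬ p ∣ ((S : Subgroup G) ⊓ normalizer (U : Set G)).relIndex (normalizer (U : Set G)))
    (hloc : ∀ U ∈ good, U ≠ ⊥ → Cfsg.FamilyControlsStrongFusionIn p 𝓦 (normalizer (U : Set G))) :
    Cfsg.FamilyControlsStrongFusionIn p 𝓦 ⊤ := by
  set S' : Subgroup G := (S : Subgroup G) with hS'
  set P := FamStep 𝓦 ⊤ S' with hP
  have hsym : ∀ x, P x → P x⁻¹ := fun x hx => hx.inv
  have main : ∀ n, ∀ U : Subgroup G, U ≠ ⊥ → U ≤ S' →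
      Nat.card S' - Nat.card (S' ⊓ normalizer (U : Set G) : Subgroup G) = n →
      ∀ (y : G) (A : Set G), y ∈ normalizer (U : Set G) → A ⊆ (S' ⊓ normalizer (U : Set G) : Subgroup G) →
        lconj y A ⊆ (S' ⊓ normalizer (U : Set G) : Subgroup G) → FusRel P S' A y := by
    intro n
    induction n using Nat.strong_induction_on with
    | _ n ih =>
      intro U hU hUS hn
      obtain ⟨V, hV, ⟨a, ha⟩, hidx⟩ := hex U hUS
      obtain ⟨b, rfl, hb⟩ := exists_conj_carry S.2 ha hidx
      have hVS := (hgood _ hV).1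
      have hVne : conjMap b U ≠ ⊥ := conjMap_ne_bot hU
      set R := S' ⊓ normalizer (conjMap b U : Set G) with hR
      have hcard : Nat.card (S' ⊓ normalizer (U : Set G) : Subgroup G) ≤ Nat.card R := by
        rw [← card_conjMap b]; exact card_le_of_le hb
      have hUne : Nat.card (S' ⊓ normalizer (U : Set G) : Subgroup G) ≠ 0 := Nat.card_pos.ne'
      have local_ : ∀ (y : G) (A : Set G), y ∈ normalizer (conjMap b U : Set G) → A ⊆ R →
          lconj y A ⊆ R → FusRel P S' A y := by
        intro y A hy hA hyA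
        have hr := familyControls_at h𝓦 (hloc _ hV hVne)
          ((sylowIn_inf_normalizer_iff S.2).2 hidx) A y hy hA hyA
        induction hr with
        | refl hA hfix => exact FusRel.refl (hA.trans (SetLike.coe_subset_coe.2 inf_le_left)) hfix
        | @step A x h hA' hx hr' ih' =>
          obtain ⟨W, hW, hxV, hxW⟩ := hx
          have hxA : lconj x A ⊆ (R : Set G) := hr'.subset
          have hhy : h ∈ normalizer (conjMap b U : Set G) := by
            simpa using mul_mem hy (inv_mem hxV)
          have h1 : FusRel P S' A x := by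
            rcases eq_or_lt_of_le (inf_le_left : R ≤ S') with hRS | hRS
            · refine FusRel.single (hA.trans (SetLike.coe_subset_coe.2 inf_le_left)) ?_
                (hxA.trans (SetLike.coe_subset_coe.2 inf_le_left))
              exact ⟨W, hW, mem_top x, hRS ▸ hxW⟩
            · have hRp : IsPGroup p R := S.2.to_le inf_le_left
              have hRne : R ≠ ⊥ := fun h0 => hVne (eq_bot_iff.2 (h0 ▸ le_inf hVS le_normalizer))
              have hle : R ≤ S' ⊓ normalizer ((W R : Subgroup G) : Set G) :=
                le_inf inf_le_left (le_normalizer_functor (h𝓦 W hW) hRp)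
              have hlt : Nat.card R < Nat.card (S' ⊓ normalizer ((W R : Subgroup G) : Set G) : Subgroup G) :=
                lt_of_lt_of_le (card_lt_card_inf_normalizer S.2 hRS) (card_le_of_le
                  (inf_le_inf_left _ (normalizer_le_normalizer_functor (h𝓦 W hW) hRp)))
              have hle2 : Nat.card (S' ⊓ normalizer ((W R : Subgroup G) : Set G) : Subgroup G) ≤
                  Nat.card S' := card_le_of_le inf_le_left
              exact ih _ (by omega) (W R) (functor_ne_bot (h𝓦 W hW) hRp hRne)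
                ((functor_le (h𝓦 W hW) hRp).trans inf_le_left) rfl x A hxW
                (hA.trans (SetLike.coe_subset_coe.2 hle)) (hxA.trans (SetLike.coe_subset_coe.2 hle))
          refine h1.trans (ih' hhy hxA ?_)
          rwa [lconj_lconj]
      have conjStep : FusRel P S' ((S' ⊓ normalizer (U : Set G) : Subgroup G) : Set G) b := by
        have hch : RChain good ((S' ⊓ normalizer (U : Set G) : Subgroup G) : Set G) b⁻¹ := by
          refine rchain_of_exists_good S (fun V hV => (hgood V hV).1) hex _ _
            (SetLike.coe_subset_coe.2 inf_le_left) ?_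
          rintro _ ⟨x, hx, rfl⟩
          show _ ∈ S'
          simpa using (hb (conj_mem_conjMap hx)).1
        have key : ∀ (A : Set G) (g : G), RChain good A g → ∀ D : Subgroup G,
            (D : Set G) = A → D ≤ S' → D ≠ ⊥ →
            Nat.card (S' ⊓ normalizer (U : Set G) : Subgroup G) ≤ Nat.card D →
            FusRel P S' A g⁻¹ := by
          intro A g hg
          induction hg with
          | nil A =>
            intro D hD hDS _ _
            exact FusRel.refl (hD ▸ SetLike.coe_subset_coe.2 hDS) (by simp)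
          | @step A T x g hT hx hA _ ih' =>
            intro D hD hDS hD1 hcD
            have hTS := (hgood T hT).1
            have hTN : T ≤ S' ⊓ normalizer (T : Set G) := le_inf hTS le_normalizer
            have hxA : lconj x⁻¹ A ⊆ T := by
              rintro _ ⟨a, ha, rfl⟩
              simpa using (mem_normalizer_iff''.1 hx a).1 (hA ha)
            have hDT : D ≤ T := fun z hz => hA (hD ▸ hz)
            have h1 : FusRel P S' A x⁻¹ := by
              rcases eq_or_lt_of_le hTS with hTe | hTlt
              · subst hTe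
                have hsT : SylowIn p S' (normalizer (S' : Set G)) := by
                  have := (sylowIn_inf_normalizer_iff S.2).2 (hgood _ hT).2
                  rwa [inf_eq_left.2 le_normalizer] at this
                exact (familyControls_at h𝓦 (hloc _ hT fun h0 => hD1 (eq_bot_iff.2 (h0 ▸ hDT)))
                  hsT A x⁻¹ (inv_mem hx) hA hxA).map_mono
                  (fun z ⟨W, hW, hz⟩ => ⟨W, hW, mem_top z, hz.2⟩)
              · have hlt : Nat.card T < Nat.card (S' ⊓ normalizer (T : Set G) : Subgroup G) :=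
                  card_lt_card_inf_normalizer S.2 hTlt
                have hle2 : Nat.card (S' ⊓ normalizer (T : Set G) : Subgroup G) ≤ Nat.card S' :=
                  card_le_of_le inf_le_left
                have hDTc := card_le_of_le hDT
                exact ih _ (by omega) T (fun h0 => hD1 (eq_bot_iff.2 (h0 ▸ hDT))) hTS rfl x⁻¹ A
                  (inv_mem hx) (hA.trans (SetLike.coe_subset_coe.2 hTN))
                  (hxA.trans (SetLike.coe_subset_coe.2 hTN))
            rw [mul_inv_rev]
            refine h1.trans ?_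
            have e : lconj x⁻¹ A = rconj x A := by simp [lconj, rconj]
            rw [e]
            refine ih' (conjMap x⁻¹ D) ?_ ?_ (conjMap_ne_bot hD1) (hcD.trans (card_conjMap _ _).ge)
            · rw [← e, ← hD]
              ext z
              constructor
              · intro hz; exact ⟨_, mem_conjMap.1 hz, by group⟩
              · rintro ⟨w, hw, rfl⟩; exact conj_mem_conjMap hw
            · intro z hz
              have hz' := mem_conjMap.1 hz
              rw [← SetLike.mem_coe, hD] at hz'
              exact hTS (by simpa [mul_assoc] using hxA ⟨_, hz', rfl⟩)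
        have := key _ _ hch _ rfl inf_le_left
          (fun h0 => hU (eq_bot_iff.2 (h0 ▸ le_inf hUS le_normalizer))) le_rfl
        rwa [inv_inv] at this
      intro y A hy hA hyA
      have c1 := conjStep.mono hA
      have c3 := (conjStep.mono hyA).symm hsym
      rw [lconj_lconj] at c3
      have hb' : b * y * b⁻¹ ∈ normalizer (conjMap b U : Set G) := by
        rw [← conjMap_normalizer]; exact conj_mem_conjMap hy
      have c2 := local_ _ (lconj b A) hb'
        ((lconj_subset_conjMap hA).trans (SetLike.coe_subset_coe.2 hb))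
        (by rw [lconj_lconj, inv_mul_cancel_right, ← lconj_lconj]
            exact (lconj_subset_conjMap hyA).trans (SetLike.coe_subset_coe.2 hb))
      have c12 := c1.trans c2
      rw [inv_mul_cancel_right] at c12
      have := c12.trans c3
      rwa [inv_mul_cancel_left] at this
  rw [familyControls_iff]
  refine ⟨S', sylowIn_top S, fun A h _ hA hAh => ?_⟩
  have hch : RChain good A h⁻¹ := by
    refine rchain_of_exists_good S (fun V hV => (hgood V hV).1) hex A _ hA ?_
    show rconj h⁻¹ A ⊆ S'
    simpa [rconj] using hAh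
  suffices H : ∀ (A : Set G) (g : G), RChain good A g → A ⊆ S' → FusRel P S' A g⁻¹ by
    simpa using H _ _ hch hA
  intro A g hg
  induction hg with
  | nil A => intro hA; exact FusRel.refl hA (by simp)
  | @step A T x g hT hx hA _ ih' =>
    intro hAS
    have hTS := (hgood T hT).1
    have hTN : (T : Set G) ⊆ (S' ⊓ normalizer (T : Set G) : Subgroup G) :=
      SetLike.coe_subset_coe.2 (le_inf hTS le_normalizer)
    have hxA : lconj x⁻¹ A ⊆ T := by
      rintro _ ⟨a, ha, rfl⟩
      simpa using (mem_normalizer_iff''.1 hx a).1 (hA ha)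
    have e : lconj x⁻¹ A = rconj x A := by simp [lconj, rconj]
    have hnext : rconj x A ⊆ S' := e ▸ hxA.trans (SetLike.coe_subset_coe.2 hTS)
    have h1 : FusRel P S' A x⁻¹ := by
      by_cases hT0 : T = ⊥
      · refine FusRel.refl hAS fun a ha => ?_
        have := hA ha
        rw [hT0, SetLike.mem_coe, mem_bot] at this
        rw [this]; group
      · exact main _ T hT0 hTS rfl x⁻¹ A (inv_mem hx) (hA.trans hTN) (hxA.trans hTN)
    rw [mul_inv_rev]
    refine h1.trans ?_
    rw [e]
    exact ih' hnext

end CfsgLib.PLocal
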