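import Cfsg.Prelude.Def_Solvable
import Cfsg.Agent.Lib.PLocal.Control

/-!
# Functors induced on groups, subgroups and sections
-/

namespace CfsgLib.PLocal

open Subgroup

universe u

variable {p : ℕ} [Fact p.Prime]

theorem induced_isConjugacyFunctor {G : Type u} [Group G] [Finite G]
    {W : ∀ (Q : Type u) [Group Q], Subgroup Q} (hW : Cfsg.IsCharPFunctor.{u} p W) :
    Cfsg.IsConjugacyFunctor p (Cfsg.inducedFunctor (G := G) W) := by
  intro P hP
  refine ⟨map_subtype_le _, fun hne => ?_, fun g => ?_⟩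
  · rw [Cfsg.inducedFunctor, Ne, map_eq_bot_iff_of_injective _ P.subtype_injective]
    exact hW.1 P hP ((nontrivial_iff_ne_bot P).2 hne)
  · let e : P ≃* P.map (MulAut.conj g).toMonoidHom :=
      P.equivMapOfInjective _ (MulAut.conj g).injective
    show Subgroup.map _ (W _) = _
    rw [← hW.2 P (P.map (MulAut.conj g).toMonoidHom) hP e, Cfsg.inducedFunctor, map_map, map_map]
    rfl

omit [Fact p.Prime] in
theorem induced_map_of_injOn {G : Type u} [Group G] [Finite G] {H : Type u} [Group H]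
    {W : ∀ (Q : Type u) [Group Q], Subgroup Q} (hW : Cfsg.IsCharPFunctor.{u} p W)
    (f : G →* H) {P : Subgroup G} (hP : IsPGroup p P) (hf : Set.InjOn f (P : Set G)) :
    (Cfsg.inducedFunctor (G := G) W P).map f = Cfsg.inducedFunctor (G := H) W (P.map f) := by
  let e : P ≃* P.map f := MulEquiv.ofBijective (f.subgroupMap P)
    ⟨fun a b h => Subtype.ext (hf a.2 b.2 (congrArg Subtype.val h)), f.subgroupMap_surjective P⟩
  show _ = Subgroup.map _ (W _)
  rw [← hW.2 P (P.map f) hP e, Cfsg.inducedFunctor, map_map, map_map]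
  rfl

theorem FusRel.map {G H : Type*} [Group G] [Group H] (f : G →* H) {P : G → Prop} {S A : Set G}
    {h : G} (hr : FusRel P S A h) {Q : H → Prop} (hPQ : ∀ x, P x → Q (f x)) :
    FusRel Q (f '' S) (f '' A) (f h) := by
  induction hr with
  | @refl A h hA hfix =>
    refine FusRel.refl (Set.image_mono hA) ?_
    rintro _ ⟨a, ha, rfl⟩
    rw [← map_inv, ← map_mul, ← map_mul, hfix a ha]
  | @step A x h hA hx _ ih =>
    rw [map_mul]
    refine FusRel.step (Set.image_mono hA) (hPQ x hx) ?_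
    have e : lconj (f x) (f '' A) = f '' lconj x A := by
      rw [lconj, lconj, Set.image_image, Set.image_image]
      exact Set.image_congr fun a _ => by simp
    rw [e]
    exact ih

/-- The set of functors on `G` induced by a set of functors on groups. -/
abbrev indSet (𝓦 : Set (∀ (Q : Type u) [Group Q], Subgroup Q)) (G : Type u) [Group G] :
    Set (Subgroup G → Subgroup G) :=
  (fun W => Cfsg.inducedFunctor (G := G) W) '' 𝓦

/-- The induced family controls strong fusion. -/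
abbrev Ctrl (p : ℕ) (𝓦 : Set (∀ (Q : Type u) [Group Q], Subgroup Q)) (G : Type u) [Group G] : Prop :=
  Cfsg.FamilyControlsStrongFusionIn p (indSet 𝓦 G) ⊤

theorem indSet_functor {G : Type u} [Group G] [Finite G]
    {𝓦 : Set (∀ (Q : Type u) [Group Q], Subgroup Q)}
    (h𝓦 : ∀ W ∈ 𝓦, Cfsg.IsCharPFunctor.{u} p W) :
    ∀ W ∈ indSet 𝓦 G, Cfsg.IsConjugacyFunctor p W := by
  rintro _ ⟨W, hW, rfl⟩
  exact induced_isConjugacyFunctor (h𝓦 W hW)

/-- Control in a subgroup taken as a group gives control inside the ambient group. -/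
theorem ctrl_subgroup {G : Type u} [Group G] [Finite G]
    {𝓦 : Set (∀ (Q : Type u) [Group Q], Subgroup Q)}
    (h𝓦 : ∀ W ∈ 𝓦, Cfsg.IsCharPFunctor.{u} p W) {H : Subgroup G} (hc : Ctrl p 𝓦 H)
    {T : Subgroup G} (hT : SylowIn p T H) :
    ∀ (A : Set G) (h : G), h ∈ H → A ⊆ T → lconj h A ⊆ T →
      FusRel (FamStep (indSet 𝓦 G) H T) T A h := by
  intro A h hh hA hAh
  have hsT : SylowIn p (T.subgroupOf H) (⊤ : Subgroup H) :=
    ⟨le_top, hT.2.1.comap_subtype, by rw [relIndex_top_right]; exact hT.2.2⟩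
  have hAH : A ⊆ H := hA.trans hT.1
  have hr := familyControls_at (indSet_functor h𝓦) hc hsT (H.subtype ⁻¹' A) ⟨h, hh⟩ (mem_top _)
    (fun a ha => hA ha) (by rintro _ ⟨a, ha, rfl⟩; exact hAh ⟨a, ha, rfl⟩)
  have hr' := hr.map H.subtype (Q := FamStep (indSet 𝓦 G) H T) ?_
  · have e1 : H.subtype '' (H.subtype ⁻¹' A) = A := Set.image_preimage_eq_of_subset fun a ha =>
      ⟨⟨a, hAH ha⟩, rfl⟩
    have e2 : H.subtype '' (T.subgroupOf H : Set H) = (T : Set G) := by
      rw [← coe_map, map_subgroupOf_eq_of_le hT.1]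
    rwa [e1, e2] at hr'
  · rintro x ⟨_, ⟨W, hW, rfl⟩, -, hx⟩
    refine ⟨_, ⟨W, hW, rfl⟩, x.2, ?_⟩
    have h1 := induced_map_of_injOn (h𝓦 W hW) H.subtype hsT.2.1 H.subtype_injective.injOn
    rw [map_subgroupOf_eq_of_le hT.1] at h1
    show H.subtype x ∈ normalizer ((Cfsg.inducedFunctor (G := G) W T : Subgroup G) : Set G)
    rw [← h1]
    exact le_normalizer_map _ ⟨x, hx, rfl⟩

theorem familyControls_of_ctrl {G : Type u} [Group G] [Finite G]
    {𝓦 : Set (∀ (Q : Type u) [Group Q], Subgroup Q)}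
    (h𝓦 : ∀ W ∈ 𝓦, Cfsg.IsCharPFunctor.{u} p W) {H : Subgroup G} (hc : Ctrl p 𝓦 H) :
    Cfsg.FamilyControlsStrongFusionIn p (indSet 𝓦 G) H := by
  obtain ⟨T, hT, -⟩ := exists_sylowIn_le (p := p) (IsPGroup.of_bot : IsPGroup p (⊥ : Subgroup G))
    (bot_le : ⊥ ≤ H)
  exact familyControls_iff.2 ⟨T, hT, ctrl_subgroup h𝓦 hc hT⟩

theorem ctrl_equiv {X Y : Type u} [Group X] [Finite X] [Group Y] [Finite Y]
    {𝓦 : Set (∀ (Q : Type u) [Group Q], Subgroup Q)}
    (h𝓦 : ∀ W ∈ 𝓦, Cfsg.IsCharPFunctor.{u} p W) (e : X ≃* Y) (hc : Ctrl p 𝓦 X) :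
    Ctrl p 𝓦 Y := by
  obtain ⟨T, hT, h⟩ := familyControls_iff.1 hc
  have hinj : Set.InjOn e.toMonoidHom (T : Set X) := e.injective.injOn
  refine familyControls_iff.2 ⟨T.map e.toMonoidHom, ⟨le_top, hT.2.1.map _, ?_⟩, fun A g _ hA hAg => ?_⟩
  · rw [relIndex_top_right, index_map_of_bijective e.bijective]
    simpa [relIndex_top_right] using hT.2.2
  · obtain ⟨g, rfl⟩ : ∃ x, e.toMonoidHom x = g := e.surjective g
    have hA' : e.toMonoidHom ⁻¹' A ⊆ T := fun a ha => by
      obtain ⟨b, hb, hbe⟩ := hA ha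
      exact e.injective hbe ▸ hb
    have hAg' : lconj g (e.toMonoidHom ⁻¹' A) ⊆ T := by
      rintro _ ⟨a, ha, rfl⟩
      obtain ⟨b, hb, hbe⟩ := hAg ⟨_, ha, rfl⟩
      have h2 : b = g * a * g⁻¹ := e.injective (by simpa using hbe)
      show g * a * g⁻¹ ∈ T
      rw [← h2]; exact hb
    have hr := (h (e.toMonoidHom ⁻¹' A) g (mem_top _) hA' hAg').map e.toMonoidHom
      (Q := FamStep (indSet 𝓦 Y) ⊤ (T.map e.toMonoidHom)) ?_
    · rw [Set.image_preimage_eq (f := e.toMonoidHom) A e.surjective] at hr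
      rw [coe_map]
      exact hr
    · rintro x ⟨_, ⟨W, hW, rfl⟩, -, hx⟩
      refine ⟨_, ⟨W, hW, rfl⟩, mem_top _, ?_⟩
      show e.toMonoidHom x ∈ normalizer ((Cfsg.inducedFunctor (G := Y) W (T.map e.toMonoidHom) : Subgroup Y) : Set Y)
      rw [← induced_map_of_injOn (h𝓦 W hW) e.toMonoidHom hT.2.1 hinj]
      exact le_normalizer_map _ ⟨x, hx, rfl⟩

/-- `X` is a section of `G`. -/
def IsSec (X G : Type u) [Group X] [Group G] : Prop :=
  ∃ (K : Subgroup G) (f : K →* X), Function.Surjective f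

omit [Fact p.Prime] in
theorem IsSec.of_subgroup {X G : Type u} [Group X] [Group G] {H : Subgroup G} (h : IsSec X H) :
    IsSec X G := by
  obtain ⟨K, f, hf⟩ := h
  let e : K ≃* K.map H.subtype := K.equivMapOfInjective _ H.subtype_injective
  exact ⟨K.map H.subtype, f.comp e.symm.toMonoidHom, hf.comp e.symm.surjective⟩

omit [Fact p.Prime] in
theorem IsSec.of_quotient {X G : Type u} [Group X] [Group G] {N : Subgroup G} [N.Normal]
    (h : IsSec X (G ⧸ N)) : IsSec X G := by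
  obtain ⟨K, f, hf⟩ := h
  refine ⟨K.comap (QuotientGroup.mk' N), f.comp ((QuotientGroup.mk' N).subgroupComap K), hf.comp ?_⟩
  exact MonoidHom.subgroupComap_surjective_of_surjective _ _ (QuotientGroup.mk'_surjective N)

/-- Every section of `G` is isomorphic to a quotient `K / R`. -/
theorem IsSec.exists_quotient {X G : Type u} [Group X] [Group G] (h : IsSec X G) :
    ∃ (K R : Subgroup G) (_ : (R.subgroupOf K).Normal), Nonempty ((↥K ⧸ R.subgroupOf K) ≃* X) := by
  obtain ⟨K, f, hf⟩ := h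
  have e : (f.ker.map K.subtype).subgroupOf K = f.ker :=
    comap_map_eq_self_of_injective K.subtype_injective _
  have hn : ((f.ker.map K.subtype).subgroupOf K).Normal := e.symm ▸ f.normal_ker
  exact ⟨K, f.ker.map K.subtype, hn,
    ⟨(QuotientGroup.quotientMulEquivOfEq e).trans (QuotientGroup.quotientKerEquivOfSurjective f hf)⟩⟩

/-- `C_X(O_p(X)) ≤ O_p(X)`. -/
def Constrained (p : ℕ) (X : Type u) [Group X] : Prop :=
  centralizer ((Cfsg.pCore p X : Subgroup X) : Set X) ≤ Cfsg.pCore p X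

end CfsgLib.PLocal
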