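import Mathlib
import Cfsg.Agent.Lib.PLocal.QdStable
import Cfsg.Agent.Lib.PLocal.Induced

/-!
# No characteristic functor controls fusion in `Qd(p)`
-/

set_option autoImplicit false

namespace CfsgLib.PLocal

open Subgroup
open scoped MatrixGroups

universe u

variable {p : ℕ} [hp : Fact p.Prime]

attribute [local irreducible] affMat

theorem upU_eq_affMat_mul (s t : Fin 2 → ZMod p) (c d : ZMod p) :
    affMat s (upU c) * affMat t (upU d) = affMat ![s 0 + t 0 + c * t 1, s 1 + t 1] (upU (c + d)) := by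
  rw [affMat_mul, upU_mul]
  congr 1
  funext i
  fin_cases i <;> simp [upU_coe, Matrix.mulVec, dotProduct, Fin.sum_univ_two]
  ring

variable (p) in
/-- The Sylow `p`-subgroup of upper unitriangular elements of `Qd(p)`. -/
def qdSylow : Subgroup ↥(Cfsg.qd p) where
  carrier := {g | ∃ (s : Fin 2 → ZMod p) (c : ZMod p), (g : SL(3, ZMod p)) = affMat s (upU c)}
  one_mem' := ⟨0, 0, by rw [upU_zero, affMat_zero_one]; rfl⟩
  mul_mem' := by
    rintro g h ⟨s, c, hg⟩ ⟨t, d, hh⟩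
    exact ⟨_, c + d, by rw [Subgroup.coe_mul, hg, hh, upU_eq_affMat_mul]⟩
  inv_mem' := by
    rintro g ⟨s, c, hg⟩
    refine ⟨![c * s 1 - s 0, -s 1], -c, ?_⟩
    rw [Subgroup.coe_inv, hg, inv_eq_iff_mul_eq_one, upU_eq_affMat_mul, add_neg_cancel, upU_zero]
    convert affMat_zero_one (p := p) using 2
    funext i
    fin_cases i <;> simp <;> ring

theorem mem_qdSylow {g : ↥(Cfsg.qd p)} :
    g ∈ qdSylow p ↔ ∃ (s : Fin 2 → ZMod p) (c : ZMod p), (g : SL(3, ZMod p)) = affMat s (upU c) := Iff.rfl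

variable (p) in
/-- The projection `Qd(p) → SL₂(p)`. -/
theorem exists_qdProj : ∃ (π : ↥(Cfsg.qd p) →* SL(2, ZMod p)) (τ : ↥(Cfsg.qd p) → Fin 2 → ZMod p),
    ∀ g : ↥(Cfsg.qd p), (g : SL(3, ZMod p)) = affMat (τ g) (π g) := by
  choose tr blk hblk using fun g : ↥(Cfsg.qd p) => exists_affMat_of_mem_qd g.2
  refine ⟨MonoidHom.mk' blk fun g h => ?_, tr, hblk⟩
  refine (affMat_injective (s := tr (g * h)) (t := tr g +
    (blk g : Matrix (Fin 2) (Fin 2) (ZMod p)).mulVec (tr h)) (N := blk g * blk h) ?_).2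
  rw [← hblk, Subgroup.coe_mul, hblk g, hblk h, affMat_mul]

theorem conj_affMat (g : SL(3, ZMod p)) (t : Fin 2 → ZMod p) (M : SL(2, ZMod p))
    (x : Fin 2 → ZMod p) (hg : g = affMat t M) :
    g * affMat x 1 * g⁻¹ = affMat ((M : Matrix (Fin 2) (Fin 2) (ZMod p)).mulVec x) 1 := by
  rw [mul_inv_eq_iff_eq_mul, hg, affMat_mul, affMat_mul, Matrix.SpecialLinearGroup.coe_one,
    Matrix.one_mulVec, mul_one, one_mul, add_comm]

theorem upU_pow_affMat (s : Fin 2 → ZMod p) (c : ZMod p) (n : ℕ) :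
    ∃ t : Fin 2 → ZMod p, affMat s (upU c) ^ n = affMat t (upU ((n : ZMod p) * c)) := by
  induction n with
  | zero => exact ⟨0, by rw [pow_zero, Nat.cast_zero, zero_mul, upU_zero, affMat_zero_one]⟩
  | succ n ih =>
    obtain ⟨t, ht⟩ := ih
    refine ⟨![t 0 + s 0 + ((n : ZMod p) * c) * s 1, t 1 + s 1], ?_⟩
    rw [pow_succ, ht, upU_eq_affMat_mul, Nat.cast_succ, add_mul, one_mul]

theorem affMat_one_pow (s : Fin 2 → ZMod p) : affMat s (1 : SL(2, ZMod p)) ^ p = 1 := by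
  have : ∀ n : ℕ, affMat s (1 : SL(2, ZMod p)) ^ n = affMat (n • s) 1 := by
    intro n
    induction n with
    | zero => rw [pow_zero, zero_smul, affMat_zero_one]
    | succ n ih => rw [pow_succ, ih, affMat_mul, succ_nsmul]; simp
  rw [this, show (p : ℕ) • s = 0 by ext i; simp, affMat_zero_one]

theorem qdSylow_isPGroup : IsPGroup p (qdSylow p) := by
  rintro ⟨g, s, c, hg⟩
  refine ⟨2, Subtype.ext (Subtype.ext ?_)⟩
  show (g : SL(3, ZMod p)) ^ p ^ 2 = 1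
  rw [hg, sq, pow_mul]
  obtain ⟨t, ht⟩ := upU_pow_affMat s c p
  rw [ht, ZMod.natCast_self, zero_mul, upU_zero, affMat_one_pow]

theorem qdSylow_maximal {P : Subgroup ↥(Cfsg.qd p)} (hP : IsPGroup p P) (hle : qdSylow p ≤ P) :
    P ≤ qdSylow p := by
  obtain ⟨π, τ, hπ⟩ := exists_qdProj p
  intro g hg
  have hpq : ∀ t M, π ⟨affMat t M, affMat_mem_qd t M⟩ = M := fun t M =>
    (affMat_injective (hπ ⟨affMat t M, affMat_mem_qd t M⟩).symm).2
  set R := P.map π with hR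
  have hu : ∀ c, upU (c : ZMod p) ∈ R := fun c =>
    ⟨_, hle (mem_qdSylow.2 ⟨0, c, rfl⟩ : (⟨affMat 0 (upU c), affMat_mem_qd _ _⟩ : ↥(Cfsg.qd p)) ∈ _),
      hpq 0 (upU c)⟩
  set h := π g with hh
  have hhR : h ∈ R := ⟨g, hg, rfl⟩
  have hlow : low h = 0 := by
    by_contra hne
    obtain ⟨ψ, hψ, hψle⟩ := exists_slTwo_of_relation R (inv_ne_zero hne) (hu _) hhR hne
      (m := 1) (by simp) (by rw [inv_mul_cancel₀ hne]; simp)
    refine not_isPGroup_of_opposite (⊤ : Subgroup SL(2, ZMod p)) one_ne_zero (mem_top _) (mem_top _) ?_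
    intro x
    obtain ⟨k, hk⟩ := (hP.map π) ⟨ψ x, hψle ⟨x, rfl⟩⟩
    refine ⟨k, Subtype.ext (hψ ?_)⟩
    have h1 := congrArg Subtype.val hk
    simp only [SubmonoidClass.coe_pow, OneMemClass.coe_one] at h1
    rw [SubmonoidClass.coe_pow, map_pow, OneMemClass.coe_one, map_one]
    exact h1
  obtain ⟨k, hk⟩ := (hP.map π) ⟨h, hhR⟩
  have h1 : h ^ p ^ k = 1 := by simpa using congrArg Subtype.val hk
  set a := (h : Matrix (Fin 2) (Fin 2) (ZMod p)) 0 0 with ha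
  set d := (h : Matrix (Fin 2) (Fin 2) (ZMod p)) 1 1 with hd'
  have hlow' : (h : Matrix (Fin 2) (Fin 2) (ZMod p)) 1 0 = 0 := hlow
  have hpow : ∀ n : ℕ, ((h ^ n : SL(2, ZMod p)) : Matrix (Fin 2) (Fin 2) (ZMod p)) 0 0 = a ^ n ∧
      ((h ^ n : SL(2, ZMod p)) : Matrix (Fin 2) (Fin 2) (ZMod p)) 1 0 = 0 := by
    intro n
    induction n with
    | zero => simp
    | succ n ih =>
      rw [pow_succ h, Matrix.SpecialLinearGroup.coe_mul, Matrix.mul_apply, Matrix.mul_apply,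
        Fin.sum_univ_two, Fin.sum_univ_two, ih.1, ih.2, hlow', ← ha, pow_succ a]
      constructor <;> ring
  have ha1 : a = 1 := by
    have := (hpow (p ^ k)).1
    rw [h1, ZMod.pow_card_pow] at this
    simpa using this.symm
  have hd1 : d = 1 := by
    have := sl2_det h
    rw [hlow', ← ha, ← hd', ha1] at this
    simpa using this
  refine mem_qdSylow.2 ⟨τ g, (h : Matrix (Fin 2) (Fin 2) (ZMod p)) 0 1, ?_⟩
  rw [hπ g, ← hh]
  congr 1
  refine sl2_ext ?_ ?_ ?_ ?_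
  · simpa [upU_coe] using ha1
  · simp [upU_coe]
  · simpa [upU_coe] using hlow'
  · simpa [upU_coe] using hd1

theorem qdSylow_sylowIn : SylowIn p (qdSylow p) (⊤ : Subgroup ↥(Cfsg.qd p)) := by
  obtain ⟨P, hP⟩ := (qdSylow_isPGroup (p := p)).exists_le_sylow
  have e : (P : Subgroup ↥(Cfsg.qd p)) = qdSylow p := le_antisymm (qdSylow_maximal P.2 hP) hP
  exact e ▸ sylowIn_top P

theorem swap_mul_aux (s t : Fin 2 → ZMod p) (c d : ZMod p) :
    affMat ![(s 1 + t 1) * (c + d) - (s 0 + t 0 + c * t 1), c + d] (upU (s 1 + t 1)) =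
      affMat ![s 1 * c - s 0, c] (upU (s 1)) * affMat ![t 1 * d - t 0, d] (upU (t 1)) := by
  rw [upU_eq_affMat_mul]
  congr 1
  funext i
  fin_cases i
  · show _ = (s 1 * c - s 0) + (t 1 * d - t 0) + s 1 * d
    simp
    ring
  · rfl

theorem exists_swapFun : ∃ f : ↥(qdSylow p) → ↥(qdSylow p),
    ∀ (g : ↥(qdSylow p)) (s : Fin 2 → ZMod p) (c : ZMod p),
    ((g : ↥(Cfsg.qd p)) : SL(3, ZMod p)) = affMat s (upU c) →
      ((f g : ↥(Cfsg.qd p)) : SL(3, ZMod p)) = affMat ![s 1 * c - s 0, c] (upU (s 1)) := by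
  have h : ∀ g : ↥(qdSylow p), ∃ r : ↥(qdSylow p), ∀ (s : Fin 2 → ZMod p) (c : ZMod p),
      ((g : ↥(Cfsg.qd p)) : SL(3, ZMod p)) = affMat s (upU c) →
        ((r : ↥(Cfsg.qd p)) : SL(3, ZMod p)) = affMat ![s 1 * c - s 0, c] (upU (s 1)) := by
    intro g
    obtain ⟨s, c, hsc⟩ := mem_qdSylow.1 g.2
    let r : ↥(Cfsg.qd p) := ⟨affMat ![s 1 * c - s 0, c] (upU (s 1)), affMat_mem_qd _ _⟩
    have hr : r ∈ qdSylow p := mem_qdSylow.2 ⟨![s 1 * c - s 0, c], s 1, rfl⟩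
    refine ⟨⟨r, hr⟩, fun t d htd => ?_⟩
    obtain ⟨h1, h2⟩ := affMat_injective (hsc.symm.trans htd)
    have h3 : c = d := upU_injective h2
    subst h1 h3
    rfl
  choose f hf using h
  exact ⟨f, hf⟩

theorem exists_swap : ∃ φ : MulAut ↥(qdSylow p), ∀ (g : ↥(qdSylow p)) (s : Fin 2 → ZMod p) (c : ZMod p),
    ((g : ↥(Cfsg.qd p)) : SL(3, ZMod p)) = affMat s (upU c) →
      ((φ g : ↥(Cfsg.qd p)) : SL(3, ZMod p)) = affMat ![s 1 * c - s 0, c] (upU (s 1)) := by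
  obtain ⟨f, hf⟩ := exists_swapFun (p := p)
  have hinv : ∀ g, f (f g) = g := by
    intro g
    obtain ⟨s, c, hsc⟩ := mem_qdSylow.1 g.2
    refine Subtype.ext (Subtype.ext ?_)
    rw [hf (f g) _ _ (hf g s c hsc), hsc]
    congr 1
    funext i
    fin_cases i
    · show c * s 1 - (s 1 * c - s 0) = s 0
      ring
    · rfl
  have hmul : ∀ g h, f (g * h) = f g * f h := by
    intro g h
    obtain ⟨s, c, hsc⟩ := mem_qdSylow.1 g.2
    obtain ⟨t, d, htd⟩ := mem_qdSylow.1 h.2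
    have hgh : ((g * h : ↥(qdSylow p)) : ↥(Cfsg.qd p)).1 =
        affMat ![s 0 + t 0 + c * t 1, s 1 + t 1] (upU (c + d)) := by
      rw [Subgroup.coe_mul, Subgroup.coe_mul, hsc, htd, upU_eq_affMat_mul]
    refine Subtype.ext (Subtype.ext ?_)
    rw [hf _ _ _ hgh, Subgroup.coe_mul, Subgroup.coe_mul, hf g s c hsc, hf h t d htd]
    exact swap_mul_aux s t c d
  exact ⟨MulEquiv.mk ⟨f, f, hinv, hinv⟩ hmul, hf⟩

/-- The normalizer of a characteristic subgroup of the Sylow subgroup stabilizes the central line. -/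
theorem low_eq_zero_of_normalizes {T₀ : Subgroup ↥(qdSylow p)} (hT : T₀ ≠ ⊥)
    (hc : ∀ φ : MulAut ↥(qdSylow p), T₀.map φ.toMonoidHom = T₀) {g : ↥(Cfsg.qd p)}
    (hg : g ∈ Subgroup.normalizer ((T₀.map (qdSylow p).subtype : Subgroup ↥(Cfsg.qd p)) : Set ↥(Cfsg.qd p)))
    {t : Fin 2 → ZMod p} {M : SL(2, ZMod p)} (hgM : (g : SL(3, ZMod p)) = affMat t M) :
    low M = 0 := by
  obtain ⟨φ, hφ⟩ := exists_swap (p := p)
  obtain ⟨π, τ, hπ⟩ := exists_qdProj p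
  set T := T₀.map (qdSylow p).subtype with hTdef
  have hM : π g = M := (affMat_injective ((hπ g).symm.trans hgM)).2
  by_cases hU : ∃ y ∈ T, π y ≠ 1
  · obtain ⟨y, hy, hy1⟩ := hU
    obtain ⟨x, hx, rfl⟩ := hy
    obtain ⟨s, c, hsc⟩ := mem_qdSylow.1 x.2
    have hπy : π (x : ↥(Cfsg.qd p)) = upU c := (affMat_injective ((hπ _).symm.trans hsc)).2
    obtain ⟨z, hz, hze⟩ := (Subgroup.mem_normalizer_iff.1 hg _).1 ⟨x, hx, rfl⟩
    obtain ⟨t', c', hz'⟩ := mem_qdSylow.1 z.2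
    have hπz : π (z : ↥(Cfsg.qd p)) = upU c' := (affMat_injective ((hπ _).symm.trans hz')).2
    have h1 := congrArg π hze
    rw [map_mul, map_mul, map_inv, hM] at h1
    change π (z : ↥(Cfsg.qd p)) = M * π (x : ↥(Cfsg.qd p)) * M⁻¹ at h1
    rw [hπz, hπy] at h1
    have h2 := congrArg low h1.symm
    rw [(conj_upU_apply M c).2.1] at h2
    have hc0 : c ≠ 0 := fun h0 => hy1 (by
      show π (x : ↥(Cfsg.qd p)) = 1
      rw [hπy, h0, upU_zero])
    simpa [low, upU_coe, hc0] using h2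
  push Not at hU
  obtain ⟨x, hx, hx1⟩ := T₀.bot_or_exists_ne_one.resolve_left hT
  obtain ⟨s, c, hsc⟩ := mem_qdSylow.1 x.2
  have hline : ∀ y ∈ T₀, ∀ (s : Fin 2 → ZMod p) (c : ZMod p), ((y : ↥(Cfsg.qd p)) : SL(3, ZMod p)) = affMat s (upU c) →
      c = 0 ∧ s 1 = 0 := by
    intro y hy s c hsc
    have h1 : c = 0 := upU_injective (((affMat_injective ((hπ _).symm.trans hsc)).2.symm.trans
      (hU _ ⟨y, hy, rfl⟩)).trans upU_zero.symm)
    have hφy : φ y ∈ T₀ := by rw [← hc φ]; exact ⟨y, hy, rfl⟩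
    have h2 : s 1 = 0 := upU_injective (((affMat_injective ((hπ _).symm.trans (hφ y s c hsc))).2.symm.trans
      (hU _ ⟨φ y, hφy, rfl⟩)).trans upU_zero.symm)
    exact ⟨h1, h2⟩
  obtain ⟨hc0, hs1⟩ := hline x hx s c hsc
  subst hc0
  rw [upU_zero] at hsc
  have hs0 : s 0 ≠ 0 := fun h0 => hx1 (Subtype.ext (Subtype.ext (by
    rw [hsc, show s = 0 from funext fun i => by fin_cases i <;> simp [h0, hs1], affMat_zero_one]
    rfl)))
  obtain ⟨z, hz, hze⟩ := (Subgroup.mem_normalizer_iff.1 hg _).1 ⟨x, hx, rfl⟩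
  obtain ⟨t', c', hz'⟩ := mem_qdSylow.1 z.2
  obtain ⟨hc', ht'⟩ := hline z hz t' c' hz'
  have h1 : affMat t' (upU c') = affMat ((M : Matrix (Fin 2) (Fin 2) (ZMod p)).mulVec s) 1 := by
    rw [← hz', ← conj_affMat _ t M s hgM, ← hsc]
    exact congrArg Subtype.val hze
  have h2 := congrFun (affMat_injective h1).1 1
  rw [ht'] at h2
  simpa [Matrix.mulVec, dotProduct, Fin.sum_univ_two, hs1, hs0, low] using h2.symm

theorem exists_borel : ∃ B : Subgroup SL(2, ZMod p), ∀ M, M ∈ B ↔ low M = 0 := by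
  refine ⟨{
    carrier := {M | low M = 0}
    one_mem' := by simp [low]
    mul_mem' := fun {x y} hx hy => by
      simp only [low, Set.mem_setOf_eq] at hx hy ⊢
      rw [Matrix.SpecialLinearGroup.coe_mul]
      simp [Matrix.mul_apply, Fin.sum_univ_two, hx, hy]
    inv_mem' := fun {x} hx => by
      simp only [low, Set.mem_setOf_eq] at hx ⊢
      simp [Matrix.SpecialLinearGroup.coe_inv, Matrix.adjugate_fin_two, hx] }, fun M => Iff.rfl⟩

theorem conj_affMat' (g : ↥(Cfsg.qd p)) {t : Fin 2 → ZMod p} {M : SL(2, ZMod p)}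
    (hg : (g : SL(3, ZMod p)) = affMat t M) (a : ↥(Cfsg.qd p)) {x : Fin 2 → ZMod p}
    (ha : (a : SL(3, ZMod p)) = affMat x 1) :
    ((g * a * g⁻¹ : ↥(Cfsg.qd p)) : SL(3, ZMod p)) =
      affMat ((M : Matrix (Fin 2) (Fin 2) (ZMod p)).mulVec x) 1 := by
  rw [Subgroup.coe_mul, Subgroup.coe_mul, Subgroup.coe_inv, ha]
  exact conj_affMat _ t M x hg

theorem exists_fusion_pair (π : ↥(Cfsg.qd p) →* SL(2, ZMod p)) (τ : ↥(Cfsg.qd p) → Fin 2 → ZMod p)
    (hπ : ∀ g : ↥(Cfsg.qd p), (g : SL(3, ZMod p)) = affMat (τ g) (π g)) :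
    ∃ a h : ↥(Cfsg.qd p), a ∈ qdSylow p ∧ a ≠ 1 ∧ h * a * h⁻¹ ∈ qdSylow p ∧
      ∀ y, low (π y) = 0 → h * a * h⁻¹ ≠ y * a * y⁻¹ := by
  let w : SL(2, ZMod p) := ⟨!![0, 1; -1, 0], by simp [Matrix.det_fin_two_of]⟩
  let a : ↥(Cfsg.qd p) := ⟨affMat (Pi.single 0 1) 1, affMat_mem_qd _ _⟩
  let h : ↥(Cfsg.qd p) := ⟨affMat 0 w, affMat_mem_qd _ _⟩
  have ha : (a : SL(3, ZMod p)) = affMat (Pi.single 0 1) 1 := rfl
  have hh : (h : SL(3, ZMod p)) = affMat 0 w := rfl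
  refine ⟨a, h, mem_qdSylow.2 ⟨Pi.single 0 1, 0, by rw [upU_zero, ha]⟩, fun h1 => ?_,
    mem_qdSylow.2 ⟨_, 0, by rw [upU_zero]; exact conj_affMat' h hh a ha⟩, fun y hy he => ?_⟩
  · rw [h1, Subgroup.coe_one, ← affMat_zero_one] at ha
    simpa using congrFun (affMat_injective ha).1 0
  have h1 := congrArg (fun z : ↥(Cfsg.qd p) => (z : SL(3, ZMod p))) he
  rw [conj_affMat' h hh a ha, conj_affMat' y (hπ y) a ha] at h1
  have h2 := congrFun (affMat_injective h1).1 1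
  have hy' : (π y : Matrix (Fin 2) (Fin 2) (ZMod p)) 1 0 = 0 := hy
  simp [Matrix.mulVec, dotProduct, Fin.sum_univ_two, hy', w] at h2

theorem low_eq_zero_of_induced {Q : Type u} [Group Q] [Finite Q] (e : Q ≃* ↥(Cfsg.qd p))
    (π : ↥(Cfsg.qd p) →* SL(2, ZMod p)) (τ : ↥(Cfsg.qd p) → Fin 2 → ZMod p)
    (hπ : ∀ g : ↥(Cfsg.qd p), (g : SL(3, ZMod p)) = affMat (τ g) (π g))
    {W : ∀ (R : Type u) [Group R], Subgroup R} (hW : Cfsg.IsCharPFunctor.{u} p W)
    (S : Subgroup Q) (hS : S.map e.toMonoidHom = qdSylow p) (hSp : IsPGroup p S) (hS1 : Nontrivial S)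
    {x : Q} (hx : x ∈ Subgroup.normalizer (Cfsg.inducedFunctor (G := Q) W S : Set Q)) :
    low (π (e x)) = 0 := by
  let E : S ≃* qdSylow p :=
    (S.equivMapOfInjective e.toMonoidHom e.injective).trans (MulEquiv.subgroupCongr hS)
  set T₀ := (W S).map E.toMonoidHom with hT₀
  have hne : T₀ ≠ ⊥ := fun h0 => hW.1 S hSp hS1
    ((Subgroup.map_eq_bot_iff_of_injective _ E.injective).1 h0)
  have hchar : ∀ φ : MulAut ↥(qdSylow p), T₀.map φ.toMonoidHom = T₀ := by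
    intro φ
    have h1 := hW.2 S S hSp (E.trans (φ.trans E.symm))
    conv_rhs => rw [hT₀, ← h1]
    rw [hT₀, Subgroup.map_map, Subgroup.map_map]
    congr 1
    ext y
    simp
  have hmap : (Cfsg.inducedFunctor (G := Q) W S).map e.toMonoidHom =
      T₀.map (qdSylow p).subtype := by
    rw [hT₀, Cfsg.inducedFunctor, Subgroup.map_map, Subgroup.map_map]
    rfl
  have hgN : e x ∈ Subgroup.normalizer
      ((T₀.map (qdSylow p).subtype : Subgroup ↥(Cfsg.qd p)) : Set ↥(Cfsg.qd p)) := by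
    rw [← hmap]
    exact le_normalizer_map _ ⟨x, hx, rfl⟩
  exact low_eq_zero_of_normalizes hne hchar hgN (hπ (e x))

/-- No family of characteristic functors controls strong fusion in a copy of `Qd(p)`. -/
theorem not_ctrl_of_equiv_qd {Q : Type u} [Group Q] [Finite Q] (e : Q ≃* ↥(Cfsg.qd p))
    (𝓦 : Set (∀ (R : Type u) [Group R], Subgroup R))
    (h𝓦 : ∀ W ∈ 𝓦, Cfsg.IsCharPFunctor.{u} p W) :
    ¬ Cfsg.FamilyControlsStrongFusionIn p (indSet 𝓦 Q) ⊤ := by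
  intro hctrl
  obtain ⟨π, τ, hπ⟩ := exists_qdProj p
  obtain ⟨B₀, hB₀⟩ := exists_borel (p := p)
  obtain ⟨a₀, h₀, ha, ha1, hha, hno⟩ := exists_fusion_pair π τ hπ
  set S := (qdSylow p).comap e.toMonoidHom with hS
  have hSmap : S.map e.toMonoidHom = qdSylow p :=
    Subgroup.map_comap_eq_self_of_surjective e.surjective _
  have hSp : IsPGroup p S :=
    (qdSylow_isPGroup (p := p)).comap_of_injective e.toMonoidHom e.injective
  have hSin : SylowIn p S (⊤ : Subgroup Q) := by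
    refine ⟨le_top, hSp, ?_⟩
    have h := (qdSylow_sylowIn (p := p)).2.2
    rw [relIndex_top_right] at h ⊢
    rwa [hS, Subgroup.index_comap_of_surjective _ e.surjective]
  obtain ⟨a, rfl⟩ := e.surjective a₀
  obtain ⟨h, rfl⟩ := e.surjective h₀
  rw [← map_inv, ← map_mul, ← map_mul] at hha hno
  have hS1 : Nontrivial S := ⟨⟨⟨a, ha⟩, 1, fun h1 => ha1 (by
    rw [show a = 1 from congrArg Subtype.val h1, map_one])⟩⟩
  have hr := familyControls_at (indSet_functor h𝓦) hctrl hSin {a} h (mem_top _)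
    (Set.singleton_subset_iff.2 ha) (by rintro _ ⟨b, rfl, rfl⟩; exact hha)
  set B := B₀.comap (π.comp e.toMonoidHom) with hB
  have hstep : ∀ x, FamStep (indSet 𝓦 Q) ⊤ S x → x ∈ B := by
    rintro x ⟨_, ⟨W, hW, rfl⟩, -, hx⟩
    exact (hB₀ _).2 (low_eq_zero_of_induced e π τ hπ (h𝓦 W hW) S hSmap hSp hS1 hx)
  obtain ⟨y, hy, hye⟩ := (hr.map_mono (Q := fun x => x ∈ B) hstep).exists_single
  refine hno (e y) ((hB₀ _).1 hy) ?_
  rw [← map_inv, ← map_mul, ← map_mul, hye a rfl]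

/-- A translation lies in every Sylow subgroup of `Qd(p)`. -/
theorem translation_mem_sylow {Q : Type u} [Group Q] [Finite Q] (e : Q ≃* ↥(Cfsg.qd p))
    (T : Sylow p Q) {x : Fin 2 → ZMod p} {a : Q}
    (ha : ((e a : ↥(Cfsg.qd p)) : SL(3, ZMod p)) = affMat x 1) : a ∈ (T : Subgroup Q) := by
  obtain ⟨π, τ, hπ⟩ := exists_qdProj p
  have hker : ∀ y : ↥(Cfsg.qd p), π y = 1 → y ^ p = 1 := fun y hy => Subtype.ext (by
    rw [SubmonoidClass.coe_pow, hπ y, hy]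
    exact affMat_one_pow _)
  set V := (π.comp e.toMonoidHom).ker with hV
  have hVp : IsPGroup p V := by
    rintro ⟨y, hy⟩
    refine ⟨1, Subtype.ext (e.injective ?_)⟩
    show e (y ^ p ^ 1) = e 1
    rw [pow_one, map_pow, map_one]
    exact hker _ hy
  have hVT : V ≤ (T : Subgroup Q) :=
    (CfsgLib.Solvable.le_pCore inferInstance hVp).trans (CfsgLib.Solvable.pCore_le_sylow T)
  exact hVT (affMat_injective ((hπ (e a)).symm.trans ha)).2

theorem exists_translation_pair (π : ↥(Cfsg.qd p) →* SL(2, ZMod p))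
    (τ : ↥(Cfsg.qd p) → Fin 2 → ZMod p)
    (hπ : ∀ g : ↥(Cfsg.qd p), (g : SL(3, ZMod p)) = affMat (τ g) (π g)) :
    ∃ (a h : ↥(Cfsg.qd p)) (x y : Fin 2 → ZMod p), (a : SL(3, ZMod p)) = affMat x 1 ∧
      ((h * a * h⁻¹ : ↥(Cfsg.qd p)) : SL(3, ZMod p)) = affMat y 1 ∧
      ∀ b, low (π b) = 0 → h * a * h⁻¹ ≠ b * a * b⁻¹ := by
  let w : SL(2, ZMod p) := ⟨!![0, 1; -1, 0], by simp [Matrix.det_fin_two_of]⟩
  let a : ↥(Cfsg.qd p) := ⟨affMat (Pi.single 0 1) 1, affMat_mem_qd _ _⟩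
  let h : ↥(Cfsg.qd p) := ⟨affMat 0 w, affMat_mem_qd _ _⟩
  have ha : (a : SL(3, ZMod p)) = affMat (Pi.single 0 1) 1 := rfl
  have hh : (h : SL(3, ZMod p)) = affMat 0 w := rfl
  refine ⟨a, h, _, _, ha, conj_affMat' h hh a ha, fun y hy he => ?_⟩
  have h1 := congrArg (fun z : ↥(Cfsg.qd p) => (z : SL(3, ZMod p))) he
  rw [conj_affMat' h hh a ha, conj_affMat' y (hπ y) a ha] at h1
  have h2 := congrFun (affMat_injective h1).1 1
  have hy' : (π y : Matrix (Fin 2) (Fin 2) (ZMod p)) 1 0 = 0 := hy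
  simp [Matrix.mulVec, dotProduct, Fin.sum_univ_two, hy', w] at h2

theorem not_controls_of_map_eq {Q : Type u} [Group Q] [Finite Q] (e : Q ≃* ↥(Cfsg.qd p))
    {W : ∀ (R : Type u) [Group R], Subgroup R} (hW : Cfsg.IsCharPFunctor.{u} p W)
    (S : Subgroup Q) (hSp : IsPGroup p S) (hS : S.map e.toMonoidHom = qdSylow p) :
    ¬ Cfsg.ControlsStrongFusion p (Cfsg.inducedFunctor (G := Q) W S) := by
  rintro ⟨T, -, hT⟩
  obtain ⟨π, τ, hπ⟩ := exists_qdProj p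
  obtain ⟨a, h, x, y, ha, hha, hno⟩ := exists_translation_pair π τ hπ
  obtain ⟨a, rfl⟩ := e.surjective a
  obtain ⟨h, rfl⟩ := e.surjective h
  rw [← map_inv, ← map_mul, ← map_mul] at hha hno
  have haT : a ∈ (T : Subgroup Q) := translation_mem_sylow e T ha
  have hS1 : Nontrivial S := by
    rw [nontrivial_iff_ne_bot]
    intro h0
    rw [h0, Subgroup.map_bot] at hS
    have h1 : (⟨affMat 0 (upU 1), affMat_mem_qd _ _⟩ : ↥(Cfsg.qd p)) ∈ (⊥ : Subgroup _) :=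
      hS.symm ▸ mem_qdSylow.2 ⟨0, 1, rfl⟩
    have h2 := congrArg Subtype.val (mem_bot.1 h1)
    rw [Subgroup.coe_one, ← affMat_zero_one] at h2
    exact one_ne_zero (upU_injective ((affMat_injective h2).2.trans upU_zero.symm))
  obtain ⟨n, hn, hna⟩ := (hT {a} (Set.singleton_subset_iff.2 haT)).2 h
    (by rintro _ ⟨b, rfl, rfl⟩; exact translation_mem_sylow e T hha)
  refine hno (e n) (low_eq_zero_of_induced e π τ hπ hW S hS hSp hS1 hn) ?_
  rw [← map_inv, ← map_mul, ← map_mul, hna a rfl]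

/-- A characteristic functor does not control strong fusion in a copy of `Qd(p)`. -/
theorem not_controls_of_equiv_qd {Q : Type u} [Group Q] [Finite Q] (e : Q ≃* ↥(Cfsg.qd p))
    {W : ∀ (R : Type u) [Group R], Subgroup R} (hW : Cfsg.IsCharPFunctor.{u} p W) (T : Sylow p Q) :
    ¬ Cfsg.ControlsStrongFusion p (Cfsg.inducedFunctor (G := Q) W (T : Subgroup Q)) := by
  have hsyl := (qdSylow_sylowIn (p := p))
  let S₁ : Sylow p ↥(Cfsg.qd p) := T.mapSurjective (f := e.toMonoidHom) e.surjective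
  obtain ⟨k, hk, hkS⟩ := (sylowIn_top S₁).exists_conj_eq hsyl
  refine not_controls_of_map_eq (e.trans (MulAut.conj k⁻¹)) hW T T.2 ?_
  have h1 : (S₁ : Subgroup ↥(Cfsg.qd p)) = (T : Subgroup Q).map e.toMonoidHom := rfl
  rw [show (e.trans (MulAut.conj k⁻¹)).toMonoidHom =
    (MulAut.conj k⁻¹).toMonoidHom.comp e.toMonoidHom from rfl, ← Subgroup.map_map, ← h1]
  rw [← hkS, conjMap, Subgroup.map_map]
  convert Subgroup.map_id _
  ext z
  simp [mul_assoc]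

end CfsgLib.PLocal
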