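import Cfsg.Agent.Lib.PLocal.ReplaceLemma
import Cfsg.Agent.Lib.PLocal.Replace

/-!
# Glauberman's replacement for abelian subgroups
-/

set_option autoImplicit false

namespace CfsgLib.PLocal

open Subgroup
open scoped commutatorElement

universe u

variable {G : Type u} [Group G]

/-- The product formula for a subgroup and a normalizing one. -/
theorem card_mul_card_eq_of_normalizes [Finite G] {H K : Subgroup G}
    (hK : K ≤ Subgroup.normalizer (H : Set G)) :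
    Nat.card H * Nat.card K = Nat.card ↥(H ⊔ K) * Nat.card ↥(H ⊓ K) := by
  haveI : (H.subgroupOf (K ⊔ H)).Normal :=
    Subgroup.normal_subgroupOf_of_le_normalizer (sup_le hK Subgroup.le_normalizer)
  haveI : (H.subgroupOf K).Normal := Subgroup.normal_subgroupOf_of_le_normalizer hK
  have hq : H.relIndex K = H.relIndex (K ⊔ H) :=
    Nat.card_congr (QuotientGroup.quotientInfEquivProdNormalizerQuotient K H hK).toEquiv
  have h1 := Subgroup.relIndex_mul_relIndex ⊥ (H ⊓ K) K bot_le inf_le_right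
  rw [Subgroup.relIndex_bot_left, Subgroup.relIndex_bot_left, Subgroup.inf_relIndex_right, hq] at h1
  have h2 := Subgroup.relIndex_mul_relIndex ⊥ H (K ⊔ H) bot_le le_sup_right
  rw [Subgroup.relIndex_bot_left, Subgroup.relIndex_bot_left] at h2
  rw [sup_comm, ← h1, ← h2]
  ring

/-- The replacement subgroup `(A ∩ xAx⁻¹)[A, x]`. -/
def replA (A : Subgroup G) (x : G) : Subgroup G :=
  (A ⊓ A.map (MulAut.conj x).toMonoidHom) ⊔ Subgroup.closure {g | ∃ a ∈ A, g = a * x * a⁻¹ * x⁻¹}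

/-- The standing hypotheses of the replacement. -/
structure ReplData (A B : Subgroup G) (x : G) : Prop where
  comm : IsMulCommutative A
  norm : A ≤ Subgroup.normalizer (B : Set G)
  derived : ⁅B, B⁆ ≤ A
  odd : (∀ y ∈ B, y ^ 2 = 1 → y = 1) ∨ IsMulCommutative B
  mem : x ∈ B
  left : ∀ a ∈ A, x * a * x⁻¹ ∈ Subgroup.normalizer (A : Set G)
  right : ∀ a ∈ A, x⁻¹ * a * x ∈ Subgroup.normalizer (A : Set G)

namespace ReplData

variable {A B : Subgroup G} {x : G} (h : ReplData A B x)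
include h

theorem acomm {a b : G} (ha : a ∈ A) (hb : b ∈ A) : a * b = b * a :=
  congrArg Subtype.val (h.comm.is_comm.comm (⟨a, ha⟩ : A) ⟨b, hb⟩)

theorem u_mem_B {a : G} (ha : a ∈ A) : a * x * a⁻¹ * x⁻¹ ∈ B :=
  B.mul_mem ((Subgroup.mem_normalizer_iff.mp (h.norm ha) x).mp h.mem) (B.inv_mem h.mem)

theorem u_mem_N {a : G} (ha : a ∈ A) : a * x * a⁻¹ * x⁻¹ ∈ Subgroup.normalizer (A : Set G) := by
  rw [show a * x * a⁻¹ * x⁻¹ = a * (x * a⁻¹ * x⁻¹) by group]
  exact mul_mem (Subgroup.le_normalizer ha) (h.left a⁻¹ (A.inv_mem ha))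

theorem beta_mem {s t : G} (hs : s ∈ B) (ht : t ∈ B) : s * t * s⁻¹ * t⁻¹ ∈ A := by
  have := h.derived (Subgroup.commutator_mem_commutator hs ht)
  rwa [commutatorElement_def] at this

theorem inf_le_conj {y : G} (hy : y ∈ A) (hyB : y ∈ B) : x⁻¹ * y * x ∈ A ∧ x * y * x⁻¹ ∈ A := by
  constructor
  · have := A.mul_mem (h.beta_mem (B.inv_mem h.mem) hyB) hy
    simpa [mul_assoc] using this
  · have := A.mul_mem (h.beta_mem h.mem hyB) hy
    simpa [mul_assoc] using this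

theorem inf_le_D : A ⊓ B ≤ A ⊓ A.map (MulAut.conj x).toMonoidHom := fun y hy =>
  ⟨hy.1, x⁻¹ * y * x, (h.inf_le_conj hy.1 hy.2).1, by simp [mul_assoc]⟩

theorem commutator_le_inf : ⁅B, B⁆ ≤ A ⊓ B :=
  le_inf h.derived (Subgroup.commutator_le_self B)

theorem commute_u : (∀ d ∈ A, d ∈ B → ∀ a ∈ A, Commute d (a * x * a⁻¹ * x⁻¹)) ∧
    ∀ a ∈ A, ∀ b ∈ A, Commute (a * x * a⁻¹ * x⁻¹) (b * x * b⁻¹ * x⁻¹) := by
  exact replace_commutators_commute h.comm h.norm (fun s hs t ht => h.beta_mem hs ht) h.odd h.mem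
    fun a ha => h.u_mem_N ha

theorem closure_le : Subgroup.closure {g | ∃ a ∈ A, g = a * x * a⁻¹ * x⁻¹} ≤
    B ⊓ (A ⊔ A.map (MulAut.conj x).toMonoidHom) := by
  rw [Subgroup.closure_le]
  rintro _ ⟨a, ha, rfl⟩
  refine ⟨h.u_mem_B ha, ?_⟩
  rw [show a * x * a⁻¹ * x⁻¹ = a * (x * a⁻¹ * x⁻¹) by group]
  exact mul_mem (mem_sup_left ha) (mem_sup_right ⟨a⁻¹, A.inv_mem ha, rfl⟩)

theorem D_centralizes : A ⊔ A.map (MulAut.conj x).toMonoidHom ≤
    Subgroup.centralizer ((A ⊓ A.map (MulAut.conj x).toMonoidHom : Subgroup G) : Set G) := by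
  refine sup_le (fun a ha d hd => h.acomm hd.1 ha) ?_
  rintro _ ⟨a, ha, rfl⟩ d ⟨-, ⟨d₀, hd₀, rfl⟩⟩
  show MulAut.conj x d₀ * MulAut.conj x a = MulAut.conj x a * MulAut.conj x d₀
  rw [← map_mul, ← map_mul, h.acomm hd₀ ha]

theorem isMulCommutative : IsMulCommutative ↥(replA A x) := by
  refine Subgroup.le_centralizer_iff_isMulCommutative.1 ?_
  unfold replA
  set D := A ⊓ A.map (MulAut.conj x).toMonoidHom with hD
  set M := Subgroup.closure {g | ∃ a ∈ A, g = a * x * a⁻¹ * x⁻¹} with hM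
  have hDM : M ≤ Subgroup.centralizer (D : Set G) := (h.closure_le.trans inf_le_right).trans h.D_centralizes
  have hMM : M ≤ Subgroup.centralizer (M : Set G) := by
    rw [hM, Subgroup.centralizer_closure, Subgroup.closure_le]
    rintro _ ⟨a, ha, rfl⟩ _ ⟨b, hb, rfl⟩
    exact ((h.commute_u.2 a ha b hb).symm).eq
  have hDD : D ≤ Subgroup.centralizer (D : Set G) :=
    (inf_le_left.trans le_sup_left).trans h.D_centralizes
  refine sup_le ?_ ?_
  · exact Subgroup.le_centralizer_iff.1 (sup_le hDD hDM)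
  · exact Subgroup.le_centralizer_iff.1 (sup_le (Subgroup.le_centralizer_iff.1 hDM) hMM)

theorem le_normalizer_self : replA A x ≤ Subgroup.normalizer (A : Set G) :=
  sup_le (inf_le_left.trans Subgroup.le_normalizer)
    ((Subgroup.closure_le _).2 (by rintro _ ⟨a, ha, rfl⟩; exact h.u_mem_N ha))

theorem sup_eq : A ⊔ replA A x = A ⊔ A.map (MulAut.conj x).toMonoidHom := by
  refine le_antisymm (sup_le le_sup_left (sup_le (inf_le_left.trans le_sup_left)
    (h.closure_le.trans inf_le_right))) (sup_le le_sup_left ?_)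
  rintro _ ⟨a, ha, rfl⟩
  have e : MulAut.conj x a = a * (a⁻¹ * x * a⁻¹⁻¹ * x⁻¹) := by simp [mul_assoc]
  show MulAut.conj x a ∈ _
  rw [e]
  exact mul_mem (mem_sup_left ha)
    (mem_sup_right (mem_sup_right (subset_closure ⟨a⁻¹, A.inv_mem ha, rfl⟩)))

theorem inf_eq [Finite G] : A ⊓ replA A x = A ⊓ A.map (MulAut.conj x).toMonoidHom := by
  refine le_antisymm ?_ (le_inf inf_le_left le_sup_left)
  rintro y ⟨hyA, hy⟩
  have hMD : Subgroup.closure {g | ∃ a ∈ A, g = a * x * a⁻¹ * x⁻¹} ≤ Subgroup.normalizer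
      ((A ⊓ A.map (MulAut.conj x).toMonoidHom : Subgroup G) : Set G) :=
    ((h.closure_le.trans inf_le_right).trans h.D_centralizes).trans
      (Subgroup.centralizer_le_normalizer _)
  obtain ⟨d, hd, m, hm, rfl⟩ : ∃ d ∈ A ⊓ A.map (MulAut.conj x).toMonoidHom,
      ∃ m ∈ Subgroup.closure {g | ∃ a ∈ A, g = a * x * a⁻¹ * x⁻¹}, d * m = y := by
    have := Subgroup.coe_mul_of_left_le_normalizer_right _ (A ⊓ A.map (MulAut.conj x).toMonoidHom) hMD
    rw [replA, sup_comm] at hy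
    have hy' : y ∈ ((Subgroup.closure {g | ∃ a ∈ A, g = a * x * a⁻¹ * x⁻¹} ⊔
        (A ⊓ A.map (MulAut.conj x).toMonoidHom) : Subgroup G) : Set G) := hy
    rw [this] at hy'
    obtain ⟨m, hm, d, hd, rfl⟩ := Set.mem_mul.1 hy'
    exact ⟨d, hd, m, hm, ((h.D_centralizes ((h.closure_le hm).2)) d hd)⟩
  have hmA : m ∈ A := by simpa using A.mul_mem (A.inv_mem hd.1) hyA
  exact mul_mem hd (h.inf_le_D ⟨hmA, (h.closure_le hm).1⟩)

theorem card_eq [Finite G] : Nat.card ↥(replA A x) = Nat.card A := by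
  have hconj : A.map (MulAut.conj x).toMonoidHom ≤ Subgroup.normalizer (A : Set G) := by
    rintro _ ⟨a, ha, rfl⟩; exact h.left a ha
  have h1 : Nat.card A * Nat.card ↥(replA A x) =
      Nat.card ↥(A ⊔ replA A x) * Nat.card ↥(A ⊓ replA A x) :=
    card_mul_card_eq_of_normalizes h.le_normalizer_self
  have h2 : Nat.card A * Nat.card ↥(A.map (MulAut.conj x).toMonoidHom) =
      Nat.card ↥(A ⊔ A.map (MulAut.conj x).toMonoidHom) *
        Nat.card ↥(A ⊓ A.map (MulAut.conj x).toMonoidHom) :=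
    card_mul_card_eq_of_normalizes hconj
  rw [h.sup_eq, h.inf_eq, ← h2, Subgroup.card_map_of_injective (MulAut.conj x).injective] at h1
  exact Nat.eq_of_mul_eq_mul_left Nat.card_pos h1

theorem derived_le : ⁅B, B⁆ ≤ replA A x :=
  h.commutator_le_inf.trans (h.inf_le_D.trans le_sup_left)

theorem inf_le_replA : A ⊓ B ≤ replA A x ⊓ B :=
  le_inf (h.inf_le_D.trans le_sup_left) inf_le_right

theorem le_sup_conj : replA A x ≤ A ⊔ A.map (MulAut.conj x).toMonoidHom :=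
  h.sup_eq ▸ le_sup_right

theorem inf_lt [Finite G] (hx : x ∉ Subgroup.normalizer (A : Set G)) :
    A ⊓ B < replA A x ⊓ B := by
  refine lt_of_le_of_ne h.inf_le_replA fun heq => hx ?_
  have hu : ∀ a ∈ A, a * x * a⁻¹ * x⁻¹ ∈ A := fun a ha =>
    (heq ▸ ⟨mem_sup_right (subset_closure ⟨a, ha, rfl⟩), h.u_mem_B ha⟩ :
      a * x * a⁻¹ * x⁻¹ ∈ A ⊓ B).1
  refine Subgroup.mem_normalizer_iff_map_conj_eq.mpr (Subgroup.eq_of_le_of_card_ge ?_ ?_)
  · rintro _ ⟨y, hy, rfl⟩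
    have := A.mul_mem hy (hu y⁻¹ (A.inv_mem hy))
    simpa [mul_assoc] using this
  · exact (Subgroup.card_map_of_injective (MulAut.conj x).injective).ge

theorem inf_lt_B (hx : x ∉ Subgroup.normalizer (A : Set G)) : replA A x ⊓ B < B :=
  lt_of_le_of_ne inf_le_right fun heq => hx (h.le_normalizer_self (heq.symm.le h.mem).1)

theorem le_normalizer_replA [Finite G] : A ≤ Subgroup.normalizer (replA A x : Set G) := by
  intro a ha
  refine Subgroup.mem_normalizer_iff_map_conj_eq.2 (Subgroup.eq_of_le_of_card_ge ?_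
    (Subgroup.card_map_of_injective (MulAut.conj a).injective).ge)
  rw [replA, Subgroup.map_sup, sup_le_iff, MonoidHom.map_closure, Subgroup.closure_le]
  refine ⟨?_, ?_⟩
  · rintro _ ⟨d, hd, rfl⟩
    refine mem_sup_left ?_
    show a * d * a⁻¹ ∈ _
    rw [h.acomm ha hd.1, mul_inv_cancel_right]
    exact hd
  · rintro _ ⟨_, ⟨b, hb, rfl⟩, rfl⟩
    show a * (b * x * b⁻¹ * x⁻¹) * a⁻¹ ∈ _
    rw [show a * (b * x * b⁻¹ * x⁻¹) * a⁻¹ =
      ((a * b) * x * (a * b)⁻¹ * x⁻¹) * (a * x * a⁻¹ * x⁻¹)⁻¹ by group]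
    exact mem_sup_right (mul_mem (subset_closure ⟨a * b, A.mul_mem ha hb, rfl⟩)
      (inv_mem (subset_closure ⟨a, ha, rfl⟩)))

theorem mem_normalizer_replA [Finite G] : x ∈ Subgroup.normalizer (replA A x : Set G) := by
  refine Subgroup.mem_normalizer_iff_map_conj_eq.2 (Subgroup.eq_of_le_of_card_ge ?_
    (Subgroup.card_map_of_injective (MulAut.conj x).injective).ge)
  rw [replA, Subgroup.map_sup, sup_le_iff, MonoidHom.map_closure, Subgroup.closure_le]
  refine ⟨?_, ?_⟩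
  · rintro _ ⟨d, hd, rfl⟩
    show x * d * x⁻¹ ∈ _
    rw [show x * d * x⁻¹ = d * (d⁻¹ * x * d⁻¹⁻¹ * x⁻¹) by group]
    exact mul_mem (mem_sup_left hd)
      (mem_sup_right (subset_closure ⟨d⁻¹, A.inv_mem hd.1, rfl⟩))
  · rintro _ ⟨_, ⟨b, hb, rfl⟩, rfl⟩
    show x * (b * x * b⁻¹ * x⁻¹) * x⁻¹ ∈ _
    rw [show x * (b * x * b⁻¹ * x⁻¹) * x⁻¹ =
      ⁅x, b * x * b⁻¹ * x⁻¹⁆ * (b * x * b⁻¹ * x⁻¹) by rw [commutatorElement_def]; group]
    exact mul_mem (mem_sup_left (h.inf_le_D (h.commutator_le_inf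
      (Subgroup.commutator_mem_commutator h.mem (h.u_mem_B hb)))))
      (mem_sup_right (subset_closure ⟨b, hb, rfl⟩))

theorem normalizer_le [Finite G] {n : G} (hn : n ∈ Subgroup.normalizer (A : Set G))
    (hnB : n ∈ Subgroup.normalizer (B : Set G))
    (h1 : n * x * n⁻¹ * x⁻¹ ∈ Subgroup.normalizer (A : Set G))
    (h2 : n⁻¹ * x * n * x⁻¹ ∈ Subgroup.normalizer (A : Set G)) :
    n ∈ Subgroup.normalizer (replA A x : Set G) := by
  have hc : ∀ m, m ∈ Subgroup.normalizer (B : Set G) → m * x * m⁻¹ * x⁻¹ ∈ B := fun m hm =>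
    B.mul_mem ((Subgroup.mem_normalizer_iff.mp hm x).mp h.mem) (B.inv_mem h.mem)
  have hcomm : ∀ a ∈ A, ∀ c ∈ B, c ∈ Subgroup.normalizer (A : Set G) → a * c * a⁻¹ * c⁻¹ ∈ A ⊓ B :=
    fun a ha c hc hcN => by
      refine ⟨?_, B.mul_mem ((Subgroup.mem_normalizer_iff.mp (h.norm ha) c).mp hc) (B.inv_mem hc)⟩
      rw [show a * c * a⁻¹ * c⁻¹ = a * (c * a⁻¹ * c⁻¹) by group]
      exact A.mul_mem ha ((Subgroup.mem_normalizer_iff.mp hcN _).mp (A.inv_mem ha))
  refine Subgroup.mem_normalizer_iff_map_conj_eq.2 (Subgroup.eq_of_le_of_card_ge ?_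
    (Subgroup.card_map_of_injective (MulAut.conj n).injective).ge)
  rw [replA, Subgroup.map_sup, sup_le_iff, MonoidHom.map_closure, Subgroup.closure_le]
  refine ⟨?_, ?_⟩
  · rintro _ ⟨d, hd, rfl⟩
    refine mem_sup_left ⟨(Subgroup.mem_normalizer_iff.mp hn d).mp hd.1, ?_⟩
    set c := n⁻¹ * x * n * x⁻¹ with hcdef
    have hcB : c ∈ B := by simpa [hcdef] using hc n⁻¹ (inv_mem hnB)
    have hd' : c⁻¹ * d * c ∈ A ⊓ A.map (MulAut.conj x).toMonoidHom := by
      rw [show c⁻¹ * d * c = d * (d⁻¹ * c⁻¹ * d⁻¹⁻¹ * c⁻¹⁻¹) by group]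
      exact mul_mem hd (h.inf_le_D (hcomm d⁻¹ (A.inv_mem hd.1) c⁻¹ (B.inv_mem hcB) (inv_mem h2)))
    obtain ⟨d₀, hd₀, he⟩ := hd'.2
    refine ⟨n * d₀ * n⁻¹, (Subgroup.mem_normalizer_iff.mp hn d₀).mp hd₀, ?_⟩
    show x * (n * d₀ * n⁻¹) * x⁻¹ = n * d * n⁻¹
    change x * d₀ * x⁻¹ = c⁻¹ * d * c at he
    have e0 : d₀ = x⁻¹ * (c⁻¹ * d * c) * x := by rw [← he]; group
    rw [e0, hcdef]; group
  · rintro _ ⟨_, ⟨b, hb, rfl⟩, rfl⟩
    show n * (b * x * b⁻¹ * x⁻¹) * n⁻¹ ∈ _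
    set c := n * x * n⁻¹ * x⁻¹ with hcdef
    set b' := n * b * n⁻¹ with hb'def
    have hb' : b' ∈ A := (Subgroup.mem_normalizer_iff.mp hn b).mp hb
    rw [show n * (b * x * b⁻¹ * x⁻¹) * n⁻¹ = (b' * c * b'⁻¹ * c⁻¹) *
        (⁅c, b' * x * b'⁻¹ * x⁻¹⁆ * (b' * x * b'⁻¹ * x⁻¹)) by
      simp only [hcdef, hb'def, commutatorElement_def]; group]
    exact mul_mem (mem_sup_left (h.inf_le_D (hcomm b' hb' c (hc n hnB) h1)))
      (mul_mem (mem_sup_left (h.inf_le_D (h.commutator_le_inf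
        (Subgroup.commutator_mem_commutator (hc n hnB) (h.u_mem_B hb')))))
        (mem_sup_right (subset_closure ⟨b', hb', rfl⟩)))

theorem sup_central {d : G} (hd : d ∈ A ⊓ A.map (MulAut.conj x).toMonoidHom) {g : G}
    (hg : g ∈ A ⊔ A.map (MulAut.conj x).toMonoidHom) : Commute d g :=
  h.D_centralizes hg d hd

/-- Powers: an odd exponent of `A` kills the replacement. -/
theorem pow_eq_one [Finite G] {m : ℕ} (hm : Odd m) (hA : ∀ a ∈ A, a ^ m = 1) {g : G}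
    (hg : g ∈ replA A x) : g ^ m = 1 := by
  have hc := h.isMulCommutative
  have hcom : ∀ s t : G, s ∈ replA A x → t ∈ replA A x → Commute s t := fun s t hs ht =>
    congrArg Subtype.val (hc.is_comm.comm (⟨s, hs⟩ : replA A x) ⟨t, ht⟩)
  let E : Subgroup G :=
    { carrier := {g | g ∈ replA A x ∧ g ^ m = 1}
      one_mem' := ⟨one_mem _, one_pow m⟩
      mul_mem' := fun {s t} hs ht => ⟨mul_mem hs.1 ht.1, by
        rw [(hcom s t hs.1 ht.1).mul_pow, hs.2, ht.2, one_mul]⟩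
      inv_mem' := fun {s} hs => ⟨inv_mem hs.1, by rw [inv_pow, hs.2, inv_one]⟩ }
  suffices replA A x ≤ E from (this hg).2
  refine sup_le (fun d hd => ⟨mem_sup_left hd, hA d hd.1⟩) ((Subgroup.closure_le _).2 ?_)
  rintro _ ⟨a, ha, rfl⟩
  refine ⟨mem_sup_right (subset_closure ⟨a, ha, rfl⟩), ?_⟩
  set y := a with hy
  set z := x * a⁻¹ * x⁻¹ with hz
  rw [show a * x * a⁻¹ * x⁻¹ = y * z by rw [hy, hz]; group]
  have hcD : z * y * z⁻¹ * y⁻¹ ∈ A ⊓ A.map (MulAut.conj x).toMonoidHom := by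
    refine ⟨A.mul_mem ((Subgroup.mem_normalizer_iff.mp (h.left _ (A.inv_mem ha)) a).mp ha)
      (A.inv_mem ha), ?_⟩
    rw [show z * y * z⁻¹ * y⁻¹ = z * (y * z⁻¹ * y⁻¹) by group]
    have hzm : z ∈ A.map (MulAut.conj x).toMonoidHom := ⟨a⁻¹, A.inv_mem ha, rfl⟩
    refine mul_mem hzm ?_
    obtain ⟨c, hc', hce⟩ := Subgroup.inv_mem _ hzm
    have hAN : x⁻¹ * a * x ∈ Subgroup.normalizer (A : Set G) := h.right a ha
    refine ⟨(x⁻¹ * a * x) * c * (x⁻¹ * a * x)⁻¹, (Subgroup.mem_normalizer_iff.mp hAN c).mp hc', ?_⟩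
    change x * c * x⁻¹ = z⁻¹ at hce
    show x * (x⁻¹ * a * x * c * (x⁻¹ * a * x)⁻¹) * x⁻¹ = y * z⁻¹ * y⁻¹
    rw [← hce, hy]; group
  have hzy : z ∈ A ⊔ A.map (MulAut.conj x).toMonoidHom := mem_sup_right ⟨a⁻¹, A.inv_mem ha, rfl⟩
  have hcy : Commute y (z * y * z⁻¹ * y⁻¹) := (h.sup_central hcD (mem_sup_left ha)).symm
  have hcz : Commute z (z * y * z⁻¹ * y⁻¹) := (h.sup_central hcD hzy).symm
  have hzp : z ^ m = 1 := by
    rw [hz, conj_pow, hA _ (A.inv_mem ha), mul_one, mul_inv_cancel]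
  set c := z * y * z⁻¹ * y⁻¹ with hcdef
  have e1 : z * y = c * (y * z) := by rw [hcdef]; group
  have hn : ∀ n : ℕ, z ^ n * y = c ^ n * (y * z ^ n) := by
    intro n
    induction n with
    | zero => simp
    | succ n ih =>
      rw [pow_succ', mul_assoc, ih, ← mul_assoc, (hcz.pow_right n).eq, mul_assoc, ← mul_assoc z y,
        e1, ← mul_assoc, ← mul_assoc, ← pow_succ]
      simp only [mul_assoc, pow_succ']
  have hcm : c ^ m = 1 := by
    have := hn m
    rw [hzp, one_mul, mul_one] at this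
    exact mul_eq_right.mp this.symm
  have hn2 : ∀ n : ℕ, (y * z) ^ n = c ^ (n.choose 2) * y ^ n * z ^ n := by
    intro n
    induction n with
    | zero => simp
    | succ n ih =>
      calc (y * z) ^ (n + 1) = c ^ (n.choose 2) * y ^ n * (z ^ n * y) * z := by
            rw [pow_succ, ih]; simp only [mul_assoc]
        _ = c ^ (n.choose 2) * (y ^ n * c ^ n) * (y * z ^ n) * z := by rw [hn]; simp only [mul_assoc]
        _ = c ^ (n.choose 2) * (c ^ n * y ^ n) * (y * z ^ n) * z := by rw [(hcy.pow_pow n n).eq]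
        _ = c ^ (n.choose 2 + n) * y ^ (n + 1) * z ^ (n + 1) := by
            rw [pow_add, pow_succ y, pow_succ z]; simp only [mul_assoc]
        _ = c ^ ((n + 1).choose 2) * y ^ (n + 1) * z ^ (n + 1) := by
            rw [Nat.choose_succ_succ' n 1, Nat.choose_one_right, Nat.add_comm n (n.choose (1 + 1))]
  rw [hn2, hzp, show y ^ m = 1 from hA a ha, mul_one, mul_one, Nat.choose_two_right]
  obtain ⟨j, hj⟩ := hm
  have e : m * (m - 1) / 2 = m * j := by
    rw [hj, show 2 * j + 1 - 1 = j * 2 by omega, ← mul_assoc, Nat.mul_div_cancel _ (by norm_num)]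
  rw [e, pow_mul, hcm, one_pow]

end ReplData

section Existence

/-- An element of `B` normalizing `S ⊓ N(A)` but not `A`. -/
theorem exists_replData {p : ℕ} [Fact p.Prime] [Finite G] {S A B : Subgroup G} (hS : IsPGroup p S)
    (hA : IsMulCommutative A) (hAS : A ≤ S) (hBS : B ≤ S)
    (hSB : S ≤ Subgroup.normalizer (B : Set G)) (hBA : ⁅B, B⁆ ≤ A)
    (h2 : p = 2 → IsMulCommutative B) (hne : ¬ B ≤ Subgroup.normalizer (A : Set G)) :
    ∃ x, ReplData A B x ∧ x ∉ Subgroup.normalizer (A : Set G) ∧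
      ∀ n ∈ S ⊓ Subgroup.normalizer (A : Set G),
        x * n * x⁻¹ ∈ S ⊓ Subgroup.normalizer (A : Set G) ∧
          x⁻¹ * n * x ∈ S ⊓ Subgroup.normalizer (A : Set G) := by
  classical
  have hnil : Group.IsNilpotent S := hS.isNilpotent
  have hex : ∃ i, ∀ s ∈ S.lowerCentralSeries i, s ∈ B → s ∈ Subgroup.normalizer (A : Set G) := by
    obtain ⟨n, hn⟩ := (Subgroup.isNilpotent_iff_lowerCentralSeries S).mp hnil
    exact ⟨n, fun s hs _ => by rw [hn, Subgroup.mem_bot] at hs; rw [hs]; exact Subgroup.one_mem _⟩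
  obtain ⟨i, hi⟩ : ∃ i, Nat.find hex = i + 1 := by
    refine Nat.exists_eq_succ_of_ne_zero fun h0 => hne fun b hb => ?_
    have := Nat.find_spec hex
    rw [h0] at this
    exact this b (hBS hb) hb
  have hmin := Nat.find_min hex (show i < Nat.find hex by omega)
  simp only [not_forall] at hmin
  obtain ⟨x, hxi, hxB, hxN⟩ := hmin
  have hnext := Nat.find_spec hex
  rw [hi] at hnext
  have hgen : ∀ n ∈ S ⊓ Subgroup.normalizer (A : Set G), ∀ y ∈ S.lowerCentralSeries i, y ∈ B →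
      y * n * y⁻¹ ∈ S ⊓ Subgroup.normalizer (A : Set G) := by
    intro n hn y hy hyB
    have hm : y * n * y⁻¹ * n⁻¹ ∈ S.lowerCentralSeries (i + 1) := by
      have := Subgroup.commutator_mem_commutator hy hn.1
      rw [← Subgroup.lowerCentralSeries_succ, commutatorElement_def] at this
      exact this
    have hmB : y * n * y⁻¹ * n⁻¹ ∈ B := by
      rw [show y * n * y⁻¹ * n⁻¹ = y * (n * y⁻¹ * n⁻¹) by group]
      exact B.mul_mem hyB ((Subgroup.mem_normalizer_iff.mp (hSB hn.1) _).mp (B.inv_mem hyB))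
    refine ⟨S.mul_mem (S.mul_mem (hBS hyB) hn.1) (S.inv_mem (hBS hyB)), ?_⟩
    simpa [mul_assoc] using mul_mem (hnext _ hm hmB) hn.2
  have hboth : ∀ n ∈ S ⊓ Subgroup.normalizer (A : Set G),
      x * n * x⁻¹ ∈ S ⊓ Subgroup.normalizer (A : Set G) ∧
        x⁻¹ * n * x ∈ S ⊓ Subgroup.normalizer (A : Set G) := fun n hn =>
    ⟨hgen n hn x hxi hxB, by simpa using hgen n hn x⁻¹ (inv_mem hxi) (B.inv_mem hxB)⟩
  refine ⟨x, ⟨hA, hAS.trans hSB, hBA, ?_, hxB,
    fun a ha => (hboth a ⟨hAS ha, Subgroup.le_normalizer ha⟩).1.2,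
    fun a ha => (hboth a ⟨hAS ha, Subgroup.le_normalizer ha⟩).2.2⟩, hxN, hboth⟩
  by_cases hp : p = 2
  · exact Or.inr (h2 hp)
  · refine Or.inl fun y hy hy2 => ?_
    obtain ⟨k, hk⟩ := hS ⟨y, hBS hy⟩
    have hk' : y ^ p ^ k = 1 := by simpa using congrArg Subtype.val hk
    have hodd : Odd (p ^ k) := ((Fact.out : p.Prime).odd_of_ne_two hp).pow
    obtain ⟨j, hj⟩ := hodd
    rwa [hj, pow_succ, pow_mul, hy2, one_pow, one_mul] at hk'

end Existence

end CfsgLib.PLocal
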