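import Cfsg.Prelude.Def_PLocal
import Mathlib

/-!
# The Thompson subgroup generated by the abelian subgroups of largest order
-/

set_option autoImplicit false

namespace CfsgLib.PLocal

open Subgroup

universe u v

variable {G : Type u} [Group G]

/-- The abelian subgroups of largest order inside `U`, as subgroups of the ambient group. -/
def maxAbIn (U : Subgroup G) : Set (Subgroup G) :=
  {A | A ≤ U ∧ IsMulCommutative A ∧
    ∀ B : Subgroup G, B ≤ U → IsMulCommutative B → Nat.card B ≤ Nat.card A}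

theorem comm_of_isMulCommutative {A : Subgroup G} (h : IsMulCommutative A) {a b : G} (ha : a ∈ A)
    (hb : b ∈ A) : a * b = b * a :=
  congrArg Subtype.val (h.is_comm.comm (⟨a, ha⟩ : A) ⟨b, hb⟩)

theorem isMulCommutative_map {H : Type v} [Group H] (f : G →* H) {A : Subgroup G}
    (h : IsMulCommutative A) : IsMulCommutative ↥(A.map f) :=
  ⟨⟨fun ⟨_, x, hx, hxe⟩ ⟨_, y, hy, hye⟩ => Subtype.ext (by
    subst hxe; subst hye
    show f x * f y = f y * f x
    rw [← map_mul, ← map_mul, comm_of_isMulCommutative h hx hy])⟩⟩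

theorem maxAbIn_eq_image (U : Subgroup G) :
    maxAbIn U = (fun A : Subgroup U => A.map U.subtype) '' Cfsg.maxAbelianSubgroups U := by
  ext A
  constructor
  · rintro ⟨hAU, hA, hmax⟩
    refine ⟨A.subgroupOf U, ⟨?_, fun B hB => ?_⟩, map_subgroupOf_eq_of_le hAU⟩
    · exact ⟨⟨fun a b => Subtype.ext (Subtype.ext
        (comm_of_isMulCommutative hA a.2 b.2 : ((a : U) : G) * ((b : U) : G) = _))⟩⟩
    · rw [Nat.card_congr (subgroupOfEquivOfLe hAU).toEquiv,
        ← card_map_of_injective U.subtype_injective]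
      exact hmax _ (map_subtype_le B) (isMulCommutative_map _ hB)
  · rintro ⟨A₀, ⟨hA, hmax⟩, rfl⟩
    refine ⟨map_subtype_le A₀, isMulCommutative_map _ hA, fun B hBU hB => ?_⟩
    rw [card_map_of_injective U.subtype_injective,
      ← Nat.card_congr (subgroupOfEquivOfLe hBU).toEquiv]
    exact hmax _ ⟨⟨fun a b => Subtype.ext (Subtype.ext
      (comm_of_isMulCommutative hB a.2 b.2 : ((a : U) : G) * ((b : U) : G) = _))⟩⟩

theorem thompsonAOf_eq (U : Subgroup G) : Cfsg.thompsonSubgroupAOf U = sSup (maxAbIn U) := by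
  rw [maxAbIn_eq_image, Cfsg.thompsonSubgroupAOf, Cfsg.thompsonSubgroupA, sSup_eq_iSup, Subgroup.map_iSup,
    sSup_image]
  exact iSup_congr fun A => Subgroup.map_iSup _ _

theorem exists_maxAbIn [Finite G] (U : Subgroup G) : (maxAbIn U).Nonempty := by
  obtain ⟨A, hA, hmax⟩ := Set.exists_max_image {A : Subgroup G | A ≤ U ∧ IsMulCommutative A}
    (fun A => Nat.card A) (Set.toFinite _)
    ⟨⊥, bot_le, ⟨⟨fun a b => Subsingleton.elim _ _⟩⟩⟩
  exact ⟨A, hA.1, hA.2, fun B h1 h2 => hmax B ⟨h1, h2⟩⟩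

theorem le_thompsonAOf {U A : Subgroup G} (hA : A ∈ maxAbIn U) :
    A ≤ Cfsg.thompsonSubgroupAOf U := by
  rw [thompsonAOf_eq]; exact le_sSup hA

theorem thompsonAOf_le (U : Subgroup G) : Cfsg.thompsonSubgroupAOf U ≤ U := map_subtype_le _

theorem centerThompsonAOf_le (U : Subgroup G) : Cfsg.centerThompsonAOf U ≤ U :=
  inf_le_left.trans (thompsonAOf_le U)

theorem centerThompsonAOf_comm (U : Subgroup G) : IsMulCommutative (Cfsg.centerThompsonAOf U) :=
  ⟨⟨fun x y => Subtype.ext (y.2.2 x.1 x.2.1)⟩⟩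

/-- An element centralizing an abelian subgroup of largest order lies in it. -/
theorem mem_maxAbIn_of_centralizes [Finite G] {U A : Subgroup G} (hA : A ∈ maxAbIn U) {x : G}
    (hxU : x ∈ U) (hc : x ∈ centralizer (A : Set G)) : x ∈ A := by
  have hcomm : IsMulCommutative ↥(A ⊔ zpowers x) := by
    refine le_centralizer_iff_isMulCommutative.1 ?_
    have h1 : A ≤ centralizer (A : Set G) := le_centralizer_iff_isMulCommutative.2 hA.2.1
    have h2 : zpowers x ≤ centralizer (A : Set G) := zpowers_le.2 hc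
    have h3 : zpowers x ≤ centralizer (zpowers x : Set G) := by
      intro y hy z hz
      obtain ⟨i, rfl⟩ := mem_zpowers_iff.1 hy
      obtain ⟨j, rfl⟩ := mem_zpowers_iff.1 hz
      exact ((Commute.refl x).zpow_zpow j i).eq
    exact sup_le (le_centralizer_iff.1 (sup_le h1 h2))
      (le_centralizer_iff.1 (sup_le (le_centralizer_iff.1 h2) h3))
  have hcard := hA.2.2 _ (sup_le hA.1 (zpowers_le.2 hxU)) hcomm
  have heq : A = A ⊔ zpowers x := eq_of_le_of_card_ge le_sup_left hcard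
  rw [heq]
  exact (le_sup_right : zpowers x ≤ A ⊔ zpowers x) (mem_zpowers x)

theorem maxAbIn_of_le {U W : Subgroup G} (hUW : U ≤ W) {A₀ : Subgroup G} (hA₀ : A₀ ∈ maxAbIn W)
    (h₀ : A₀ ≤ U) {A : Subgroup G} : A ∈ maxAbIn U ↔ A ∈ maxAbIn W ∧ A ≤ U := by
  constructor
  · rintro ⟨hAU, hA, hmax⟩
    exact ⟨⟨hAU.trans hUW, hA, fun B hBW hB =>
      (hA₀.2.2 B hBW hB).trans (hmax A₀ h₀ hA₀.2.1)⟩, hAU⟩
  · rintro ⟨⟨_, hA, hmax⟩, hAU⟩
    exact ⟨hAU, hA, fun B hBU hB => hmax B (hBU.trans hUW) hB⟩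

theorem thompsonAOf_eq_of_le [Finite G] {U W : Subgroup G}
    (h : Cfsg.thompsonSubgroupAOf W ≤ U) (hUW : U ≤ W) :
    Cfsg.thompsonSubgroupAOf U = Cfsg.thompsonSubgroupAOf W := by
  obtain ⟨A₀, hA₀⟩ := exists_maxAbIn W
  rw [thompsonAOf_eq, thompsonAOf_eq]
  congr 1
  ext A
  rw [maxAbIn_of_le hUW hA₀ ((le_thompsonAOf hA₀).trans h)]
  exact ⟨And.left, fun hA => ⟨hA, (le_thompsonAOf hA).trans h⟩⟩

theorem card_map_of_injOn {H : Type v} [Group H] (f : G →* H) {U : Subgroup G}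
    (hf : ∀ x ∈ U, f x = 1 → x = 1) {A : Subgroup G} (hA : A ≤ U) :
    Nat.card ↥(A.map f) = Nat.card A := by
  refine (Nat.card_congr (Equiv.ofBijective (fun a : A => (⟨f a, a, a.2, rfl⟩ : A.map f))
    ⟨fun a b h => Subtype.ext ?_, ?_⟩)).symm
  · have h' : f a = f b := congrArg Subtype.val h
    exact mul_inv_eq_one.1 (hf _ (U.mul_mem (hA a.2) (U.inv_mem (hA b.2)))
      (by rw [map_mul, map_inv, h', mul_inv_cancel]))
  · rintro ⟨_, a, ha, rfl⟩
    exact ⟨⟨a, ha⟩, rfl⟩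

theorem map_mem_maxAbIn {H : Type v} [Group H] (f : G →* H) {U A : Subgroup G}
    (hf : ∀ x ∈ U, f x = 1 → x = 1) (hA : A ∈ maxAbIn U) : A.map f ∈ maxAbIn (U.map f) := by
  refine ⟨map_mono hA.1, isMulCommutative_map f hA.2.1, fun B hB hBc => ?_⟩
  have hBU : B.comap f ⊓ U ≤ U := inf_le_right
  have hBeq : (B.comap f ⊓ U).map f = B := by
    refine le_antisymm (map_le_iff_le_comap.2 inf_le_left) fun y hy => ?_
    obtain ⟨x, hx, rfl⟩ := hB hy
    exact ⟨x, ⟨hy, hx⟩, rfl⟩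
  rw [← hBeq, card_map_of_injOn f hf hBU, card_map_of_injOn f hf hA.1]
  refine hA.2.2 _ hBU ⟨⟨fun a b => Subtype.ext ?_⟩⟩
  show (a : G) * b = b * a
  refine mul_inv_eq_one.1 (hf _ (U.mul_mem (U.mul_mem (hBU a.2) (hBU b.2))
    (U.inv_mem (U.mul_mem (hBU b.2) (hBU a.2)))) ?_)
  rw [map_mul, map_inv, map_mul, map_mul,
    comm_of_isMulCommutative hBc a.2.1 b.2.1, mul_inv_cancel]

theorem thompsonAOf_map [Finite G] {H : Type v} [Group H] (f : G →* H) {U : Subgroup G}
    (hf : ∀ x ∈ U, f x = 1 → x = 1) :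
    (Cfsg.thompsonSubgroupAOf U).map f = Cfsg.thompsonSubgroupAOf (U.map f) := by
  rw [thompsonAOf_eq, thompsonAOf_eq]
  refine le_antisymm ?_ ?_
  · rw [map_le_iff_le_comap]
    exact sSup_le fun A hA => map_le_iff_le_comap.1 (le_sSup (map_mem_maxAbIn f hf hA))
  · refine sSup_le fun B hB => ?_
    obtain ⟨A₁, hA₁⟩ := exists_maxAbIn U
    have hBU : B.comap f ⊓ U ≤ U := inf_le_right
    have hBeq : (B.comap f ⊓ U).map f = B := by
      refine le_antisymm (map_le_iff_le_comap.2 inf_le_left) fun y hy => ?_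
      obtain ⟨x, hx, rfl⟩ := hB.1 hy
      exact ⟨x, ⟨hy, hx⟩, rfl⟩
    rw [← hBeq]
    refine map_mono (le_sSup ⟨hBU, ⟨⟨fun a b => Subtype.ext ?_⟩⟩, fun C hC hCc => ?_⟩)
    · show (a : G) * b = b * a
      refine mul_inv_eq_one.1 (hf _ (U.mul_mem (U.mul_mem (hBU a.2) (hBU b.2))
        (U.inv_mem (U.mul_mem (hBU b.2) (hBU a.2)))) ?_)
      rw [map_mul, map_inv, map_mul, map_mul,
        comm_of_isMulCommutative hB.2.1 a.2.1 b.2.1, mul_inv_cancel]
    · rw [← card_map_of_injOn f hf hBU, hBeq, ← card_map_of_injOn f hf hC]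
      exact hB.2.2 _ (map_mono hC) (isMulCommutative_map f hCc)

theorem centerThompsonAOf_map [Finite G] {H : Type v} [Group H] (f : G →* H) {U : Subgroup G}
    (hf : ∀ x ∈ U, f x = 1 → x = 1) :
    (Cfsg.centerThompsonAOf U).map f = Cfsg.centerThompsonAOf (U.map f) := by
  unfold Cfsg.centerThompsonAOf
  rw [← thompsonAOf_map f hf]
  set J := Cfsg.thompsonSubgroupAOf U with hJdef
  have hJ : J ≤ U := thompsonAOf_le U
  ext y
  constructor
  · rintro ⟨x, ⟨hx, hxc⟩, rfl⟩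
    refine ⟨⟨x, hx, rfl⟩, ?_⟩
    rintro _ ⟨z, hz, rfl⟩
    rw [← map_mul, ← map_mul, hxc z hz]
  · rintro ⟨⟨x, hx, rfl⟩, hxc⟩
    refine ⟨x, ⟨hx, fun z hz => ?_⟩, rfl⟩
    have h := hxc (f z) ⟨z, hz, rfl⟩
    exact mul_inv_eq_one.1 (hf _ (U.mul_mem (U.mul_mem (hJ hz) (hJ hx))
      (U.inv_mem (U.mul_mem (hJ hx) (hJ hz))))
      (by rw [map_mul, map_inv, map_mul, map_mul, h, mul_inv_cancel]))

theorem centerThompsonAOf_map_equiv [Finite G] {H : Type v} [Group H] (e : G ≃* H)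
    (U : Subgroup G) : (Cfsg.centerThompsonAOf U).map e.toMonoidHom =
      Cfsg.centerThompsonAOf (U.map e.toMonoidHom) :=
  centerThompsonAOf_map _ fun x _ h => e.injective (h.trans (map_one e).symm)

theorem normalizer_le_normalizer_thompsonAOf [Finite G] (U : Subgroup G) :
    normalizer (U : Set G) ≤ normalizer (Cfsg.thompsonSubgroupAOf U : Set G) := fun g hg => by
  rw [mem_normalizer_iff_map_conj_eq] at hg ⊢
  rw [thompsonAOf_map _ (fun x _ hx => (MulAut.conj g).injective (hx.trans (map_one _).symm)), hg]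

theorem normalizer_le_normalizer_centerThompsonAOf [Finite G] (U : Subgroup G) :
    normalizer (U : Set G) ≤ normalizer (Cfsg.centerThompsonAOf U : Set G) := fun g hg => by
  rw [mem_normalizer_iff_map_conj_eq] at hg ⊢
  rw [centerThompsonAOf_map _ (fun x _ hx => (MulAut.conj g).injective (hx.trans (map_one _).symm)), hg]

/-- An element of `U` centralizing every abelian subgroup of largest order is in `Z(J(U))`. -/
theorem mem_centerThompsonAOf [Finite G] {U : Subgroup G} {x : G} (hxU : x ∈ U)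
    (hc : x ∈ centralizer (Cfsg.thompsonSubgroupAOf U : Set G)) :
    x ∈ Cfsg.centerThompsonAOf U := by
  obtain ⟨A, hA⟩ := exists_maxAbIn U
  exact ⟨le_thompsonAOf hA (mem_maxAbIn_of_centralizes hA hxU
    (centralizer_le (le_thompsonAOf hA) hc)), hc⟩

end CfsgLib.PLocal
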