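import Mathlib
import Cfsg.Agent.Lib.PLocal.ThompsonA
import Cfsg.Agent.Lib.PLocal.ReplaceA
import Cfsg.Agent.Lib.PLocal.Sylow
import Cfsg.Agent.Lib.Solvable.PCore

/-!
# Glauberman's `ZJ` theorem for the abelian Thompson subgroup
-/

set_option autoImplicit false

namespace CfsgLib.PLocal

open Subgroup
open scoped commutatorElement

universe u

variable {G : Type u} [Group G] [Finite G] {p : ℕ} [hp : Fact p.Prime]

omit [Finite G] hp in
/-- An element of an abelian group normalized by `B` acts quadratically on `B`. -/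
theorem quad_zpowers_of_normalizes {A B : Subgroup G} (hA : IsMulCommutative A) {a : G}
    (ha : a ∈ A) (hB : B ≤ normalizer (A : Set G)) : ⁅⁅B, zpowers a⁆, zpowers a⁆ = ⊥ := by
  have h1 : ⁅B, zpowers a⁆ ≤ A := by
    rw [commutator_le]
    intro b hb k hk
    have hkA : k ∈ A := zpowers_le.2 ha hk
    rw [commutatorElement_def]
    exact A.mul_mem ((mem_normalizer_iff.1 (hB hb) k).1 hkA) (A.inv_mem hkA)
  rw [commutator_eq_bot_iff_le_centralizer]
  exact fun y hy k hk => comm_of_isMulCommutative hA (zpowers_le.2 ha hk) (h1 hy)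

/-- Glauberman: `Z(J(S)) ⊓ B` is normal for every normal `p`-subgroup `B`. -/
theorem centerThompsonAOf_inf_normal (hp2 : p ≠ 2) (S : Sylow p G)
    (hstab : ∀ (B : Subgroup G) [B.Normal], IsPGroup p B → Cfsg.IsPStableOn p B) :
    ∀ B : Subgroup G, B.Normal → IsPGroup p B →
      (Cfsg.centerThompsonAOf (S : Subgroup G) ⊓ B).Normal := by
  intro B
  induction hn : Nat.card B using Nat.strong_induction_on generalizing B with
  | _ n ih =>
    subst hn
    intro hBn hBp
    set J := Cfsg.thompsonSubgroupAOf (S : Subgroup G) with hJ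
    set Z := Cfsg.centerThompsonAOf (S : Subgroup G) with hZ
    set X := Z ⊓ B with hX
    by_cases hB1 : B = ⊥
    · have : X = ⊥ := le_bot_iff.mp (inf_le_right.trans hB1.le)
      rw [this]; infer_instance
    have hBS : B ≤ (S : Subgroup G) := CfsgLib.Solvable.normal_pgroup_le_sylow hBp S
    have hZS : Z ≤ (S : Subgroup G) := centerThompsonAOf_le _
    have hSX : (S : Subgroup G) ≤ normalizer (X : Set G) := fun s hs => by
      rw [mem_normalizer_iff_map_conj_eq, map_inf _ _ _ (MulAut.conj s).injective,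
        mem_normalizer_iff_map_conj_eq.mp
          (normalizer_le_normalizer_centerThompsonAOf _ (le_normalizer hs)),
        mem_normalizer_iff_map_conj_eq.mp (normalizer_eq_top B ▸ mem_top s)]
    set N := normalClosure (X : Set G)
    have hNB : N ≤ B := normalClosure_le_normal (inf_le_right : X ≤ B)
    by_cases hNlt : N = B
    swap
    · have hcard : Nat.card N < Nat.card B := lt_of_le_of_ne (card_le_of_le hNB)
        fun h => hNlt (eq_of_le_of_card_ge hNB h.ge)
      have := ih _ hcard N rfl normalClosure_normal (hBp.to_le hNB)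
      rwa [show Z ⊓ N = X from le_antisymm (inf_le_inf_left Z hNB)
        (le_inf inf_le_left le_normalClosure)] at this
    have hDn : (⁅B, B⁆ : Subgroup G).Normal := commutator_normal B B
    have hDB : ⁅B, B⁆ ≤ B := commutator_le_left B B
    have hDlt : Nat.card ↥⁅B, B⁆ < Nat.card B := by
      refine lt_of_le_of_ne (card_le_of_le hDB) fun h => ?_
      have hBB : ⁅B, B⁆ = B := eq_of_le_of_card_ge hDB h.ge
      have : Nontrivial B := (nontrivial_iff_ne_bot B).mpr hB1
      have := hBp.isNilpotent
      refine (Group.IsSolvable.commutator_lt_top_of_nontrivial (G := B)).ne ?_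
      apply Subgroup.map_injective B.subtype_injective
      rw [← MonoidHom.range_eq_map, range_subtype, _root_.commutator_def,
        map_commutator, ← MonoidHom.range_eq_map, range_subtype, hBB]
    set W := Z ⊓ ⁅B, B⁆
    have hWn : W.Normal := ih _ hDlt _ rfl hDn (hBp.to_le hDB)
    have hDW : ⁅B, B⁆ ≤ W := by
      rw [commutator_le]
      intro s hs t ht
      rw [← hNlt] at hs
      have key : N ≤ (centralizer ((B.map (QuotientGroup.mk' W) : Subgroup (G ⧸ W)) : Set (G ⧸ W))).comap
          (QuotientGroup.mk' W) := by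
        have : (B.map (QuotientGroup.mk' W)).Normal := hBn.map _ (QuotientGroup.mk'_surjective W)
        refine normalClosure_le_normal ?_
        intro x hx
        rw [SetLike.mem_coe, mem_comap, mem_centralizer_iff]
        rintro _ ⟨b, hb, rfl⟩
        rw [← map_mul, ← map_mul]
        refine QuotientGroup.eq.mpr ?_
        have hbX : b⁻¹ * x * b ∈ X := (mem_normalizer_iff''.mp (hSX (hBS hb)) x).mp hx
        refine ⟨?_, ?_⟩
        · have : (b * x)⁻¹ * (x * b) = x⁻¹ * (b⁻¹ * x * b) := by group
          rw [this]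
          exact Z.mul_mem (Z.inv_mem hx.1) hbX.1
        · have : (b * x)⁻¹ * (x * b) = ⁅x⁻¹, b⁻¹⁆ := by rw [commutatorElement_def]; group
          rw [this]
          exact commutator_mem_commutator (B.inv_mem hx.2) (B.inv_mem hb)
      have h := mem_centralizer_iff.mp (key hs) _ ⟨t, ht, rfl⟩
      rw [← QuotientGroup.eq_one_iff]
      show QuotientGroup.mk' W ⁅s, t⁆ = 1
      rw [map_commutatorElement, commutatorElement_eq_one_iff_commute]
      exact h.symm
    -- the largest normal subgroup normalizing `X`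
    set L := (normalizer (X : Set G)).normalCore
    have hLn : L.Normal := normalCore_normal _
    by_contra hnot
    set R := (S : Subgroup G) ⊓ L
    have hLX : L ≤ normalizer (X : Set G) := normalCore_le _
    have htop : ∀ Y : Subgroup G, L ≤ Y → normalizer (R : Set G) ≤ Y → Y = ⊤ := fun Y h1 h2 =>
      top_le_iff.mp fun g _ => by
        obtain ⟨c, hc, n, hn, rfl⟩ := CfsgLib.PLocal.frattini_mul S L g
        exact Y.mul_mem (h1 hc) (h2 hn)
    have hAL : ∃ A ∈ maxAbIn (S : Subgroup G), ¬ A ≤ L := by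
      by_contra hall
      apply hnot
      have hall' : J ≤ R := by
        refine le_inf (thompsonAOf_le _) ?_
        rw [hJ, thompsonAOf_eq]
        exact sSup_le fun A hA => by_contra fun h => hall ⟨A, hA, h⟩
      refine normalizer_eq_top_iff.mp (htop _ hLX ?_)
      intro g hg
      have h2 : g ∈ normalizer (Z : Set G) := by
        have := normalizer_le_normalizer_centerThompsonAOf R hg
        rwa [show Cfsg.centerThompsonAOf R = Z by
          rw [hZ, Cfsg.centerThompsonAOf, Cfsg.centerThompsonAOf,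
            thompsonAOf_eq_of_le hall' inf_le_left]] at this
      rw [mem_normalizer_iff_map_conj_eq, map_inf _ _ _ (MulAut.conj g).injective,
        mem_normalizer_iff_map_conj_eq.mp h2,
        mem_normalizer_iff_map_conj_eq.mp (normalizer_eq_top B ▸ mem_top g)]
    have hquadL : ∀ a, ⁅⁅B, zpowers a⁆, zpowers a⁆ = ⊥ → a ∈ L := by
      intro a hq
      set C := centralizer (B : Set G)
      have hmem := hstab B hBp a hq
      set f := QuotientGroup.mk' C
      have := Cfsg.pCore_normal p (G ⧸ C)
      have hPL : (Cfsg.pCore p (G ⧸ C)).comap f ≤ L := by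
        refine (normal_le_normalCore (hN := Normal.comap inferInstance f)).mpr ?_
        intro g hg
        obtain ⟨s, hs, hsg⟩ :=
          CfsgLib.Solvable.pCore_le_sylow (S.mapSurjective (QuotientGroup.mk'_surjective C)) hg
        have h1 : s⁻¹ * g ∈ C := QuotientGroup.eq.mp hsg
        have h2 : s⁻¹ * g ∈ normalizer (X : Set G) :=
          centralizer_le_normalizer _ (centralizer_le (inf_le_right : X ≤ B) h1)
        simpa using Subgroup.mul_mem _ (hSX hs) h2
      exact hPL hmem
    have hDA : ∀ A ∈ maxAbIn (S : Subgroup G), ⁅B, B⁆ ≤ A := fun A hA w hw =>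
      mem_maxAbIn_of_centralizes hA (hBS (hDB hw))
        (centralizer_le (le_thompsonAOf hA) (hDW hw).1.2)
    obtain ⟨A, ⟨hAmem, hAnL⟩, hAmax⟩ := Set.exists_max_image
      {A | A ∈ maxAbIn (S : Subgroup G) ∧ ¬ A ≤ L}
      (fun A => Nat.card ↥(A ⊓ B)) (Set.toFinite _) (by obtain ⟨A, h1, h2⟩ := hAL; exact ⟨A, h1, h2⟩)
    obtain ⟨a, haA, haL⟩ := SetLike.not_le_iff_exists.mp hAnL
    have hnn : ¬ B ≤ normalizer (A : Set G) := fun h =>
      haL (hquadL a (quad_zpowers_of_normalizes hAmem.2.1 haA h))
    obtain ⟨x, hR', hx, -⟩ := exists_replData S.2 hAmem.2.1 hAmem.1 hBS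
      (le_top.trans (normalizer_eq_top B).ge) (hDA A hAmem) (fun h => absurd h hp2) hnn
    set A' := replA A x with hA'def
    have hA'S : A' ≤ (S : Subgroup G) := by
      refine hR'.le_sup_conj.trans (sup_le hAmem.1 ?_)
      rintro _ ⟨b, hb, rfl⟩
      exact (S : Subgroup G).mul_mem ((S : Subgroup G).mul_mem (hBS hR'.mem) (hAmem.1 hb))
        ((S : Subgroup G).inv_mem (hBS hR'.mem))
    have hA' : A' ∈ maxAbIn (S : Subgroup G) :=
      ⟨hA'S, hR'.isMulCommutative, fun E hE hEc => (hAmem.2.2 E hE hEc).trans hR'.card_eq.ge⟩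
    have hA'L : A' ≤ L := by
      by_contra h
      exact absurd (eq_of_le_of_card_ge (hR'.inf_lt hx).le (hAmax A' ⟨hA', h⟩)) (hR'.inf_lt hx).ne
    have hA'R : A' ≤ R := le_inf hA'.1 hA'L
    set JR := Cfsg.thompsonSubgroupAOf R
    have hJR : JR ≤ J := by
      rw [show JR = _ from thompsonAOf_eq R, hJ, thompsonAOf_eq]
      refine sSup_le fun E hE => le_sSup ?_
      exact ((maxAbIn_of_le inf_le_left hA' hA'R).mp hE).1
    have hA'JR : A' ≤ JR := le_thompsonAOf
      ((maxAbIn_of_le inf_le_left hA' hA'R).mpr ⟨hA', hA'R⟩)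
    have hXJR : X ≤ centralizer (JR : Set G) :=
      inf_le_left.trans (inf_le_right.trans (centralizer_le hJR))
    have hBc : B ≤ centralizer (JR : Set G) := by
      rw [← hNlt]
      refine (closure_le _).mpr ?_
      intro y hy
      obtain ⟨z, hz, hzy⟩ := Group.mem_conjugatesOfSet_iff.mp hy
      obtain ⟨g, rfl⟩ := isConj_iff.mp hzy
      obtain ⟨c, hc, n, hn, he⟩ := CfsgLib.PLocal.frattini_mul S L g⁻¹
      obtain ⟨r, hr, l, hl, rfl⟩ : ∃ r ∈ normalizer (R : Set G), ∃ l ∈ L, g = r * l :=
        ⟨n⁻¹, inv_mem hn, c⁻¹, L.inv_mem hc, by rw [← inv_inv g, he]; group⟩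
      have h1 : l * z * l⁻¹ ∈ X := (mem_normalizer_iff.mp (hLX hl) z).mp hz
      have h2 := normalizer_le_normalizer_thompsonAOf R hr
      intro j hj
      have h3 : r⁻¹ * j * r ∈ JR := (mem_normalizer_iff''.mp h2 j).mp hj
      have h4 : Commute (r⁻¹ * j * r) (l * z * l⁻¹) := hXJR h1 _ h3
      have := (h4.map (MulAut.conj r).toMonoidHom).eq
      simpa [mul_assoc] using this
    have hBA' : B ≤ A' := fun z hz => mem_maxAbIn_of_centralizes hA' (hBS hz)
      (fun b hb => hBc hz b (hA'JR hb))
    exact hx (hR'.le_normalizer_self (hBA' hR'.mem))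

/-- Glauberman's `ZJ` theorem: normality. -/
theorem centerThompsonAOf_normal (hp2 : p ≠ 2)
    (hc : centralizer (Cfsg.pCore p G : Set G) ≤ Cfsg.pCore p G)
    (hstab : ∀ (B : Subgroup G) [B.Normal], IsPGroup p B → Cfsg.IsPStableOn p B) (S : Sylow p G) :
    (Cfsg.centerThompsonAOf (S : Subgroup G)).Normal := by
  set Z := Cfsg.centerThompsonAOf (S : Subgroup G) with hZdef
  haveI := Cfsg.pCore_normal p G
  set T := Cfsg.pCore p G with hTdef
  have hT := CfsgLib.Solvable.pCore_isPGroup (G := G) p
  have hTS : T ≤ (S : Subgroup G) := CfsgLib.Solvable.pCore_le_sylow S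
  have hZT : Z ≤ T := by
    intro a ha
    have hmem := hstab T hT a (quad_zpowers_of_normalizes (centerThompsonAOf_comm _) ha
      (hTS.trans (le_normalizer.trans (normalizer_le_normalizer_centerThompsonAOf _))))
    set C := centralizer (T : Set G) with hC
    haveI := Cfsg.pCore_normal p (G ⧸ C)
    set D := (Cfsg.pCore p (G ⧸ C)).comap (QuotientGroup.mk' C) with hD
    haveI : D.Normal := Normal.comap inferInstance _
    have hDp : IsPGroup p D := by
      rintro ⟨d, hd⟩
      obtain ⟨k, hk⟩ := CfsgLib.Solvable.pCore_isPGroup (G := G ⧸ C) p ⟨_, hd⟩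
      have h1 : d ^ p ^ k ∈ C := (QuotientGroup.eq_one_iff _).1 (by
        have h := congrArg Subtype.val hk
        simpa using h)
      obtain ⟨j, hj⟩ := hT ⟨_, hc h1⟩
      refine ⟨k + j, Subtype.ext ?_⟩
      show d ^ p ^ (k + j) = 1
      rw [pow_add, pow_mul]
      simpa using congrArg Subtype.val hj
    exact CfsgLib.Solvable.le_pCore inferInstance hDp hmem
  have h := centerThompsonAOf_inf_normal hp2 S hstab T inferInstance hT
  rwa [inf_eq_left.mpr hZT] at h

/-- A normal `Z(J(S))` is characteristic. -/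
theorem centerThompsonAOf_characteristic_of_normal (S : Sylow p G)
    (h : (Cfsg.centerThompsonAOf (S : Subgroup G)).Normal) :
    (Cfsg.centerThompsonAOf (S : Subgroup G)).Characteristic := by
  refine characteristic_iff_map_eq.2 fun φ => ?_
  let S' : Sylow p G := S.mapSurjective (f := φ.toMonoidHom) φ.surjective
  obtain ⟨g, hg⟩ := MulAction.exists_smul_eq G S S'
  rw [centerThompsonAOf_map_equiv, show (S : Subgroup G).map φ.toMonoidHom = (S' : Subgroup G) from rfl,
    ← hg, Sylow.coe_subgroup_smul]
  show Cfsg.centerThompsonAOf ((S : Subgroup G).map (MulAut.conj g).toMonoidHom) = _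
  rw [← centerThompsonAOf_map_equiv]
  exact mem_normalizer_iff_map_conj_eq.1 (normalizer_eq_top_iff.2 h ▸ mem_top g)

end CfsgLib.PLocal
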