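import Mathlib
import Cfsg.Agent.Lib.PLocal.ZJTheorem
import Cfsg.Agent.Lib.PLocal.QdFree
import Cfsg.Agent.Lib.PLocal.QdFusion

/-!
# `Z(J)` as a characteristic functor and control of fusion in `Qd(p)`-free groups
-/

set_option autoImplicit false

namespace CfsgLib.PLocal

open Subgroup

universe u

variable {p : ℕ} [hp : Fact p.Prime]

/-- `Z(J(Q))` as a functor on groups. -/
def zjFunctor (Q : Type u) [Group Q] : Subgroup Q :=
  Cfsg.centerThompsonAOf (⊤ : Subgroup Q)

omit hp in
theorem inducedFunctor_zj {G : Type u} [Group G] [Finite G] (P : Subgroup G) :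
    Cfsg.inducedFunctor (G := G) zjFunctor P = Cfsg.centerThompsonAOf P := by
  show (Cfsg.centerThompsonAOf (⊤ : Subgroup P)).map P.subtype = _
  rw [centerThompsonAOf_map _ (fun x _ hx => P.subtype_injective (hx.trans (map_one _).symm)),
    ← MonoidHom.range_eq_map, range_subtype]

theorem zjFunctor_isCharPFunctor : Cfsg.IsCharPFunctor.{u} p zjFunctor := by
  refine ⟨fun Q _ _ hQ _ h0 => ?_, fun Q R _ _ _ _ φ => ?_⟩
  · haveI := hQ.center_nontrivial
    obtain ⟨⟨x, hx⟩, hx1⟩ := exists_ne (1 : center Q)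
    have h1 : x ∈ zjFunctor Q :=
      mem_centerThompsonAOf (mem_top x) fun z _ => mem_center_iff.1 hx z
    rw [h0, mem_bot] at h1
    exact hx1 (Subtype.ext h1)
  · show (Cfsg.centerThompsonAOf (⊤ : Subgroup Q)).map φ.toMonoidHom = _
    rw [centerThompsonAOf_map_equiv, map_top_of_surjective _ φ.surjective]
    rfl

/-- Sections inherit the absence of a section `Qd(p)`. -/
theorem no_qd_of_isSec {X G : Type u} [Group X] [Group G] (hX : IsSec X G)
    (hno : ∀ (K : Subgroup G) (f : K →* ↥(Cfsg.qd p)), ¬ Function.Surjective f) :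
    ∀ (L : Subgroup X) (g : L →* ↥(Cfsg.qd p)), ¬ Function.Surjective g := by
  intro L g hg
  obtain ⟨K, f, hf⟩ := hX
  obtain ⟨K', g', -, hg'⟩ := sec_of_subgroup K (g.comp (f.subgroupComap L))
    (hg.comp (MonoidHom.subgroupComap_surjective_of_surjective _ _ hf))
  exact hno K' g' hg'

/-- Glauberman's `ZJ` theorem for constrained groups all of whose sections are `p`-stable. -/
theorem centerThompsonAOf_normal_of_not_involves_qd {G : Type u} [Group G] [Finite G] (h2 : p ≠ 2)
    (hno : ∀ (K : Subgroup G) (f : K →* ↥(Cfsg.qd p)), ¬ Function.Surjective f)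
    (hc : centralizer (Cfsg.pCore p G : Set G) ≤ Cfsg.pCore p G) (S : Sylow p G) :
    (Cfsg.centerThompsonAOf (S : Subgroup G)).Normal :=
  centerThompsonAOf_normal h2 hc (fun B _ hB => isPStableOn_of_no_qd h2 hno B hB) S

/-- In a `Qd(p)`-free group `Z(J)` controls strong fusion. -/
theorem ctrl_zj_of_no_qd {G : Type u} [Group G] [Finite G] (h2 : p ≠ 2)
    (hno : ∀ (K : Subgroup G) (f : K →* ↥(Cfsg.qd p)), ¬ Function.Surjective f) :
    Ctrl p ({zjFunctor} : Set (∀ (Q : Type u) [Group Q], Subgroup Q)) G := by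
  refine ctrl_of_constrained (fun W h => by
    rw [Set.mem_singleton_iff] at h; subst h; exact zjFunctor_isCharPFunctor) G fun X _ _ hX hc => ?_
  obtain ⟨T⟩ : Nonempty (Sylow p X) := inferInstance
  refine ctrl_of_normal T ?_
  rw [inducedFunctor_zj]
  exact centerThompsonAOf_normal_of_not_involves_qd h2 (no_qd_of_isSec hX hno) hc T

/-- `Z(J(S))` controls strong fusion in a `Qd(p)`-free group. -/
theorem controls_centerThompsonAOf {G : Type u} [Group G] [Finite G] (h2 : p ≠ 2)
    (hno : ∀ (K : Subgroup G) (f : K →* ↥(Cfsg.qd p)), ¬ Function.Surjective f) (S : Sylow p G) :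
    ∀ A : Set G, A ⊆ (S : Subgroup G) → Cfsg.ControlsStrongFusionOf
      (normalizer (Cfsg.centerThompsonAOf (S : Subgroup G) : Set G)) (S : Subgroup G) A := by
  intro A hA
  have hc := ctrl_zj_of_no_qd h2 hno
  refine ⟨hA, fun g hg => ?_⟩
  have h1 := familyControls_at (indSet_functor (fun W h => by
    rw [Set.mem_singleton_iff] at h; subst h; exact zjFunctor_isCharPFunctor)) hc (sylowIn_top S)
    A g (mem_top g) hA hg
  have h2' := h1.map_mono (Q := fun x => x ∈ normalizer
    (Cfsg.centerThompsonAOf (S : Subgroup G) : Set G)) ?_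
  · obtain ⟨x, hx, he⟩ := h2'.exists_single
    exact ⟨x, hx, fun a ha => (he a ha).symm⟩
  · rintro x ⟨_, ⟨W', rfl, rfl⟩, hx⟩
    have := hx.2
    show x ∈ normalizer (Cfsg.centerThompsonAOf (S : Subgroup G) : Set G)
    rw [← inducedFunctor_zj]
    exact this

theorem controlsStrongFusion_centerThompsonAOf {G : Type u} [Group G] [Finite G] (h2 : p ≠ 2)
    (hno : ∀ (K : Subgroup G) (f : K →* ↥(Cfsg.qd p)), ¬ Function.Surjective f) (S : Sylow p G) :
    Cfsg.ControlsStrongFusion p (Cfsg.centerThompsonAOf (S : Subgroup G)) :=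
  ⟨S, centerThompsonAOf_le _, controls_centerThompsonAOf h2 hno S⟩

end CfsgLib.PLocal
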