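import Cfsg.Agent.Lib.PLocal.ControlAbove
import Cfsg.Agent.Lib.PLocal.ZJControl

/-!
# `Z(J)` controls fusion when the locals above the centre are `Qd(p)`-free
-/

set_option autoImplicit false

namespace CfsgLib.PLocal

open Subgroup

universe u

variable {p : ℕ} [hp : Fact p.Prime]

/-- If no normalizer of a `P ∈ [Z(S), S]` has a section `Qd(p)`, then `Z(J(S))` controls fusion. -/
theorem controls_zj_of_locals {G : Type u} [Group G] [Finite G] (h2 : p ≠ 2) (S : Sylow p G)
    (hfree : ∀ P : Subgroup G, (S : Subgroup G) ⊓ centralizer ((S : Subgroup G) : Set G) ≤ P →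
      P ≤ (S : Subgroup G) → ∀ (g : G) (K : Subgroup ↥(normalizer (conjMap g P : Set G)))
        (f : K →* ↥(Cfsg.qd p)), ¬ Function.Surjective f) :
    ∀ A : Set G, A ⊆ (S : Subgroup G) → Cfsg.ControlsStrongFusionOf
      (normalizer (Cfsg.centerThompsonAOf (S : Subgroup G) : Set G)) (S : Subgroup G) A := by
  set 𝓦 : Set (∀ (Q : Type u) [Group Q], Subgroup Q) := {zjFunctor}
  have h𝓦 : ∀ W ∈ 𝓦, Cfsg.IsCharPFunctor.{u} p W := fun W h => by
    rw [Set.mem_singleton_iff] at h; subst h; exact zjFunctor_isCharPFunctor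
  have hc : Cfsg.FamilyControlsStrongFusionIn p (indSet 𝓦 G) ⊤ := by
    refine familyControls_top_above S _ (indSet_functor h𝓦) ?_ ⟨_, zjFunctor, rfl, rfl⟩ ?_
    · rintro _ ⟨W, rfl, rfl⟩ R hRS hZR z hz
      show z ∈ Cfsg.inducedFunctor (G := G) zjFunctor R
      rw [inducedFunctor_zj]
      exact mem_centerThompsonAOf (hZR hz)
        (centralizer_le ((thompsonAOf_le R).trans hRS) hz.2)
    · intro U _ hUS hZU g
      exact familyControls_of_ctrl h𝓦 (ctrl_zj_of_no_qd h2 (hfree U hZU hUS g))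
  intro A hA
  refine ⟨hA, fun g hg => ?_⟩
  have h1 := familyControls_at (indSet_functor h𝓦) hc (sylowIn_top S) A g (mem_top g) hA hg
  have h2' := h1.map_mono (Q := fun x => x ∈ normalizer
    (Cfsg.centerThompsonAOf (S : Subgroup G) : Set G)) ?_
  · obtain ⟨x, hx, he⟩ := h2'.exists_single
    exact ⟨x, hx, fun a ha => (he a ha).symm⟩
  · rintro x ⟨_, ⟨W', rfl, rfl⟩, hx⟩
    show x ∈ normalizer (Cfsg.centerThompsonAOf (S : Subgroup G) : Set G)
    rw [← inducedFunctor_zj]
    exact hx.2

/-- A section `Qd(p)` of a conjugate gives a section `SL₂(p)` of the original. -/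
theorem no_qd_conj_of_no_sl {G : Type u} [Group G] [Finite G] (P : Subgroup G)
    (hno : ¬ ∃ (H K : Subgroup G) (_ : (K.subgroupOf H).Normal), H ≤ normalizer (P : Set G) ∧
      Nonempty ((H ⧸ K.subgroupOf H) ≃* Matrix.SpecialLinearGroup (Fin 2) (ZMod p)))
    (g : G) (K : Subgroup ↥(normalizer (conjMap g P : Set G))) (f : K →* ↥(Cfsg.qd p)) :
    ¬ Function.Surjective f := by
  intro hf
  refine not_involves_qd_of_no_sl (p := p) (G := ↥(normalizer (P : Set G))) ?_ ?_
  · intro L φ hφ
    obtain ⟨L', φ', hL', hφ'⟩ := sec_of_subgroup (normalizer (P : Set G)) φ hφ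
    obtain ⟨H, R, hR, hH, he⟩ := sec_quotient_form hL' φ' hφ'
    exact hno ⟨H, R, hR, hH, he⟩
  · have hm : (normalizer (P : Set G)).map (MulAut.conj g).toMonoidHom =
        normalizer (conjMap g P : Set G) := conjMap_normalizer g P
    let e : ↥(normalizer (P : Set G)) ≃* ↥(normalizer (conjMap g P : Set G)) :=
      ((normalizer (P : Set G)).equivMapOfInjective _ (MulAut.conj g).injective).trans
        (MulEquiv.subgroupCongr hm)
    exact involves_of_sec (K := K.comap e.toMonoidHom) (f.comp (e.toMonoidHom.subgroupComap K))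
      (hf.comp (MonoidHom.subgroupComap_surjective_of_surjective _ _ e.surjective))

end CfsgLib.PLocal
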