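import Mathlib
import Cfsg.Agent.Lib.Comp.Subnormal
import Cfsg.Agent.Lib.Solvable.MinNormal

/-!
Wielandt: minimal normal subgroups normalize subnormal subgroups; joins of subnormal
subgroups of a finite group are subnormal.
-/

namespace CfsgLib.PLocal

open Subgroup

universe u

theorem minimalNormal_le_normalizer_aux : ∀ (n : ℕ) (G : Type u) [Group G] [Finite G],
    Nat.card G = n → ∀ (N A : Subgroup G), N.Normal → N ≠ ⊥ →
    (∀ K : Subgroup G, K.Normal → K ≤ N → K = ⊥ ∨ K = N) → A.IsSubnormal →
    N ≤ normalizer (A : Set G) := by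
  intro n
  induction n using Nat.strong_induction_on with
  | _ n ih =>
    intro G _ _ hn N A hN hne hmin hA
    rcases hA.lt_normal with rfl | ⟨M, hM, hAM, hMlt⟩
    · intro x _
      exact le_normalizer (mem_top x)
    rcases hmin (N ⊓ M) inferInstance inf_le_left with h | h
    · refine le_trans ?_ (centralizer_le_normalizer (A : Set G))
      refine le_centralizer_iff.1 (hAM.trans ?_)
      intro m hm
      refine mem_centralizer_iff.2 fun x hx => ?_
      exact (commute_of_normal_of_disjoint _ _ hN hM (disjoint_iff.2 h) x m hx hm).eq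
    have hNM : N ≤ M := inf_eq_left.1 h
    have hne' : N.subgroupOf M ≠ ⊥ := by
      rw [Ne, subgroupOf_eq_bot, disjoint_iff, h]; exact hne
    obtain ⟨L, hL, hLne, hLN, hLmin⟩ :=
      CfsgLib.Solvable.exists_minimal_normal_le (hN.subgroupOf M) hne'
    have hcard : Nat.card M < n := hn ▸ lt_of_le_of_ne (card_le_card_group M)
      fun hc => hMlt.ne (eq_top_of_card_eq _ hc)
    have hsub : (A.subgroupOf M).IsSubnormal := hA.subgroupOf
    have key : ∀ g : G, (L.map M.subtype).map (MulAut.conj g).toMonoidHom ≤ normalizer (A : Set G) := by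
      intro g
      let φ : M ≃* M := MulAut.conjNormal g
      have e : (L.map M.subtype).map (MulAut.conj g).toMonoidHom =
          (L.map φ.toMonoidHom).map M.subtype := by
        rw [map_map, map_map]; rfl
      have hL' : (L.map φ.toMonoidHom).Normal := hL.map _ φ.surjective
      have hL'ne : L.map φ.toMonoidHom ≠ ⊥ := fun h0 =>
        hLne ((map_eq_bot_iff_of_injective (f := φ.toMonoidHom) _ φ.injective).1 h0)
      have hL'min : ∀ K : Subgroup M, K.Normal → K ≤ L.map φ.toMonoidHom →
          K = ⊥ ∨ K = L.map φ.toMonoidHom := by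
        intro K hK hKle
        rcases hLmin (K.comap φ.toMonoidHom) (hK.comap _)
          (le_trans (comap_mono hKle) (le_of_eq (comap_map_eq_self_of_injective φ.injective L)))
          with h0 | h0
        · exact Or.inl ((map_comap_eq_self_of_surjective (f := φ.toMonoidHom) φ.surjective K) ▸
            (by rw [h0, Subgroup.map_bot]))
        · exact Or.inr ((map_comap_eq_self_of_surjective (f := φ.toMonoidHom) φ.surjective K).symm.trans
            (by rw [h0]))
      have h1 := ih _ hcard M rfl _ (A.subgroupOf M) hL' hL'ne hL'min hsub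
      rw [e]
      rintro _ ⟨x, hx, rfl⟩
      have h2 := h1 hx
      rw [← subgroupOf_normalizer_eq hAM] at h2
      exact h2
    let T : Subgroup G := ⨆ g : G, (L.map M.subtype).map (MulAut.conj g).toMonoidHom
    have hTn : T.Normal := by
      refine ⟨fun x hx y => ?_⟩
      have : T.map (MulAut.conj y).toMonoidHom ≤ T := by
        rw [Subgroup.map_iSup]
        refine iSup_le fun g => le_trans (le_of_eq ?_)
          (le_iSup (fun g => (L.map M.subtype).map (MulAut.conj g).toMonoidHom) (y * g))
        rw [map_map _ (MulAut.conj y).toMonoidHom, map_mul]; rfl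
      exact this ⟨x, hx, rfl⟩
    have hTle : T ≤ N := iSup_le fun g => by
      rintro _ ⟨_, ⟨x, hx, rfl⟩, rfl⟩
      exact hN.conj_mem _ (hLN hx) g
    rcases hmin T hTn hTle with h0 | h0
    · exfalso
      apply hLne
      rw [eq_bot_iff]
      intro x hx
      have h3 : (x : G) ∈ T := le_iSup (fun g => (L.map M.subtype).map (MulAut.conj g).toMonoidHom) 1
        ⟨x, ⟨x, hx, rfl⟩, by simp⟩
      rw [h0, mem_bot] at h3
      exact mem_bot.2 (Subtype.ext h3)
    · exact h0 ▸ iSup_le key

/-- A minimal normal subgroup normalizes every subnormal subgroup. -/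
theorem minimalNormal_le_normalizer {G : Type u} [Group G] [Finite G] {N A : Subgroup G}
    (hN : N.Normal) (hne : N ≠ ⊥) (hmin : ∀ K : Subgroup G, K.Normal → K ≤ N → K = ⊥ ∨ K = N)
    (hA : A.IsSubnormal) : N ≤ normalizer (A : Set G) :=
  minimalNormal_le_normalizer_aux _ G rfl N A hN hne hmin hA

theorem isSubnormal_sup_aux : ∀ (n : ℕ) (G : Type u) [Group G] [Finite G],
    Nat.card G = n → ∀ (A B : Subgroup G), A.IsSubnormal → B.IsSubnormal → (A ⊔ B).IsSubnormal := by
  intro n
  induction n using Nat.strong_induction_on with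
  | _ n ih =>
    intro G _ _ hn A B hA hB
    cases subsingleton_or_nontrivial G with
    | inl h =>
      rw [Subsingleton.elim (A ⊔ B) ⊤]; exact .top
    | inr h =>
      obtain ⟨N, hN, hne, hmin⟩ := CfsgLib.Solvable.exists_minimal_normal (G := G)
      have hcard : Nat.card (G ⧸ N) < n := by
        rw [← hn, card_eq_card_quotient_mul_card_subgroup N]
        exact lt_mul_of_one_lt_right Nat.card_pos (one_lt_card_iff_ne_bot _ |>.2 hne)
      have hs := QuotientGroup.mk'_surjective N
      have h1 := ih _ hcard (G ⧸ N) rfl _ _ (hA.map hs) (hB.map hs)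
      rw [← Subgroup.map_sup] at h1
      have h2 := h1.comap (QuotientGroup.mk' N)
      rw [comap_map_eq, QuotientGroup.ker_mk'] at h2
      refine CfsgLib.Comp.isSubnormal_of_le_normalizer le_sup_left h2 (sup_le le_normalizer ?_)
      intro x hx
      have ha := mem_normalizer_iff_map_conj_eq.1 (minimalNormal_le_normalizer hN hne hmin hA hx)
      have hb := mem_normalizer_iff_map_conj_eq.1 (minimalNormal_le_normalizer hN hne hmin hB hx)
      exact mem_normalizer_iff_map_conj_eq.2 (by rw [Subgroup.map_sup, ha, hb])

/-- **Wielandt**: the join of two subnormal subgroups of a finite group is subnormal. -/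
theorem isSubnormal_sup {G : Type u} [Group G] [Finite G] {A B : Subgroup G}
    (hA : A.IsSubnormal) (hB : B.IsSubnormal) : (A ⊔ B).IsSubnormal :=
  isSubnormal_sup_aux _ G rfl A B hA hB

end CfsgLib.PLocal
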