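import Cfsg.Prelude.Def_LocalEven
import Cfsg.Prelude.Def_PLocal
import Cfsg.Agent.Lib.Solvable.Nilpotent
import Cfsg.Agent.Lib.Solvable.PCore

/-!
# Action of a group on the chief factors below a normal subgroup
-/

namespace CfsgLib.PLocal

open Subgroup
open scoped commutatorElement

variable {G : Type*} [Group G]

theorem exists_chief_of_normal [Finite G] (U : Subgroup G) [U.Normal] (hU : U ≠ ⊥) :
    ∃ V : Subgroup G, Cfsg.IsChiefFactor U V := by
  obtain ⟨V, -, hV⟩ := Finite.exists_le_maximal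
    (p := fun M : Subgroup G => M.Normal ∧ M < U) (a := ⊥)
    ⟨inferInstance, bot_lt_iff_ne_bot.2 hU⟩
  refine ⟨V, hV.prop.2, inferInstance, hV.prop.1, fun N hN hVN hNU => ?_⟩
  rcases eq_or_lt_of_le hNU with h | h
  · exact Or.inr h
  · exact Or.inl (le_antisymm (hV.le_of_ge ⟨hN, h⟩ hVN) hVN)

/-- A normal `p`-subgroup centralizes every chief factor below a normal `p`-subgroup. -/
theorem commutator_le_of_chief [Finite G] {p : ℕ} [Fact p.Prime] {U V N : Subgroup G}
    (h : Cfsg.IsChiefFactor U V) (hU : IsPGroup p U) [N.Normal] (hN : IsPGroup p N) :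
    ⁅U, N⁆ ≤ V := by
  haveI := h.2.1
  haveI := h.2.2.1
  set π := QuotientGroup.mk' V with hπ
  have hπs : Function.Surjective π := QuotientGroup.mk'_surjective V
  haveI : (U.map π).Normal := Normal.map inferInstance π hπs
  haveI : (N.map π).Normal := Normal.map inferInstance π hπs
  rw [← QuotientGroup.ker_mk' V, ← hπ, ← Subgroup.map_eq_bot_iff, Subgroup.map_commutator]
  set A := U.map π
  set B := N.map π
  set W := A ⊔ B
  have hW : IsPGroup p W := IsPGroup.to_sup_of_normal_right (hU.map π) (hN.map π)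
  haveI := hW.isNilpotent
  by_cases hA : A = ⊥
  · rw [hA, commutator_bot_left]
  have hA' : A.subgroupOf W ≠ ⊥ := by
    rw [Ne, subgroupOf_eq_bot, disjoint_iff, inf_eq_left.2 le_sup_left]
    exact hA
  obtain ⟨⟨z, hz⟩, hz1⟩ := Subgroup.ne_bot_iff_exists_ne_one.1
    (CfsgLib.Solvable.normal_inf_center_ne_bot (A.subgroupOf W) hA')
  obtain ⟨hzA, hzc⟩ := hz
  have hzA' : (z : G ⧸ V) ∈ A := hzA
  set M := A ⊓ centralizer (B : Set (G ⧸ V)) with hM
  have hzM : (z : G ⧸ V) ∈ M := ⟨hzA', mem_centralizer_iff.2 fun b hb =>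
    congrArg Subtype.val (mem_center_iff.1 hzc ⟨b, mem_sup_right hb⟩)⟩
  have hM' : U ⊓ M.comap π = U := by
    rcases h.2.2.2 (U ⊓ M.comap π) inferInstance
      (le_inf h.1.le fun v hv => by
        rw [mem_comap, show π v = 1 from (QuotientGroup.eq_one_iff v).2 hv]; exact M.one_mem)
      inf_le_left with h1 | h1
    · exfalso
      obtain ⟨u, hu, hue⟩ := hzA'
      have : u ∈ U ⊓ M.comap π := ⟨hu, show π u ∈ M by rw [hue]; exact hzM⟩
      rw [h1] at this
      exact hz1 (Subtype.ext (Subtype.ext (hue.symm.trans ((QuotientGroup.eq_one_iff u).2 this))))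
    · exact h1
  rw [commutator_eq_bot_iff_le_centralizer]
  rintro _ ⟨u, hu, rfl⟩
  rw [← hM'] at hu
  exact hu.2.2

theorem commutator_zpowers_le_iff {U V : Subgroup G} [V.Normal] {g : G} :
    ⁅U, zpowers g⁆ ≤ V ↔ ∀ u ∈ U, ⁅u, g⁆ ∈ V := by
  refine ⟨fun h u hu => h (commutator_mem_commutator hu (mem_zpowers g)), fun h => ?_⟩
  refine commutator_le.2 fun u hu k hk => ?_
  let K : Subgroup G :=
    { carrier := {k | ∀ u ∈ U, ⁅u, k⁆ ∈ V}
      one_mem' := fun u _ => by simp
      mul_mem' := fun {a b} ha hb u hu => by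
        rw [show ⁅u, a * b⁆ = ⁅u, a⁆ * (a * ⁅u, b⁆ * a⁻¹) by simp only [commutatorElement_def]; group]
        exact V.mul_mem (ha u hu) (Normal.conj_mem inferInstance _ (hb u hu) a)
      inv_mem' := fun {a} ha u hu => by
        rw [show ⁅u, a⁻¹⁆ = a⁻¹ * ⁅u, a⁆⁻¹ * a⁻¹⁻¹ by simp only [commutatorElement_def]; group]
        exact Normal.conj_mem inferInstance _ (V.inv_mem (ha u hu)) a⁻¹ }
  exact (zpowers_le.2 (show g ∈ K from h) hk) u hu

/-- The elements acting trivially on every chief factor below `U₀`. -/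
def chiefKernel (U₀ : Subgroup G) : Subgroup G where
  carrier := {g | ∀ U V : Subgroup G, Cfsg.IsChiefFactor U V → U ≤ U₀ → ∀ u ∈ U, ⁅u, g⁆ ∈ V}
  one_mem' := fun U V _ _ u _ => by simp
  mul_mem' := fun {a b} ha hb U V hc hU u hu => by
    haveI := hc.2.2.1
    rw [show ⁅u, a * b⁆ = ⁅u, a⁆ * (a * ⁅u, b⁆ * a⁻¹) by simp only [commutatorElement_def]; group]
    exact V.mul_mem (ha U V hc hU u hu) (Normal.conj_mem inferInstance _ (hb U V hc hU u hu) a)
  inv_mem' := fun {a} ha U V hc hU u hu => by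
    haveI := hc.2.2.1
    rw [show ⁅u, a⁻¹⁆ = a⁻¹ * ⁅u, a⁆⁻¹ * a⁻¹⁻¹ by simp only [commutatorElement_def]; group]
    exact Normal.conj_mem inferInstance _ (V.inv_mem (ha U V hc hU u hu)) a⁻¹

theorem mem_chiefKernel {U₀ : Subgroup G} {g : G} :
    g ∈ chiefKernel U₀ ↔
      ∀ U V : Subgroup G, Cfsg.IsChiefFactor U V → U ≤ U₀ → ⁅U, zpowers g⁆ ≤ V := by
  refine ⟨fun h U V hc hU => ?_, fun h U V hc hU u hu => ?_⟩
  · haveI := hc.2.2.1
    exact commutator_zpowers_le_iff.2 (h U V hc hU)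
  · exact h U V hc hU (commutator_mem_commutator hu (mem_zpowers g))

theorem chiefKernel_normal (U₀ : Subgroup G) : (chiefKernel U₀).Normal := by
  refine ⟨fun g hg x U V hc hU u hu => ?_⟩
  haveI := hc.2.1
  haveI := hc.2.2.1
  have h := hg U V hc hU _ (Normal.conj_mem (inferInstance : U.Normal) u hu x⁻¹)
  rw [show ⁅u, x * g * x⁻¹⁆ = x * ⁅x⁻¹ * u * x⁻¹⁻¹, g⁆ * x⁻¹ by simp only [commutatorElement_def]; group]
  exact Normal.conj_mem inferInstance _ h x

theorem le_chiefKernel [Finite G] {p : ℕ} [Fact p.Prime] {U₀ N : Subgroup G} (hU₀ : IsPGroup p U₀)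
    [N.Normal] (hN : IsPGroup p N) : N ≤ chiefKernel U₀ :=
  fun _ hn _ _ hc hU _ hu =>
    commutator_le_of_chief hc (hU₀.to_le hU) hN (commutator_mem_commutator hu hn)

/-- A `p'`-element which is trivial on every chief factor below a normal `p`-subgroup centralizes
it. -/
theorem mem_centralizer_of_mem_chiefKernel [Finite G] {p : ℕ} [Fact p.Prime] {U₀ : Subgroup G}
    [hn : U₀.Normal] (hU₀ : IsPGroup p U₀) {k : G} (hk : k ∈ chiefKernel U₀)
    (hkp : (orderOf k).Coprime p) : k ∈ centralizer (U₀ : Set G) := by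
  suffices H : ∀ U : Subgroup G, U.Normal → U ≤ U₀ → k ∈ centralizer (U : Set G) from H U₀ hn le_rfl
  intro U
  induction U using WellFoundedLT.induction with
  | _ U ih =>
    intro hUn hU
    rcases eq_or_ne U ⊥ with rfl | hne
    · exact mem_centralizer_iff.2 fun u hu => by simp [mem_bot.1 hu]
    obtain ⟨V, hV⟩ := exists_chief_of_normal U hne
    have hcV := ih V hV.1 hV.2.2.1 (hV.1.le.trans hU)
    refine mem_centralizer_iff.2 fun u hu => ?_
    set v := ⁅k, u⁆ with hv
    have hvV : v ∈ V := by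
      rw [hv, ← commutatorElement_inv]
      exact V.inv_mem (hk U V hV hU u hu)
    have hkv : k * v * k⁻¹ = v := by
      rw [← mem_centralizer_iff.1 hcV v hvV, mul_inv_cancel_right]
    have key : ∀ m : ℕ, k ^ m * u * (k ^ m)⁻¹ = v ^ m * u := by
      intro m
      induction m with
      | zero => simp
      | succ m ihm =>
        calc k ^ (m + 1) * u * (k ^ (m + 1))⁻¹ = k * (k ^ m * u * (k ^ m)⁻¹) * k⁻¹ := by
              rw [pow_succ']; group
          _ = (k * v * k⁻¹) ^ m * (k * u * k⁻¹) := by rw [ihm, conj_pow]; group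
          _ = v ^ (m + 1) * u := by
              rw [hkv, pow_succ, mul_assoc (v ^ m) v, hv, commutatorElement_def]; group
    have h1 : v ^ orderOf k = 1 := by
      have h2 := key (orderOf k)
      rw [pow_orderOf_eq_one, one_mul, inv_one, mul_one] at h2
      exact mul_eq_right.1 h2.symm
    obtain ⟨e, he⟩ := hU₀ ⟨v, hU (hV.1.le hvV)⟩
    have hv1 : v = 1 := orderOf_eq_one_iff.1 (Nat.eq_one_of_dvd_coprimes (hkp.pow_right e)
      (orderOf_dvd_of_pow_eq_one h1)
      (orderOf_dvd_of_pow_eq_one (congrArg Subtype.val he :)))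
    exact (commutatorElement_eq_one_iff_mul_comm.1 hv1).symm

theorem iterCommutator_mono {U U' K : Subgroup G} (h : U ≤ U') :
    ∀ k, Cfsg.iterCommutator U K k ≤ Cfsg.iterCommutator U' K k
  | 0 => h
  | k + 1 => commutator_mono (iterCommutator_mono h k) le_rfl

theorem le_normalizer_iterCommutator {U K : Subgroup G} (h : K ≤ normalizer (U : Set G)) :
    ∀ k, K ≤ normalizer (Cfsg.iterCommutator U K k : Set G)
  | 0 => h
  | k + 1 => fun x hx => by
    have hc := mem_normalizer_iff_map_conj_eq.1 (le_normalizer_iterCommutator h k hx)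
    refine mem_normalizer_iff_map_conj_eq.2 ?_
    show Subgroup.map _ ⁅_, _⁆ = ⁅_, _⁆
    rw [Subgroup.map_commutator, hc, mem_normalizer_iff_map_conj_eq.1 (le_normalizer hx)]

theorem iterCommutator_antitone {U K : Subgroup G} (h : K ≤ normalizer (U : Set G)) :
    Antitone (Cfsg.iterCommutator U K) :=
  antitone_nat_of_succ_le fun k =>
    le_normalizer_iff_commutator_le_left.1 (le_normalizer_iterCommutator h k)

end CfsgLib.PLocal
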