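import Cfsg.Agent.Lib.PLocal.ChiefKernel

/-!
# Chief factors of a `p`-group acted on through a critical subgroup
-/

namespace CfsgLib.PLocal

open Subgroup
open scoped commutatorElement

variable {G : Type*} [Group G] [Finite G] {p : ℕ} [Fact p.Prime]

/-- Glauberman's degree bound `i + j - 1`. -/
theorem iterCommutator_le_of_critical {P Q : Subgroup G} [P.Normal] (hP : IsPGroup p P) [Q.Normal]
    (hQP : Q ≤ P) (h3 : ⁅P, Q⁆ ≤ Q ⊓ centralizer (Q : Set G))
    (h4 : P ⊓ centralizer (Q : Set G) ≤ Q) (g : G) {i j : ℕ} (hi : 1 ≤ i) (hj : 1 ≤ j)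
    (hQi : ∀ U V : Subgroup G, Cfsg.IsChiefFactor U V → U ≤ Q →
      Cfsg.iterCommutator U (zpowers g) i ≤ V)
    (hZj : ∀ U V : Subgroup G, Cfsg.IsChiefFactor U V → U ≤ Q ⊓ centralizer (Q : Set G) →
      Cfsg.iterCommutator U (zpowers g) j ≤ V) :
    ∀ U V : Subgroup G, Cfsg.IsChiefFactor U V → U ≤ P →
      Cfsg.iterCommutator U (zpowers g) (i + j - 1) ≤ V := by
  intro U V hUV hUP
  obtain ⟨hVU, hUn, hVn, hmin⟩ := hUV
  set K := zpowers g with hK
  obtain ⟨U₀, -, hU₀min⟩ := exists_minimal_le_of_wellFoundedLT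
    (fun M : Subgroup G => M.Normal ∧ M ≤ U ∧ ¬ M ≤ V) U ⟨hUn, le_rfl, hVU.not_ge⟩
  obtain ⟨hU₀n, hU₀U, hU₀V⟩ := hU₀min.prop
  have hV₀ : Cfsg.IsChiefFactor U₀ (V ⊓ U₀) :=
    ⟨lt_of_le_of_ne inf_le_right fun e => hU₀V (inf_eq_right.1 e), hU₀n, inferInstance,
      fun N hN h1 h2 => by
      by_cases hNV : N ≤ V
      · exact Or.inl (le_antisymm (le_inf hNV h2) h1)
      · exact Or.inr (le_antisymm h2 (hU₀min.le_of_le ⟨hN, h2.trans hU₀U, hNV⟩ h2))⟩
  have hUsup : U = U₀ ⊔ V := by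
    rcases hmin (U₀ ⊔ V) inferInstance le_sup_right (sup_le hU₀U hVU.le) with h | h
    · exact absurd (h ▸ le_sup_left : U₀ ≤ V) hU₀V
    · exact h.symm
  suffices hsuff : Cfsg.iterCommutator U₀ K (i + j - 1) ≤ V by
    have h1 : (Cfsg.iterCommutator U K (i + j - 1)).map (QuotientGroup.mk' V) = ⊥ := by
      have hmap : ∀ (X : Subgroup G) (k : ℕ), (Cfsg.iterCommutator X K k).map (QuotientGroup.mk' V) =
          Cfsg.iterCommutator (X.map (QuotientGroup.mk' V)) (K.map (QuotientGroup.mk' V)) k := by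
        intro X k
        induction k with
        | zero => rfl
        | succ k ihk =>
          show Subgroup.map _ ⁅_, _⁆ = ⁅_, _⁆
          rw [Subgroup.map_commutator, ihk]
      rw [hmap, hUsup, Subgroup.map_sup, QuotientGroup.map_mk'_self, sup_bot_eq, ← hmap,
        Subgroup.map_eq_bot_iff, QuotientGroup.ker_mk']
      exact hsuff
    rwa [Subgroup.map_eq_bot_iff, QuotientGroup.ker_mk'] at h1
  have hKn : ∀ (X : Subgroup G) [X.Normal], K ≤ normalizer (X : Set G) := fun X _ => by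
    rw [normalizer_eq_top_iff.2 (inferInstance : X.Normal)]; exact le_top
  by_cases hU₀Q : U₀ ≤ Q
  · exact ((iterCommutator_antitone (hKn U₀) (by omega : i ≤ i + j - 1)).trans
      (hQi U₀ _ hV₀ hU₀Q)).trans inf_le_left
  -- a minimal normal subgroup of `G` in `Q` not centralized by `U₀`
  have hne : ⁅U₀, Q⁆ ≠ ⊥ := fun h => hU₀Q
    ((le_inf (hU₀U.trans hUP) (commutator_eq_bot_iff_le_centralizer.1 h)).trans h4)
  obtain ⟨R, -, hRmin⟩ := exists_minimal_le_of_wellFoundedLT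
    (fun M : Subgroup G => M.Normal ∧ M ≤ Q ∧ ⁅U₀, M⁆ ≠ ⊥) Q ⟨inferInstance, le_rfl, hne⟩
  obtain ⟨hRn, hRQ, hRne⟩ := hRmin.prop
  obtain ⟨R', hR'⟩ := exists_chief_of_normal R fun h => hRne (by rw [h, commutator_bot_right])
  have hR'bot : ⁅U₀, R'⁆ = ⊥ := by
    by_contra h
    exact hR'.1.not_ge (hRmin.le_of_le ⟨hR'.2.2.1, hR'.1.le.trans hRQ, h⟩ hR'.1.le)
  set W := ⁅U₀, R⁆ with hW
  haveI : W.Normal := commutator_normal U₀ R
  obtain ⟨W', hW'⟩ := exists_chief_of_normal W hRne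
  haveI := hW'.2.2.1
  have hWQ : W ≤ Q ⊓ centralizer (Q : Set G) :=
    (commutator_mono (hU₀U.trans hUP) hRQ).trans h3
  set π := QuotientGroup.mk' W' with hπ
  have hπs : Function.Surjective π := QuotientGroup.mk'_surjective W'
  let Wb : ℕ → Subgroup (G ⧸ W') := Cfsg.iterCommutator (W.map π) (K.map π)
  have hWmap : ∀ k, (Cfsg.iterCommutator W K k).map π = Wb k := by
    intro k
    induction k with
    | zero => rfl
    | succ k ihk =>
      show Subgroup.map _ ⁅_, _⁆ = ⁅_, _⁆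
      rw [Subgroup.map_commutator, ihk]
  haveI : (W.map π).Normal := Normal.map inferInstance π hπs
  have hKW : K.map π ≤ normalizer (W.map π : Set (G ⧸ W')) := by
    rw [normalizer_eq_top_iff.2 (inferInstance : (W.map π).Normal)]; exact le_top
  have hWanti : Antitone Wb := iterCommutator_antitone hKW
  have hWj : Wb j = ⊥ := by
    rw [← hWmap, Subgroup.map_eq_bot_iff, hπ, QuotientGroup.ker_mk']
    exact hZj W W' hW' hWQ
  -- `P` and `Q` act trivially on the images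
  have hPW : ∀ x ∈ P, ∀ w ∈ W.map π, π x * w = w * π x := by
    rintro x hx _ ⟨w, hw, rfl⟩
    refine (commutatorElement_eq_one_iff_mul_comm.1 ?_).symm
    rw [← map_commutatorElement]
    exact (QuotientGroup.eq_one_iff _).2 (commutator_le_of_chief hW'
      (hP.to_le (hWQ.trans (inf_le_left.trans hQP))) hP (commutator_mem_commutator hw hx))
  have hmem : ∀ x ∈ U₀, ∀ r ∈ R, π ⁅x, r⁆ ∈ W.map π := fun x hx r hr =>
    mem_map_of_mem π (commutator_mem_commutator hx hr)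
  have hKR : K ≤ normalizer (R : Set G) := hKn R
  have hRi : Cfsg.iterCommutator R K i ≤ R' := hQi R R' hR' hRQ
  let Rs : ℕ → Subgroup G := Cfsg.iterCommutator R K
  have hRs : ∀ s, Rs s ≤ R := fun s => iterCommutator_antitone hKR (Nat.zero_le s)
  let D : ℕ → Subgroup G := fun n =>
    { carrier := {x | x ∈ U₀ ∧ ∀ s, ∀ r ∈ Rs s, π ⁅x, r⁆ ∈ Wb (n + s + 1 - i)}
      one_mem' := ⟨U₀.one_mem, fun s r _ => by simp⟩
      mul_mem' := fun {a b} ha hb => ⟨U₀.mul_mem ha.1 hb.1, fun s r hr => by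
        rw [show ⁅a * b, r⁆ = a * ⁅b, r⁆ * a⁻¹ * ⁅a, r⁆ by simp only [commutatorElement_def]; group,
          map_mul, map_mul, map_mul, map_inv,
          hPW a (hUP (hU₀U ha.1)) _ (hmem b hb.1 r (hRs s hr)), mul_inv_cancel_right]
        exact mul_mem (hb.2 s r hr) (ha.2 s r hr)⟩
      inv_mem' := fun {a} ha => ⟨U₀.inv_mem ha.1, fun s r hr => by
        rw [show ⁅a⁻¹, r⁆ = a⁻¹ * ⁅a, r⁆⁻¹ * a⁻¹⁻¹ by simp only [commutatorElement_def]; group,
          map_mul, map_mul, map_inv π a⁻¹, map_inv π ⁅a, r⁆,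
          hPW a⁻¹ (P.inv_mem (hUP (hU₀U ha.1))) _ (inv_mem (hmem a ha.1 r (hRs s hr))),
          mul_inv_cancel_right]
        exact inv_mem (ha.2 s r hr)⟩ }
  have hstep : ∀ n, Cfsg.iterCommutator U₀ K n ≤ D n := by
    intro n
    induction n with
    | zero =>
      intro x hx
      refine ⟨hx, fun s r hr => ?_⟩
      rcases Nat.eq_zero_or_pos (0 + s + 1 - i) with h0 | h0
      · rw [h0]; exact hmem x hx r (hRs s hr)
      · have hr' : r ∈ R' := hRi (iterCommutator_antitone hKR (by omega : i ≤ s) hr)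
        have : ⁅x, r⁆ = 1 := mem_bot.1 (hR'bot ▸ commutator_mem_commutator hx hr')
        rw [this, map_one]; exact one_mem _
    | succ n ihn =>
      show ⁅Cfsg.iterCommutator U₀ K n, K⁆ ≤ D (n + 1)
      refine commutator_le.2 fun x hx h hh => ?_
      obtain ⟨hxU, hxD⟩ := ihn hx
      have hyU : ⁅x, h⁆ ∈ U₀ := commutator_le_left U₀ ⊤ (commutator_mem_commutator hxU (mem_top h))
      refine ⟨hyU, fun s r hr => ?_⟩
      set r₀ := h⁻¹ * r * h with hr₀
      set r' := r⁻¹ * r₀ with hr'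
      have hr'mem : r' ∈ Rs (s + 1) := by
        rw [show r' = ⁅r⁻¹, h⁻¹⁆ by rw [hr', hr₀, commutatorElement_def]; group]
        exact commutator_mem_commutator (inv_mem hr) (inv_mem hh)
      set a := π ⁅x, r⁆ with ha
      set b := π ⁅x, r'⁆ with hb
      set c := π h with hc
      have haW : a ∈ Wb (n + s + 1 - i) := hxD s r hr
      have hbW : b ∈ Wb (n + (s + 1) + 1 - i) := hxD (s + 1) r' hr'mem
      have hcK : c ∈ K.map π := mem_map_of_mem π hh
      -- the value on the conjugated element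
      have hval : π ⁅x, r₀⁆ = a * b := by
        rw [show r₀ = r * r' by rw [hr']; group,
          show ⁅x, r * r'⁆ = ⁅x, r⁆ * (r * ⁅x, r'⁆ * r⁻¹) by simp only [commutatorElement_def]; group]
        have : r * ⁅x, r'⁆ * r⁻¹ = ⁅x, r'⁆ := by
          rw [mem_centralizer_iff.1 (hWQ (commutator_mem_commutator hxU (hRs _ hr'mem))).2 r
            (hRQ (hRs s hr)), mul_inv_cancel_right]
        rw [this, map_mul]
      have hinv : π ⁅x⁻¹, r₀⁆ = (a * b)⁻¹ := by
        have hr₀R : r₀ ∈ R := by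
          rw [show r₀ = r * r' by rw [hr']; group]
          exact R.mul_mem (hRs s hr) (hRs _ hr'mem)
        rw [show ⁅x⁻¹, r₀⁆ = x⁻¹ * ⁅x, r₀⁆⁻¹ * x⁻¹⁻¹ by simp only [commutatorElement_def]; group,
          map_mul, map_mul, map_inv π x⁻¹, map_inv π ⁅x, r₀⁆,
          hPW x⁻¹ (P.inv_mem (hUP (hU₀U hxU))) _ (inv_mem (hmem x hxU r₀ hr₀R)), mul_inv_cancel_right,
          hval]
      have hz : π ⁅h * x⁻¹ * h⁻¹, r⁆ = c * (a * b)⁻¹ * c⁻¹ := by
        rw [show ⁅h * x⁻¹ * h⁻¹, r⁆ = h * ⁅x⁻¹, r₀⁆ * h⁻¹ by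
          rw [hr₀]; simp only [commutatorElement_def]; group, map_mul, map_mul, map_inv, hinv]
      have hzU : h * x⁻¹ * h⁻¹ ∈ U₀ := hU₀n.conj_mem _ (U₀.inv_mem hxU) h
      have hy : π ⁅⁅x, h⁆, r⁆ = (c * b⁻¹ * c⁻¹) * (c * a⁻¹ * c⁻¹ * a) := by
        rw [show ⁅x, h⁆ = x * (h * x⁻¹ * h⁻¹) by rw [commutatorElement_def]; group,
          show ⁅x * (h * x⁻¹ * h⁻¹), r⁆ = x * ⁅h * x⁻¹ * h⁻¹, r⁆ * x⁻¹ * ⁅x, r⁆ by
            simp only [commutatorElement_def]; group,
          map_mul, map_mul, map_mul, map_inv π x,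
          hPW x (hUP (hU₀U hxU)) _ (hmem _ hzU r (hRs s hr)), mul_inv_cancel_right, hz, ← ha]
        group
      rw [hy]
      refine mul_mem ?_ ?_
      · have h1 := (mem_normalizer_iff.1 (le_normalizer_iterCommutator hKW _ hcK) b⁻¹).1 (inv_mem hbW)
        rw [show n + 1 + s + 1 - i = n + (s + 1) + 1 - i by omega]
        exact h1
      · have h1 : ⁅a⁻¹, c⁆⁻¹ ∈ Wb (n + s + 1 - i + 1) :=
          inv_mem (commutator_mem_commutator (inv_mem haW) hcK)
        rw [commutatorElement_inv, commutatorElement_def, inv_inv] at h1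
        exact hWanti (by omega : n + 1 + s + 1 - i ≤ n + s + 1 - i + 1) h1
  -- conclusion
  set E := U₀ ⊓ (centralizer ((R.map π : Subgroup _) : Set (G ⧸ W'))).comap π with hE
  haveI : (R.map π).Normal := Normal.map hRn π hπs
  haveI : E.Normal := inferInstance
  have hEV : E ≤ V := by
    by_contra hEV
    have hle : U₀ ≤ E := hU₀min.le_of_le ⟨inferInstance, inf_le_left.trans hU₀U, hEV⟩ inf_le_left
    refine hW'.1.not_ge (commutator_le.2 fun x hx r hr => ?_)
    refine (QuotientGroup.eq_one_iff _).1 ?_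
    show π ⁅x, r⁆ = 1
    rw [map_commutatorElement, commutatorElement_eq_one_iff_mul_comm]
    exact (mem_centralizer_iff.1 (hle hx).2 _ (mem_map_of_mem π hr)).symm
  refine le_trans (fun x hx => ?_) hEV
  obtain ⟨hxU, hxD⟩ := hstep _ hx
  refine ⟨hxU, mem_centralizer_iff.2 ?_⟩
  rintro _ ⟨r, hr, rfl⟩
  refine (commutatorElement_eq_one_iff_mul_comm.1 ?_).symm
  rw [← map_commutatorElement, ← mem_bot, ← hWj, show j = i + j - 1 + 0 + 1 - i by omega]
  exact hxD 0 r hr

end CfsgLib.PLocal
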