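import Mathlib
import Cfsg.Prelude
import Cfsg.Agent.Lib.PLocal.Thompson
import Cfsg.Agent.Lib.Comp.Local

/-!
Images of `Ω₁(Z(U))` and `J(U)` under a homomorphism injective on `U`.
-/

namespace CfsgLib.PLocal

open Subgroup

universe u

variable {G : Type u} [Group G] {H : Type u} [Group H] {p : ℕ}

theorem center_map_of_injOn (f : G →* H) {U : Subgroup G} (hf : Set.InjOn f (U : Set G)) :
    (U ⊓ centralizer (U : Set G)).map f = U.map f ⊓ centralizer ((U.map f : Subgroup H) : Set H) := by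
  ext y
  constructor
  · rintro ⟨x, ⟨hxU, hxc⟩, rfl⟩
    refine ⟨mem_map_of_mem f hxU, mem_centralizer_iff.2 ?_⟩
    rintro _ ⟨u, hu, rfl⟩
    rw [← map_mul, ← map_mul, mem_centralizer_iff.1 hxc u hu]
  · rintro ⟨⟨x, hxU, rfl⟩, hc⟩
    refine ⟨x, ⟨hxU, mem_centralizer_iff.2 fun u hu => hf (U.mul_mem hu hxU) (U.mul_mem hxU hu) ?_⟩, rfl⟩
    rw [map_mul, map_mul, mem_centralizer_iff.1 hc _ (mem_map_of_mem f hu)]

theorem injective_comp_subtype (f : G →* H) {U : Subgroup G} (hf : Set.InjOn f (U : Set G)) :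
    Function.Injective (f.comp U.subtype) :=
  fun a b h => Subtype.ext (hf a.2 b.2 h)

theorem omegaOne_map_of_injOn (f : G →* H) {U W : Subgroup G} (hf : Set.InjOn f (U : Set G))
    (hW : W ≤ U) : (Cfsg.omegaOne p W).map f = Cfsg.omegaOne p (W.map f) := by
  conv_lhs => rw [← map_subgroupOf_eq_of_le hW, ← omegaOne_map_injective U.subtype_injective,
    map_map, omegaOne_map_injective (injective_comp_subtype f hf), ← map_map,
    map_subgroupOf_eq_of_le hW]

theorem thompsonOf_map_of_injOn (f : G →* H) {U : Subgroup G} (hf : Set.InjOn f (U : Set G)) :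
    (Cfsg.thompsonSubgroupOf p U).map f = Cfsg.thompsonSubgroupOf p (U.map f) := by
  let e : U ≃* U.map f := MulEquiv.ofBijective (f.subgroupMap U)
    ⟨fun a b h => Subtype.ext (hf a.2 b.2 (congrArg Subtype.val h)), f.subgroupMap_surjective U⟩
  unfold Cfsg.thompsonSubgroupOf
  rw [← thompson_map_equiv (p := p) e, map_map, map_map]
  rfl

theorem injOn_mk'_of_isPGroup [Finite G] [Fact p.Prime] {O U : Subgroup G} [O.Normal]
    (hO : (Nat.card O).Coprime p) (hU : IsPGroup p U) :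
    Set.InjOn (QuotientGroup.mk' O) (U : Set G) := by
  intro a ha b hb h
  have h1 : a⁻¹ * b ∈ U ⊓ O := ⟨U.mul_mem (U.inv_mem ha) hb, QuotientGroup.eq.1 h⟩
  rw [CfsgLib.Comp.inf_eq_bot_of_isPGroup hU hO, mem_bot, inv_mul_eq_one] at h1
  exact h1

end CfsgLib.PLocal
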