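import Cfsg.Agent.Lib.ClassK.PushPSL

/-!
# The normalizer of a Sylow `p`-subgroup of `PSL₂(pⁿ)` contains every proper overgroup
-/

set_option autoImplicit false

namespace CfsgLib.PLocal

open Subgroup
open scoped MatrixGroups Pointwise
open CfsgLib.Classical (uElt uSL)

variable {F : Type*} [Field F]

/-- A lower unitriangular matrix. -/
def lowerTri (e : F) : SL(2, F) := ⟨!![1, 0; e, 1], by simp [Matrix.det_fin_two_of]⟩

theorem lowerTri_val (e : F) : (lowerTri e : Matrix (Fin 2) (Fin 2) F) = !![1, 0; e, 1] := rfl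

theorem sl_eq_uElt_lowerTri_uElt (s : SL(2, F)) (hc : s.1 1 0 ≠ 0) :
    s = uElt ((s.1 0 0 - 1) / s.1 1 0) * lowerTri (s.1 1 0) * uElt ((s.1 1 1 - 1) / s.1 1 0) := by
  refine Subtype.ext ?_
  have hdet : s.1 0 0 * s.1 1 1 - s.1 0 1 * s.1 1 0 = 1 := by
    rw [← Matrix.det_fin_two]; exact s.2
  simp only [Matrix.SpecialLinearGroup.coe_mul, CfsgLib.Classical.uElt_val, lowerTri_val,
    Matrix.mul_fin_two]
  conv_lhs => rw [Matrix.eta_fin_two s.1]
  ext i j
  fin_cases i <;> fin_cases j <;> simp only [Matrix.of_apply, Matrix.cons_val', Matrix.cons_val_zero,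
    Matrix.cons_val_one, Fin.zero_eta, Fin.mk_one, Matrix.cons_val_fin_one] <;>
    field_simp <;> first | linear_combination -hdet | linear_combination hdet | ring

/-- A subgroup containing all upper unitriangular matrices and one matrix that is not upper
triangular is everything. -/
theorem sl_eq_top_of_uSL_le {L : Subgroup SL(2, F)} (hU : uSL F ≤ L) {s : SL(2, F)} (hs : s ∈ L)
    (hc : s.1 1 0 ≠ 0) : L = ⊤ := by
  have hu : ∀ t : F, uElt t ∈ L := fun t => hU ⟨t, rfl⟩
  set c := s.1 1 0 with hcdef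
  have hl : lowerTri c ∈ L := by
    obtain ⟨A, hA, B, hB, h0⟩ : ∃ A ∈ L, ∃ B ∈ L, s = A * lowerTri c * B :=
      ⟨_, hu _, _, hu _, sl_eq_uElt_lowerTri_uElt s hc⟩
    rw [show lowerTri c = A⁻¹ * (A * lowerTri c * B) * B⁻¹ by group, ← h0]
    exact L.mul_mem (L.mul_mem (L.inv_mem hA) hs) (L.inv_mem hB)
  have hlow : ∀ e : F, lowerTri e ∈ L := by
    intro e
    set w : SL(2, F) := uElt (-1 / c) * lowerTri c * uElt (-1 / c) with hw
    have hwm : w ∈ L := L.mul_mem (L.mul_mem (hu _) hl) (hu _)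
    have key : lowerTri e * w = w * uElt (-e / c ^ 2) := by
      refine Subtype.ext ?_
      rw [hw]
      simp only [Matrix.SpecialLinearGroup.coe_mul, CfsgLib.Classical.uElt_val, lowerTri_val,
        Matrix.mul_fin_two]
      ext i j
      fin_cases i <;> fin_cases j <;> simp only [Matrix.of_apply, Matrix.cons_val',
        Matrix.cons_val_zero, Matrix.cons_val_one, Fin.zero_eta, Fin.mk_one,
        Matrix.cons_val_fin_one] <;> field_simp <;> ring
    rw [show lowerTri e = w * uElt (-e / c ^ 2) * w⁻¹ by rw [← key, mul_inv_cancel_right]]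
    exact L.mul_mem (L.mul_mem hwm (hu _)) (L.inv_mem hwm)
  have hgen : ∀ x : SL(2, F), x.1 1 0 ≠ 0 → x ∈ L := fun x hx => by
    rw [sl_eq_uElt_lowerTri_uElt x hx]
    exact L.mul_mem (L.mul_mem (hu _) (hlow _)) (hu _)
  refine eq_top_iff.2 fun x _ => ?_
  by_cases hx : x.1 1 0 = 0
  · have hd : x.1 1 1 ≠ 0 := fun hd => by
      have := x.2
      rw [Matrix.det_fin_two, hx, hd] at this
      simp at this
    have h1 : x * lowerTri 1 ∈ L := hgen _ (by
      simp only [Matrix.SpecialLinearGroup.coe_mul, lowerTri_val, Matrix.mul_apply, Fin.sum_univ_two]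
      simpa [hx] using hd)
    have := L.mul_mem h1 (L.inv_mem (hlow 1))
    rwa [mul_inv_cancel_right] at this
  · exact hgen x hx

theorem conj_mem_uSL {s : SL(2, F)} (hc : s.1 1 0 = 0) (t : F) : s * uElt t * s⁻¹ ∈ uSL F := by
  refine ⟨s.1 0 0 ^ 2 * t, ?_⟩
  have hdet : s.1 0 0 * s.1 1 1 = 1 := by
    have := s.2
    rw [Matrix.det_fin_two, hc, mul_zero, sub_zero] at this
    exact this
  rw [eq_mul_inv_iff_mul_eq]
  refine Subtype.ext ?_
  simp only [Matrix.SpecialLinearGroup.coe_mul, CfsgLib.Classical.uElt_val]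
  ext i j
  fin_cases i <;> fin_cases j <;>
    simp [Matrix.mul_apply, Fin.sum_univ_two, hc] <;> linear_combination (s.1 0 0 * t) * hdet

/-- In `PSL₂(pⁿ)` a proper subgroup containing a Sylow `p`-subgroup normalizes it. -/
theorem le_normalizer_or_eq_top_psl [Fintype F] {p n : ℕ} [Fact p.Prime]
    (hF : Fintype.card F = p ^ n) (P : Sylow p (Matrix.ProjectiveSpecialLinearGroup (Fin 2) F))
    {M : Subgroup (Matrix.ProjectiveSpecialLinearGroup (Fin 2) F)}
    (hPM : (P : Subgroup (Matrix.ProjectiveSpecialLinearGroup (Fin 2) F)) ≤ M) :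
    M ≤ normalizer ((P : Subgroup (Matrix.ProjectiveSpecialLinearGroup (Fin 2) F)) : Set _) ∨
      M = ⊤ := by
  obtain ⟨P₀, hP₀, -⟩ := CfsgLib.ClassK.Push.exists_sylow_psl (F := F) hF
  obtain ⟨v, rfl⟩ := MulAction.exists_smul_eq (Matrix.ProjectiveSpecialLinearGroup (Fin 2) F) P₀ P
  rw [Sylow.coe_subgroup_smul] at hPM ⊢
  set π := QuotientGroup.mk' (center SL(2, F)) with hπ
  by_cases h : ∃ m ∈ M, ∃ s : SL(2, F), π s = v⁻¹ * m * v ∧ s.1 1 0 ≠ 0
  · obtain ⟨m, hm, s, hs, hc⟩ := h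
    refine Or.inr ?_
    set L : Subgroup SL(2, F) := M.comap ((MulAut.conj v).toMonoidHom.comp π) with hL
    have hLtop : L = ⊤ := by
      refine sl_eq_top_of_uSL_le (L := L) (fun x hx => ?_) (s := s) ?_ hc
      · refine hPM ?_
        rw [hP₀]
        exact ⟨π x, ⟨x, hx, rfl⟩, rfl⟩
      · change v * π s * v⁻¹ ∈ M
        rw [hs]
        simpa [mul_assoc] using hm
    refine eq_top_iff.2 fun x _ => ?_
    obtain ⟨y, hy⟩ := QuotientGroup.mk'_surjective (center SL(2, F)) (v⁻¹ * x * v)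
    have h1 : y ∈ L := by rw [hLtop]; exact mem_top y
    change v * π y * v⁻¹ ∈ M at h1
    rw [hy] at h1
    simpa [mul_assoc] using h1
  · push Not at h
    refine Or.inl fun m hm => Subgroup.mem_normalizer_fintype fun x hx => ?_
    obtain ⟨y, hy, rfl⟩ := hx
    obtain ⟨_, ⟨t, rfl⟩, rfl⟩ : ∃ z ∈ uSL F, π z = y := by rw [hP₀] at hy; exact hy
    obtain ⟨s, hs⟩ := QuotientGroup.mk'_surjective (center SL(2, F)) (v⁻¹ * m * v)
    refine ⟨π (s * uElt t * s⁻¹), ?_, ?_⟩
    · rw [hP₀]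
      exact ⟨_, conj_mem_uSL (h m hm s hs) t, rfl⟩
    · change v * π (s * uElt t * s⁻¹) * v⁻¹ = m * (v * π (uElt t) * v⁻¹) * m⁻¹
      rw [map_mul, map_mul, map_inv, hs]
      group

end CfsgLib.PLocal
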