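import Cfsg.Agent.Lib.PLocal.Thompson
import Cfsg.Agent.Lib.PLocal.Sylow

/-!
# The stable normal closure `W(S)` of `Ω₁(Z(S))`
-/

namespace CfsgLib.PLocal

open Subgroup
open scoped commutatorElement

universe u

variable {S : Type u} [Group S] {p : ℕ}

/-- The defining family of the stable normal closure. -/
def stableFamily (p : ℕ) (S : Type u) [Group S] : Set (Subgroup S) :=
  {W | Cfsg.omegaOne p (center S) ≤ W ∧
    ∀ (H : Type u) [Group H] (τ : S →* H), Cfsg.IsStableEmbedding p τ → (W.map τ).Normal}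

theorem stableNormalClosure_eq :
    Cfsg.stableNormalClosure p S = sInf (stableFamily p S) := rfl

theorem center_eq_top_inf : center S = (⊤ : Subgroup S) ⊓ centralizer ((⊤ : Subgroup S) : Set S) := by
  rw [top_inf_eq, coe_top, centralizer_univ]

theorem thompson_omegaCenter_eq :
    Cfsg.omegaCenterThompson p S = Cfsg.omegaOne p (Cfsg.centerThompsonOf p (⊤ : Subgroup S)) := by
  rw [Cfsg.centerThompsonOf, thompsonOf_top, Cfsg.omegaCenterThompson]

theorem omegaCenterThompson_elemAb : Cfsg.IsElementaryAbelian p (Cfsg.omegaCenterThompson p S) := by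
  rw [thompson_omegaCenter_eq]; exact omega_centerThompsonOf_elemAb _

theorem omegaCenter_le_omegaCenterThompson [Finite S] :
    Cfsg.omegaOne p (center S) ≤ Cfsg.omegaCenterThompson p S := by
  rw [thompson_omegaCenter_eq, center_eq_top_inf]
  exact omegaCenter_le_omega_centerThompsonOf _

theorem omegaCenterThompson_map_equiv {S' : Type u} [Group S'] (η : S ≃* S') :
    (Cfsg.omegaCenterThompson p S).map η.toMonoidHom = Cfsg.omegaCenterThompson p S' := by
  unfold Cfsg.omegaCenterThompson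
  rw [omegaOne_map_equiv, Subgroup.map_inf _ _ _ η.injective, thompson_map_equiv η]
  congr 2
  rw [← thompson_map_equiv η]
  ext y
  simp only [mem_map_equiv, mem_centralizer_iff, SetLike.mem_coe]
  constructor
  · intro h z hz
    apply η.symm.injective
    rw [map_mul, map_mul]
    exact h _ hz
  · intro h z hz
    apply η.injective
    rw [map_mul, map_mul, η.apply_symm_apply]
    exact h (η z) (by rwa [η.symm_apply_apply])

theorem mem_stableFamily_omegaCenterThompson [Finite S] :
    Cfsg.omegaCenterThompson p S ∈ stableFamily p S := by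
  refine ⟨omegaCenter_le_omegaCenterThompson, fun H _ τ hτ => ?_⟩
  obtain ⟨hinj, -, -, -, hJ, -⟩ := hτ
  unfold Cfsg.omegaCenterThompson
  rw [omegaOne_map_injective hinj]
  set J := Cfsg.thompsonSubgroup p S
  have e : (J ⊓ centralizer (J : Set S)).map τ = J.map τ ⊓ centralizer (J.map τ : Set H) := by
    ext y
    constructor
    · rintro ⟨x, ⟨hx, hc⟩, rfl⟩
      refine ⟨mem_map_of_mem _ hx, ?_⟩
      rintro _ ⟨z, hz, rfl⟩
      rw [← map_mul, ← map_mul, hc z hz]
    · rintro ⟨⟨x, hx, rfl⟩, hc⟩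
      exact ⟨x, ⟨hx, fun z hz => hinj (by rw [map_mul, map_mul]; exact hc _ (mem_map_of_mem _ hz))⟩,
        rfl⟩
  rw [e]
  have hN : (J.map τ ⊓ centralizer (J.map τ : Set H)).Normal := by
    have : (J.map τ).Normal := hJ
    exact inferInstance
  refine normalizer_eq_top_iff.1 (eq_top_iff.2 fun h _ => ?_)
  rw [mem_normalizer_iff_map_conj_eq, ← MulEquiv.toMonoidHom_eq_coe, omegaOne_map_equiv]
  congr 1
  exact mem_normalizer_iff_map_conj_eq.1 (normalizer_eq_top_iff.2 hN ▸ mem_top h)

theorem le_omegaCenterThompson [Finite S] :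
    Cfsg.stableNormalClosure p S ≤ Cfsg.omegaCenterThompson p S :=
  sInf_le mem_stableFamily_omegaCenterThompson

theorem omegaCenter_le_stable : Cfsg.omegaOne p (center S) ≤ Cfsg.stableNormalClosure p S :=
  le_sInf fun _ hW => hW.1

theorem mem_stableFamily_stable [Finite S] :
    Cfsg.stableNormalClosure p S ∈ stableFamily p S := by
  refine ⟨omegaCenter_le_stable, fun H _ τ hτ => ⟨?_⟩⟩
  rintro _ ⟨x, hx, rfl⟩ h
  obtain ⟨x₀, -, hx₀⟩ := (mem_stableFamily_omegaCenterThompson.2 H τ hτ).conj_mem _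
    (mem_map_of_mem τ (le_omegaCenterThompson hx)) h
  refine ⟨x₀, mem_sInf.2 fun W hW => ?_, hx₀⟩
  obtain ⟨w, hw, hwe⟩ := (hW.2 H τ hτ).conj_mem _ (mem_map_of_mem τ (mem_sInf.1 hx W hW)) h
  rwa [hτ.1 (hx₀.trans hwe.symm)]

theorem center_map_equiv {S' : Type u} [Group S'] (η : S ≃* S') :
    (center S).map η.toMonoidHom = center S' := by
  ext y
  rw [mem_map_equiv, mem_center_iff, mem_center_iff]
  constructor
  · intro h g
    apply η.symm.injective
    rw [map_mul, map_mul]
    exact h _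
  · intro h g
    apply η.injective
    rw [map_mul, map_mul, η.apply_symm_apply]
    exact h _

theorem isStableEmbedding_comp_equiv {S' H : Type u} [Group S'] [Group H] (η : S ≃* S')
    {τ : S' →* H} (hτ : Cfsg.IsStableEmbedding p τ) :
    Cfsg.IsStableEmbedding p (τ.comp η.toMonoidHom) := by
  obtain ⟨hinj, hfin, ⟨P, hP⟩, hc, hJ, hst⟩ := hτ
  refine ⟨hinj.comp η.injective, hfin, ⟨P, ?_⟩, hc, ?_, ?_⟩
  · rw [hP]
    ext y
    exact ⟨fun ⟨x, hx⟩ => ⟨η.symm x, by simpa using hx⟩, fun ⟨x, hx⟩ => ⟨η x, hx⟩⟩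
  · rwa [← map_map, thompson_map_equiv]
  · intro V _ hV
    exact hst V (by rwa [← map_map, omegaCenterThompson_map_equiv] at hV)

theorem map_mem_stableFamily {S' : Type u} [Group S'] (η : S ≃* S') {W : Subgroup S}
    (hW : W ∈ stableFamily p S) : W.map η.toMonoidHom ∈ stableFamily p S' := by
  refine ⟨?_, fun H _ τ hτ => ?_⟩
  · rw [← center_map_equiv η, ← omegaOne_map_equiv]
    exact map_mono hW.1
  · rw [map_map]
    exact hW.2 H _ (isStableEmbedding_comp_equiv η hτ)

theorem stable_map_equiv {S' : Type u} [Group S'] (η : S ≃* S') :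
    (Cfsg.stableNormalClosure p S).map η.toMonoidHom = Cfsg.stableNormalClosure p S' := by
  refine le_antisymm (le_sInf fun W hW => ?_) ?_
  · rw [map_le_iff_le_comap]
    refine sInf_le ?_
    have := map_mem_stableFamily η.symm hW
    rwa [map_equiv_eq_comap_symm', MulEquiv.symm_symm] at this
  · intro y hy
    refine ⟨η.symm y, mem_sInf.2 fun W hW => ?_, η.apply_symm_apply y⟩
    have := mem_sInf.1 hy _ (map_mem_stableFamily η hW)
    rwa [mem_map_equiv] at this

theorem stable_characteristic : (Cfsg.stableNormalClosure p S).Characteristic :=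
  characteristic_iff_map_eq.2 fun η => stable_map_equiv η

theorem stable_elemAb [Finite S] :
    Cfsg.IsElementaryAbelian p (Cfsg.stableNormalClosure p S) :=
  elemAb_mono omegaCenterThompson_elemAb le_omegaCenterThompson

theorem stable_ne_bot [Finite S] [Fact p.Prime] (hS : IsPGroup p S) [Nontrivial S] :
    Cfsg.stableNormalClosure p S ≠ ⊥ := by
  intro h
  have hZ : Nontrivial (center S) := hS.center_nontrivial
  obtain ⟨n, hn⟩ := (hS.to_subgroup (center S)).exists_card_eq
  have hn0 : n ≠ 0 := by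
    rintro rfl
    rw [pow_zero] at hn
    exact absurd hn (Finite.one_lt_card).ne'
  obtain ⟨x, hx⟩ := exists_prime_orderOf_dvd_card' (G := center S) p (hn ▸ dvd_pow_self p hn0)
  have hxp : (x : S) ^ p = 1 := by
    rw [← hx, ← Subgroup.orderOf_coe]; exact pow_orderOf_eq_one _
  have hmem : (x : S) ∈ Cfsg.stableNormalClosure p S :=
    omegaCenter_le_stable (subset_closure ⟨x.2, hxp⟩)
  rw [h, mem_bot] at hmem
  have : x = 1 := Subtype.ext hmem
  rw [this, orderOf_one] at hx
  exact (Fact.out : p.Prime).one_lt.ne hx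

/-- No element of `S` acts quadratically and nontrivially on `W(S)`. -/
theorem stable_quad_centralizes [Finite S] [Fact p.Prime] (hS : IsPGroup p S) {x : S}
    (hq : ⁅⁅Cfsg.stableNormalClosure p S, zpowers x⁆, zpowers x⁆ = ⊥) :
    ∀ w ∈ Cfsg.stableNormalClosure p S, Commute x w := by
  set W := Cfsg.stableNormalClosure p S with hWdef
  have hWc : W ≤ centralizer (W : Set S) := elemAb_le_centralizer stable_elemAb
  have hWn : W.Normal := by
    have := stable_characteristic (p := p) (S := S)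
    infer_instance
  set Q : Set S := {y | ⁅⁅W, zpowers y⁆, zpowers y⁆ = ⊥}
  suffices hmem : W ⊓ centralizer Q ∈ stableFamily p S by
    intro w hw
    exact ((sInf_le hmem : W ≤ W ⊓ centralizer Q) hw).2 x hq
  refine ⟨le_inf omegaCenter_le_stable ?_, fun H _ τ hτ => ⟨?_⟩⟩
  · intro z hz y _
    exact (mem_center_iff.1 (omegaOne_le p _ hz) y)
  rintro _ ⟨w', ⟨hw', hwQ⟩, rfl⟩ h
  obtain ⟨hinj, hfin, ⟨P, hP⟩, -, -, hst⟩ := id hτ
  have hV : (W.map τ).Normal := mem_stableFamily_stable.2 H τ hτ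
  set V := W.map τ with hVdef
  have hVc : V ≤ centralizer (V : Set H) :=
    le_centralizer_iff_isMulCommutative.2 (elemAb_map τ stable_elemAb).1
  obtain ⟨w, hw, hwe⟩ := hV.conj_mem _ (mem_map_of_mem τ hw') h
  refine ⟨w, ⟨hw, fun y hy => ?_⟩, hwe⟩
  -- the conjugate `y₁` of `τ y` acts quadratically on `V`
  have hVn : ∀ g : H, g ∈ normalizer (V : Set H) := fun g => by
    rw [normalizer_eq_top]; exact mem_top g
  set y₁ : H := h⁻¹ * τ y * h with hy₁
  have hq₁ : ⁅⁅V, zpowers y₁⁆, zpowers y₁⁆ = ⊥ := by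
    refine quad_of_elem hVc (hVn _) fun v hv => ?_
    have hv' : h * v * h⁻¹ ∈ V := hV.conj_mem _ hv h
    obtain ⟨v₀, hv₀, hve⟩ := hv'
    have hc := (quad_elem (show ⁅⁅W, zpowers y⁆, zpowers y⁆ = ⊥ from hy) hv₀).map τ
    rw [map_commutatorElement, hve] at hc
    have e1 : y₁ = MulAut.conj h⁻¹ (τ y) := by simp [hy₁, mul_assoc]
    have e2 : ⁅y₁, v⁆ = MulAut.conj h⁻¹ ⁅τ y, h * v * h⁻¹⁆ := by
      simp only [hy₁, commutatorElement_def, MulAut.conj_apply]; group
    rw [e2, e1]
    exact hc.map (MulAut.conj h⁻¹)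
  -- hence it is congruent modulo `C(V)` to the image of an element of `S`
  have : Finite H := hfin
  have : (centralizer (V : Set H)).Normal := inferInstance
  have hD := hst V (map_mono le_omegaCenterThompson) y₁ hq₁
  set D := (Cfsg.pCore p (H ⧸ centralizer (V : Set H))).comap (QuotientGroup.mk' _)
  have hDn : D.Normal := Normal.comap inferInstance _
  have hy₁D : y₁ ∈ (centralizer (V : Set H) : Subgroup H) ⊔ ((P : Subgroup H) ⊓ D) :=
    normal_pGroup_quotient_le P (fun z hz => by
      rw [mem_comap, QuotientGroup.mk'_apply, (QuotientGroup.eq_one_iff z).2 hz]; exact one_mem _)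
      (pCore_comap_relIndex _) hD
  obtain ⟨c, hc, s, hs, hcs⟩ := mem_sup_of_normal_left.1 hy₁D
  obtain ⟨s', rfl⟩ : s ∈ τ.range := hP ▸ hs.1
  have hcV : ∀ v ∈ V, c * v * c⁻¹ = v := fun v hv => by rw [← hc v hv, mul_inv_cancel_right]
  -- `s'` acts quadratically on `W`
  have hs'Q : s' ∈ Q := by
    refine quad_of_elem hWc (by rw [normalizer_eq_top]; exact mem_top s') fun v hv => ?_
    have hvV : τ v ∈ V := mem_map_of_mem τ hv
    have hsv : τ s' * τ v * (τ s')⁻¹ ∈ V := hV.conj_mem _ hvV _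
    have e : ⁅y₁, τ v⁆ = ⁅τ s', τ v⁆ := by
      rw [commutatorElement_def, commutatorElement_def, ← hcs]
      calc c * τ s' * τ v * (c * τ s')⁻¹ * (τ v)⁻¹
          = c * (τ s' * τ v * (τ s')⁻¹) * c⁻¹ * (τ v)⁻¹ := by group
        _ = _ := by rw [hcV _ hsv]
    have hcom : Commute y₁ ⁅τ s', τ v⁆ := e ▸ quad_elem hq₁ hvV
    have hmem : ⁅τ s', τ v⁆ ∈ V := mul_mem hsv (inv_mem hvV)
    have : Commute (τ s') ⁅τ s', τ v⁆ := by
      have e2 : τ s' = c⁻¹ * y₁ := by rw [← hcs, inv_mul_cancel_left]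
      rw [e2] at hmem ⊢
      rw [e2] at hcom
      exact ((show Commute c _ from (hc _ hmem).symm).inv_left).mul_left hcom
    rw [← map_commutatorElement] at this
    show s' * ⁅s', v⁆ = ⁅s', v⁆ * s'
    apply hinj
    rw [map_mul, map_mul]
    exact this
  have h2 : Commute y₁ (τ w') := by
    rw [← hcs]
    exact (show Commute c (τ w') from (hc _ (mem_map_of_mem τ hw')).symm).mul_left
      ((show Commute s' w' from hwQ s' hs'Q).map τ)
  apply hinj
  rw [map_mul, map_mul, hwe]
  have h3 := h2.map (MulAut.conj h)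
  simp only [hy₁, MulAut.conj_apply, mul_assoc, mul_inv_cancel_left, mul_inv_cancel, mul_one] at h3
  simpa [mul_assoc] using h3.eq

end CfsgLib.PLocal
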