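import Mathlib
import Cfsg.Agent.Lib.PLocal.SLTwoInvolve
import Cfsg.Agent.Lib.PLocal.Section
import Cfsg.Agent.Lib.PLocal.Stable
import Cfsg.Agent.Lib.StructC.BurnsideBasis

/-!
# Without a section `SL₂(p)` a group acts `p`-stably
-/

set_option autoImplicit false

namespace CfsgLib.PLocal

open Subgroup
open scoped MatrixGroups commutatorElement

universe u

variable {p : ℕ} [hp : Fact p.Prime] {G : Type u} [Group G] [Finite G]

/-- A faithful group on an elementary abelian group with a quadratic element outside `O_p`. -/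
theorem sec_of_faithful_quadratic (h2 : p ≠ 2) {V H : Subgroup G}
    (hV : Cfsg.IsElementaryAbelian p V) (hHV : H ≤ Subgroup.normalizer (V : Set G))
    (hf : H ⊓ Subgroup.centralizer (V : Set G) = ⊥) {a : G} (haH : a ∈ H)
    (hq : ⁅⁅V, Subgroup.zpowers a⁆, Subgroup.zpowers a⁆ = ⊥)
    (hna : a ∉ (Cfsg.pCore p H).map H.subtype) :
    ∃ (K : Subgroup G) (f : K →* SL(2, ZMod p)), K ≤ H ∧ Function.Surjective f := by
  obtain ⟨W, _, _, _, ρ, hker, hsq⟩ := exists_conjRep hV hHV
  have hinj : Function.Injective ρ := by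
    intro x y h
    have : x⁻¹ * y ∈ ρ.ker := by
      rw [MonoidHom.mem_ker, map_mul, ← h, ← map_mul, inv_mul_cancel, map_one]
    rw [hker, Subgroup.mem_subgroupOf] at this
    have h1 : ((x⁻¹ * y : H) : G) ∈ H ⊓ Subgroup.centralizer (V : Set G) := ⟨(x⁻¹ * y).2, this⟩
    rw [hf, Subgroup.mem_bot, OneMemClass.coe_eq_one, inv_mul_eq_one] at h1
    exact h1
  obtain ⟨K, f, hK⟩ := sec_of_quadratic_not_mem_pCore h2 ρ hinj (hsq ⟨a, haH⟩ hq)
    fun h => hna ⟨⟨a, haH⟩, h, rfl⟩
  exact sec_of_subgroup H f hK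

omit hp in
/-- A faithful action gives an injective representation. -/
theorem conjRep_injective {H : Subgroup G} {M : Type*} [Monoid M] {C : Subgroup G} (ρ : H →* M)
    (hker : ρ.ker = C.subgroupOf H) (hf : H ⊓ C = ⊥) : Function.Injective ρ := by
  intro x y h
  have : x⁻¹ * y ∈ ρ.ker := by
    rw [MonoidHom.mem_ker, map_mul, ← h, ← map_mul, inv_mul_cancel, map_one]
  rw [hker, Subgroup.mem_subgroupOf] at this
  have h1 : ((x⁻¹ * y : H) : G) ∈ H ⊓ C := ⟨(x⁻¹ * y).2, this⟩
  rw [hf, Subgroup.mem_bot, OneMemClass.coe_eq_one, inv_mul_eq_one] at h1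
  exact h1

variable (hno : ∀ (K : Subgroup G) (f : K →* SL(2, ZMod p)), ¬ Function.Surjective f)
include hno

/-- Without a section `SL₂(p)` every normal elementary abelian subgroup is acted on `p`-stably. -/
theorem isPStableOn_of_no_sec (h2 : p ≠ 2) (V : Subgroup G) [hn : V.Normal]
    (hV : Cfsg.IsElementaryAbelian p V) : Cfsg.IsPStableOn p V := by
  intro a hq
  by_contra hna
  obtain ⟨W, _, _, _, ρ, hker, hsq⟩ := exists_conjRep (H := (⊤ : Subgroup G)) hV
    (by rw [Subgroup.normalizer_eq_top_iff.2 hn])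
  set ι : G →* (⊤ : Subgroup G) := Subgroup.topEquiv.symm.toMonoidHom with hι
  have hC : (ρ.comp ι).ker = Subgroup.centralizer (V : Set G) := by
    rw [← MonoidHom.comap_ker, hker]; rfl
  obtain ⟨K, f, hK⟩ := sec_of_quadratic_not_stable h2 (ρ.comp ι) hC (hsq ⟨a, Subgroup.mem_top a⟩ hq)
    hna
  exact hno K f hK

/-- Subgroups and quotients inherit the absence of sections. -/
theorem no_sec_subgroup (H : Subgroup G) (K : Subgroup H) (f : K →* SL(2, ZMod p)) :
    ¬ Function.Surjective f := fun hf => by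
  obtain ⟨K', f', -, hf'⟩ := sec_of_subgroup H f hf
  exact hno K' f' hf'

theorem no_sec_quotient (N : Subgroup G) [N.Normal] (K : Subgroup (G ⧸ N))
    (f : K →* SL(2, ZMod p)) : ¬ Function.Surjective f := fun hf => by
  obtain ⟨K', f', -, hf'⟩ := sec_of_quotient N f hf
  exact hno K' f' hf'

/-- Without a section `SL₂(p)` the action on `O_p(G) / Φ(O_p(G))` is `p`-stable. -/
theorem isPStableOnSection_frattini_of_no_sec (h2 : p ≠ 2) (K : Subgroup G) [hK : K.Normal]
    (hKp : IsPGroup p K) :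
    Cfsg.IsPStableOnSection p K ((frattini K).map K.subtype) := by
  intro a hq
  set N := (frattini K).map K.subtype with hN
  haveI : N.Normal := inferInstance
  set π := QuotientGroup.mk' N with hπ
  set V := K.map π with hV
  haveI : V.Normal := hK.map π (QuotientGroup.mk'_surjective N)
  have hVe : Cfsg.IsElementaryAbelian p V := by
    refine ⟨⟨⟨?_⟩⟩, ?_⟩
    · rintro ⟨_, x, hx, rfl⟩ ⟨_, y, hy, rfl⟩
      refine Subtype.ext (show π x * π y = π y * π x from ?_)
      rw [← map_mul, ← map_mul]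
      refine (QuotientGroup.eq.2 ?_).symm
      exact ⟨(⟨x, hx⟩⁻¹ * ⟨y, hy⟩⁻¹ * ⟨x, hx⟩ * ⟨y, hy⟩ : K),
        CfsgLib.StructC.comm_mem_frattini hKp _ _, by simp [mul_assoc]⟩
    · rintro _ ⟨x, hx, rfl⟩
      rw [← map_pow, hπ, QuotientGroup.mk'_apply, QuotientGroup.eq_one_iff]
      exact ⟨⟨x, hx⟩ ^ p, CfsgLib.StructC.pow_mem_frattini hKp _, by simp⟩
  have hqV : ⁅⁅V, Subgroup.zpowers (π a)⁆, Subgroup.zpowers (π a)⁆ = ⊥ := by
    rw [hV, ← MonoidHom.map_zpowers, ← Subgroup.map_commutator, ← Subgroup.map_commutator,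
      Subgroup.map_eq_bot_iff, hπ, QuotientGroup.ker_mk']
    exact hq
  have hst := isPStableOn_of_no_sec (no_sec_quotient hno N) h2 V hVe (π a) hqV
  set C := Subgroup.centralizer (V : Set (G ⧸ N)) with hC
  haveI := Cfsg.pCore_normal p ((G ⧸ N) ⧸ C)
  set D₁ := (Cfsg.pCore p ((G ⧸ N) ⧸ C)).comap (QuotientGroup.mk' C) with hD₁
  haveI : D₁.Normal := Subgroup.Normal.comap inferInstance _
  refine ⟨D₁.comap π, Subgroup.Normal.comap inferInstance _, ?_, ?_, hst⟩
  · refine Subgroup.comap_mono ?_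
    rw [← hC, hD₁]
    intro y hy
    rw [Subgroup.mem_comap, QuotientGroup.mk'_apply, (QuotientGroup.eq_one_iff y).2 hy]
    exact one_mem _
  · obtain ⟨k, hk⟩ := (CfsgLib.Solvable.pCore_isPGroup (G := (G ⧸ N) ⧸ C) p).exists_card_eq
    refine ⟨k, ?_⟩
    show (C.comap π).relIndex (D₁.comap π) = _
    rw [Subgroup.relIndex_comap, Subgroup.map_comap_eq_self_of_surjective
      (QuotientGroup.mk'_surjective N),
      show C = (⊥ : Subgroup ((G ⧸ N) ⧸ C)).comap (QuotientGroup.mk' C) by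
        rw [MonoidHom.comap_bot, QuotientGroup.ker_mk'],
      hD₁, Subgroup.relIndex_comap, Subgroup.map_comap_eq_self_of_surjective
      (QuotientGroup.mk'_surjective C), Subgroup.relIndex_bot_left]
    exact hk

/-- A group without a section `SL₂(p)`, `p` odd, is `p`-stable in the action sense. -/
theorem isActionPStable_of_no_sec (h2 : p ≠ 2) : Cfsg.IsActionPStable p G := by
  refine ⟨fun V _ hV => isPStableOn_of_no_sec hno h2 V hV, ?_, fun S V _ hV => ?_⟩
  · haveI := Cfsg.pCore_normal p G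
    exact isPStableOnSection_frattini_of_no_sec hno h2 _ (CfsgLib.Solvable.pCore_isPGroup p)
  · refine isPStableOn_of_no_sec (no_sec_subgroup hno _) h2 V ?_
    exact (elemAb_map_iff (Subgroup.subtype_injective _)).1
      (elemAb_mono (elemAb_map _ omegaCenterThompson_elemAb) hV)

end CfsgLib.PLocal
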