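import Mathlib
import Cfsg.Agent.Lib.PLocal.SLTwoStable
import Cfsg.Agent.Lib.Solvable.PCore

/-!
# `p`-stability with acting subgroups and on normal subgroups
-/

set_option autoImplicit false

namespace CfsgLib.PLocal

open Subgroup
open scoped commutatorElement

universe u

variable {G : Type u} [Group G] [Finite G] {p : ℕ} [hp : Fact p.Prime]

/-- A quadratically acting element has a power of `p`-power exponent centralizing the subgroup. -/
theorem quad_pow_mem_centralizer {B : Subgroup G} [hB : B.Normal] {a : G}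
    (hq : ⁅⁅B, zpowers a⁆, zpowers a⁆ = ⊥) :
    a ^ Nat.card B ∈ centralizer (B : Set G) := by
  refine mem_centralizer_iff.2 fun x hx => ?_
  set c := ⁅x⁻¹, a⁆ with hc
  have hcB : c ∈ B := by
    have e : c = x⁻¹ * (a * x * a⁻¹) := by rw [hc, commutatorElement_def, inv_inv]; group
    rw [e]
    exact B.mul_mem (B.inv_mem hx) (hB.conj_mem x hx a)
  have hca : ⁅c, a⁆ = 1 := mem_bot.1 (hq ▸ commutator_mem_commutator
    (commutator_mem_commutator (B.inv_mem hx) (mem_zpowers a)) (mem_zpowers a))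
  rw [commutatorElement_eq_one_iff_mul_comm] at hca
  have hstep : ∀ n : ℕ, a ^ n * x * (a ^ n)⁻¹ = x * c ^ n := by
    intro n
    induction n with
    | zero => simp
    | succ n ih =>
      have h1 : Commute a (c ^ n) := (show Commute a c from hca.symm).pow_right n
      calc a ^ (n + 1) * x * (a ^ (n + 1))⁻¹ = a * (a ^ n * x * (a ^ n)⁻¹) * a⁻¹ := by
            rw [pow_succ']; group
        _ = a * x * a⁻¹ * (a * c ^ n * a⁻¹) := by rw [ih]; group
        _ = x * c * c ^ n := by
            rw [h1.eq, mul_inv_cancel_right,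
              show a * x * a⁻¹ = x * c by rw [hc, commutatorElement_def]; group]
        _ = _ := by rw [mul_assoc, ← pow_succ']
  have h := hstep (Nat.card B)
  rw [show c ^ Nat.card B = 1 from congrArg Subtype.val (pow_card_eq_one' (x := (⟨c, hcB⟩ : B))),
    mul_one, mul_inv_eq_iff_eq_mul] at h
  exact h.symm

/-- A quadratically acting element agrees modulo the centralizer with a `p`-element power of itself. -/
theorem exists_pElement_congr {B : Subgroup G} [B.Normal] (hB : IsPGroup p B) {a : G}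
    (hq : ⁅⁅B, zpowers a⁆, zpowers a⁆ = ⊥) :
    ∃ b ∈ zpowers a, IsPGroup p (zpowers b) ∧
      (QuotientGroup.mk b : G ⧸ centralizer (B : Set G)) = QuotientGroup.mk a := by
  obtain ⟨k, hk⟩ := hB.exists_card_eq
  have h1 : ((QuotientGroup.mk a : G ⧸ centralizer (B : Set G)) ^ (p ^ k)) = 1 := by
    rw [← QuotientGroup.mk_pow, QuotientGroup.eq_one_iff, ← hk]
    exact quad_pow_mem_centralizer hq
  obtain ⟨i, r, hr, hord⟩ := Nat.exists_eq_pow_mul_and_not_dvd (orderOf_pos a).ne' p hp.out.ne_one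
  have hcop : (p ^ k).Coprime r := Nat.Coprime.pow_left _ (hp.out.coprime_iff_not_dvd.2 hr)
  obtain ⟨s, hs1, hs0⟩ := Nat.chineseRemainder hcop 1 0
  refine ⟨a ^ s, pow_mem (mem_zpowers a) s, ?_, ?_⟩
  · have h2 : (a ^ s) ^ p ^ i = 1 := by
      obtain ⟨t, rfl⟩ : r ∣ s := Nat.modEq_zero_iff_dvd.1 hs0
      rw [← pow_mul, ← orderOf_dvd_iff_pow_eq_one, hord]
      exact ⟨t, by ring⟩
    rintro ⟨y, hy⟩
    obtain ⟨m, rfl⟩ := mem_zpowers_iff.1 hy
    refine ⟨i, Subtype.ext ?_⟩
    show ((a ^ s) ^ m) ^ p ^ i = 1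
    rw [← zpow_natCast ((a ^ s) ^ m), ← zpow_mul, mul_comm, zpow_mul, zpow_natCast, h2, one_zpow]
  · rw [QuotientGroup.mk_pow, pow_eq_pow_mod s h1, hs1, ← pow_eq_pow_mod 1 h1, pow_one]

/-- The quotient `G / C(B)` of a normal subgroup is `N(B) / C(B)`. -/
theorem pCore_normalizer_quotient_iff {B : Subgroup G} [hB : B.Normal] (a : G)
    (ha : a ∈ normalizer (B : Set G)) :
    (QuotientGroup.mk (⟨a, ha⟩ : ↥(normalizer (B : Set G))) :
        ↥(normalizer (B : Set G)) ⧸ (centralizer (B : Set G)).subgroupOf (normalizer (B : Set G))) ∈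
      Cfsg.pCore p _ ↔
    (QuotientGroup.mk a : G ⧸ centralizer (B : Set G)) ∈
      Cfsg.pCore p (G ⧸ centralizer (B : Set G)) := by
  set N := normalizer (B : Set G) with hN
  have htop : N = ⊤ := normalizer_eq_top_iff.2 hB
  let e : G ≃* N := topEquiv.symm.trans (MulEquiv.subgroupCongr htop.symm)
  have hmap : (centralizer (B : Set G)).map e.toMonoidHom = (centralizer (B : Set G)).subgroupOf N := by
    ext x
    constructor
    · rintro ⟨y, hy, rfl⟩
      exact hy
    · intro hx
      exact ⟨(x : G), hx, Subtype.ext rfl⟩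
  set ψ := QuotientGroup.congr (centralizer (B : Set G)) ((centralizer (B : Set G)).subgroupOf N) e hmap
  rw [← CfsgLib.Solvable.map_pCore_equiv ψ]
  constructor
  · rintro ⟨y, hy, hye⟩
    have h1 : y = QuotientGroup.mk a := ψ.injective hye
    exact h1 ▸ hy
  · intro h
    exact ⟨_, h, rfl⟩

/-- For a trivial `p'`-core, `p`-stability gives `p`-stability on every normal `p`-subgroup. -/
theorem isPStableOn_of_isPStable (hO : Cfsg.pPrimeCore p G = ⊥) (hs : Cfsg.IsPStable p G)
    (B : Subgroup G) [hB : B.Normal] (hBp : IsPGroup p B) : Cfsg.IsPStableOn p B := by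
  intro a hq
  obtain ⟨b, hba, hbp, hmk⟩ := exists_pElement_congr hBp hq
  have hle : zpowers b ≤ zpowers a := zpowers_le.2 hba
  have hBN : (B : Subgroup G) ≤ Cfsg.pPrimePCore p G := by
    haveI := Cfsg.pPrimeCore_normal p G
    intro x hx
    exact mem_comap.2 (CfsgLib.Solvable.le_pCore (hB.map _ (QuotientGroup.mk'_surjective _)) (hBp.map _)
      (mem_map_of_mem _ hx))
  have h := hs.2.2 (zpowers b) B hbp hBp (fun c _ x hx => hB.conj_mem x hx c) hBN
    (by rw [hO, bot_sup_eq]; exact hB)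
    (eq_bot_iff.2 (hq ▸ commutator_mono (commutator_mono le_rfl hle) hle))
  have hbN : b ∈ normalizer (B : Set G) := normalizer_eq_top_iff.2 hB ▸ mem_top b
  have h' := h (mem_map_of_mem _ (x := (⟨b, hbN⟩ : normalizer (B : Set G))) (mem_zpowers b))
  rw [← hmk]
  exact (pCore_normalizer_quotient_iff b hbN).1 h'

/-- For a trivial `p'`-core, `p`-stability on the normal `p`-subgroups gives `p`-stability. -/
theorem isPStable_of_forall_isPStableOn (hodd : Odd p) (hne : Cfsg.pCore p G ≠ ⊥)
    (hO : Cfsg.pPrimeCore p G = ⊥)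
    (h : ∀ (B : Subgroup G) [B.Normal], IsPGroup p B → Cfsg.IsPStableOn p B) :
    Cfsg.IsPStable p G := by
  refine ⟨hodd, hne, fun A P _ hP _ _ hn hq => ?_⟩
  rw [hO, bot_sup_eq] at hn
  haveI := hn
  rintro _ ⟨⟨x, hxN⟩, hx, rfl⟩
  exact (pCore_normalizer_quotient_iff x hxN).2 (h P hP x (eq_bot_iff.2 (hq ▸
    commutator_mono (commutator_mono le_rfl (zpowers_le.2 hx)) (zpowers_le.2 hx))))

end CfsgLib.PLocal
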