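import Mathlib
import Cfsg.Agent.Lib.PLocal.PStableBridge
import Cfsg.Agent.Lib.Comp.PConstrained

/-!
# `p`-stability modulo the `p'`-core
-/

set_option autoImplicit false

namespace CfsgLib.PLocal

open Subgroup
open scoped commutatorElement

universe u

variable {G : Type u} [Group G] [Finite G] {p : ℕ} [hp : Fact p.Prime]

/-- `N(P)/C(P) ≅ Ḡ/C(P̄)` transports `O_p` when `P̄` is normal. -/
theorem pCore_quotient_local_iff [(Cfsg.pPrimeCore p G).Normal] {P : Subgroup G} (hP : IsPGroup p P)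
    [hn : (P.map (QuotientGroup.mk' (Cfsg.pPrimeCore p G))).Normal] (a : G)
    (ha : a ∈ normalizer (P : Set G)) :
    (QuotientGroup.mk (⟨a, ha⟩ : ↥(normalizer (P : Set G))) :
        ↥(normalizer (P : Set G)) ⧸ (centralizer (P : Set G)).subgroupOf (normalizer (P : Set G))) ∈
      Cfsg.pCore p _ ↔
    (QuotientGroup.mk (QuotientGroup.mk' (Cfsg.pPrimeCore p G) a) :
        (G ⧸ Cfsg.pPrimeCore p G) ⧸
          centralizer ((P.map (QuotientGroup.mk' (Cfsg.pPrimeCore p G)) : Subgroup _) : Set _)) ∈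
      Cfsg.pCore p _ := by
  set q := QuotientGroup.mk' (Cfsg.pPrimeCore p G) with hq
  set N := normalizer (P : Set G) with hN
  set C' := centralizer ((P.map q : Subgroup _) : Set (G ⧸ Cfsg.pPrimeCore p G)) with hC'
  set f : N →* (G ⧸ Cfsg.pPrimeCore p G) ⧸ C' :=
    (QuotientGroup.mk' C').comp (q.comp N.subtype) with hf
  have hcop := CfsgLib.Comp.coprime_card_pPrimeCore p G
  have hfs : Function.Surjective f := by
    intro y
    obtain ⟨z, rfl⟩ := QuotientGroup.mk'_surjective C' y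
    have hz : z ∈ N.map q := by
      rw [hN, hq, CfsgLib.Comp.map_normalizer_eq hcop hP, normalizer_eq_top_iff.2 hn]
      exact mem_top z
    obtain ⟨n, hn', rfl⟩ := hz
    exact ⟨⟨n, hn'⟩, rfl⟩
  have hker : f.ker = (centralizer (P : Set G)).subgroupOf N := by
    ext ⟨n, hn'⟩
    show (QuotientGroup.mk' C') (q n) = 1 ↔ n ∈ centralizer (P : Set G)
    rw [QuotientGroup.mk'_apply C', QuotientGroup.eq_one_iff]
    constructor
    · intro h
      refine mem_centralizer_iff.2 fun x hx => ?_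
      have h1 : n * x * n⁻¹ * x⁻¹ ∈ P ⊓ Cfsg.pPrimeCore p G := by
        refine ⟨P.mul_mem ((mem_normalizer_iff.1 hn' x).1 hx) (P.inv_mem hx), ?_⟩
        refine (QuotientGroup.eq_one_iff _).1 ?_
        show q (n * x * n⁻¹ * x⁻¹) = 1
        rw [map_mul, map_mul, map_mul, map_inv, map_inv,
          ← mem_centralizer_iff.1 h _ (mem_map_of_mem q hx)]
        group
      rw [CfsgLib.Comp.inf_eq_bot_of_isPGroup hP hcop, mem_bot, mul_inv_eq_one,
        mul_inv_eq_iff_eq_mul] at h1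
      exact h1.symm
    · intro h
      rintro _ ⟨x, hx, rfl⟩
      rw [← map_mul, ← map_mul, mem_centralizer_iff.1 h x hx]
  set ψ := (QuotientGroup.quotientMulEquivOfEq hker.symm).trans
    (QuotientGroup.quotientKerEquivOfSurjective f hfs)
  rw [← CfsgLib.Solvable.map_pCore_equiv ψ]
  constructor
  · exact fun h => ⟨_, h, rfl⟩
  · rintro ⟨y, hy, hye⟩
    have h1 : y = QuotientGroup.mk ⟨a, ha⟩ := ψ.injective hye
    exact h1 ▸ hy

/-- `p`-stability only depends on `G / O_{p'}(G)`. -/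
theorem isPStable_quotient_iff (hO : Cfsg.pCore p G ≠ ⊥) [(Cfsg.pPrimeCore p G).Normal] :
    Cfsg.IsPStable p G ↔ Cfsg.IsPStable p (G ⧸ Cfsg.pPrimeCore p G) := by
  set q := QuotientGroup.mk' (Cfsg.pPrimeCore p G) with hq
  have hcop := CfsgLib.Comp.coprime_card_pPrimeCore p G
  have hqO : Cfsg.pPrimeCore p (G ⧸ Cfsg.pPrimeCore p G) = ⊥ :=
    CfsgLib.Solvable.pPrimeCore_quotient_eq_bot p
  have hne : Cfsg.pCore p (G ⧸ Cfsg.pPrimeCore p G) ≠ ⊥ := by
    intro h0
    haveI := Cfsg.pCore_normal p G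
    have h1 : (Cfsg.pCore p G).map q ≤ ⊥ := h0 ▸ CfsgLib.Solvable.le_pCore
      (Normal.map inferInstance q (QuotientGroup.mk'_surjective _))
      ((CfsgLib.Solvable.pCore_isPGroup p).map q)
    rw [le_bot_iff, Subgroup.map_eq_bot_iff, hq, QuotientGroup.ker_mk'] at h1
    refine hO ?_
    rw [← inf_eq_left.2 h1]
    exact CfsgLib.Comp.inf_eq_bot_of_isPGroup (CfsgLib.Solvable.pCore_isPGroup p) hcop
  constructor
  · intro hs
    refine isPStable_of_forall_isPStableOn hs.1 hne hqO fun B hB hBp a hqa => ?_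
    obtain ⟨b, hba, hbp, hmk⟩ := exists_pElement_congr hBp hqa
    rw [← hmk]
    set A' := zpowers b with hA'
    have hHp : IsPGroup p ↥(A' ⊔ B) := hbp.to_sup_of_normal_right hBp
    obtain ⟨T⟩ : Nonempty (Sylow p ↥((A' ⊔ B).comap q)) := inferInstance
    set T' := (T : Subgroup ↥((A' ⊔ B).comap q)).map ((A' ⊔ B).comap q).subtype with hT'
    have hT'p : IsPGroup p T' := T.2.map _
    have hsur : ∀ y ∈ A' ⊔ B, ∃ t ∈ T', q t = y := by
      intro y hy
      let g := q.subgroupComap (A' ⊔ B)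
      have hg : Function.Surjective g :=
        MonoidHom.subgroupComap_surjective_of_surjective _ _ (QuotientGroup.mk'_surjective _)
      have htop : ((T.mapSurjective hg : Sylow p ↥(A' ⊔ B)) : Subgroup ↥(A' ⊔ B)) = ⊤ :=
        top_le_iff.1 ((T.mapSurjective hg).3 (IsPGroup.to_subgroup hHp ⊤) le_top).le
      have hym : (⟨y, hy⟩ : ↥(A' ⊔ B)) ∈ (T : Subgroup _).map g := by
        have h1 : (⟨y, hy⟩ : ↥(A' ⊔ B)) ∈ ((T.mapSurjective hg : Sylow p ↥(A' ⊔ B)) : Subgroup _) :=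
          htop.symm ▸ mem_top _
        rwa [Sylow.coe_mapSurjective] at h1
      obtain ⟨t, ht, hte⟩ := hym
      exact ⟨t, ⟨t, ht, rfl⟩, congrArg Subtype.val hte⟩
    set P := T' ⊓ B.comap q with hP
    set A := T' ⊓ A'.comap q with hA
    have hPB : P.map q = B := by
      refine le_antisymm (map_le_iff_le_comap.2 inf_le_right) fun y hy => ?_
      obtain ⟨t, ht, rfl⟩ := hsur y (mem_sup_right hy)
      exact ⟨t, ⟨ht, hy⟩, rfl⟩
    have hAA : A.map q = A' := by
      refine le_antisymm (map_le_iff_le_comap.2 inf_le_right) fun y hy => ?_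
      obtain ⟨t, ht, rfl⟩ := hsur y (mem_sup_left hy)
      exact ⟨t, ⟨ht, hy⟩, rfl⟩
    have hPp : IsPGroup p P := hT'p.to_le inf_le_left
    have hnorm : ∀ c ∈ A, ∀ x ∈ P, c * x * c⁻¹ ∈ P := fun c hc x hx =>
      ⟨T'.mul_mem (T'.mul_mem hc.1 hx.1) (T'.inv_mem hc.1),
        (hB.comap q).conj_mem x hx.2 c⟩
    have hle : P ≤ Cfsg.pPrimePCore p G := fun x hx =>
      mem_comap.2 (CfsgLib.Solvable.le_pCore hB hBp hx.2)
    have hsup : Cfsg.pPrimeCore p G ⊔ P = B.comap q := by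
      rw [← hPB, comap_map_eq, hq, QuotientGroup.ker_mk', sup_comm]
    have hquad : ⁅⁅P, A⁆, A⁆ = ⊥ := by
      rw [eq_bot_iff, ← CfsgLib.Comp.inf_eq_bot_of_isPGroup hT'p hcop]
      refine le_inf ?_ ?_
      · refine commutator_le.2 fun x hx y hy => ?_
        have hxT : x ∈ T' := (commutator_le.2 fun z hz w hw =>
          T'.mul_mem (T'.mul_mem (T'.mul_mem hz.1 hw.1) (T'.inv_mem hz.1)) (T'.inv_mem hw.1) :
          ⁅P, A⁆ ≤ T') hx
        exact T'.mul_mem (T'.mul_mem (T'.mul_mem hxT hy.1) (T'.inv_mem hxT)) (T'.inv_mem hy.1)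
      · rw [← QuotientGroup.ker_mk' (Cfsg.pPrimeCore p G), ← hq, ← Subgroup.map_eq_bot_iff,
          Subgroup.map_commutator, Subgroup.map_commutator, hPB, hAA, eq_bot_iff, ← hqa]
        exact commutator_mono (commutator_mono le_rfl (zpowers_le.2 hba)) (zpowers_le.2 hba)
    have h := hs.2.2 A P (hT'p.to_le inf_le_left) hPp hnorm hle
      (by rw [hsup]; exact hB.comap q) hquad
    obtain ⟨a₀, ha₀, rfl⟩ : b ∈ A.map q := hAA.symm ▸ mem_zpowers b
    have haN : a₀ ∈ normalizer (P : Set G) := by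
      refine mem_normalizer_iff.2 fun x => ⟨hnorm a₀ ha₀ x, fun hx => ?_⟩
      have := hnorm a₀⁻¹ (A.inv_mem ha₀) _ hx
      simpa [mul_assoc] using this
    have h' := h (mem_map_of_mem _ (x := (⟨a₀, haN⟩ : normalizer (P : Set G))) ha₀)
    haveI : (P.map q).Normal := hPB.symm ▸ hB
    have h'' := (pCore_quotient_local_iff hPp a₀ haN).1 h'
    have key : ∀ B' : Subgroup (G ⧸ Cfsg.pPrimeCore p G), P.map q = B' → ∀ [B'.Normal],
        (QuotientGroup.mk (q a₀) : (G ⧸ Cfsg.pPrimeCore p G) ⧸ centralizer (B' : Set _)) ∈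
          Cfsg.pCore p _ := by
      intro B' e
      subst e
      intro _
      exact h''
    exact key B hPB
  · intro hs
    refine ⟨hs.1, hO, fun A P _ hP _ _ hn hquad => ?_⟩
    haveI hPn : (P.map q).Normal := by
      have h1 := hn.map q (QuotientGroup.mk'_surjective _)
      rwa [Subgroup.map_sup, hq, QuotientGroup.map_mk'_self, bot_sup_eq] at h1
    rintro _ ⟨⟨x, hxN⟩, hx, rfl⟩
    refine (pCore_quotient_local_iff hP x hxN).2
      (isPStableOn_of_isPStable hqO hs (P.map q) (hP.map q) (q x) (eq_bot_iff.2 ?_))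
    rw [← MonoidHom.map_zpowers, ← Subgroup.map_commutator, ← Subgroup.map_commutator,
      ← Subgroup.map_bot q, ← hquad]
    exact map_mono (commutator_mono (commutator_mono le_rfl (zpowers_le.2 hx)) (zpowers_le.2 hx))

end CfsgLib.PLocal
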