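import Mathlib
import Cfsg.Agent.Lib.PLocal.PStableQuotient
import Cfsg.Agent.Lib.PLocal.ZJControl

/-!
# Glauberman's `ZJ` theorem for `p`-constrained `p`-stable groups
-/

set_option autoImplicit false

namespace CfsgLib.PLocal

open Subgroup

universe u

variable {G : Type u} [Group G] [Finite G] {p : ℕ} [hp : Fact p.Prime]

/-- `Z(J(P))` is normal in a constrained `p`-stable group with trivial `p'`-core. -/
theorem centerThompsonAOf_normal_of_isPStable (h2 : p ≠ 2) (hO : Cfsg.pPrimeCore p G = ⊥)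
    (hc : centralizer (Cfsg.pCore p G : Set G) ≤ Cfsg.pCore p G) (hs : Cfsg.IsPStable p G)
    (S : Sylow p G) : (Cfsg.centerThompsonAOf (S : Subgroup G)).Normal :=
  centerThompsonAOf_normal h2 hc (fun B _ hB => isPStableOn_of_isPStable hO hs B hB) S

theorem centralizer_pCore_le_of_isPConstrained (hO : Cfsg.pPrimeCore p G = ⊥)
    (hc : Cfsg.IsPConstrained p G) :
    centralizer (Cfsg.pCore p G : Set G) ≤ Cfsg.pCore p G := by
  have h := (CfsgLib.Comp.isPConstrained_iff p G).1 hc
  haveI := Cfsg.pPrimeCore_normal p G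
  let e : G ≃* G ⧸ Cfsg.pPrimeCore p G :=
    QuotientGroup.quotientBot.symm.trans (QuotientGroup.quotientMulEquivOfEq hO.symm)
  intro x hx
  have h1 : e x ∈ Cfsg.pCore p (G ⧸ Cfsg.pPrimeCore p G) := by
    refine h (mem_centralizer_iff.2 fun y hy => ?_)
    rw [SetLike.mem_coe, ← CfsgLib.Solvable.map_pCore_equiv e] at hy
    obtain ⟨z, hz, rfl⟩ := hy
    exact ((congrArg e (mem_centralizer_iff.1 hx z hz)).symm ▸ (map_mul e z x).symm).trans (map_mul e x z)
  rw [← CfsgLib.Solvable.map_pCore_equiv e] at h1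
  obtain ⟨z, hz, hze⟩ := h1
  exact e.injective hze ▸ hz

/-- Glauberman: `G = O_{p'}(G) N(Z(J(P)))`. -/
theorem pPrimeCore_sup_normalizer_eq_top (h2 : p ≠ 2) (hc : Cfsg.IsPConstrained p G)
    (hs : Cfsg.IsPStable p G) (P : Sylow p G) :
    Cfsg.pPrimeCore p G ⊔ normalizer (Cfsg.centerThompsonAOf (P : Subgroup G) : Set G) = ⊤ := by
  haveI := Cfsg.pPrimeCore_normal p G
  set q := QuotientGroup.mk' (Cfsg.pPrimeCore p G) with hq
  have hcop := CfsgLib.Comp.coprime_card_pPrimeCore p G
  have hqO : Cfsg.pPrimeCore p (G ⧸ Cfsg.pPrimeCore p G) = ⊥ :=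
    CfsgLib.Solvable.pPrimeCore_quotient_eq_bot p
  have hn := centerThompsonAOf_normal_of_isPStable h2 hqO ((CfsgLib.Comp.isPConstrained_iff p G).1 hc)
    ((isPStable_quotient_iff hs.2.1).1 hs) (P.mapSurjective (QuotientGroup.mk'_surjective _))
  rw [Sylow.coe_mapSurjective, ← centerThompsonAOf_map q (fun x hx h1 => ?_)] at hn
  · set Z := Cfsg.centerThompsonAOf (P : Subgroup G) with hZ
    have hZp : IsPGroup p Z := P.2.to_le (centerThompsonAOf_le _)
    have h1 := CfsgLib.Comp.map_normalizer_eq hcop hZp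
    rw [normalizer_eq_top_iff.2 hn] at h1
    refine eq_top_iff.2 fun g _ => ?_
    obtain ⟨n, hn', hne⟩ : q g ∈ (normalizer (Z : Set G)).map q := h1.symm ▸ mem_top _
    have h3 : g * n⁻¹ ∈ Cfsg.pPrimeCore p G := (QuotientGroup.eq_one_iff _).1 (by
      show q (g * n⁻¹) = 1
      rw [map_mul, map_inv, hne, mul_inv_cancel])
    rw [show g = g * n⁻¹ * n by group]
    exact mul_mem (mem_sup_left h3) (mem_sup_right hn')
  · have h3 : x ∈ (P : Subgroup G) ⊓ Cfsg.pPrimeCore p G := ⟨hx, (QuotientGroup.eq_one_iff x).1 h1⟩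
    rw [CfsgLib.Comp.inf_eq_bot_of_isPGroup P.2 hcop] at h3
    exact mem_bot.1 h3

/-- If every `p`-local is constrained, `p`-stable and has trivial `p'`-core, all of them lie in
`N(Z(J(P)))`. -/
theorem normalizer_le_of_locals (h2 : p ≠ 2)
    (hloc : ∀ Q : Subgroup G, IsPGroup p Q → Q ≠ ⊥ → ∀ T : Subgroup G, SylowIn p T (normalizer (Q : Set G)) →
      normalizer (Q : Set G) ≤ normalizer (Cfsg.centerThompsonAOf T : Set G))
    (P : Sylow p G) : ∀ (n : ℕ) (Q : Subgroup G), Q ≤ (P : Subgroup G) → Q ≠ ⊥ →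
      Nat.card (P : Subgroup G) - Nat.card ((P : Subgroup G) ⊓ normalizer (Q : Set G) : Subgroup G) = n →
      normalizer (Q : Set G) ≤ normalizer (Cfsg.centerThompsonAOf (P : Subgroup G) : Set G) := by
  set P' : Subgroup G := (P : Subgroup G) with hP'
  set M := normalizer (Cfsg.centerThompsonAOf P' : Set G) with hM
  intro n
  induction n using Nat.strong_induction_on with
  | _ n ih =>
    intro Q hQP hQ hn
    set R := P' ⊓ normalizer (Q : Set G) with hR
    have hQp : IsPGroup p Q := P.2.to_le hQP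
    rcases eq_or_lt_of_le (inf_le_left : R ≤ P') with hRP | hRP
    · exact hloc Q hQp hQ P' ⟨hRP ▸ inf_le_right, P.2, fun hd =>
        P.not_dvd_index (hd.trans (relIndex_dvd_index_of_le (hRP ▸ inf_le_right)))⟩
    have hRp : IsPGroup p R := P.2.to_le inf_le_left
    have hQR : Q ≤ R := le_inf hQP le_normalizer
    have hRne : R ≠ ⊥ := fun h0 => hQ (le_bot_iff.1 (h0 ▸ hQR))
    obtain ⟨T, hT, hRT⟩ := exists_sylowIn_le hRp (inf_le_right : R ≤ normalizer (Q : Set G))
    set W := Cfsg.centerThompsonAOf R with hW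
    have hWne : W ≠ ⊥ := by
      have := functor_ne_bot (induced_isConjugacyFunctor (G := G) (zjFunctor_isCharPFunctor (p := p)))
        hRp hRne
      rwa [inducedFunctor_zj] at this
    have hle2 : Nat.card (P' ⊓ normalizer (W : Set G) : Subgroup G) ≤ Nat.card P' :=
      card_le_of_le inf_le_left
    have hlt : Nat.card R < Nat.card (P' ⊓ normalizer (W : Set G) : Subgroup G) :=
      lt_of_lt_of_le (card_lt_card_inf_normalizer P.2 hRP)
        (card_le_of_le (inf_le_inf_left _ (normalizer_le_normalizer_centerThompsonAOf R)))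
    have hWM : normalizer (W : Set G) ≤ M := ih _ (by omega) W
      ((centerThompsonAOf_le R).trans inf_le_left) hWne rfl
    rcases eq_or_lt_of_le hRT with hRTe | hRTlt
    · exact (hloc Q hQp hQ T hT).trans (hRTe ▸ hWM)
    set D := T ⊓ normalizer (R : Set G) with hD
    have hDM : D ≤ M :=
      (inf_le_right.trans (normalizer_le_normalizer_centerThompsonAOf R)).trans hWM
    have hPM : SylowIn p P' M := ⟨le_normalizer.trans (normalizer_le_normalizer_centerThompsonAOf P'),
      P.2, fun hd => P.not_dvd_index (hd.trans (relIndex_dvd_index_of_le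
        (le_normalizer.trans (normalizer_le_normalizer_centerThompsonAOf P'))))⟩
    obtain ⟨m, hm, hmD⟩ := hPM.exists_conj_le (hT.2.1.to_le inf_le_left) hDM
    have hQm : conjMap m Q ≤ P' :=
      (conjMap_mono (hQR.trans (le_inf hRT le_normalizer))).trans hmD
    have hDN : conjMap m D ≤ P' ⊓ normalizer (conjMap m Q : Set G) := by
      refine le_inf hmD ?_
      rw [← conjMap_normalizer]
      exact conjMap_mono (inf_le_left.trans hT.1)
    have hlt2 : Nat.card R < Nat.card (P' ⊓ normalizer (conjMap m Q : Set G) : Subgroup G) := by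
      refine lt_of_lt_of_le ?_ (card_le_of_le hDN)
      rw [card_conjMap]
      exact card_lt_card_inf_normalizer hT.2.1 hRTlt
    have hle3 : Nat.card (P' ⊓ normalizer (conjMap m Q : Set G) : Subgroup G) ≤ Nat.card P' :=
      card_le_of_le inf_le_left
    have h := ih _ (by omega) (conjMap m Q) hQm (conjMap_ne_bot hQ) rfl
    intro y hy
    have h' : m * y * m⁻¹ ∈ M := h (by rw [← conjMap_normalizer]; exact conj_mem_conjMap hy)
    have := M.mul_mem (M.mul_mem (M.inv_mem hm) h') hm
    simpa [mul_assoc] using this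

end CfsgLib.PLocal
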