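import Cfsg.Agent.Lib.PLocal.LargeExtra

/-!
If `g z g⁻¹` lies in `Q` then `z` lies in `g Q g⁻¹`, for a self-centralising extraspecial `Q` with
central involution `z`, normalised by `C(z)`.
-/

set_option autoImplicit false

namespace CfsgLib.PLocal.LargeExtra

open Subgroup
open scoped commutatorElement

variable {G : Type*} [Group G] [Finite G] {Q R : Subgroup G} {z x : G}

theorem mul_left_cancel_invol {a : G} (ha : a * a = 1) (b : G) : a * (a * b) = b := by
  rw [← mul_assoc, ha, one_mul]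

/-- `s p s⁻¹ p⁻¹ ∈ {1, x}` for `s ∈ C_R(z)` and `p ∈ C_Q(x)`, if `z ∉ R`. -/
theorem cross_cases (h : Pack Q z) (k : Pack R x) (hx : x ∈ Q) (hne : x ≠ z) (hzR : z ∉ R)
    {s p : G} (hs : s ∈ R) (hsz : s * z = z * s) (hp : p ∈ Q) (hpx : p * x = x * p) :
    s * p * s⁻¹ = p ∨ s * p * s⁻¹ = x * p := by
  obtain ⟨c, hc⟩ : ∃ c, c = s * p * s⁻¹ * p⁻¹ := ⟨_, rfl⟩
  have hcQ : c ∈ Q := hc ▸ mul_mem ((mem_normalizer_iff.1
    (h.norm (mem_centralizer_singleton_iff.2 hsz)) p).1 hp) (inv_mem hp)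
  have hcR : c ∈ R := by
    rw [hc, show s * p * s⁻¹ * p⁻¹ = s * (p * s⁻¹ * p⁻¹) by group]
    exact mul_mem hs ((mem_normalizer_iff.1 (k.norm (mem_centralizer_singleton_iff.2 hpx)) _).1
      (inv_mem hs))
  have hcx := k.comm_z hcR
  have hfix : ∀ q ∈ Q, q * x = x * q → c * q = q * c := by
    intro q hq hqx
    rcases h.conj_cases hq hcQ with e | e
    · exact (mul_inv_eq_iff_eq_mul.1 e).symm
    · have h' := (mem_normalizer_iff.1 (k.norm (mem_centralizer_singleton_iff.2 hqx)) c).1 hcR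
      rw [e] at h'
      have := mul_mem h' (inv_mem hcR)
      rw [mul_inv_cancel_right] at this
      exact absurd this hzR
  have hx2 : x * x = 1 := k.z_mul_z
  rcases h.eq_of_commute_centralizer hx ⟨k.z_ne, hne⟩ hx2 hcQ hfix with e | e | e | e
  · exact .inl (mul_inv_eq_one.1 (hc ▸ e))
  · exact absurd (e ▸ hcR) hzR
  · exact .inr (mul_inv_eq_iff_eq_mul.1 (hc ▸ e))
  · refine absurd ?_ hzR
    have := mul_mem (e ▸ hcR) k.mem
    rwa [mul_assoc, hx2, mul_one] at this

/-- The centraliser `C_R(z)` is too small to be conjugate to `C_Q(x)`. -/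
theorem card_lt (h : Pack Q z) (k : Pack R x) (hx : x ∈ Q) (hne : x ≠ z) (hzR : z ∉ R) :
    Nat.card ↥(R ⊓ centralizer ({z} : Set G)) * 2 ≤ Nat.card ↥(Q ⊓ centralizer ({x} : Set G)) := by
  classical
  have hx2 : x * x = 1 := k.z_mul_z
  have hxz : x * z = z * x := h.comm_z hx
  obtain ⟨q, hq, hqx⟩ : ∃ q ∈ Q, q * x ≠ x * q := by
    by_contra hn
    push Not at hn
    rcases h.eq_of_central hx fun b hb => (hn b hb).symm with e | e
    · exact k.z_ne e
    · exact hne e
  obtain ⟨d, hd⟩ : ∃ d : G → G, ∀ s, d s = s * q * s⁻¹ * q⁻¹ := ⟨_, fun _ => rfl⟩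
  have hsn : ∀ {s p : G}, s * z = z * s → p ∈ Q → s * p * s⁻¹ ∈ Q := fun hsz hp =>
    (mem_normalizer_iff.1 (h.norm (mem_centralizer_singleton_iff.2 hsz)) _).1 hp
  have hdQ : ∀ {s}, s ∈ R → s * z = z * s → d s ∈ Q := fun {s} hs hsz =>
    hd s ▸ mul_mem (hsn hsz hq) (inv_mem hq)
  have hdx : ∀ {s}, s ∈ R → s * z = z * s → d s * x = x * d s := by
    intro s hs hsz
    have h1 : s * q * s⁻¹ ∈ Q := hsn hsz hq
    have hsx : s * x = x * s := k.comm_z hs
    have h2 : ¬ (s * q * s⁻¹ * x = x * (s * q * s⁻¹)) := fun e => hqx (by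
      have : s * q * x * s⁻¹ = s * (x * q) * s⁻¹ := by
        calc s * q * x * s⁻¹ = s * q * (x * s) * s⁻¹ * s⁻¹ := by group
          _ = s * q * (s * x) * s⁻¹ * s⁻¹ := by rw [hsx]
          _ = s * q * s * (x * s⁻¹) * s⁻¹ := by group
          _ = s * q * s * (s⁻¹ * x) * s⁻¹ := by
            rw [show x * s⁻¹ = s⁻¹ * x from ((show Commute s x from hsx).inv_left).symm.eq]
          _ = s * q * (x * s⁻¹) := by group
          _ = s * q * (s⁻¹ * x) := by
            rw [show x * s⁻¹ = s⁻¹ * x from ((show Commute s x from hsx).inv_left).symm.eq]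
          _ = x * (s * q * s⁻¹) := by rw [← e]; group
          _ = s * (x * q) * s⁻¹ := by rw [← mul_assoc s x q, hsx]; group
      exact mul_left_cancel (a := s) (mul_right_cancel (b := s⁻¹) (by rw [← this]; group)))
    rw [hd s]
    exact h.mul_commute h1 (inv_mem hq) hx h2 fun e => hqx
      (show Commute q x from by simpa using (show Commute q⁻¹ x from e).inv_left).eq
  -- `d s` records how `s` moves `C_Q(x)`
  have hdp : ∀ {s p}, s ∈ R → s * z = z * s → p ∈ Q → p * x = x * p →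
      (d s * p = p * d s ↔ s * p * s⁻¹ = p) := by
    intro s p hs hsz hp hpx
    obtain ⟨p', hp'⟩ : ∃ p', p' = q⁻¹ * p * q := ⟨_, rfl⟩
    have hp'Q : p' ∈ Q := hp' ▸ mul_mem (mul_mem (inv_mem hq) hp) hq
    obtain ⟨c, hc, hcp⟩ : ∃ c, (c = 1 ∨ c = z) ∧ p' = c * p := by
      rcases h.conj_cases (inv_mem hq) hp with e | e <;> rw [inv_inv, ← hp'] at e
      · exact ⟨1, .inl rfl, by rw [one_mul, e]⟩
      · exact ⟨z, .inr rfl, e⟩
    have hsc : s * c = c * s := by
      rcases hc with rfl | rfl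
      · simp
      · exact hsz
    have hcq : q * c = c * q := by
      rcases hc with rfl | rfl
      · simp
      · exact h.comm_z hq
    have e1 : d s * p * (d s)⁻¹ = c * (s * q * (s⁻¹ * p * s) * q⁻¹ * s⁻¹) := by
      calc d s * p * (d s)⁻¹ = s * q * s⁻¹ * p' * s * q⁻¹ * s⁻¹ := by rw [hd, hp']; group
        _ = s * q * (s⁻¹ * c * s) * (s⁻¹ * p * s) * q⁻¹ * s⁻¹ := by rw [hcp]; group
        _ = s * (q * c) * (s⁻¹ * p * s) * q⁻¹ * s⁻¹ := by
          rw [show s⁻¹ * c * s = c by rw [mul_assoc, ← hsc, inv_mul_cancel_left]]; group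
        _ = s * c * q * (s⁻¹ * p * s) * q⁻¹ * s⁻¹ := by rw [hcq]; group
        _ = c * (s * q * (s⁻¹ * p * s) * q⁻¹ * s⁻¹) := by rw [hsc]; group
    have hqpq : q * p * q⁻¹ = c * p := by
      have e2 : p = q * (c * p) * q⁻¹ := by rw [← hcp, hp']; group
      have hc2 : c * c = 1 := by
        rcases hc with rfl | rfl
        · exact one_mul 1
        · exact h.z_mul_z
      calc q * p * q⁻¹ = c * c * (q * p * q⁻¹) := by rw [hc2, one_mul]
        _ = c * (c * q * p * q⁻¹) := by group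
        _ = c * (q * (c * p) * q⁻¹) := by rw [← hcq]; group
        _ = c * p := by rw [← e2]
    rcases cross_cases h k hx hne hzR (inv_mem hs)
      ((show Commute s z from hsz).inv_left).eq hp hpx with e | e <;> rw [inv_inv] at e
    · have e4 : s * p * s⁻¹ = p :=
        (calc s * p * s⁻¹ = s * (s⁻¹ * p * s) * s⁻¹ := by rw [e]
          _ = p := by group)
      refine iff_of_true (mul_inv_eq_iff_eq_mul.1 ?_) e4
      rw [e1, e, show s * q * p * q⁻¹ * s⁻¹ = s * (q * p * q⁻¹) * s⁻¹ by group, hqpq, ← mul_assoc s c,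
        hsc, show c * (c * s * p * s⁻¹) = c * c * (s * p * s⁻¹) by group, e4]
      rcases hc with rfl | rfl
      · rw [one_mul, one_mul]
      · rw [h.z_mul_z, one_mul]
    · have hne' : s * p * s⁻¹ ≠ p := fun e' => by
        have : s⁻¹ * p * s = p := by
          calc s⁻¹ * p * s = s⁻¹ * (s * p * s⁻¹) * s := by rw [e']
            _ = p := by group
        rw [this] at e
        exact k.z_ne (mul_eq_right.1 e.symm)
      have hqxc : q * x * q⁻¹ = z * x := h.conj_of_not_commute hq hx hqx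
      have hsx : s * x = x * s := k.comm_z hs
      have hsp : s * p * s⁻¹ = x * p := by
        calc s * p * s⁻¹ = x * x * (s * p * s⁻¹) := by rw [hx2, one_mul]
          _ = x * (x * s * p * s⁻¹) := by group
          _ = x * (s * (x * p) * s⁻¹) := by rw [← hsx]; group
          _ = x * (s * (s⁻¹ * p * s) * s⁻¹) := by rw [e]
          _ = x * p := by group
      refine iff_of_false (fun e' => h.z_ne ?_) hne'
      have e'' : d s * p * (d s)⁻¹ = p := mul_inv_eq_iff_eq_mul.2 e'
      rw [e1, e, show s * q * (x * p) * q⁻¹ * s⁻¹ = s * ((q * x * q⁻¹) * (q * p * q⁻¹)) * s⁻¹ by group,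
        hqxc, hqpq] at e''
      calc z = z * (x * x) * (c * c) := by
              rcases hc with rfl | rfl <;> simp [hx2, h.z_mul_z]
        _ = 1 := by
          refine mul_right_cancel (b := p) (Eq.trans ?_ (one_mul p).symm)
          conv_rhs => rw [← e'']
          rw [show s * (z * x * (c * p)) * s⁻¹ = s * z * x * c * p * s⁻¹ by group, hsz,
            show z * s * x = z * (s * x) from mul_assoc _ _ _, hsx,
            show z * (x * s) * c = z * x * (s * c) by group, hsc,
            show z * x * (c * s) * p * s⁻¹ = z * x * c * (s * p * s⁻¹) by group, hsp]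
          have hcz : c * z = z * c := by rcases hc with rfl | rfl <;> simp
          have hcx : c * x = x * c := by
            rcases hc with rfl | rfl
            · simp
            · exact hxz.symm
          rw [show c * (z * x * c * (x * p)) = c * z * x * c * x * p by group, hcz,
            show z * c * x * c * x = z * (c * x) * c * x by group, hcx,
            show z * (x * c) * c * x = z * x * (c * c) * x by group]
          rcases hc with rfl | rfl
          · simp [mul_assoc]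
          · simp [mul_assoc, h.z_mul_z, mul_left_cancel_invol, hx2]
  have mem : ∀ a : ↥(R ⊓ centralizer ({z} : Set G)), (a : G) ∈ R ∧ (a : G) * z = z * a := fun a =>
    ⟨a.2.1, mem_centralizer_singleton_iff.1 a.2.2⟩
  obtain ⟨ε, hε0, hε1⟩ : ∃ ε : Bool → G, ε false = 1 ∧ ε true = x :=
    ⟨fun b => if b then x else 1, rfl, rfl⟩
  have hεQ : ∀ b, ε b ∈ Q := fun b => by cases b <;> simp [hε0, hε1, hx]
  have hεx : ∀ b, ε b * x = x * ε b := fun b => by cases b <;> simp [hε0, hε1]
  let f : ↥(R ⊓ centralizer ({z} : Set G)) × Bool → ↥(Q ⊓ centralizer ({x} : Set G)) := fun u =>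
    ⟨d u.1 * ε u.2, ⟨mul_mem (hdQ (mem u.1).1 (mem u.1).2) (hεQ u.2),
      mem_centralizer_singleton_iff.2 (by
        rw [mul_assoc, hεx, ← mul_assoc, hdx (mem u.1).1 (mem u.1).2, mul_assoc])⟩⟩
  have hf : Function.Injective f := by
    rintro ⟨s, a⟩ ⟨t, b⟩ e
    replace e : d s * ε a = d t * ε b := congrArg Subtype.val e
    obtain ⟨hs, hsz⟩ := mem s
    obtain ⟨ht, htz⟩ := mem t
    have hεp : ∀ (u : Bool) (p : G), p * x = x * p → ε u * p = p * ε u := fun u p hp => by
      cases u <;> simp [hε0, hε1, hp]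
    obtain ⟨c, hc⟩ : ∃ c : G, c = (t : G)⁻¹ * s := ⟨_, rfl⟩
    have hcfix : ∀ p ∈ Q, p * x = x * p → c * p = p * c := by
      intro p hp hpx
      have hiff : (d s * p = p * d s ↔ d t * p = p * d t) := by
        have h1 : ∀ (w : G) (u : Bool), (w * ε u * p = p * (w * ε u) ↔ w * p = p * w) := by
          intro w u
          rw [mul_assoc, hεp u p hpx, ← mul_assoc, ← mul_assoc]
          exact mul_left_inj _
        rw [← h1 (d s) a, e, h1]
      rw [hdp hs hsz hp hpx, hdp ht htz hp hpx] at hiff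
      have key : (s : G) * p * (s : G)⁻¹ = (t : G) * p * (t : G)⁻¹ := by
        rcases cross_cases h k hx hne hzR hs hsz hp hpx with e' | e' <;>
          rcases cross_cases h k hx hne hzR ht htz hp hpx with e'' | e'' <;> rw [e', e'']
        · exact absurd ((hiff.1 e').symm.trans e'') fun e3 => k.z_ne (mul_eq_right.1 e3.symm)
        · exact absurd ((hiff.2 e'').symm.trans e') fun e3 => k.z_ne (mul_eq_right.1 e3.symm)
      calc c * p = (t : G)⁻¹ * ((s : G) * p * (s : G)⁻¹) * s := by rw [hc]; group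
        _ = (t : G)⁻¹ * ((t : G) * p * (t : G)⁻¹) * s := by rw [key]
        _ = p * c := by rw [hc]; group
    have hcR : c ∈ R := hc ▸ mul_mem (inv_mem ht) hs
    have hcz : c * z = z * c := hc ▸ (((show Commute (t : G) z from htz).inv_left).mul_left hsz).eq
    have hst : c = 1 ∨ c = x := by
      rcases h.eq_of_fix hx ⟨k.z_ne, hne⟩ hx2 hcz hcfix with e' | e' | e' | e'
      · exact .inl e'
      · exact absurd (e' ▸ hcR) hzR
      · exact .inr e'
      · refine absurd ?_ hzR
        have := mul_mem (e' ▸ hcR) k.mem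
        rwa [mul_assoc, hx2, mul_one] at this
    rcases hst with e' | e'
    · have hst' : s = t := Subtype.ext (inv_mul_eq_one.1 (hc ▸ e')).symm
      subst hst'
      refine Prod.ext rfl ?_
      have e2 := mul_left_cancel e
      cases a <;> cases b <;> simp_all [k.z_ne, Ne.symm k.z_ne]
    · exfalso
      have hsx' : (s : G) = t * x := by rw [← e', hc, mul_inv_cancel_left]
      have hxq : x * q * x⁻¹ * q⁻¹ = z :=
        mul_inv_eq_iff_eq_mul.2 (h.conj_of_not_commute hx hq fun e3 => hqx e3.symm)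
      have hds : d s = z * d t := by
        rw [hd, hd, hsx']
        calc (t : G) * x * q * ((t : G) * x)⁻¹ * q⁻¹
            = (t : G) * (x * q * x⁻¹ * q⁻¹) * q * (t : G)⁻¹ * q⁻¹ := by group
          _ = z * ((t : G) * q * (t : G)⁻¹ * q⁻¹) := by rw [hxq, htz]; group
      rw [hds, ← h.comm_z (hdQ ht htz), mul_assoc] at e
      have e2 := mul_left_cancel e
      cases a <;> cases b <;> rw [hε0, hε1] at * <;> clear e
      all_goals first
        | exact h.z_ne (by simpa using e2)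
        | exact hne (by simpa using e2.symm)
        | exact hne (by
            rw [mul_one] at e2
            exact e2.symm)
        | exact hne (by
            rw [eq_inv_of_mul_eq_one_left e2, inv_eq_of_mul_eq_one_right hx2])
  have := Nat.card_le_card_of_injective f hf
  rwa [Nat.card_prod, Nat.card_eq_fintype_card (α := Bool), Fintype.card_bool] at this

namespace Pack

theorem eight_le (h : Pack Q z) : Nat.card Q = 8 ∨ 16 ≤ Nat.card Q := by
  have : Fact (Nat.Prime 2) := ⟨Nat.prime_two⟩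
  obtain ⟨n, hn, hc⟩ := Transfer.extraspecial_card h.ext
  rcases Nat.lt_or_ge n 2 with e | e
  · left; rw [hc, show n = 1 by omega]; rfl
  · right; rw [hc]
    calc 16 = 2 ^ 4 := rfl
      _ ≤ _ := Nat.pow_le_pow_right two_pos (by omega)

/-- If `g z g⁻¹ ∈ Q` then `z ∈ g Q g⁻¹`. -/
theorem mem_conj (h : Pack Q z) {g : G} (hx : g * z * g⁻¹ ∈ Q) :
    z ∈ Q.map (MulAut.conj g).toMonoidHom := by
  classical
  by_cases hne : g * z * g⁻¹ = z
  · rw [h.map_eq_of_fix hne]; exact h.mem
  have k := h.map g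
  obtain ⟨x, rfl⟩ : ∃ x, x = g * z * g⁻¹ := ⟨_, rfl⟩
  obtain ⟨R, hR⟩ : ∃ R, R = Q.map (MulAut.conj g).toMonoidHom := ⟨_, rfl⟩
  rw [← hR] at k ⊢
  generalize hxdef : g * z * g⁻¹ = x at hx hne k
  by_contra hzR
  have hx2 : x * x = 1 := k.z_mul_z
  have hxz : x * z = z * x := h.comm_z hx
  have hzn : ∀ {r}, r ∈ R → z * r * z⁻¹ ∈ R := fun hr =>
    (mem_normalizer_iff.1 (k.norm (mem_centralizer_singleton_iff.2 hxz.symm)) _).1 hr
  -- a commutator `[r, z] = x` would make `C_R(z)` and `C_Q(x)` conjugate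
  have hJ : ∀ r ∈ R, r * z * r⁻¹ ≠ x * z := by
    intro r hr e
    obtain ⟨q, hq, hqx⟩ : ∃ q ∈ Q, q * x ≠ x * q := by
      by_contra hn
      push Not at hn
      rcases h.eq_of_central hx fun b hb => (hn b hb).symm with e | e
      · exact k.z_ne e
      · exact hne e
    obtain ⟨t, ht⟩ : ∃ t, t = r * q := ⟨_, rfl⟩
    have hrx : r * x * r⁻¹ = x := by rw [k.comm_z hr, mul_inv_cancel_right]
    have htx : t * x * t⁻¹ = z := by
      calc t * x * t⁻¹ = r * (q * x * q⁻¹) * r⁻¹ := by rw [ht]; group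
        _ = (r * z * r⁻¹) * (r * x * r⁻¹) := by rw [h.conj_of_not_commute hq hx hqx]; group
        _ = z := by rw [e, hrx, hxz, mul_assoc, hx2, mul_one]
    have htz : t * z * t⁻¹ = x * z := by
      calc t * z * t⁻¹ = r * (q * z * q⁻¹) * r⁻¹ := by rw [ht]; group
        _ = x * z := by rw [h.comm_z hq, mul_inv_cancel_right, e]
    have hRQ : R.map (MulAut.conj t).toMonoidHom = Q := by
      rw [hR, Subgroup.map_map]
      refine Eq.trans ?_ (h.map_eq_of_fix (k := t * g) ?_)
      · congr 1; ext y; simp [mul_assoc]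
      · rw [show t * g * z * (t * g)⁻¹ = t * (g * z * g⁻¹) * t⁻¹ by group, hxdef, htx]
    have hlt := card_lt h k hx hne hzR
    have hle : Nat.card ↥(Q ⊓ centralizer ({x} : Set G)) ≤
        Nat.card ↥(R ⊓ centralizer ({z} : Set G)) := by
      refine (Subgroup.card_le_of_le (K := (R ⊓ centralizer ({z} : Set G)).map
        (MulAut.conj t).toMonoidHom) ?_).trans (le_of_eq (card_map_of_injective (MulEquiv.injective _)))
      rintro p ⟨hp, hpx⟩
      rw [← hRQ] at hp
      obtain ⟨u, hu, rfl⟩ := hp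
      refine ⟨u, ⟨hu, mem_centralizer_singleton_iff.2 ?_⟩, rfl⟩
      have hpQ : (MulAut.conj t).toMonoidHom u ∈ Q := hRQ ▸ ⟨u, hu, rfl⟩
      have h1 := mem_centralizer_singleton_iff.1 hpx
      have h2 := h.comm_z hpQ
      have h3 : (MulAut.conj t).toMonoidHom u * (x * z) = (x * z) * (MulAut.conj t).toMonoidHom u := by
        rw [← mul_assoc, h1, mul_assoc, h2, ← mul_assoc]
      rw [← htz] at h3
      show u * z = z * u
      obtain ⟨f, hf⟩ : ∃ f, f = (MulAut.conj t).toMonoidHom := ⟨_, rfl⟩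
      rw [← hf] at h3
      have hfi : Function.Injective f := hf ▸ MulEquiv.injective _
      refine hfi ?_
      rw [map_mul, map_mul, show f z = t * z * t⁻¹ by rw [hf]; rfl]
      exact h3
    have : 0 < Nat.card ↥(R ⊓ centralizer ({z} : Set G)) := Nat.card_pos
    omega
  obtain ⟨a, ha⟩ : ∃ a : G → G, ∀ r, a r = r * z * r⁻¹ * z⁻¹ := ⟨_, fun _ => rfl⟩
  have haR : ∀ {r}, r ∈ R → a r ∈ R := fun {r} hr => by
    rw [ha, show r * z * r⁻¹ * z⁻¹ = r * (z * r⁻¹ * z⁻¹) by group]
    exact mul_mem hr (hzn (inv_mem hr))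
  have hzS : ∀ r ∈ R, (a r = 1 ∨ a r = x) → r * z = z * r := by
    intro r hr e
    rcases e with e | e <;> rw [ha] at e
    · exact mul_inv_eq_iff_eq_mul.1 (mul_inv_eq_one.1 e)
    · exact absurd (mul_inv_eq_iff_eq_mul.1 e) (hJ r hr)
  -- `a r` commutes with `z` and squares to one
  have haz : ∀ r ∈ R, a r * z = z * a r ∧ a r * a r = 1 := by
    intro r hr
    have hzz : z⁻¹ = z := h.z_inv
    have e1 : z * a r * z⁻¹ = (a r)⁻¹ := by
      rw [ha, show (r * z * r⁻¹ * z⁻¹)⁻¹ = z * r * z⁻¹ * r⁻¹ by group, hzz,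
        show z * (r * z * r⁻¹ * z) * z = z * r * z * r⁻¹ * (z * z) by group, h.z_mul_z, mul_one]
    have e2 : a (a r) = a r * a r := by
      rw [ha (a r), show a r * z * (a r)⁻¹ * z⁻¹ = a r * (z * (a r)⁻¹ * z⁻¹) by group,
        show z * (a r)⁻¹ * z⁻¹ = (z * a r * z⁻¹)⁻¹ by group, e1, inv_inv]
    have hc : a r * z = z * a r := hzS _ (haR hr) (by rw [e2]; exact k.sq_cases (haR hr))
    refine ⟨hc, mul_eq_one_iff_eq_inv.2 ?_⟩
    rw [← e1, ← hc, mul_inv_cancel_right]
  rcases h.eight_le with h8 | h16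
  · -- order eight
    have hall : ∀ r ∈ R, r * z = z * r := by
      intro r hr
      by_contra hrz
      have h1 : a r ≠ 1 ∧ a r ≠ x :=
        ⟨fun e => hrz (hzS r hr (.inl e)), fun e => hrz (hzS r hr (.inr e))⟩
      obtain ⟨hc, hsq⟩ := haz r hr
      have hcr : a r * r = r * a r := by
        have e : z * r * z⁻¹ = a r * r := by
          rw [show z * r * z⁻¹ = (r * z * r⁻¹ * z⁻¹)⁻¹ * r by group, ← ha,
            inv_eq_of_mul_eq_one_right hsq]
        have e2 : (a r * r) * (a r * r) = r * r := by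
          rw [← e, show z * r * z⁻¹ * (z * r * z⁻¹) = z * (r * r) * z⁻¹ by group]
          rcases k.sq_cases hr with e' | e' <;> rw [e']
          · group
          · rw [← hxz, mul_inv_cancel_right]
        have e3 : a r * r * a r = r := mul_right_cancel (b := r) (by rw [← e2]; group)
        calc a r * r = a r * r * (a r * a r) := by rw [hsq, mul_one]
          _ = (a r * r * a r) * a r := by group
          _ = r * a r := by rw [e3]
      obtain ⟨b, hb, hba⟩ : ∃ b ∈ R, b * a r ≠ a r * b := by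
        by_contra hn
        push Not at hn
        rcases k.eq_of_central (haR hr) fun b hb => (hn b hb).symm with e | e
        · exact h1.1 e
        · exact h1.2 e
      -- five distinct elements of the centraliser of `a r`
      obtain ⟨C, hC⟩ : ∃ C, C = R ⊓ centralizer ({a r} : Set G) := ⟨_, rfl⟩
      have hlt : Nat.card C < Nat.card R := by
        refine lt_of_le_of_ne (card_le_of_le (hC ▸ inf_le_left)) fun e => hba ?_
        have := eq_of_le_of_card_ge (hC ▸ inf_le_left : C ≤ R) e.ge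
        rw [← this, hC] at hb
        exact mem_centralizer_singleton_iff.1 hb.2
      have hR8 : Nat.card R = 8 := by
        rw [hR, card_map_of_injective (MulEquiv.injective _), h8]
      have hC4 : Nat.card C ≤ 4 := by
        have h' := card_dvd_of_le (hC ▸ inf_le_left : C ≤ R)
        rw [hR8] at h' hlt
        obtain ⟨i, hi, e⟩ := (Nat.dvd_prime_pow Nat.prime_two).1 (show Nat.card C ∣ 2 ^ 3 from h')
        rw [e] at hlt ⊢
        interval_cases i <;> norm_num at hlt <;> norm_num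
      have hsub : (({1, x, a r, a r * x, r} : Finset G) : Set G) ⊆ (C : Set G) := by
        intro y hy
        simp only [Finset.coe_insert, Finset.coe_singleton, Set.mem_insert_iff,
          Set.mem_singleton_iff] at hy
        rw [hC]
        rcases hy with rfl | rfl | rfl | rfl | rfl
        · exact one_mem _
        · exact ⟨k.mem, mem_centralizer_singleton_iff.2 (k.comm_z (haR hr)).symm⟩
        · exact ⟨haR hr, mem_centralizer_singleton_iff.2 rfl⟩
        · exact ⟨mul_mem (haR hr) k.mem, mem_centralizer_singleton_iff.2 (by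
            rw [mul_assoc, ← k.comm_z (haR hr)])⟩
        · exact ⟨hr, mem_centralizer_singleton_iff.2 hcr.symm⟩
      have hcard : ({1, x, a r, a r * x, r} : Finset G).card = 5 := by
        have n1 : r ≠ 1 := fun e => hrz (by simp [e])
        have n2 : r ≠ x := fun e => hrz (by rw [e, hxz])
        have n3 : r ≠ a r := fun e => hrz (by rw [e]; exact hc)
        have n4 : r ≠ a r * x := fun e => hrz (by
          rw [e, mul_assoc, hxz, ← mul_assoc, hc, mul_assoc])
        have n5 : a r * x ≠ 1 := fun e => h1.2 (by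
          rw [eq_inv_of_mul_eq_one_left e, inv_eq_of_mul_eq_one_right hx2])
        have n6 : a r * x ≠ x := fun e => h1.1 (mul_eq_right.1 e)
        have n7 : a r * x ≠ a r := fun e => k.z_ne (mul_eq_left.1 e)
        rw [Finset.card_insert_of_notMem, Finset.card_insert_of_notMem,
          Finset.card_insert_of_notMem, Finset.card_insert_of_notMem, Finset.card_singleton] <;>
          simp [n1.symm, n2.symm, n3.symm, n4.symm, n5.symm, n6.symm, n7.symm, h1.1.symm,
            h1.2.symm, k.z_ne.symm]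
      have := Set.ncard_le_ncard hsub (Set.toFinite _)
      rw [Set.ncard_coe_finset, hcard, ← Nat.card_coe_set_eq] at this
      exact absurd (this.trans hC4) (by norm_num)
    exact hzR (k.cent (mem_centralizer_iff.2 fun r hr => hall r hr))
  -- the general case
  obtain ⟨p₁, hp₁, p₂, hp₂, hp₁x, hp₂x, hpz⟩ :=
    h.noncomm_centralizer hx ⟨k.z_ne, hne⟩ hx2 h16
  have key : ∀ r ∈ R, ∀ u ∈ R, (∀ s ∈ R, s * z = z * s → u * s = s * u) → u * z = z * u := by
    intro _ _ u hu hus
    refine hzS u hu ?_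
    refine k.eq_of_central (haR hu) fun r hr => ?_
    obtain ⟨hc, hsq⟩ := haz r hr
    have hua : u * a r = a r * u := hus _ (haR hr) hc
    -- conjugating by `z` does not change `u r u⁻¹ r⁻¹`
    have e1 : z * r * z⁻¹ = a r * r := by
      rw [show z * r * z⁻¹ = (r * z * r⁻¹ * z⁻¹)⁻¹ * r by group, ← ha,
        inv_eq_of_mul_eq_one_right hsq]
    have e2 : z * (u * r * u⁻¹ * r⁻¹) * z⁻¹ = u * r * u⁻¹ * r⁻¹ := by
      rcases k.comm_cases hu hr with e | e <;> rw [e]
      · group
      · rw [← hxz, mul_inv_cancel_right]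
    obtain ⟨u', hu'⟩ : ∃ u', u' = z * u * z⁻¹ := ⟨_, rfl⟩
    have e3 : u' * (a r * r) * u'⁻¹ = u * (a r * r) * u⁻¹ := by
      have : u' * (a r * r) * u'⁻¹ = (z * (u * r * u⁻¹ * r⁻¹) * z⁻¹) * (z * r * z⁻¹) := by
        rw [← e1, hu']; group
      rw [this, e2, e1]
      rcases k.conj_cases hu hr with e | e <;> rw [e]
      · rw [mul_inv_cancel, one_mul, show u * (a r * r) * u⁻¹ = u * a r * (r * u⁻¹) by group, hua,
          show a r * u * (r * u⁻¹) = a r * (u * r * u⁻¹) by group, e]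
      · rw [mul_inv_cancel_right, show u * (a r * r) * u⁻¹ = u * a r * (r * u⁻¹) by group, hua,
          show a r * u * (r * u⁻¹) = a r * (u * r * u⁻¹) by group, e, ← mul_assoc, ← mul_assoc,
          k.comm_z (haR hr)]
    have hau : a u = u * u'⁻¹ := by rw [ha, hu']; group
    have hu'R : u' ∈ R := hu' ▸ hzn hu
    have hA : u⁻¹ * u' * (a r * r) = a r * r * (u⁻¹ * u') := by
      calc u⁻¹ * u' * (a r * r) = u⁻¹ * (u' * (a r * r) * u'⁻¹) * u' := by group
        _ = a r * r * (u⁻¹ * u') := by rw [e3]; group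
    have hwR : u⁻¹ * u' ∈ R := mul_mem (inv_mem hu) hu'R
    have hB : u⁻¹ * u' * a r = a r * (u⁻¹ * u') := by
      have hu'a : u' * a r = a r * u' := by
        have hz2 : z * a r * z⁻¹ = a r := by rw [← hc, mul_inv_cancel_right]
        calc u' * a r = z * u * z⁻¹ * (z * a r * z⁻¹) := by rw [hu', hz2]
          _ = z * (u * a r) * z⁻¹ := by group
          _ = z * a r * z⁻¹ * (z * u * z⁻¹) := by rw [hua]; group
          _ = a r * u' := by rw [hz2, ← hu']
      exact ((show Commute u (a r) from hua).inv_left.mul_left hu'a).eq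
    have hwr : u⁻¹ * u' * r = r * (u⁻¹ * u') := by
      have : a r * (u⁻¹ * u' * r) = a r * (r * (u⁻¹ * u')) := by
        rw [← mul_assoc (a r), ← hB, mul_assoc, hA, mul_assoc]
      exact mul_left_cancel this
    -- transfer to `a u = u u'⁻¹`
    have hau' : a u = u * (u⁻¹ * u')⁻¹ * u⁻¹ := by rw [hau]; group
    obtain ⟨w, hw⟩ : ∃ w, w = u⁻¹ * u' := ⟨_, rfl⟩
    rw [← hw] at hwr hau' hwR
    rw [hau']
    rcases k.conj_cases hu (inv_mem hwR) with e | e <;> rw [e]
    · exact ((show Commute w r from hwr).inv_left).eq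
    · exact (((show Commute x r from (k.comm_z hr).symm)).mul_left
        ((show Commute w r from hwr).inv_left)).eq
  -- commutators with `C_Q(x)` centralise `C_R(z)`
  have hpR : ∀ p ∈ Q, p * x = x * p → ∀ r ∈ R, p * r * p⁻¹ * r⁻¹ ∈ R ∧
      (p * r * p⁻¹ * r⁻¹) * z = z * (p * r * p⁻¹ * r⁻¹) := by
    intro p hp hpx r hr
    have hn : ∀ {v}, v ∈ R → p * v * p⁻¹ ∈ R := fun hv =>
      (mem_normalizer_iff.1 (k.norm (mem_centralizer_singleton_iff.2 hpx)) _).1 hv
    obtain ⟨u, hu⟩ : ∃ u, u = p * r * p⁻¹ := ⟨_, rfl⟩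
    have huR : u ∈ R := hu ▸ hn hr
    rw [← hu]
    refine ⟨mul_mem huR (inv_mem hr), key r hr _ (mul_mem huR (inv_mem hr)) fun s hs hsz => ?_⟩
    have hpxp : p * x * p⁻¹ = x := by rw [hpx, mul_inv_cancel_right]
    have hps : p * s * p⁻¹ = s ∨ p * s * p⁻¹ = x * s := by
      rcases cross_cases h k hx hne hzR hs hsz hp hpx with e | e
      · left
        calc p * s * p⁻¹ = (s * p * s⁻¹) * s * p⁻¹ := by rw [e]
          _ = s := by group
      · right
        have hxs : x⁻¹ = x := inv_eq_of_mul_eq_one_right hx2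
        calc p * s * p⁻¹ = x⁻¹ * (x * p) * s * p⁻¹ := by group
          _ = x * (s * p * s⁻¹) * s * p⁻¹ := by rw [← e, hxs]
          _ = x * s := by group
    have e1 : p * (r * s * r⁻¹ * s⁻¹) * p⁻¹ = r * s * r⁻¹ * s⁻¹ := by
      rcases k.comm_cases hr hs with e | e <;> rw [e]
      · group
      · exact hpxp
    have e2 : p * (r * s * r⁻¹ * s⁻¹) * p⁻¹ = u * s * u⁻¹ * s⁻¹ := by
      rw [show p * (r * s * r⁻¹ * s⁻¹) * p⁻¹ = p * r * p⁻¹ * (p * s * p⁻¹) * (p * r * p⁻¹)⁻¹ *
        (p * s * p⁻¹)⁻¹ by group, ← hu]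
      rcases hps with e | e <;> rw [e]
      rw [show u * (x * s) = u * x * s by group, k.comm_z huR,
        show x * u * s * u⁻¹ * (x * s)⁻¹ = x * (u * s * u⁻¹ * s⁻¹) * x⁻¹ by group]
      rcases k.comm_cases huR hs with e' | e' <;> rw [e'] <;> group
    have e3 : u * s * u⁻¹ = r * s * r⁻¹ := mul_right_cancel (b := s⁻¹) (e2.symm.trans e1)
    have h' : r⁻¹ * u * s = s * (r⁻¹ * u) := by
      calc r⁻¹ * u * s = r⁻¹ * (u * s * u⁻¹) * u := by group
        _ = s * (r⁻¹ * u) := by rw [e3]; group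
    have hwR : r⁻¹ * u ∈ R := mul_mem (inv_mem hr) huR
    rw [show u * r⁻¹ = r * (r⁻¹ * u) * r⁻¹ by group]
    rcases k.conj_cases hr hwR with e | e <;> rw [e]
    · exact h'
    · rw [mul_assoc x, h', ← mul_assoc, ← k.comm_z hs, mul_assoc]
  -- so `z = [p₁, p₂]` centralises `R` modulo `⟨x⟩`
  have hall : ∀ r ∈ R, r * z = z * r := by
    intro r hr
    obtain ⟨hb₁, hb₁z⟩ := hpR p₁ hp₁ hp₁x r hr
    obtain ⟨hb₂, hb₂z⟩ := hpR p₂ hp₂ hp₂x r hr
    obtain ⟨b₁, hb₁e⟩ : ∃ b, b = p₁ * r * p₁⁻¹ * r⁻¹ := ⟨_, rfl⟩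
    obtain ⟨b₂, hb₂e⟩ : ∃ b, b = p₂ * r * p₂⁻¹ * r⁻¹ := ⟨_, rfl⟩
    rw [← hb₁e] at hb₁ hb₁z
    rw [← hb₂e] at hb₂ hb₂z
    have hpb : ∀ {p b}, p ∈ Q → p * x = x * p → b ∈ R → b * z = z * b →
        p * b * p⁻¹ = b ∨ p * b * p⁻¹ = x * b := by
      intro p b hp hpx hb hbz
      rcases cross_cases h k hx hne hzR hb hbz hp hpx with e | e
      · left
        calc p * b * p⁻¹ = (b * p * b⁻¹) * b * p⁻¹ := by rw [e]
          _ = b := by group
      · right
        have hxs : x⁻¹ = x := inv_eq_of_mul_eq_one_right hx2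
        calc p * b * p⁻¹ = x⁻¹ * (x * p) * b * p⁻¹ := by group
          _ = x * (b * p * b⁻¹) * b * p⁻¹ := by rw [← e, hxs]
          _ = x * b := by group
    have f1 : p₁ * p₂ * r * (p₁ * p₂)⁻¹ = (p₁ * b₂ * p₁⁻¹) * b₁ * r := by
      rw [hb₁e, hb₂e]; group
    have f2 : p₂ * p₁ * r * (p₂ * p₁)⁻¹ = (p₂ * b₁ * p₂⁻¹) * b₂ * r := by
      rw [hb₁e, hb₂e]; group
    have hb12 : b₁ * b₂ = b₂ * b₁ ∨ b₁ * b₂ = x * (b₂ * b₁) := by
      rcases k.conj_cases hb₁ hb₂ with e | e
      · exact .inl (mul_inv_eq_iff_eq_mul.1 e)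
      · exact .inr (by rw [mul_inv_eq_iff_eq_mul.1 e, mul_assoc])
    have hX : p₁ * p₂ * r * (p₁ * p₂)⁻¹ = p₂ * p₁ * r * (p₂ * p₁)⁻¹ ∨
        p₁ * p₂ * r * (p₁ * p₂)⁻¹ = x * (p₂ * p₁ * r * (p₂ * p₁)⁻¹) := by
      rw [f1, f2]
      rcases hb12 with e0 | e0 <;>
        rcases hpb hp₁ hp₁x hb₂ hb₂z with e | e <;>
          rcases hpb hp₂ hp₂x hb₁ hb₁z with e' | e' <;> rw [e, e'] <;>
            simp [mul_assoc, ← mul_assoc b₁ b₂ r, e0, mul_left_cancel_invol hx2]
    have hcomm : p₁ * p₂ = z * (p₂ * p₁) := by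
      rw [← hpz]; group
    have : z * (p₂ * p₁ * r * (p₂ * p₁)⁻¹) * z⁻¹ = p₁ * p₂ * r * (p₁ * p₂)⁻¹ := by
      rw [hcomm]; group
    obtain ⟨v, hv⟩ : ∃ v, v = p₂ * p₁ * r * (p₂ * p₁)⁻¹ := ⟨_, rfl⟩
    rw [← hv] at hX this
    have hvz : z * v = v * z := by
      have hvR : v ∈ R := hv ▸ (mem_normalizer_iff.1 (k.norm (mem_centralizer_singleton_iff.2
        (show p₂ * p₁ * x = x * (p₂ * p₁) by rw [mul_assoc, hp₁x, ← mul_assoc, hp₂x, mul_assoc]))) r).1 hr
      refine (hzS v hvR ?_).symm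
      rcases hX with e | e <;> rw [e] at this
      · left
        rw [ha]
        calc v * z * v⁻¹ * z⁻¹ = v * (z * v * z⁻¹)⁻¹ := by group
          _ = 1 := by rw [this, mul_inv_cancel]
      · right
        rw [ha]
        calc v * z * v⁻¹ * z⁻¹ = v * (z * v * z⁻¹)⁻¹ := by group
          _ = x := by rw [this, mul_inv_rev, mul_inv_cancel_left, inv_eq_of_mul_eq_one_right hx2]
    have hpp : (p₂ * p₁) * z = z * (p₂ * p₁) := by
      exact h.comm_z (mul_mem hp₂ hp₁)
    obtain ⟨t, ht⟩ : ∃ t, t = p₂ * p₁ := ⟨_, rfl⟩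
    rw [← ht] at hv hpp
    have hr' : r = t⁻¹ * v * t := by rw [hv]; group
    rw [hr']
    exact ((((show Commute t z from hpp).inv_left).mul_left hvz.symm).mul_left hpp).eq
  exact hzR (k.cent (mem_centralizer_iff.2 fun r hr => hall r hr))

end Pack

end CfsgLib.PLocal.LargeExtra
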