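import Cfsg.Agent.Lib.PLocal.LargeExtraPairCore
import Cfsg.Agent.Lib.Coprime.SymplecticType
import Cfsg.Agent.Lib.Coprime.Action

/-!
An odd order group of automorphisms splits a self-centralising extraspecial subgroup as a central
product of its fixed points and its commutator subgroup.
-/

set_option autoImplicit false

namespace CfsgLib.PLocal.LargeExtra

open Subgroup
open scoped commutatorElement

variable {G : Type*} [Group G] [Finite G]

namespace Pack

variable {Q : Subgroup G} {z : G} (h : Pack Q z)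
include h

theorem conj_z {a : G} (ha : a ∈ normalizer (Q : Set G)) : a * z * a⁻¹ = z := by
  have hm : a * z * a⁻¹ ∈ Q := (mem_normalizer_iff.1 ha z).1 h.mem
  rcases h.eq_of_central hm fun b hb => (by
    have hb' : a⁻¹ * b * a ∈ Q := by simpa using (mem_normalizer_iff.1 (inv_mem ha) b).1 hb
    calc a * z * a⁻¹ * b = a * (z * (a⁻¹ * b * a)) * a⁻¹ := by group
      _ = b * (a * z * a⁻¹) := by rw [← h.comm_z hb']; group) with e | e
  · exact absurd (conj_eq_one_iff.1 e) h.z_ne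
  · exact e

/-- A non-abelian member of a commuting generating pair of subgroups is extraspecial. -/
theorem extra_of_factor {S D : Subgroup G} (hS : S ≤ Q) (hgen : Q ≤ S ⊔ D)
    (hcomm : ∀ s ∈ S, ∀ d ∈ D, s * d = d * s) (hna : ∃ a ∈ S, ∃ b ∈ S, a * b ≠ b * a) :
    Cfsg.IsExtraspecial 2 ↥S := by
  have : Fact (Nat.Prime 2) := ⟨Nat.prime_two⟩
  obtain ⟨a, ha, b, hb, hab⟩ := hna
  have hzS : z ∈ S := by
    rcases h.comm_cases (hS ha) (hS hb) with e | e
    · exact absurd (mul_inv_eq_iff_eq_mul.1 (mul_inv_eq_one.1 e)) hab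
    · rw [← e]; exact mul_mem (mul_mem (mul_mem ha hb) (inv_mem ha)) (inv_mem hb)
  have hcen : ∀ {s}, s ∈ S → (∀ t ∈ S, s * t = t * s) → s = 1 ∨ s = z := fun hs hst =>
    h.eq_of_central (hS hs) fun q hq => by
      have hle : S ⊔ D ≤ centralizer ({_} : Set G) := sup_le
        (fun t ht => mem_centralizer_singleton_iff.2 (hst t ht).symm)
        (fun d hd => mem_centralizer_singleton_iff.2 (hcomm _ hs d hd).symm)
      exact (mem_centralizer_singleton_iff.1 (hle (hgen hq))).symm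
  have hZmem : ∀ {u : ↥S}, u ∈ zpowers (⟨z, hzS⟩ : ↥S) ↔ (u : G) = 1 ∨ (u : G) = z := by
    intro u
    constructor
    · intro hu
      refine Trans3.mem_zpowers_invol h.ord ?_
      obtain ⟨i, hi⟩ := hu
      exact ⟨i, by rw [← hi]; simp⟩
    · rintro (e | e)
      · rw [show u = 1 from Subtype.ext e]; exact one_mem _
      · rw [show u = ⟨z, hzS⟩ from Subtype.ext e]; exact mem_zpowers _
  refine Coprime.isExtraspecial_of_central (h.ext.1.1.to_le hS) (zpowers (⟨z, hzS⟩ : ↥S)) ?_ ?_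
    (fun u v => hZmem.2 ?_) (fun u => hZmem.2 ?_) ?_
  · rw [Nat.card_zpowers, Subgroup.orderOf_mk, h.ord]
  · refine le_antisymm (fun u hu => hZmem.2 (hcen u.2 fun t ht =>
      (congrArg Subtype.val (mem_center_iff.1 hu ⟨t, ht⟩)).symm)) (zpowers_le.2 ?_)
    exact mem_center_iff.2 fun u => Subtype.ext (h.comm_z (hS u.2))
  · rw [commutatorElement_def]
    exact h.comm_cases (hS u.2) (hS v.2)
  · rw [pow_two]; exact h.sq_cases (hS u.2)
  · intro e
    have h1 : (⟨a, ha⟩ : ↥S) ∈ zpowers (⟨z, hzS⟩ : ↥S) := e ▸ mem_top _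
    rcases hZmem.1 h1 with e' | e' <;> simp only at e' <;> subst e'
    · exact hab (by simp)
    · exact hab (h.comm_z (hS hb)).symm

theorem odd_decomposition {A : Subgroup G} (hA : A ≤ normalizer (Q : Set G))
    (hAodd : Odd (Nat.card A)) (hA1 : A ≠ ⊥) :
    (Q ⊓ centralizer (A : Set G)) ⊔ ⁅Q, A⁆ = Q ∧
      (∀ c ∈ Q ⊓ centralizer (A : Set G), ∀ y ∈ ⁅Q, A⁆, c * y = y * c) ∧
      Cfsg.IsExtraspecial 2 ↥⁅Q, A⁆ ∧
      (Q ⊓ centralizer (A : Set G) = (center ↥Q).map Q.subtype ∨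
        Cfsg.IsExtraspecial 2 ↥(Q ⊓ centralizer (A : Set G))) := by
  have : Fact (Nat.Prime 2) := ⟨Nat.prime_two⟩
  obtain ⟨n, hn⟩ := h.ext.1.1.exists_card_eq
  have hcop : (Nat.card A).Coprime (Nat.card Q) := by
    rw [hn]
    exact (Nat.Coprime.pow_left n (Nat.prime_two.coprime_iff_not_dvd.2
      fun e => Nat.not_even_iff_odd.2 hAodd (even_iff_two_dvd.2 e))).symm
  have : Group.IsNilpotent ↥Q := h.ext.1.1.isNilpotent
  have hs : Group.IsSolvable A ∨ Group.IsSolvable Q := .inr inferInstance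
  have hsup := Coprime.commutator_sup_centralizer hA hcop hs
  have hYQ : ⁅Q, A⁆ ≤ Q := le_normalizer_iff_commutator_le_left.mp hA
  have haz : ∀ a ∈ A, a * z = z * a := fun a ha => mul_inv_eq_iff_eq_mul.1 (h.conj_z (hA ha))
  have hconj : ∀ a ∈ A, ∀ q ∈ Q, a * q * a⁻¹ ∈ Q := fun a ha q hq =>
    (mem_normalizer_iff.1 (hA ha) q).1 hq
  have hcy : ∀ c ∈ Q ⊓ centralizer (A : Set G), ∀ y ∈ ⁅Q, A⁆, c * y = y * c := by
    intro c hc
    have hle : ⁅Q, A⁆ ≤ centralizer ({c} : Set G) := by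
      refine Subgroup.commutator_le.2 fun q hq a ha => ?_
      have hac : a * c = c * a := mem_centralizer_iff.1 hc.2 a ha
      have hac' : a * c⁻¹ = c⁻¹ * a := ((show Commute a c from hac).inv_right).eq
      rw [commutatorElement_def, show q * a * q⁻¹ * a⁻¹ = q * (a * q⁻¹ * a⁻¹) by group,
        mem_centralizer_singleton_iff]
      have hq' : a * q⁻¹ * a⁻¹ ∈ Q := hconj a ha _ (inv_mem hq)
      have hfix : a * c * a⁻¹ = c := mul_inv_eq_iff_eq_mul.2 hac
      by_cases hqc : q * c = c * q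
      · have hqc' : q⁻¹ * c = c * q⁻¹ := ((show Commute q c from hqc).inv_left).eq
        have e : a * q⁻¹ * a⁻¹ * c = c * (a * q⁻¹ * a⁻¹) := by
          calc a * q⁻¹ * a⁻¹ * c = a * q⁻¹ * a⁻¹ * (a * c * a⁻¹) := by rw [hfix]
            _ = a * (q⁻¹ * c) * a⁻¹ := by group
            _ = a * c * a⁻¹ * (a * q⁻¹ * a⁻¹) := by rw [hqc']; group
            _ = c * (a * q⁻¹ * a⁻¹) := by rw [hfix]
        rw [mul_assoc q, e, ← mul_assoc, hqc, mul_assoc]
      · refine h.mul_commute hq hq' hc.1 hqc fun e => hqc ?_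
        have e' : q⁻¹ * c = c * q⁻¹ := by
          calc q⁻¹ * c = a⁻¹ * (a * q⁻¹ * a⁻¹ * (a * c * a⁻¹)) * a := by group
            _ = a⁻¹ * ((a * c * a⁻¹) * (a * q⁻¹ * a⁻¹)) * a := by rw [hfix, e]
            _ = c * q⁻¹ := by group
        exact (by simpa using (show Commute q⁻¹ c from e').inv_left : Commute q c).eq
    intro y hy
    exact (mem_centralizer_singleton_iff.1 (hle hy)).symm
  have hYna : ∃ a ∈ ⁅Q, A⁆, ∃ b ∈ ⁅Q, A⁆, a * b ≠ b * a := by
    by_contra hn
    push Not at hn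
    refine hA1 ?_
    have hYz : ∀ y ∈ ⁅Q, A⁆, y = 1 ∨ y = z := fun y hy =>
      h.eq_of_central (hYQ hy) fun q hq => by
        have hle : ⁅Q, A⁆ ⊔ (Q ⊓ centralizer (A : Set G)) ≤ centralizer ({y} : Set G) :=
          sup_le (fun t ht => mem_centralizer_singleton_iff.2 (hn t ht y hy))
            (fun c hc => mem_centralizer_singleton_iff.2 (hcy c hc y hy))
        exact (mem_centralizer_singleton_iff.1 (hle (hsup.symm ▸ hq))).symm
    have hYA : ⁅⁅Q, A⁆, A⁆ = ⊥ := commutator_eq_bot_iff_le_centralizer.2 fun y hy =>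
      mem_centralizer_iff.2 fun a ha => by
        rcases hYz y hy with rfl | rfl
        · simp
        · exact haz a ha
    have hQA := Coprime.commutator_eq_bot_of_commutator_commutator hA hcop hs hYA
    rw [commutator_eq_bot_iff_le_centralizer] at hQA
    have hAQ : A ≤ Q := fun a ha => h.cent (mem_centralizer_iff.2 fun q hq =>
      (mem_centralizer_iff.1 (hQA hq) a ha).symm)
    have : A ⊓ Q = ⊥ := Coprime.inf_eq_bot_of_coprime hcop
    rwa [inf_eq_left.2 hAQ] at this
  refine ⟨by rw [sup_comm]; exact hsup, hcy, h.extra_of_factor hYQ hsup.ge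
    (fun y hy c hc => (hcy c hc y hy).symm) hYna, ?_⟩
  by_cases hab : ∃ a ∈ Q ⊓ centralizer (A : Set G), ∃ b ∈ Q ⊓ centralizer (A : Set G), a * b ≠ b * a
  · exact .inr (h.extra_of_factor inf_le_left (by rw [sup_comm]; exact hsup.ge) hcy hab)
  · left
    push Not at hab
    rw [h.cen]
    refine le_antisymm (fun c hc => ?_) (zpowers_le.2 ⟨h.mem, mem_centralizer_iff.2 haz⟩)
    rcases h.eq_of_central hc.1 fun q hq => (by
      have hle : ⁅Q, A⁆ ⊔ (Q ⊓ centralizer (A : Set G)) ≤ centralizer ({c} : Set G) :=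
        sup_le (fun t ht => mem_centralizer_singleton_iff.2 (hcy c hc t ht).symm)
          (fun d hd => mem_centralizer_singleton_iff.2 (hab d hd c hc))
      exact (mem_centralizer_singleton_iff.1 (hle (hsup.symm ▸ hq))).symm) with e | e <;> rw [e]
    exacts [one_mem _, mem_zpowers _]

end Pack

end CfsgLib.PLocal.LargeExtra
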