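import Cfsg.Agent.Lib.PLocal.LargeExtraNormal
import Cfsg.Agent.Lib.Amalgam.SubnormalSylow
import Cfsg.Agent.Lib.Block.BrauerTuanTheorem
import Cfsg.Agent.Lib.Transfer.PPrimeAut

/-!
The simple factors of the minimal normal subgroup of a group with a large extraspecial subgroup and
trivial 2-core: at most two, and the centraliser of the involution in a factor when there are two.
-/

set_option autoImplicit false

namespace CfsgLib.PLocal.LargeExtra

open Subgroup CfsgLib.Recog
open scoped commutatorElement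

variable {G : Type*} [Group G] [Finite G] {Q : Subgroup G} {z : G}

theorem eq_of_mul_eq {T : Subgroup G} (hT : T ⊓ centralizer (T : Set G) = ⊥) {a a' d d' : G}
    (ha : a ∈ T) (ha' : a' ∈ T) (hd : d ∈ centralizer (T : Set G))
    (hd' : d' ∈ centralizer (T : Set G)) (e : a * d = a' * d') : a = a' ∧ d = d' := by
  have e1 : a'⁻¹ * a = d' * d⁻¹ := by
    calc a'⁻¹ * a = a'⁻¹ * (a * d) * d⁻¹ := by group
      _ = d' * d⁻¹ := by rw [e]; group
  have h1 : a'⁻¹ * a ∈ T ⊓ centralizer (T : Set G) :=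
    mem_inf.2 ⟨mul_mem (inv_mem ha') ha, e1 ▸ mul_mem hd' (inv_mem hd)⟩
  rw [hT, mem_bot] at h1
  have h2 : a' = a := inv_mul_eq_one.1 h1
  subst h2
  exact ⟨rfl, mul_left_cancel e⟩

/-- The minimal normal subgroup when the 2-core is trivial. -/
theorem Pack.exists_socle (h : Pack Q z) (hQ : Cfsg.IsLargeExtraspecial Q)
    (hP : Cfsg.pCore 2 G = ⊥) :
    ∃ N T : Subgroup G, N.Normal ∧ IsFactor N T ∧ z ∈ N ∧ centralizer (N : Set G) = ⊥ ∧
      normalClosure ({z} : Set G) = N ∧ Cfsg.generalizedFittingSubgroup G = N := by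
  have : Fact (Nat.Prime 2) := ⟨Nat.prime_two⟩
  have : Nontrivial G := ⟨z, 1, h.z_ne⟩
  obtain ⟨N, hN, hNb, hmin⟩ := Solvable.exists_minimal_normal (G := G)
  have hQn : ∀ {K : Subgroup G}, K.Normal → Q ≤ normalizer (K : Set G) := fun hK =>
    (normalizer_eq_top_iff.2 hK).symm ▸ le_top
  have hz : z ∈ N := h.mem_of_normalized hQ (hQn hN) hNb
  have hab : ¬ IsMulCommutative N := by
    intro hc
    obtain ⟨p, hp, hpow⟩ := Solvable.exists_prime_pow_eq_one_of_minimal_normal hNb hmin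
    have hd : orderOf z ∣ p := orderOf_dvd_of_pow_eq_one (hpow z hz)
    rw [h.ord] at hd
    obtain rfl : p = 2 := ((Nat.prime_dvd_prime_iff_eq Nat.prime_two hp).1 hd).symm
    have hg : IsPGroup 2 ↥N := fun x => ⟨1, Subtype.ext (by simpa using hpow x x.2)⟩
    exact hNb (le_bot_iff.1 (hP ▸ Amalgam.le_pCore hN hg))
  have hC : centralizer (N : Set G) = ⊥ := by
    by_contra hne
    have hCn : (centralizer (N : Set G)).Normal := inferInstance
    have hz' : z ∈ centralizer (N : Set G) := h.mem_of_normalized hQ (hQn hCn) hne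
    have hI : (N ⊓ centralizer (N : Set G)).Normal := Subgroup.normal_inf_normal _ _
    rcases hmin _ hI inf_le_left with e | e
    · have := mem_inf.2 ⟨hz, hz'⟩
      rw [e, mem_bot] at this
      exact h.z_ne this
    · exact hab (le_centralizer_iff_isMulCommutative.1 (inf_eq_left.1 e))
  have hmin' : ∀ K : Subgroup G, K.Normal → K ≠ ⊥ → N ≤ K := by
    intro K hK hKb
    have hI : (N ⊓ K).Normal := Subgroup.normal_inf_normal _ _
    rcases hmin _ hI inf_le_left with e | e
    · have := mem_inf.2 ⟨hz, h.mem_of_normalized hQ (hQn hK) hKb⟩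
      rw [e, mem_bot] at this
      exact absurd this h.z_ne
    · exact inf_eq_left.1 e
  obtain ⟨T, hT⟩ := exists_isFactor hN hNb hmin hab
  refine ⟨N, T, hN, hT, hz, hC, ?_, ?_⟩
  · refine le_antisymm (h.normalClosure_le hQ hNb) (hmin' _ normalClosure_normal fun e => h.z_ne ?_)
    have := subset_normalClosure (s := ({z} : Set G)) (Set.mem_singleton z)
    rwa [e] at this
  · refine le_antisymm (sup_le (sSup_le fun K hK => ?_) ?_) (hmin' _
      (Comp.generalizedFittingSubgroup_normal G) fun e => ?_)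
    · rcases Comp.component_le_or_le_centralizer hK hN.isSubnormal with e | e
      · exact e
      · exact absurd (le_bot_iff.1 (hC ▸ e)) (Comp.ne_bot_of_isComponent hK)
    · by_contra hF
      have hFn := Comp.fittingSubgroup_normal G
      have hle : N ≤ Cfsg.fittingSubgroup G := hmin' _ hFn (fun e => hF (e ▸ bot_le))
      have : Group.IsNilpotent ↥(Cfsg.fittingSubgroup G) := Comp.isNilpotent_fittingSubgroup G
      have : Group.IsNilpotent ↥N := Group.nilpotent_of_mulEquiv (subgroupOfEquivOfLe hle)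
      exact hab (Solvable.isMulCommutative_of_minimal_normal hNb hmin)
    · have := Comp.centralizer_generalizedFitting_le G
      rw [e] at this
      have h1 : z ∈ centralizer ((⊥ : Subgroup G) : Set G) := mem_centralizer_iff.2 fun a ha => by
        rw [mem_bot.1 ha]; simp
      exact h.z_ne (mem_bot.1 (this h1))

variable {N T : Subgroup G}

theorem factor_conj (q : G) {a : G} (ha : a ∈ T) : q * a * q⁻¹ ∈ cj q T := conj_mem_cj ha

theorem cj_inv_eq {q : G} {U : Subgroup G} (e : cj q T = U) : cj q⁻¹ U = T := by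
  rw [← e, ← cj_mul, inv_mul_cancel, cj_one]

theorem le_normalizer_iSup_cj (R : Subgroup G) (g : G) :
    R ≤ normalizer ((⨆ q : R, cj ((q : G) * g) T : Subgroup G) : Set G) := by
  intro r hr
  refine mem_normalizer_iff_map_conj_eq.2 (eq_of_le_of_card_ge ?_ (le_of_eq
    (card_map_of_injective (MulEquiv.injective _)).symm))
  rw [Subgroup.map_iSup]
  refine iSup_le fun q => ?_
  refine le_trans (le_of_eq (cj_mul r ((q : G) * g) T).symm) ?_
  rw [← mul_assoc]
  exact le_iSup (fun q : R => cj ((q : G) * g) T) ⟨r * q, mul_mem hr q.2⟩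

/-- The involution does not centralise a factor, and `Q` is transitive on the factors. -/
theorem Pack.factor_transitive (h : Pack Q z) (hQ : Cfsg.IsLargeExtraspecial Q) (hT : IsFactor N T)
    (hC : centralizer (N : Set G) = ⊥) :
    z ∉ centralizer (T : Set G) ∧ ∀ g : G, ∃ q ∈ Q, cj g T = cj q T := by
  have hOz : ∀ g, z ∈ ⨆ q : Q, cj ((q : G) * g) T := fun g =>
    h.mem_of_normalized hQ (le_normalizer_iSup_cj Q g) fun e =>
      cj_ne_bot (g := g) hT.ne_bot (le_bot_iff.1 (e ▸ (le_iSup_of_le (1 : Q) (by simp))))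
  have hfar : ∀ g, (¬ ∃ q ∈ Q, cj g T = cj q T) → ∀ q ∈ Q, cj (q * g) T ≤ centralizer (T : Set G) := by
    intro g hg q hq
    refine (hT.eq_or_le_centralizer (q * g)).resolve_left fun e => hg ⟨q⁻¹, inv_mem hq, ?_⟩
    rw [cj_mul] at e
    have := cj_inv_eq (q := q) (T := cj g T) e
    exact this.symm
  have hzC : z ∉ centralizer (T : Set G) := by
    intro hz
    have hQz : ∀ q ∈ Q, z ∈ centralizer (cj q T : Set G) := fun q hq => mem_centralizer_iff.2 fun a ha => by
      rw [SetLike.mem_coe, mem_cj] at ha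
      have e := mem_centralizer_iff.1 hz _ ha
      have hqz : q * z * q⁻¹ = z := mul_inv_eq_iff_eq_mul.2 (h.comm_z hq)
      calc a * z = q * ((q⁻¹ * a * q) * z) * q⁻¹ * ((q * z * q⁻¹)⁻¹ * z) := by group
        _ = q * (z * (q⁻¹ * a * q)) * q⁻¹ := by rw [e, hqz]; group
        _ = q * z * q⁻¹ * a := by group
        _ = z * a := by rw [hqz]
    have hall : N ≤ centralizer ({z} : Set G) := by
      rw [← hT.iSup_eq]
      refine iSup_le fun g => ?_
      by_cases hg : ∃ q ∈ Q, cj g T = cj q T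
      · obtain ⟨q, hq, e⟩ := hg
        rw [e]
        exact fun a ha => mem_centralizer_singleton_iff.2 (mem_centralizer_iff.1 (hQz q hq) a ha)
      · have hle : cj g T ≤ centralizer ((⨆ q : Q, cj ((q : G) * 1) T : Subgroup G) : Set G) := by
          rw [le_centralizer_iff]
          refine iSup_le fun q => ?_
          rw [mul_one]
          have := hfar g hg (q : G)⁻¹ (inv_mem q.2)
          rw [le_centralizer_iff] at this
          intro a ha
          refine mem_centralizer_iff.2 fun b hb => ?_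
          rw [mem_cj] at ha
          rw [SetLike.mem_coe, mem_cj] at hb
          have hb' : (q : G)⁻¹ * b * q ∈ cj ((q : G)⁻¹ * g) T := by
            rw [mem_cj]; simpa [mul_assoc] using hb
          have e := mem_centralizer_iff.1 (this ha) _ hb'
          calc b * a = (q : G) * (((q : G)⁻¹ * b * q) * ((q : G)⁻¹ * a * q)) * (q : G)⁻¹ := by group
            _ = a * b := by rw [e]; group
        exact fun a ha => mem_centralizer_singleton_iff.2
          (mem_centralizer_iff.1 (hle ha) z (hOz 1)).symm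
    have : z ∈ centralizer (N : Set G) := mem_centralizer_iff.2 fun a ha =>
      mem_centralizer_singleton_iff.1 (hall ha)
    exact h.z_ne (mem_bot.1 (hC ▸ this))
  refine ⟨hzC, fun g => ?_⟩
  by_contra hg
  exact hzC ((iSup_le fun q : Q => hfar g hg q q.2 : (⨆ q : Q, cj ((q : G) * g) T) ≤ _) (hOz g))

/-- Data of a pair of factors interchanged by an element of `Q`. -/
structure Moved (Q N T : Subgroup G) (z u z₁ : G) : Prop where
  factor : IsFactor N T
  mem : u ∈ Q
  move : cj u T ≤ centralizer (T : Set G)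
  mem₁ : z₁ ∈ T
  ne₁ : z₁ ≠ 1
  split : z₁⁻¹ * z ∈ centralizer (T : Set G)

theorem Pack.exists_moved (h : Pack Q z) (hQ : Cfsg.IsLargeExtraspecial Q) (hT : IsFactor N T)
    (hC : centralizer (N : Set G) = ⊥) (hz : z ∈ N) {u : G} (hu : u ∈ Q) (hne : cj u T ≠ T) :
    ∃ z₁, Moved Q N T z u z₁ := by
  have hle : centralizer (T : Set G) ≤ normalizer (T : Set G) := centralizer_le_normalizer _
  have hz' := hT.le_sup hz
  rw [sup_comm] at hz'
  have hcoe := coe_mul_of_left_le_normalizer_right _ _ hle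
  have : z ∈ ((centralizer (T : Set G) ⊔ T : Subgroup G) : Set G) := hz'
  rw [hcoe] at this
  obtain ⟨d, hd, a, ha, e⟩ := Set.mem_mul.1 this
  have hcomm : a * d = d * a := mem_centralizer_iff.1 hd a ha
  refine ⟨a, hT, hu, (hT.eq_or_le_centralizer u).resolve_left hne, ha, fun e' => ?_, ?_⟩
  · subst e'
    rw [mul_one] at e
    exact (h.factor_transitive hQ hT hC).1 (e ▸ hd)
  · rw [← e, ← hcomm, inv_mul_cancel_left]
    exact hd

namespace Moved

variable {u z₁ : G} (M : Moved Q N T z u z₁) (h : Pack Q z)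
include M h

theorem comm_iff {c : G} (hc : c ∈ T) : c * z = z * c ↔ c * z₁ = z₁ * c := by
  have e : c * (z₁⁻¹ * z) = z₁⁻¹ * z * c := mem_centralizer_iff.1 M.split c hc
  have hz : z = z₁ * (z₁⁻¹ * z) := by group
  constructor
  · intro hcz
    refine mul_right_cancel (b := z₁⁻¹ * z) ?_
    calc c * z₁ * (z₁⁻¹ * z) = c * z := by group
      _ = z * c := hcz
      _ = z₁ * (z₁⁻¹ * z * c) := by group
      _ = z₁ * c * (z₁⁻¹ * z) := by rw [← e]; group
  · intro hc1
    calc c * z = c * z₁ * (z₁⁻¹ * z) := by group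
      _ = z₁ * (c * (z₁⁻¹ * z)) := by rw [hc1]; group
      _ = z * c := by rw [e]; group

theorem sq₁ : z₁ * z₁ = 1 := by
  have e : z₁ * (z₁⁻¹ * z) = z₁⁻¹ * z * z₁ := mem_centralizer_iff.1 M.split z₁ M.mem₁
  have h2 : z₁ * z₁ * ((z₁⁻¹ * z) * (z₁⁻¹ * z)) = 1 * 1 := by
    calc z₁ * z₁ * ((z₁⁻¹ * z) * (z₁⁻¹ * z)) = z₁ * (z₁ * (z₁⁻¹ * z)) * (z₁⁻¹ * z) := by group
      _ = z * z := by rw [e]; group
      _ = 1 * 1 := by rw [h.z_mul_z, one_mul]
  exact (eq_of_mul_eq M.factor.inf_centralizer (mul_mem M.mem₁ M.mem₁) (one_mem _)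
    (mul_mem M.split M.split) (one_mem _) h2).1

theorem z_centralizes₁ : z₁ * z = z * z₁ := (M.comm_iff h M.mem₁).2 rfl

/-- The commutator of an element of the centraliser with `q`. -/
theorem mul_conj_mem {c q : G} (hcz : c * z = z * c) (hq : q ∈ Q) : c * (q * c⁻¹ * q⁻¹) ∈ Q := by
  rw [show c * (q * c⁻¹ * q⁻¹) = c * q * c⁻¹ * q⁻¹ by group]
  exact mul_mem ((mem_normalizer_iff.1 (h.norm (mem_centralizer_singleton_iff.2 hcz)) q).1 hq)
    (inv_mem hq)

theorem isPGroup₁ : IsPGroup 2 ↥(T ⊓ centralizer ({z} : Set G)) := by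
  rintro ⟨c, hc⟩
  have hcz := mem_centralizer_singleton_iff.1 hc.2
  obtain ⟨k, hk⟩ := h.ext.1.1 ⟨_, M.mul_conj_mem h hcz M.mem⟩
  refine ⟨k, Subtype.ext ?_⟩
  have hd : u * c⁻¹ * u⁻¹ ∈ centralizer (T : Set G) := M.move (conj_mem_cj (inv_mem hc.1))
  have hcd : Commute c (u * c⁻¹ * u⁻¹) := mem_centralizer_iff.1 hd c hc.1
  have e : c ^ 2 ^ k * (u * c⁻¹ * u⁻¹) ^ 2 ^ k = 1 * 1 := by
    rw [← hcd.mul_pow, one_mul]; exact congrArg Subtype.val hk
  exact (eq_of_mul_eq M.factor.inf_centralizer (pow_mem hc.1 _) (one_mem _) (pow_mem hd _)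
    (one_mem _) e).1

theorem isSylIn₁ : Amalgam.IsSylIn 2 T (T ⊓ centralizer ({z} : Set G)) := by
  have : Fact (Nat.Prime 2) := ⟨Nat.prime_two⟩
  obtain ⟨S, hS⟩ := h.ext.1.1.exists_le_sylow
  have hzS : ∀ s ∈ (S : Subgroup G), s * z = z * s := by
    have : Nontrivial ↥(S : Subgroup G) :=
      ⟨⟨z, hS h.mem⟩, 1, fun e => h.z_ne (congrArg Subtype.val e)⟩
    have : Nontrivial (center ↥(S : Subgroup G)) := S.isPGroup'.center_nontrivial
    obtain ⟨w, hw⟩ := exists_ne (1 : center ↥(S : Subgroup G))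
    have hwc : ∀ s ∈ (S : Subgroup G), s * ((w : ↥(S : Subgroup G)) : G) = (w : ↥(S : Subgroup G)) * s :=
      fun s hs => congrArg Subtype.val (mem_center_iff.1 w.2 ⟨s, hs⟩)
    have hwQ : ((w : ↥(S : Subgroup G)) : G) ∈ Q :=
      h.cent (mem_centralizer_iff.2 fun q hq => hwc q (hS hq))
    rcases h.eq_of_central hwQ fun q hq => (hwc q (hS hq)).symm with e | e
    · exact absurd (Subtype.ext (Subtype.ext e)) hw
    · rwa [e] at hwc
  have hNn : N.Normal := by
    rw [← M.factor.iSup_eq]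
    refine ⟨fun y hy g => ?_⟩
    have hle : cj g (⨆ a : G, cj a T) ≤ ⨆ a : G, cj a T := by
      simp only [cj, Subgroup.map_iSup]
      refine iSup_le fun a => ?_
      have : cj g (cj a T) ≤ ⨆ a : G, cj a T := by
        rw [← cj_mul]; exact le_iSup (fun a : G => cj a T) (g * a)
      exact this
    exact hle (conj_mem_cj hy)
  have hsn : T.IsSubnormal := IsSubnormal.step T N M.factor.le hNn.isSubnormal
    ((normal_subgroupOf_iff_le_normalizer M.factor.le).2 M.factor.le_normalizer)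
  obtain ⟨-, -, hcard⟩ := Amalgam.isSylIn_inf_sylow S hsn
  have hle : T ⊓ (S : Subgroup G) ≤ T ⊓ centralizer ({z} : Set G) :=
    fun s hs => ⟨hs.1, mem_centralizer_singleton_iff.2 (hzS s hs.2)⟩
  refine ⟨inf_le_left, M.isPGroup₁ h, le_antisymm ?_ (hcard ▸ card_le_of_le hle)⟩
  obtain ⟨k, hk⟩ := (M.isPGroup₁ h).exists_card_eq
  rw [hk]
  exact Nat.pow_le_pow_right two_pos ((Nat.prime_two.pow_dvd_iff_le_factorization
    Nat.card_pos.ne').1 (hk ▸ card_dvd_of_le inf_le_left))

theorem exists_big₁ : ∃ c ∈ T, c * z = z * c ∧ c ≠ 1 ∧ c ≠ z₁ := by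
  classical
  have : Fact (Nat.Prime 2) := ⟨Nat.prime_two⟩
  by_contra hn
  push Not at hn
  have hS := (M.isSylIn₁ h).2.2
  have hsub : ((T ⊓ centralizer ({z} : Set G) : Subgroup G) : Set G) ⊆ (({1, z₁} : Finset G) : Set G) := by
    intro c hc
    simp only [Finset.coe_insert, Finset.coe_singleton, Set.mem_insert_iff, Set.mem_singleton_iff]
    exact or_iff_not_imp_left.2 fun h1 => hn c hc.1 (mem_centralizer_singleton_iff.1 hc.2) h1
  have h2 : Nat.card ↥(T ⊓ centralizer ({z} : Set G)) ≤ 2 := by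
    have := Set.ncard_le_ncard hsub (Set.toFinite _)
    rw [Set.ncard_coe_finset, ← Nat.card_coe_set_eq] at this
    exact this.trans Finset.card_le_two
  have hT2 : 2 ∣ Nat.card T := by
    have : orderOf (⟨z₁, M.mem₁⟩ : ↥T) = 2 :=
      orderOf_eq_prime (by rw [pow_two]; exact Subtype.ext (M.sq₁ h)) fun e =>
        M.ne₁ (congrArg Subtype.val e)
    exact this ▸ orderOf_dvd_natCard _
  have := M.factor.simple
  have h4 : 4 ∣ Nat.card T := Block.BrauerTuan.four_dvd_of_two_dvd
    (fun hc => M.factor.nonabelian ⟨⟨fun a b => (IsCyclic.commGroup (α := ↥T)).mul_comm a b⟩⟩) hT2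
  have h22 : 2 ≤ (Nat.card T).factorization 2 :=
    (Nat.prime_two.pow_dvd_iff_le_factorization Nat.card_pos.ne').1 h4
  have := (Nat.pow_le_pow_right two_pos h22).trans (hS ▸ h2)
  omega

theorem two_factors {q : G} (hq : q ∈ Q) : cj q T = T ∨ cj q T = cj u T := by
  rcases M.factor.eq_or_le_centralizer q with e | hqC
  · exact .inl e
  by_contra hn
  push Not at hn
  obtain ⟨c, hc, hcz, hc1, hcz₁⟩ := M.exists_big₁ h
  have hd : q * c⁻¹ * q⁻¹ ∈ centralizer (T : Set G) := hqC (conj_mem_cj (inv_mem hc))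
  have huq : cj (u * q) T ≤ centralizer (T : Set G) := by
    refine (M.factor.eq_or_le_centralizer (u * q)).resolve_left fun e => hn.2 ?_
    rw [cj_mul] at e
    have h1 := cj_inv_eq (q := u) (T := cj q T) e
    have hu2 : cj (u * u) T = T := by
      rcases h.sq_cases M.mem with e' | e' <;> rw [e']
      · exact cj_one T
      · refine (M.factor.eq_or_le_centralizer z).resolve_right fun hle => M.ne₁ ?_
        have hm : z₁ ∈ cj z T := mem_cj.2 (by
          rw [mul_assoc, M.z_centralizes₁ h, inv_mul_cancel_left]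
          exact M.mem₁)
        have := mem_inf.2 ⟨M.mem₁, hle hm⟩
        rwa [M.factor.inf_centralizer, mem_bot] at this
    rw [cj_mul] at hu2
    have h3 := cj_inv_eq (q := u) (T := cj u T) hu2
    exact h1.symm.trans h3
  have hw : c * (q * c⁻¹ * q⁻¹) ∈ Q := M.mul_conj_mem h hcz hq
  have hucm : u * c * u⁻¹ * (u * (q * c⁻¹ * q⁻¹) * u⁻¹) ∈ centralizer (T : Set G) := by
    refine mul_mem (M.move (conj_mem_cj hc)) (huq ?_)
    rw [mem_cj]
    simpa [mul_assoc] using inv_mem hc
  have hD : u * c * u⁻¹ * (u * (q * c⁻¹ * q⁻¹) * u⁻¹) * (q * c⁻¹ * q⁻¹)⁻¹ ∈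
      centralizer (T : Set G) := mul_mem hucm (inv_mem hd)
  obtain ⟨D, hDdef⟩ : ∃ D, D = u * c * u⁻¹ * (u * (q * c⁻¹ * q⁻¹) * u⁻¹) * (q * c⁻¹ * q⁻¹)⁻¹ :=
    ⟨_, rfl⟩
  rw [← hDdef] at hD
  have hcD : c⁻¹ * D = D * c⁻¹ := mem_centralizer_iff.1 hD _ (inv_mem hc)
  have e0 : u * (c * (q * c⁻¹ * q⁻¹)) * u⁻¹ * (c * (q * c⁻¹ * q⁻¹))⁻¹ = c⁻¹ * D := by
    rw [hcD, hDdef]; group
  rcases h.comm_cases M.mem hw with e | e <;> rw [e0] at e
  · exact hc1 (inv_eq_one.1 (eq_of_mul_eq M.factor.inf_centralizer (inv_mem hc) (one_mem _) hD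
      (one_mem _) (e.trans (one_mul 1).symm)).1)
  · refine hcz₁ ?_
    have e' : c⁻¹ * D = z₁ * (z₁⁻¹ * z) := by rw [e]; group
    have := (eq_of_mul_eq M.factor.inf_centralizer (inv_mem hc) M.mem₁ hD M.split e').1
    rw [inv_eq_iff_eq_inv, inv_eq_of_mul_eq_one_right (M.sq₁ h)] at this
    exact this

end Moved

end CfsgLib.PLocal.LargeExtra
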