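import Cfsg.Agent.Lib.PLocal.LargeExtraNormal
import Cfsg.Agent.Lib.PLocal.LargeExtraFactors
import Cfsg.Agent.Lib.PLocal.LargeExtraDecomp

/-!
Criteria for large extraspecial subgroups and for simplicity.
-/

set_option autoImplicit false

namespace CfsgLib.PLocal.LargeExtra

open Subgroup
open scoped commutatorElement

variable {G : Type*} [Group G] [Finite G] {Q : Subgroup G} {z : G}

/-- Recognising a pack from element-level facts. -/
theorem pack_mk {P : Subgroup G} (hP : IsPGroup 2 ↥P) (hz : orderOf z = 2) (hzP : z ∈ P)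
    (hc : ∀ a ∈ P, ∀ b ∈ P, a * b * a⁻¹ * b⁻¹ = 1 ∨ a * b * a⁻¹ * b⁻¹ = z)
    (hsq : ∀ a ∈ P, a * a = 1 ∨ a * a = z)
    (hcen : ∀ a ∈ P, (∀ b ∈ P, a * b = b * a) → a = 1 ∨ a = z)
    (hzc : ∀ a ∈ P, a * z = z * a)
    (hne : ∃ b ∈ P, b ≠ 1 ∧ b ≠ z)
    (hcent : centralizer (P : Set G) ≤ P) (hnorm : centralizer ({z} : Set G) ≤ normalizer (P : Set G)) :
    Pack P z := by
  have : Fact (Nat.Prime 2) := ⟨Nat.prime_two⟩
  have hZmem : ∀ {u : ↥P}, u ∈ zpowers (⟨z, hzP⟩ : ↥P) ↔ (u : G) = 1 ∨ (u : G) = z := by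
    intro u
    constructor
    · intro hu
      refine Trans3.mem_zpowers_invol hz ?_
      obtain ⟨i, hi⟩ := hu
      exact ⟨i, by rw [← hi]; simp⟩
    · rintro (e | e)
      · rw [show u = 1 from Subtype.ext e]; exact one_mem _
      · rw [show u = ⟨z, hzP⟩ from Subtype.ext e]; exact mem_zpowers _
  have hcenter : center ↥P = zpowers (⟨z, hzP⟩ : ↥P) :=
    le_antisymm (fun (u : ↥P) hu => hZmem.2 (hcen u u.2 fun t ht =>
      (congrArg Subtype.val (mem_center_iff.1 hu ⟨t, ht⟩)).symm))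
      (zpowers_le.2 (mem_center_iff.2 fun u => Subtype.ext (hzc u u.2)))
  refine ⟨Coprime.isExtraspecial_of_central hP (zpowers (⟨z, hzP⟩ : ↥P)) ?_ hcenter
    (fun u v => hZmem.2 ?_) (fun u => hZmem.2 ?_) ?_, hz, ?_, hcent, hnorm⟩
  · rw [Nat.card_zpowers, Subgroup.orderOf_mk, hz]
  · rw [commutatorElement_def]; exact hc u u.2 v v.2
  · rw [pow_two]; exact hsq u u.2
  · intro e
    obtain ⟨b, hb, hb1, hbz⟩ := hne
    rcases (hZmem (u := ⟨b, hb⟩)).1 (e ▸ mem_top _) with e' | e'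
    exacts [hb1 e', hbz e']
  · rw [hcenter, MonoidHom.map_zpowers]; rfl

theorem Pack.isLarge (h : Pack Q z) {b : G} (hb : b ∈ Q) (hb1 : b ≠ 1) (hbz : b ≠ z)
    (hb2 : b * b = 1) {N : Subgroup G} (hN : IsPGroup 2 N) (hzN : z ∈ N)
    (hbN : centralizer ({b} : Set G) ≤ normalizer (N : Set G)) :
    Cfsg.IsLargeExtraspecial Q := by
  refine ⟨h.ext, le_antisymm (fun c hc => ?_) ?_, ?_, fun K hK hQK =>
    h.odd_normalized_eq_bot hb hb1 hbz hb2 hN hzN hbN hK hQK⟩
  · refine ⟨⟨c, h.cent hc⟩, mem_center_iff.2 fun q => Subtype.ext ?_, rfl⟩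
    exact mem_centralizer_iff.1 hc q q.2
  · rintro _ ⟨c, hc, rfl⟩
    exact mem_centralizer_iff.2 fun q hq => congrArg Subtype.val (mem_center_iff.1 hc ⟨q, hq⟩)
  · rw [h.cen, Trans3.centralizer_zpowers]; exact h.norm

theorem Pack.isLarge_of_conj (h : Pack Q z) {g : G} (hx : g * z * g⁻¹ ∈ Q) (hne : g * z * g⁻¹ ≠ z) :
    Cfsg.IsLargeExtraspecial Q :=
  h.isLarge hx (h.map g).z_ne hne (h.map g).z_mul_z (h.map g).ext.1.1 (h.mem_conj hx) (h.map g).norm

/-- The pack of a centraliser of an involution with extraspecial generalized Fitting subgroup. -/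
theorem pack_of_fstar (hz : orderOf z = 2) (hQC : Q ≤ centralizer ({z} : Set G))
    (hF : (Cfsg.generalizedFittingSubgroup ↥(centralizer ({z} : Set G))).map
      (centralizer ({z} : Set G)).subtype = Q)
    (hQ : Cfsg.IsExtraspecial 2 ↥Q) : Pack Q z := by
  have hC : ∀ c ∈ centralizer ({z} : Set G), (∀ q ∈ Q, q * c = c * q) → c ∈ Q := by
    intro c hc hcq
    have h1 : (⟨c, hc⟩ : ↥(centralizer ({z} : Set G))) ∈ centralizer
        (Cfsg.generalizedFittingSubgroup ↥(centralizer ({z} : Set G)) :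
          Set ↥(centralizer ({z} : Set G))) :=
      mem_centralizer_iff.2 fun y hy => Subtype.ext (hcq y (hF ▸ ⟨y, hy, rfl⟩))
    rw [← hF]
    exact ⟨_, Comp.centralizer_generalizedFitting_le _ h1, rfl⟩
  have hzQ : z ∈ Q := hC z (mem_centralizer_singleton_iff.2 rfl) fun q hq =>
    mem_centralizer_singleton_iff.1 (hQC hq)
  refine ⟨hQ, hz, ?_, fun c hc => hC c (mem_centralizer_singleton_iff.2
    (mem_centralizer_iff.1 hc z hzQ).symm) (mem_centralizer_iff.1 hc), fun c hc => ?_⟩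
  · obtain ⟨w, hw, -, -, hZ⟩ := Trans3.exists_centre_gen hQ
    have hm : z ∈ zpowers w := hZ ▸ ⟨⟨z, hzQ⟩, mem_center_iff.2 fun b =>
      Subtype.ext (mem_centralizer_singleton_iff.1 (hQC b.2)), rfl⟩
    rcases Trans3.mem_zpowers_invol hw hm with e | e
    · exact absurd e (Trans3.invol_ne_one hz)
    · rw [hZ, e]
  · have := Comp.generalizedFittingSubgroup_normal ↥(centralizer ({z} : Set G))
    refine mem_normalizer_iff_map_conj_eq.2 (eq_of_le_of_card_ge ?_ (le_of_eq
      (card_map_of_injective (MulEquiv.injective _)).symm))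
    conv_lhs => rw [← hF]
    rintro _ ⟨_, ⟨y, hy, rfl⟩, rfl⟩
    rw [← hF]
    exact ⟨⟨c, hc⟩ * y * ⟨c, hc⟩⁻¹, this.conj_mem y hy _, rfl⟩

/-- Simplicity, when the centraliser of the involution lies in the normal closure. -/
theorem Pack.isSimpleGroup (h : Pack Q z) (hQ : Cfsg.IsLargeExtraspecial Q)
    (hQC : Q ≤ centralizer ({z} : Set G))
    (hle : centralizer ({z} : Set G) ≤ normalClosure ({z} : Set G)) : IsSimpleGroup G := by
  by_cases hP : Cfsg.pCore 2 G = ⊥
  · obtain ⟨N, T, hN, hT, hzN, hC, hMN, hF⟩ := h.exists_socle hQ hP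
    obtain ⟨-, htrans⟩ := h.factor_transitive hQ hT hC
    rw [hMN] at hle
    have hTN : T = N := le_antisymm hT.le (by
      rw [← hT.iSup_eq]
      refine iSup_le fun g => ?_
      obtain ⟨q, hq, e⟩ := htrans g
      rw [e]
      exact (mem_normalizer_iff_map_conj_eq.1 (hT.le_normalizer (hle (hQC hq)))).le)
    have htop : N = ⊤ := by
      have h1 := Trans3.large_frattini hQ N (hQC.trans hle)
      rwa [sup_eq_left.2] at h1
      intro a ha
      exact hle (mem_centralizer_singleton_iff.2 (mul_inv_eq_iff_eq_mul.1 (h.conj_z ha)))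
    have := hT.simple
    rw [hTN, htop] at this
    have : Nontrivial G := ⟨z, 1, h.z_ne⟩
    exact IsSimpleGroup.isSimpleGroup_of_surjective (Subgroup.topEquiv (G := G)).toMonoidHom
      (Subgroup.topEquiv (G := G)).surjective
  · exfalso
    obtain ⟨hab, -⟩ := h.two_core_case hQ hP
    obtain ⟨a, ha, b, hb, hab'⟩ : ∃ a ∈ Q, ∃ b ∈ Q, a * b ≠ b * a := by
      by_contra hn
      push Not at hn
      have : center ↥Q = ⊤ :=
        eq_top_iff.2 fun q _ => mem_center_iff.2 fun r => Subtype.ext (hn r r.2 q q.2)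
      have h1 : Nat.card ↥Q = 2 := by rw [← h.ext.2, this, card_top]
      rcases h.eight_le with e | e <;> omega
    exact hab' (congrArg Subtype.val (hab.is_comm.comm (⟨a, hle (hQC ha)⟩ : ↥(normalClosure ({z} : Set G)))
      ⟨b, hle (hQC hb)⟩))

end CfsgLib.PLocal.LargeExtra
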