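import Cfsg.Agent.Lib.PLocal.LargeExtraPairQuot

/-!
The 2-core of `⟨Q, T⟩`, its quotient, and the normaliser of the four-group.
-/

set_option autoImplicit false

namespace CfsgLib.PLocal.LargeExtra

open Subgroup

variable {G : Type*} [Group G] [Finite G]

namespace Pair

variable {Q T : Subgroup G} {z x : G} (P : Pair Q T z x)
include P

theorem isPGroup_rad :
    IsPGroup 2 ↥((T ⊓ centralizer ({z} : Set G)) ⊔ (Q ⊓ centralizer ({x} : Set G))) := by
  refine IsPGroup.to_sup_of_normal_right' (P.right.ext.1.1.to_le inf_le_left)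
    (P.left.ext.1.1.to_le inf_le_left) fun c hc => ?_
  have hcz := mem_centralizer_singleton_iff.1 hc.2
  have hcx := P.right.comm_z hc.1
  refine mem_normalizer_iff_map_conj_eq.2 (eq_of_le_of_card_ge ?_ (le_of_eq
    (card_map_of_injective (MulEquiv.injective _)).symm))
  rintro _ ⟨a, ⟨ha, hax⟩, rfl⟩
  refine ⟨P.conj_mem_left hcz ha, mem_centralizer_singleton_iff.2 ?_⟩
  show c * a * c⁻¹ * x = x * (c * a * c⁻¹)
  have hcx' : c⁻¹ * x = x * c⁻¹ := ((show Commute c x from hcx).inv_left).eq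
  rw [mul_assoc _ c⁻¹, hcx', ← mul_assoc, mul_assoc c a,
    mem_centralizer_singleton_iff.1 hax, ← mul_assoc, hcx]
  simp [mul_assoc]

theorem exists_quotient_hom : ∃ φ : ↥(Q ⊔ T) →* Equiv.Perm (Fin 3), Function.Surjective φ ∧
    φ.ker = ((T ⊓ centralizer ({z} : Set G)) ⊔ (Q ⊓ centralizer ({x} : Set G))).subgroupOf
      (Q ⊔ T) := by
  obtain ⟨q, hq, r, hr, hqz, hqx, hrx, hrz⟩ := P.exists_movers
  obtain ⟨φ, hφ, hker⟩ := exists_perm_hom P.hz2 P.hx2 P.comm P.left.z_ne P.right.z_ne P.ne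
    P.le_normalizer_four (mem_sup_left hq) (mem_sup_right hr) hqz hqx hrx hrz
  refine ⟨φ, hφ, ?_⟩
  rw [hker, P.rad_eq]
  ext y
  simp [mem_subgroupOf, y.2]

theorem rad_eq_core : (T ⊓ centralizer ({z} : Set G)) ⊔ (Q ⊓ centralizer ({x} : Set G)) =
    (Cfsg.pCore 2 ↥(Q ⊔ T)).map (Q ⊔ T).subtype := by
  refine le_antisymm (Amalgam.le_pCoreOf (H := Q ⊔ T) (P.rad_le.trans inf_le_left)
    P.le_normalizer_rad P.isPGroup_rad) ?_
  obtain ⟨φ, hφ, hker⟩ := P.exists_quotient_hom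
  rintro _ ⟨y, hy, rfl⟩
  suffices φ y = 1 by
    rw [← MonoidHom.mem_ker, hker] at this
    exact this
  by_contra hne
  have hN : ((Cfsg.pCore 2 ↥(Q ⊔ T)).map φ).Normal :=
    (Amalgam.normal_pCore (p := 2)).map φ hφ
  have key : ∀ σ : Equiv.Perm (Fin 3), σ ≠ 1 → ∃ τ : Equiv.Perm (Fin 3),
      (σ * (τ * σ * τ⁻¹)) * (σ * (τ * σ * τ⁻¹)) * (σ * (τ * σ * τ⁻¹)) = 1 ∧
        σ * (τ * σ * τ⁻¹) ≠ 1 := by decide +kernel
  obtain ⟨τ, h3, h1⟩ := key _ hne
  have hm : φ y * (τ * φ y * τ⁻¹) ∈ (Cfsg.pCore 2 ↥(Q ⊔ T)).map φ :=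
    mul_mem ⟨y, hy, rfl⟩ (hN.conj_mem _ ⟨y, hy, rfl⟩ τ)
  obtain ⟨n, hn⟩ := (Amalgam.isPGroup_pCore.map φ) ⟨_, hm⟩
  have d1 := orderOf_dvd_of_pow_eq_one (congrArg Subtype.val hn)
  have d2 : orderOf (φ y * (τ * φ y * τ⁻¹)) ∣ 3 :=
    orderOf_dvd_of_pow_eq_one (by rw [pow_succ, pow_two]; exact h3)
  exact h1 (orderOf_eq_one_iff.1
    (Nat.eq_one_of_dvd_coprimes (Nat.Coprime.pow_left n (by norm_num : Nat.Coprime 2 3)) d1 d2))

theorem centralizer_le : centralizer ((closure ({z, x} : Set G) : Subgroup G) : Set G) ≤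
    normalizer ((Q ⊔ T : Subgroup G) : Set G) := by
  intro c hc
  obtain ⟨hcz, hcx⟩ := mem_centralizer_four.1 hc
  refine mem_normalizer_iff_map_conj_eq.2 ?_
  rw [Subgroup.map_sup,
    mem_normalizer_iff_map_conj_eq.1 (P.left.norm (mem_centralizer_singleton_iff.2 hcz)),
    mem_normalizer_iff_map_conj_eq.1 (P.right.norm (mem_centralizer_singleton_iff.2 hcx))]

theorem normalizer_four :
    normalizer ((closure ({z, x} : Set G) : Subgroup G) : Set G) =
      (Q ⊔ T) ⊔ centralizer ((closure ({z, x} : Set G) : Subgroup G) : Set G) := by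
  refine le_antisymm (fun y hy => ?_) (sup_le P.le_normalizer_four fun c hc => ?_)
  · obtain ⟨q, hq, r, hr, hqz, hqx, hrx, hrz⟩ := P.exists_movers
    have hm := mem_four (y := y * z * y⁻¹) P.hz2 P.hx2 P.comm
    have hy1 := hm.1 ((mem_normalizer_iff.1 hy z).1 (subset_closure (by simp)))
    have hqzx : q * (z * x) * q⁻¹ = x := by
      rw [show q * (z * x) * q⁻¹ = q * z * q⁻¹ * (q * x * q⁻¹) by group, hqz, hqx, ← mul_assoc,
        P.hz2, one_mul]
    obtain ⟨m, hm', hmz⟩ : ∃ m ∈ Q ⊔ T, m * z * m⁻¹ = y * z * y⁻¹ := by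
      rcases hy1 with e | e | e | e
      · exact absurd (conj_eq_one_iff.1 e) P.left.z_ne
      · exact ⟨1, one_mem _, by rw [e]; group⟩
      · refine ⟨q * r, mul_mem (mem_sup_left hq) (mem_sup_right hr), ?_⟩
        rw [e, show q * r * z * (q * r)⁻¹ = q * (r * z * r⁻¹) * q⁻¹ by group, hrz, hqzx]
      · exact ⟨r, mem_sup_right hr, by rw [e, hrz]⟩
    have hn : m⁻¹ * y ∈ normalizer ((closure ({z, x} : Set G) : Subgroup G) : Set G) :=
      mul_mem (inv_mem (P.le_normalizer_four hm')) hy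
    obtain ⟨n, hn_def⟩ : ∃ n, n = m⁻¹ * y := ⟨_, rfl⟩
    rw [← hn_def] at hn
    have hnz : n * z * n⁻¹ = z := by
      rw [hn_def, show m⁻¹ * y * z * (m⁻¹ * y)⁻¹ = m⁻¹ * (y * z * y⁻¹) * m by group, ← hmz]; group
    have hyn : y = m * n := by rw [hn_def]; group
    rcases (mem_four P.hz2 P.hx2 P.comm).1
      ((mem_normalizer_iff.1 hn x).1 (subset_closure (by simp))) with e | e | e | e
    · exact absurd (conj_eq_one_iff.1 e) P.right.z_ne
    · exact absurd ((MulAut.conj n).injective (show MulAut.conj n x = MulAut.conj n z from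
        e.trans hnz.symm)) P.ne
    · rw [hyn]
      exact mul_mem (mem_sup_left hm') (mem_sup_right (mem_centralizer_four.2
        ⟨mul_inv_eq_iff_eq_mul.1 hnz, mul_inv_eq_iff_eq_mul.1 e⟩))
    · rw [hyn, show m * n = m * q * (q⁻¹ * n) by group]
      refine mul_mem (mem_sup_left (mul_mem hm' (mem_sup_left hq))) (mem_sup_right
        (mem_centralizer_four.2 ⟨mul_inv_eq_iff_eq_mul.1 ?_, mul_inv_eq_iff_eq_mul.1 ?_⟩))
      · rw [show q⁻¹ * n * z * (q⁻¹ * n)⁻¹ = q⁻¹ * (n * z * n⁻¹) * q by group, hnz]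
        conv_lhs => rw [← hqz]
        group
      · rw [show q⁻¹ * n * x * (q⁻¹ * n)⁻¹ = q⁻¹ * (n * x * n⁻¹) * q by group, e, ← hqx]
        group
  · have := mem_centralizer_iff.1 hc
    refine mem_normalizer_iff.2 fun v => ⟨fun hv => ?_, fun hv => ?_⟩
    · have e : c * v * c⁻¹ = v := by rw [← this v hv, mul_inv_cancel_right]
      rwa [e]
    · have e := this _ hv
      rw [show c * v * c⁻¹ * c = c * v by group] at e
      have e' : c * v * c⁻¹ = v := mul_left_cancel (a := c) e.symm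
      rwa [e'] at hv

theorem le_normalizer_pair : normalizer ((closure ({z, x} : Set G) : Subgroup G) : Set G) ≤
    normalizer ((Q ⊔ T : Subgroup G) : Set G) := by
  rw [P.normalizer_four]
  exact sup_le Subgroup.le_normalizer P.centralizer_le

theorem commutator_mem_rad {y c : G} (hy : y ∈ Q ⊔ T)
    (hc : c ∈ centralizer ((closure ({z, x} : Set G) : Subgroup G) : Set G)) :
    y * c * y⁻¹ * c⁻¹ ∈
      (T ⊓ centralizer ({z} : Set G)) ⊔ (Q ⊓ centralizer ({x} : Set G)) := by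
  rw [P.rad_eq]
  refine mem_inf.2 ⟨?_, mul_mem (mem_centralizer_iff.2 fun v hv => ?_) (inv_mem hc)⟩
  · rw [show y * c * y⁻¹ * c⁻¹ = y * (c * y⁻¹ * c⁻¹) by group]
    exact mul_mem hy ((mem_normalizer_iff.1 (P.centralizer_le hc) _).1 (inv_mem hy))
  · have hv' : y⁻¹ * v * y ∈ closure ({z, x} : Set G) := by
      simpa using (mem_normalizer_iff.1 (inv_mem (P.le_normalizer_four hy)) v).1 hv
    have := mem_centralizer_iff.1 hc _ hv'
    calc v * (y * c * y⁻¹) = y * (y⁻¹ * v * y * c) * y⁻¹ := by group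
      _ = y * c * y⁻¹ * v := by rw [this]; group

end Pair

theorem pack_of_large {Q : Subgroup G} (hQ : Cfsg.IsLargeExtraspecial Q) {z : G}
    (hz : (center ↥Q).map Q.subtype = zpowers z) (hz2 : orderOf z = 2) : Pack Q z := by
  refine ⟨hQ.1, hz2, hz, hQ.2.1 ▸ map_subtype_le _, ?_⟩
  have := hQ.2.2.1
  rwa [hz, Trans3.centralizer_zpowers] at this

end CfsgLib.PLocal.LargeExtra
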