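import Cfsg.Prelude.Def_Transfer
import Cfsg.Agent.Lib.PLocal.LargeExtraPairCore

/-!
The radical of a pair: its centre is the four-group, `Q ⊓ T` lies in the second centre, class at most three.
-/

set_option autoImplicit false

namespace CfsgLib.PLocal.LargeExtra

open Subgroup
open scoped commutatorElement

variable {G : Type*} [Group G] [Finite G]

namespace Pair

variable {Q T : Subgroup G} {z x : G} (P : Pair Q T z x)
include P

theorem inf_eq : (T ⊓ centralizer ({z} : Set G)) ⊓ (Q ⊓ centralizer ({x} : Set G)) = Q ⊓ T := by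
  refine le_antisymm (fun y hy => ⟨hy.2.1, hy.1.1⟩) fun y hy =>
    ⟨⟨hy.2, mem_centralizer_singleton_iff.2 (P.left.comm_z hy.1)⟩,
      ⟨hy.1, mem_centralizer_singleton_iff.2 (P.right.comm_z hy.2)⟩⟩

theorem elementary : Cfsg.IsElementaryAbelian 2 (Q ⊓ T) := by
  refine ⟨⟨⟨fun a b => Subtype.ext ?_⟩⟩, fun a ha => ?_⟩
  · rcases P.left.comm_cases a.2.1 b.2.1 with e | e
    · exact mul_inv_eq_iff_eq_mul.1 (mul_inv_eq_one.1 e)
    · rcases P.right.comm_cases a.2.2 b.2.2 with e' | e'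
      · exact mul_inv_eq_iff_eq_mul.1 (mul_inv_eq_one.1 e')
      · exact absurd (e'.symm.trans e) P.ne
  · rw [pow_two]
    rcases P.left.sq_cases ha.1 with e | e
    · exact e
    · rcases P.right.sq_cases ha.2 with e' | e'
      · exact e'
      · exact absurd (e'.symm.trans e) P.ne

theorem four_le : closure ({z, x} : Set G) ≤ Q ⊓ T := by
  rw [closure_le]
  rintro y (rfl | rfl)
  exacts [⟨P.left.mem, P.zmem⟩, ⟨P.xmem, P.right.mem⟩]

theorem conj_mem_four {y v : G} (hy : y ∈ Q ⊔ T) (hv : v ∈ closure ({z, x} : Set G)) :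
    y * v * y⁻¹ ∈ closure ({z, x} : Set G) :=
  (mem_normalizer_iff.1 (P.le_normalizer_four hy) v).1 hv

theorem commutator_four {e y : G} (he : e ∈ Q ⊓ T) (hy : y ∈ Q ⊔ T) :
    y * e * y⁻¹ * e⁻¹ ∈ closure ({z, x} : Set G) := by
  have hy' : y ∈ closure ((Q : Set G) ∪ T) := by rwa [Subgroup.closure_union, closure_eq, closure_eq]
  suffices key : ∀ w ∈ closure ((Q : Set G) ∪ T),
      w ∈ Q ⊔ T ∧ w * e * w⁻¹ * e⁻¹ ∈ closure ({z, x} : Set G) from (key y hy').2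
  intro w hw
  induction hw using closure_induction with
  | mem w hw =>
    rcases hw with hw | hw
    · refine ⟨mem_sup_left hw, ?_⟩
      rcases P.left.comm_cases hw he.1 with e' | e' <;> rw [e']
      exacts [one_mem _, subset_closure (by simp)]
    · refine ⟨mem_sup_right hw, ?_⟩
      rcases P.right.comm_cases hw he.2 with e' | e' <;> rw [e']
      exacts [one_mem _, subset_closure (by simp)]
  | one => exact ⟨one_mem _, by simp⟩
  | mul a b _ _ ha hb =>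
    refine ⟨mul_mem ha.1 hb.1, ?_⟩
    rw [show a * b * e * (a * b)⁻¹ * e⁻¹ = a * (b * e * b⁻¹ * e⁻¹) * a⁻¹ * (a * e * a⁻¹ * e⁻¹) by
      group]
    exact mul_mem (P.conj_mem_four ha.1 hb.2) ha.2
  | inv a _ ha =>
    refine ⟨inv_mem ha.1, ?_⟩
    rw [show a⁻¹ * e * a⁻¹⁻¹ * e⁻¹ = a⁻¹ * (a * e * a⁻¹ * e⁻¹)⁻¹ * a⁻¹⁻¹ by group]
    exact P.conj_mem_four (inv_mem ha.1) (inv_mem ha.2)

theorem commutator_inter_le : ⁅Q ⊔ T, Q ⊓ T⁆ ≤ closure ({z, x} : Set G) :=
  Subgroup.commutator_le.2 fun y hy e he => by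
    rw [commutatorElement_def]
    exact P.commutator_four he hy

theorem center_eq :
    (center ↥((T ⊓ centralizer ({z} : Set G)) ⊔ (Q ⊓ centralizer ({x} : Set G)))).map
      ((T ⊓ centralizer ({z} : Set G)) ⊔ (Q ⊓ centralizer ({x} : Set G))).subtype =
      closure ({z, x} : Set G) := by
  refine le_antisymm ?_ ?_
  · rintro _ ⟨c, hc, rfl⟩
    refine (mem_four P.hz2 P.hx2 P.comm).2 (P.left.eq_of_fix P.xmem ⟨P.right.z_ne, P.ne⟩ P.hx2
      (mem_centralizer_four.1 (P.rad_le c.2).2).1 fun p hp hpx => ?_)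
    exact congrArg Subtype.val
      (mem_center_iff.1 hc ⟨p, mem_sup_right ⟨hp, mem_centralizer_singleton_iff.2 hpx⟩⟩).symm
  · rw [closure_le]
    rintro y (rfl | rfl)
    · exact ⟨⟨y, mem_sup_right P.zmem_left⟩, mem_center_iff.2 fun a => Subtype.ext
        (mem_centralizer_four.1 (P.rad_le a.2).2).1, rfl⟩
    · exact ⟨⟨y, mem_sup_left P.xmem_right⟩, mem_center_iff.2 fun a => Subtype.ext
        (mem_centralizer_four.1 (P.rad_le a.2).2).2, rfl⟩

theorem rad_quotient {y w : G}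
    (hy : y ∈ (T ⊓ centralizer ({z} : Set G)) ⊔ (Q ⊓ centralizer ({x} : Set G)))
    (hw : w ∈ (T ⊓ centralizer ({z} : Set G)) ⊔ (Q ⊓ centralizer ({x} : Set G))) :
    y * w * y⁻¹ * w⁻¹ ∈ Q ⊓ T ∧ y ^ 2 ∈ Q ⊓ T := by
  obtain ⟨R, hR⟩ : ∃ R, R = (T ⊓ centralizer ({z} : Set G)) ⊔ (Q ⊓ centralizer ({x} : Set G)) :=
    ⟨_, rfl⟩
  rw [← hR] at hy hw
  have hEn : R ≤ normalizer ((Q ⊓ T : Subgroup G) : Set G) := by
    intro c hc
    have hc' := P.rad_le (hR ▸ hc)
    obtain ⟨hcz, hcx⟩ := mem_centralizer_four.1 hc'.2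
    refine mem_normalizer_iff_map_conj_eq.2 ?_
    rw [Subgroup.map_inf _ _ _ (MulEquiv.injective _),
      mem_normalizer_iff_map_conj_eq.1 (P.left.norm (mem_centralizer_singleton_iff.2 hcz)),
      mem_normalizer_iff_map_conj_eq.1 (P.right.norm (mem_centralizer_singleton_iff.2 hcx))]
  have hER : Q ⊓ T ≤ R := by
    intro e he
    rw [hR]
    exact mem_sup_right ⟨he.1, mem_centralizer_singleton_iff.2 (P.right.comm_z he.2)⟩
  have : ((Q ⊓ T).subgroupOf R).Normal := (normal_subgroupOf_iff_le_normalizer hER).2 hEn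
  obtain ⟨π, hπ⟩ : ∃ π : ↥R →* ↥R ⧸ (Q ⊓ T).subgroupOf R, ∀ u, π u = 1 ↔ (u : G) ∈ Q ⊓ T :=
    ⟨QuotientGroup.mk' _, fun u => by
      rw [QuotientGroup.mk'_apply, QuotientGroup.eq_one_iff, mem_subgroupOf]⟩
  have hAz : ∀ {c}, c ∈ Q → c * x = x * c → c * z = z * c := fun hc _ => P.left.comm_z hc
  -- generators commute modulo `Q ⊓ T`
  have gen : ∀ u v : ↥R, ((u : G) ∈ T ⊓ centralizer ({z} : Set G) ∨
      (u : G) ∈ Q ⊓ centralizer ({x} : Set G)) → ((v : G) ∈ T ⊓ centralizer ({z} : Set G) ∨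
      (v : G) ∈ Q ⊓ centralizer ({x} : Set G)) →
      π u * π v = π v * π u ∧ π u * π u = 1 := by
    intro u v hu hv
    have key : ∀ {a b : G}, a ∈ T ⊓ centralizer ({z} : Set G) →
        b ∈ Q ⊓ centralizer ({x} : Set G) → a * b * a⁻¹ * b⁻¹ ∈ Q ⊓ T := by
      intro a b ha hb
      refine mem_inf.2 ⟨mul_mem (P.conj_mem_left (mem_centralizer_singleton_iff.1 ha.2) hb.1) (inv_mem hb.1), ?_⟩
      rw [show a * b * a⁻¹ * b⁻¹ = a * (b * a⁻¹ * b⁻¹) by group]
      exact mul_mem ha.1 (P.conj_mem_right (mem_centralizer_singleton_iff.1 hb.2) (inv_mem ha.1))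
    have hfour : ∀ {a : G}, a = 1 ∨ a = z ∨ a = x → a ∈ Q ⊓ T := fun h =>
      P.four_le ((mem_four P.hz2 P.hx2 P.comm).2 (by tauto))
    constructor
    · rw [← mul_inv_eq_iff_eq_mul, ← mul_inv_eq_one, ← map_inv, ← map_inv, ← map_mul, ← map_mul,
        ← map_mul, hπ]
      show (u : G) * v * (u : G)⁻¹ * (v : G)⁻¹ ∈ Q ⊓ T
      rcases hu with hu | hu <;> rcases hv with hv | hv
      · rcases P.right.comm_cases hu.1 hv.1 with e | e <;> rw [e] <;> exact hfour (by tauto)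
      · exact key hu hv
      · have := inv_mem (key hv hu)
        rwa [show ((v : G) * u * (v : G)⁻¹ * (u : G)⁻¹)⁻¹ = u * v * (u : G)⁻¹ * (v : G)⁻¹ by group]
          at this
      · rcases P.left.comm_cases hu.1 hv.1 with e | e <;> rw [e] <;> exact hfour (by tauto)
    · rw [← map_mul, hπ, coe_mul]
      rcases hu with hu | hu
      · rcases P.right.sq_cases hu.1 with e | e <;> rw [e] <;> exact hfour (by tauto)
      · rcases P.left.sq_cases hu.1 with e | e <;> rw [e] <;> exact hfour (by tauto)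
  have form : ∀ u : ↥R, ∃ b a : ↥R, ((b : G) ∈ T ⊓ centralizer ({z} : Set G)) ∧
      ((a : G) ∈ Q ⊓ centralizer ({x} : Set G)) ∧ π u = π b * π a := by
    intro u
    obtain ⟨b, hb, a, ha, e⟩ := P.mem_rad (hR.le u.2)
    refine ⟨⟨b, hR ▸ mem_sup_left hb⟩, ⟨a, hR ▸ mem_sup_right ha⟩, hb, ha, ?_⟩
    rw [← map_mul]
    exact congrArg π (Subtype.ext e.symm)
  obtain ⟨b, a, hb, ha, e⟩ := form ⟨y, hy⟩
  obtain ⟨b', a', hb', ha', e'⟩ := form ⟨w, hw⟩
  have c1 : Commute (π b) (π b') := (gen b b' (.inl hb) (.inl hb')).1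
  have c2 : Commute (π b) (π a') := (gen b a' (.inl hb) (.inr ha')).1
  have c3 : Commute (π a) (π b') := (gen a b' (.inr ha) (.inl hb')).1
  have c4 : Commute (π a) (π a') := (gen a a' (.inr ha) (.inr ha')).1
  have c5 : Commute (π a) (π b) := (gen a b (.inr ha) (.inl hb)).1
  constructor
  · have h' : π ⟨y, hy⟩ * π ⟨w, hw⟩ * (π ⟨y, hy⟩)⁻¹ * (π ⟨w, hw⟩)⁻¹ = 1 := by
      rw [e, e', mul_inv_eq_one, mul_inv_eq_iff_eq_mul]
      exact ((c1.mul_right c2).mul_left (c3.mul_right c4)).eq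
    rw [← map_inv, ← map_inv, ← map_mul, ← map_mul, ← map_mul, hπ] at h'
    exact h'
  · have h' : π ⟨y, hy⟩ * π ⟨y, hy⟩ = 1 := by
      rw [e, mul_assoc, ← mul_assoc (π a), c5.eq, mul_assoc, (gen a a (.inr ha) (.inr ha)).2, mul_one,
        (gen b b (.inl hb) (.inl hb)).2]
    rw [← map_mul, hπ] at h'
    rwa [pow_two]

theorem series :
    Q ⊓ T ≤ (Subgroup.upperCentralSeries ↥((T ⊓ centralizer ({z} : Set G)) ⊔
      (Q ⊓ centralizer ({x} : Set G))) 2).map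
        ((T ⊓ centralizer ({z} : Set G)) ⊔ (Q ⊓ centralizer ({x} : Set G))).subtype ∧
    Subgroup.upperCentralSeries ↥((T ⊓ centralizer ({z} : Set G)) ⊔
      (Q ⊓ centralizer ({x} : Set G))) 3 = ⊤ := by
  obtain ⟨R, hR⟩ : ∃ R, R = (T ⊓ centralizer ({z} : Set G)) ⊔ (Q ⊓ centralizer ({x} : Set G)) :=
    ⟨_, rfl⟩
  have hc : (center ↥R).map R.subtype = closure ({z, x} : Set G) := hR ▸ P.center_eq
  have hrq : ∀ {y w}, y ∈ R → w ∈ R → y * w * y⁻¹ * w⁻¹ ∈ Q ⊓ T := fun hy hw =>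
    (P.rad_quotient (hR.le hy) (hR.le hw)).1
  have h2 : ∀ u : ↥R, (u : G) ∈ Q ⊓ T → u ∈ Subgroup.upperCentralSeries ↥R 2 := by
    intro u hu
    refine Subgroup.mem_upperCentralSeries_succ_iff.2 fun w => ?_
    rw [Subgroup.upperCentralSeries_one]
    have hw : (w : G) ∈ Q ⊔ T := by
      have := P.rad_le (hR.le w.2)
      exact this.1
    have := inv_mem (P.commutator_four hu hw)
    rw [← hc] at this
    obtain ⟨c, hcc, e⟩ := this
    have : c = ⁅u, w⁆ := Subtype.ext (e.trans (by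
      rw [commutatorElement_def]; push_cast; group))
    exact this ▸ hcc
  rw [← hR]
  refine ⟨fun e he => ⟨⟨e, hR ▸ mem_sup_right ⟨he.1, mem_centralizer_singleton_iff.2
    (P.right.comm_z he.2)⟩⟩, h2 _ he, rfl⟩, eq_top_iff.2 fun u _ => ?_⟩
  refine Subgroup.mem_upperCentralSeries_succ_iff.2 fun w => h2 _ ?_
  rw [commutatorElement_def]
  exact hrq u.2 w.2

end Pair

end CfsgLib.PLocal.LargeExtra
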