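import Cfsg.Agent.Lib.PLocal.LargeExtraConj

/-!
Singular subgroups for a self-centralising extraspecial `O₂(C(z))`: the join of the radicals induces
the full automorphism group, and acts trivially on the intersection modulo the subgroup.
-/

set_option autoImplicit false

namespace CfsgLib.PLocal.LargeExtra

open Subgroup

variable {G : Type*} [Group G]

theorem map_centralizer_singleton (g x : G) :
    (centralizer ({x} : Set G)).map (MulAut.conj g).toMonoidHom =
      centralizer ({g * x * g⁻¹} : Set G) := by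
  ext y
  constructor
  · rintro ⟨c, hc, rfl⟩
    refine mem_centralizer_singleton_iff.2 ?_
    show g * c * g⁻¹ * (g * x * g⁻¹) = g * x * g⁻¹ * (g * c * g⁻¹)
    calc g * c * g⁻¹ * (g * x * g⁻¹) = g * (c * x) * g⁻¹ := by group
      _ = g * x * g⁻¹ * (g * c * g⁻¹) := by rw [mem_centralizer_singleton_iff.1 hc]; group
  · intro hy
    refine ⟨g⁻¹ * y * g, mem_centralizer_singleton_iff.2 ?_, by
      show g * (g⁻¹ * y * g) * g⁻¹ = y; group⟩
    calc g⁻¹ * y * g * x = g⁻¹ * (y * (g * x * g⁻¹)) * g := by group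
      _ = x * (g⁻¹ * y * g) := by rw [mem_centralizer_singleton_iff.1 hy]; group

variable [Finite G]

/-- The two-cores `Q x` of the involution centralisers form a system of packs. -/
theorem pack_of_core (Q : G → Subgroup G)
    (hQ : ∀ x : G, Q x = (Cfsg.pCore 2 ↥(centralizer ({x} : Set G))).map
      (centralizer ({x} : Set G)).subtype)
    (z : G) (hz : orderOf z = 2) (hE : Cfsg.IsExtraspecial 2 ↥(Q z))
    (hC : centralizer ((Q z : Subgroup G) : Set G) ≤ Q z) :
    Pack (Q z) z ∧ ∀ g x, Q (g * x * g⁻¹) = (Q x).map (MulAut.conj g).toMonoidHom := by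
  have hQ' : ∀ x, Q x = Cfsg.pCoreOf 2 (centralizer ({x} : Set G)) := hQ
  refine ⟨⟨hE, hz, ?_, hC, ?_⟩, fun g x => ?_⟩
  · obtain ⟨w, hw, -, -, hZ⟩ := Trans3.exists_centre_gen hE
    have hle : Q z ≤ centralizer ({z} : Set G) := hQ' z ▸ Amalgam.pCoreOf_le _
    have hzQ : z ∈ Q z := hC fun q hq => mem_centralizer_singleton_iff.1 (hle hq)
    have hzc : (⟨z, hzQ⟩ : ↥(Q z)) ∈ center ↥(Q z) :=
      mem_center_iff.2 fun b => Subtype.ext (mem_centralizer_singleton_iff.1 (hle b.2))
    have hm : z ∈ zpowers w := hZ ▸ ⟨_, hzc, rfl⟩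
    rcases Trans3.mem_zpowers_invol hw hm with e | e
    · exact absurd e (Trans3.invol_ne_one hz)
    · rw [hZ, e]
  · rw [hQ' z]; exact Amalgam.le_normalizer_pCoreOf _
  · rw [hQ', hQ', ← map_centralizer_singleton,
      Amalgam.pCoreOf_map _ (MulEquiv.injective _)]

namespace Pack

variable {P : Subgroup G} {u : G} (h : Pack P u)
include h

/-- An element commuting with all that commutes with a finite set is in the span of that set. -/
theorem double_centralizer (T : Finset G) (hT : ∀ t ∈ T, t ∈ P) :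
    ∀ c ∈ P, (∀ q ∈ P, (∀ t ∈ T, q * t = t * q) → q * c = c * q) →
      c ∈ closure (insert u (T : Set G)) := by
  classical
  induction T using Finset.induction with
  | empty =>
    intro c hc hcomm
    rcases h.eq_of_central hc fun b hb => (hcomm b hb (by simp)).symm with e | e <;> rw [e]
    · exact one_mem _
    · exact subset_closure (by simp)
  | @insert w T _ ih =>
    intro c hc hcomm
    have hw : w ∈ P := hT w (Finset.mem_insert_self _ _)
    have hT' : ∀ t ∈ T, t ∈ P := fun t ht => hT t (Finset.mem_insert_of_mem ht)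
    have hsub : closure (insert u (T : Set G)) ≤ closure (insert u ((insert w T : Finset G) : Set G)) :=
      closure_mono (by rw [Finset.coe_insert]; exact Set.insert_subset_insert (Set.subset_insert _ _))
    have hins : ∀ {q}, (∀ t ∈ T, q * t = t * q) → q * w = w * q →
        ∀ t ∈ insert w T, q * t = t * q := fun h1 h2 =>
      (Finset.forall_mem_insert w T _).2 ⟨h2, h1⟩
    by_cases hall : ∀ q ∈ P, (∀ t ∈ T, q * t = t * q) → q * c = c * q
    · exact hsub (ih hT' c hc hall)
    push Not at hall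
    obtain ⟨q, hq, hqT, hqc⟩ := hall
    have hqw : q * w ≠ w * q := fun e => hqc (hcomm q hq (hins hqT e))
    have hcw : c * w ∈ closure (insert u (T : Set G)) := by
      refine ih hT' _ (mul_mem hc hw) fun p hp hpT => ?_
      by_cases hpw : p * w = w * p
      · rw [← mul_assoc, hcomm p hp (hins hpT hpw), mul_assoc, hpw, mul_assoc]
      · have hqp : q * p * c = c * (q * p) :=
          hcomm _ (mul_mem hq hp) (hins (fun t ht => by
            rw [mul_assoc, hpT t ht, ← mul_assoc, hqT t ht, mul_assoc]) (h.mul_commute hq hp hw hqw hpw))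
        have hpc : p * c ≠ c * p := fun e => hqc (mul_right_cancel (b := p) (by
          calc q * c * p = q * p * c := by rw [mul_assoc, ← e, mul_assoc]
            _ = c * q * p := by rw [hqp, mul_assoc]))
        exact (h.mul_commute hc hw hp (fun e => hpc e.symm) (fun e => hpw e.symm)).symm
    have hw' : w ∈ closure (insert u ((insert w T : Finset G) : Set G)) :=
      subset_closure (by simp)
    simpa using mul_mem (hsub hcw) (inv_mem hw')

/-- Outside a subgroup containing `u` some element centralises the subgroup but not the point. -/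
theorem exists_separating {W : Subgroup G} (hW : W ≤ P) (hu : u ∈ W) {w : G} (hw : w ∈ P)
    (hwW : w ∉ W) : ∃ q ∈ P, (∀ t ∈ W, q * t = t * q) ∧ q * w * q⁻¹ = u * w := by
  classical
  by_contra hn
  push Not at hn
  have := h.double_centralizer (Set.toFinite (W : Set G)).toFinset
    (fun t ht => hW (by simpa using ht)) w hw fun q hq hqW => by
      by_contra hne
      exact hn q hq (fun t ht => hqW t (by simpa using ht)) (h.conj_of_not_commute hq hw hne)
  refine hwW (closure_le W |>.2 ?_ this)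
  rintro t (rfl | ht)
  · exact hu
  · simpa using ht

end Pack

/-- A singular subgroup for the family of radicals `Q`. -/
structure Sing (Q : G → Subgroup G) (U : Subgroup G) : Prop where
  pack : ∀ u ∈ U, u ≠ 1 → Pack (Q u) u
  conj : ∀ g x, Q (g * x * g⁻¹) = (Q x).map (MulAut.conj g).toMonoidHom
  sq : ∀ u ∈ U, u * u = 1
  orth : ∀ u ∈ U, ∀ v ∈ U, u ≠ 1 → v ≠ 1 → v ∈ Q u

theorem sing_of (Q : G → Subgroup G)
    (hQ : ∀ x : G, Q x = (Cfsg.pCore 2 ↥(centralizer ({x} : Set G))).map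
      (centralizer ({x} : Set G)).subtype)
    (z : G) (hz : orderOf z = 2) (hE : Cfsg.IsExtraspecial 2 ↥(Q z))
    (hC : centralizer ((Q z : Subgroup G) : Set G) ≤ Q z)
    (U : Subgroup G) (hU2 : ∀ u ∈ U, u * u = 1)
    (hS : ∀ u ∈ U, u ≠ 1 → ∃ g : G, g * z * g⁻¹ = u)
    (hO : ∀ u ∈ U, ∀ v ∈ U, u ≠ 1 → v ≠ 1 → v ∈ Q u) : Sing Q U := by
  obtain ⟨hP, hconj⟩ := pack_of_core Q hQ z hz hE hC
  refine ⟨fun u hu hu1 => ?_, hconj, hU2, hO⟩
  obtain ⟨g, rfl⟩ := hS u hu hu1
  rw [hconj]
  exact hP.map g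

namespace Sing

variable {Q : G → Subgroup G} {U : Subgroup G} (h : Sing Q U)
include h

theorem mem_rad {u v : G} (hu : u ∈ U) (hu1 : u ≠ 1) (hv : v ∈ U) : v ∈ Q u := by
  rcases eq_or_ne v 1 with rfl | hv1
  · exact one_mem _
  · exact h.orth u hu v hv hu1 hv1

theorem le_rad {u : G} (hu : u ∈ U) (hu1 : u ≠ 1) : U ≤ Q u := fun _ hv => h.mem_rad hu hu1 hv

theorem comm {u v : G} (hu : u ∈ U) (hv : v ∈ U) : u * v = v * u := by
  calc u * v = v * v * (u * v) * ((u * v) * (u * v))⁻¹ * (u * u) := by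
        rw [h.sq v hv, h.sq u hu, h.sq _ (mul_mem hu hv)]; group
    _ = v * u := by
        rw [h.sq u hu, mul_one]
        have hu' : u⁻¹ = u := inv_eq_of_mul_eq_one_right (h.sq u hu)
        have hv' : v⁻¹ = v := inv_eq_of_mul_eq_one_right (h.sq v hv)
        rw [mul_inv_rev, mul_inv_rev, hu', hv']
        simp [mul_assoc, mul_left_cancel_invol (h.sq v hv), mul_left_cancel_invol (h.sq u hu)]

theorem conj_mem {u v q : G} (hu : u ∈ U) (hu1 : u ≠ 1) (hv : v ∈ U) (hq : q ∈ Q u) :
    q * v * q⁻¹ ∈ U := by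
  rcases (h.pack u hu hu1).conj_cases hq (h.mem_rad hu hu1 hv) with e | e <;> rw [e]
  exacts [hv, mul_mem hu hv]

theorem rad_le_normalizer {u : G} (hu : u ∈ U) (hu1 : u ≠ 1) : Q u ≤ normalizer (U : Set G) := by
  intro q hq
  refine mem_normalizer_iff.2 fun v => ⟨fun hv => h.conj_mem hu hu1 hv hq, fun hv => ?_⟩
  have := h.conj_mem hu hu1 hv (inv_mem hq)
  simpa [mul_assoc] using this

theorem inf_le {u v : G} (hu : u ∈ U) (hu1 : u ≠ 1) (hv : v ∈ U) (hv1 : v ≠ 1) (huv : u * v ≠ 1) :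
    Q u ⊓ Q v ≤ Q (u * v) := by
  have P := h.pack u hu hu1
  have hvu : v ≠ u := fun e => huv (e ▸ h.sq u hu)
  obtain ⟨q, hq, hqv⟩ : ∃ q ∈ Q u, q * v ≠ v * q := by
    by_contra hn
    push Not at hn
    rcases P.eq_of_central (h.mem_rad hu hu1 hv) fun b hb => (hn b hb).symm with e | e
    exacts [hv1 e, hvu e]
  have e := P.conj_of_not_commute hq (h.mem_rad hu hu1 hv) hqv
  intro x hx
  have hx' : q * x * q⁻¹ ∈ Q (u * v) := by
    rw [← e, h.conj]; exact ⟨x, hx.2, rfl⟩
  rcases P.conj_cases hq hx.1 with e' | e' <;> rw [e'] at hx'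
  · exact hx'
  · have hm : u ∈ Q (u * v) := h.mem_rad (mul_mem hu hv) huv hu
    simpa [← mul_assoc, h.sq u hu] using mul_mem hm hx'

/-- The intersection of the radicals needs only generators. -/
theorem iInf_eq {T : Set G} (hT : closure T = U) (hT1 : (1 : G) ∉ T) :
    (⨅ u ∈ ((U : Set G) \ {1}), Q u) = ⨅ t ∈ T, Q t := by
  refine le_antisymm (le_iInf₂ fun t ht => ?_) (le_iInf₂ fun u hu => ?_)
  · exact iInf₂_le t ⟨hT ▸ subset_closure ht, fun e => hT1 (e ▸ ht)⟩
  · suffices key : ∀ v ∈ closure T, v ∈ U ∧ (v ≠ 1 → (⨅ t ∈ T, Q t) ≤ Q v) from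
      (key u (hT.symm ▸ hu.1)).2 hu.2
    intro v hv
    induction hv using closure_induction with
    | mem t ht => exact ⟨hT ▸ subset_closure ht, fun _ => iInf₂_le t ht⟩
    | one => exact ⟨one_mem _, fun e => absurd rfl e⟩
    | mul a b _ _ ha hb =>
      refine ⟨mul_mem ha.1 hb.1, fun hab => ?_⟩
      rcases eq_or_ne a 1 with rfl | ha1
      · rw [one_mul] at hab ⊢; exact hb.2 hab
      rcases eq_or_ne b 1 with rfl | hb1
      · rw [mul_one]; exact ha.2 ha1
      exact (le_inf (ha.2 ha1) (hb.2 hb1)).trans (h.inf_le ha.1 ha1 hb.1 hb1 hab)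
    | inv a _ ha =>
      rw [inv_eq_of_mul_eq_one_right (h.sq a ha.1)]
      exact ha

/-- The join of the radicals induces every automorphism. -/
theorem exists_aut (φ : ↥U ≃* ↥U) :
    ∃ g ∈ ⨆ u ∈ ((U : Set G) \ {1}), Q u, ∀ u : ↥U, g * (u : G) * g⁻¹ = ((φ u : ↥U) : G) := by
  classical
  suffices key : ∀ (m : ℕ) (ψ : ↥U ≃* ↥U), Nat.card {v // ψ v ≠ v} ≤ m →
      ∃ g ∈ ⨆ u ∈ ((U : Set G) \ {1}), Q u, ∀ u : ↥U, g * (u : G) * g⁻¹ = ((ψ u : ↥U) : G) from
    key _ φ le_rfl
  intro m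
  induction m using Nat.strong_induction_on with
  | _ m ih =>
    intro ψ hm
    by_cases hall : ∀ v, ψ v = v
    · exact ⟨1, one_mem _, fun u => by simp [hall u]⟩
    push Not at hall
    obtain ⟨w, hw⟩ := hall
    obtain ⟨F, hF⟩ : ∃ F, F = (MonoidHom.eqLocus ψ.toMonoidHom (MonoidHom.id ↥U)).map U.subtype :=
      ⟨_, rfl⟩
    have memF : ∀ {v : ↥U}, (v : G) ∈ F ↔ ψ v = v := by
      intro v
      rw [hF]
      exact ⟨fun ⟨y, hy, e⟩ => by rw [← Subtype.ext e]; exact hy, fun e => ⟨v, e, rfl⟩⟩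
    have hFU : F ≤ U := hF ▸ map_subtype_le _
    obtain ⟨u, hu⟩ : ∃ u : ↥U, u = ψ w * w := ⟨_, rfl⟩
    have hu1 : (u : G) ≠ 1 := fun e => hw (by
      have := eq_inv_of_mul_eq_one_left (hu ▸ Subtype.ext e : ψ w * w = 1)
      rwa [inv_eq_of_mul_eq_one_right (Subtype.ext (h.sq w w.2) : w * w = 1)] at this)
    have hwp : (w : G) ∉ F ⊔ zpowers (u : G) := by
      intro hm'
      have hcomm : F ⊔ zpowers (u : G) ≤ U := sup_le hFU (zpowers_le.2 u.2)
      have : ∀ y ∈ F ⊔ zpowers (u : G), y ∈ F ∨ (u : G) * y ∈ F := by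
        rw [← closure_eq F, zpowers_eq_closure, ← Subgroup.closure_union]
        intro y hy
        rw [closure_eq]
        induction hy using closure_induction with
        | mem y hy =>
          rcases hy with hy | rfl
          · exact .inl hy
          · exact .inr (by rw [h.sq u u.2]; exact one_mem _)
        | one => exact .inl (one_mem _)
        | mul a b ha hb ia ib =>
          have hmem : closure ((F : Set G) ∪ {(u : G)}) ≤ U := (closure_le U).2
            (Set.union_subset hFU (Set.singleton_subset_iff.2 u.2))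
          rcases ia with ia | ia <;> rcases ib with ib | ib
          · exact .inl (mul_mem ia ib)
          · exact .inr (by
              rw [← mul_assoc, h.comm u.2 (hmem ha), mul_assoc]; exact mul_mem ia ib)
          · exact .inr (by rw [← mul_assoc]; exact mul_mem ia ib)
          · refine .inl ?_
            have := mul_mem ia ib
            rwa [mul_assoc, ← mul_assoc a, ← h.comm u.2 (hmem ha), ← mul_assoc, ← mul_assoc,
              h.sq u u.2, one_mul] at this
        | inv a ha ia =>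
          have hmem : closure ((F : Set G) ∪ {(u : G)}) ≤ U := (closure_le U).2
            (Set.union_subset hFU (Set.singleton_subset_iff.2 u.2))
          rw [inv_eq_of_mul_eq_one_right (h.sq a (hmem ha))]
          exact ia
      rcases this _ hm' with e | e
      · exact hw (memF.1 e)
      · have e' : ((ψ w : ↥U) : G) ∈ F := by
          have : (u : G) * w = (ψ w : ↥U) := by
            rw [hu]; simp [mul_assoc, h.sq w w.2]
          rwa [this] at e
        exact hw (ψ.injective (memF.1 e'))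
    have P := h.pack u u.2 hu1
    obtain ⟨q, hq, hqc, hqw⟩ := P.exists_separating (W := F ⊔ zpowers (u : G))
      ((sup_le hFU (zpowers_le.2 u.2)).trans (h.le_rad u.2 hu1)) (le_sup_right (a := F)
        (mem_zpowers _)) (h.mem_rad u.2 hu1 w.2) hwp
    have hqn : q ∈ normalizer (U : Set G) := h.rad_le_normalizer u.2 hu1 hq
    let c : ↥U ≃* ↥U :=
      { toFun := fun v => ⟨q⁻¹ * v * q, by
          simpa using (mem_normalizer_iff.1 (inv_mem hqn) _).1 v.2⟩
        invFun := fun v => ⟨q * v * q⁻¹, (mem_normalizer_iff.1 hqn _).1 v.2⟩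
        left_inv := fun v => Subtype.ext (by simp [mul_assoc])
        right_inv := fun v => Subtype.ext (by simp [mul_assoc])
        map_mul' := fun a b => Subtype.ext (by simp [mul_assoc]) }
    have hlt : Nat.card {v // (ψ.trans c) v ≠ v} < Nat.card {v // ψ v ≠ v} := by
      have hfw : (ψ.trans c) w = w := Subtype.ext (by
        show q⁻¹ * ((ψ w : ↥U) : G) * q = w
        have : ((ψ w : ↥U) : G) = q * w * q⁻¹ := by
          rw [hqw, hu]; simp [mul_assoc, h.sq w w.2]
        rw [this]; group)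
      refine Set.ncard_lt_ncard (s := {v | (ψ.trans c) v ≠ v}) (t := {v | ψ v ≠ v}) ?_ (Set.toFinite _)
      refine Set.ssubset_iff_of_subset ?_ |>.2 ⟨w, hw, fun h' => h' hfw⟩
      intro v hv e
      refine hv (Subtype.ext ?_)
      show q⁻¹ * ((ψ v : ↥U) : G) * q = v
      rw [e, mul_assoc, ← hqc v (le_sup_left (b := zpowers (u : G)) (memF.2 e)), inv_mul_cancel_left]
    obtain ⟨g, hg, hgψ⟩ := ih _ (hlt.trans_le hm) (ψ.trans c) le_rfl
    refine ⟨q * g, mul_mem ?_ hg, fun v => ?_⟩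
    · exact le_iSup₂ (f := fun x (_ : x ∈ ((U : Set G) \ {1})) => Q x) (u : G) ⟨u.2, hu1⟩ hq
    · calc q * g * (v : G) * (q * g)⁻¹ = q * (g * v * g⁻¹) * q⁻¹ := by group
        _ = q * (q⁻¹ * ((ψ v : ↥U) : G) * q) * q⁻¹ := by rw [hgψ v]; rfl
        _ = _ := by group

/-- The join of the radicals acts trivially on the intersection modulo the subgroup. -/
theorem commutator_mem {g : G} (hg : g ∈ ⨆ u ∈ ((U : Set G) \ {1}), Q u) {x : G}
    (hx : x ∈ ⨅ u ∈ ((U : Set G) \ {1}), Q u) : g * x * g⁻¹ * x⁻¹ ∈ U := by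
  rw [iSup_subtype', iSup_eq_closure] at hg
  suffices key : g ∈ normalizer (U : Set G) ∧
      ∀ x ∈ ⨅ u ∈ ((U : Set G) \ {1}), Q u, g * x * g⁻¹ * x⁻¹ ∈ U from key.2 x hx
  clear hx x
  induction hg using closure_induction with
  | mem q hq =>
    obtain ⟨⟨u, hu, hu1⟩, hq⟩ := Set.mem_iUnion.1 hq
    refine ⟨h.rad_le_normalizer hu hu1 hq, fun x hx => ?_⟩
    rcases (h.pack u hu hu1).comm_cases hq (iInf₂_le (f := fun x _ => Q x) u ⟨hu, hu1⟩ hx) with
      e | e <;> rw [e]
    exacts [one_mem _, hu]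
  | one => exact ⟨one_mem _, fun x _ => by simp⟩
  | mul a b _ _ ha hb =>
    refine ⟨mul_mem ha.1 hb.1, fun x hx => ?_⟩
    rw [show a * b * x * (a * b)⁻¹ * x⁻¹ =
      a * (b * x * b⁻¹ * x⁻¹) * a⁻¹ * (a * x * a⁻¹ * x⁻¹) by group]
    exact mul_mem ((mem_normalizer_iff.1 ha.1 _).1 (hb.2 x hx)) (ha.2 x hx)
  | inv a _ ha =>
    refine ⟨inv_mem ha.1, fun x hx => ?_⟩
    rw [show a⁻¹ * x * a⁻¹⁻¹ * x⁻¹ = a⁻¹ * (a * x * a⁻¹ * x⁻¹)⁻¹ * a⁻¹⁻¹ by group]
    exact (mem_normalizer_iff.1 (inv_mem ha.1) _).1 (inv_mem (ha.2 x hx))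

/-- Every coset point is reached. -/
theorem exists_conj {x : G} (hx : x ∈ ⨅ u ∈ ((U : Set G) \ {1}), Q u) (hxU : x ∉ U) {u : G}
    (hu : u ∈ U) : ∃ g ∈ (⨆ u ∈ ((U : Set G) \ {1}), Q u) ⊓ centralizer (U : Set G),
      g * x * g⁻¹ = x * u := by
  rcases eq_or_ne u 1 with rfl | hu1
  · exact ⟨1, one_mem _, by simp⟩
  have P := h.pack u hu hu1
  have hxQ : x ∈ Q u := iInf₂_le (f := fun x _ => Q x) u ⟨hu, hu1⟩ hx
  obtain ⟨q, hq, hqc, hqx⟩ := P.exists_separating (h.le_rad hu hu1) hu hxQ hxU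
  exact ⟨q, ⟨le_iSup₂ (f := fun x (_ : x ∈ ((U : Set G) \ {1})) => Q x) u ⟨hu, hu1⟩ hq,
    fun t ht => (hqc t ht).symm⟩, by rw [hqx, P.comm_z hxQ]⟩

end Sing

end CfsgLib.PLocal.LargeExtra
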