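import Cfsg.Prelude.Def_LocalEven
import Cfsg.Agent.Lib.Solvable.PCore
import Cfsg.Agent.Lib.Transfer.Basic

/-!
# A quadratic element on a chief factor shows that a quotient is not `p`-stable
-/

namespace CfsgLib.PLocal

open Subgroup
open scoped commutatorElement

variable {p : ℕ} [hp : Fact p.Prime] {H : Type*} [Group H] [Finite H]

/-- A quadratic element not centralizing a minimal normal `p`-subgroup refutes `p`-stability. -/
theorem not_normalizerPStable_of_quadratic {U : Subgroup H} [hn : U.Normal] (hU : IsPGroup p U)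
    (hne : U ≠ ⊥) (hmin : ∀ N : Subgroup H, N.Normal → N ≤ U → N = ⊥ ∨ N = U) {g : H}
    (hquad : ⁅⁅U, zpowers g⁆, zpowers g⁆ = ⊥) (hg : g ∉ centralizer (U : Set H)) :
    ¬ Cfsg.IsNormalizerPStable p H := by
  intro hst
  have htop : normalizer (U : Set H) = ⊤ := normalizer_eq_top_iff.2 hn
  have hgN : g ∈ normalizer (U : Set H) := by rw [htop]; exact mem_top g
  have hmem := hst U hU g hgN hquad
  set N := normalizer (U : Set H) with hN
  set C := (centralizer (U : Set H)).subgroupOf N with hC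
  haveI hCn : C.Normal := Normal.comap (inferInstance : (centralizer (U : Set H)).Normal) N.subtype
  set D₀ := (Cfsg.pCore p (N ⧸ C)).comap (QuotientGroup.mk' C) with hD₀
  haveI := Cfsg.pCore_normal p (N ⧸ C)
  set D : Subgroup H := D₀.map N.subtype with hD
  have hDn : D.Normal := by
    haveI : D₀.Normal := Normal.comap inferInstance _
    exact Normal.map inferInstance N.subtype fun x => ⟨⟨x, by rw [htop]; exact mem_top x⟩, rfl⟩
  have hgD : g ∈ D := mem_map_of_mem N.subtype (x := (⟨g, hgN⟩ : N)) (mem_comap.2 hmem)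
  let φ : D →* MulAut U := (MulAut.conjNormal (H := U)).comp D.subtype
  have hker : ∀ d : D, (d : H) ∈ centralizer (U : Set H) → φ d = 1 := fun d hd => by
    refine MulEquiv.ext fun x => Subtype.ext ?_
    show ((MulAut.conjNormal (H := U) (d : H)) x : H) = (x : H)
    rw [MulAut.conjNormal_apply, ← mem_centralizer_iff.1 hd _ x.2, mul_inv_cancel_right]
  have hQp := CfsgLib.Solvable.pCore_isPGroup (G := N ⧸ C) p
  have hR : IsPGroup p φ.range := by
    rintro ⟨_, d, rfl⟩
    obtain ⟨y, hy, hye⟩ := d.2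
    obtain ⟨k, hk⟩ := hQp ⟨QuotientGroup.mk' C y, mem_comap.1 hy⟩
    refine ⟨k, Subtype.ext ?_⟩
    show φ d ^ p ^ k = 1
    rw [← map_pow]
    refine hker _ ?_
    have h1 : y ^ p ^ k ∈ C := (QuotientGroup.eq_one_iff _).1 (by
      have := congrArg Subtype.val hk
      simpa using this)
    show ((d ^ p ^ k : D) : H) ∈ _
    rw [SubmonoidClass.coe_pow, ← hye, ← map_pow]
    exact h1
  haveI : Nontrivial U := (nontrivial_iff_ne_bot U).2 hne
  obtain ⟨n, hn0, hcard⟩ := hU.nontrivial_iff_card.1 inferInstance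
  have h1mem : (1 : U) ∈ MulAction.fixedPoints φ.range U := fun a => map_one (a : MulAut U)
  obtain ⟨z, hz, hz1⟩ := hR.exists_fixed_point_of_prime_dvd_card_of_fixed_point (α := U)
    (hcard ▸ dvd_pow_self p hn0.ne') h1mem
  set M := U ⊓ centralizer (D : Set H) with hM
  have hzM : (z : H) ∈ M := ⟨z.2, mem_centralizer_iff.2 fun d hd => by
    have h2 : φ ⟨d, hd⟩ z = z := hz ⟨φ ⟨d, hd⟩, ⟨⟨d, hd⟩, rfl⟩⟩
    have h3 : d * (z : H) * d⁻¹ = z := by
      have := congrArg Subtype.val h2
      simpa [φ, MulAut.conjNormal_apply] using this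
    exact mul_inv_eq_iff_eq_mul.1 h3⟩
  rcases hmin M inferInstance inf_le_left with h0 | h0
  · exact hz1 (Subtype.ext (mem_bot.1 (h0 ▸ hzM)).symm)
  · refine hg (mem_centralizer_iff.2 fun x hx => ?_)
    exact (mem_centralizer_iff.1 (h0.symm.le hx).2 g hgD).symm

end CfsgLib.PLocal
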