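import Cfsg.Agent.Lib.PLocal.KInfinityMain
import Cfsg.Agent.Lib.PLocal.ChiefBound
import Cfsg.Agent.Lib.PLocal.NotStable
import Cfsg.Agent.Lib.Transfer.PGroupNormal
import Cfsg.Agent.S0121

/-!
# Glauberman: consequences for chief factors below `O_p(G)`
-/

namespace CfsgLib.PLocal

open Subgroup
open scoped commutatorElement

universe u

variable {p : ℕ} [hp : Fact p.Prime] {G : Type u} [Group G] [Finite G]

theorem exists_quartic_element (S : Sylow p G)
    (hK : ¬ (Cfsg.inducedFunctor Cfsg.kInfLower (S : Subgroup G)).Normal ∨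
      ¬ (Cfsg.inducedFunctor Cfsg.kInfUpper (S : Subgroup G)).Normal) :
    ∃ g : G, g ∈ (S : Subgroup G) ∧ g ∉ Cfsg.pCore p G ∧
      (∀ U V : Subgroup G, Cfsg.IsChiefFactor U V → U ≤ Cfsg.pCore p G →
        Cfsg.iterCommutator U (zpowers g) 4 ≤ V) ∧
      ⁅⁅centreIn (Cfsg.pCore p G), zpowers g⁆, zpowers g⁆ = ⊥ ∧
      (centralizer ((Cfsg.pCore p G : Subgroup G) : Set G) ≤ Cfsg.pCore p G →
        ∃ (N : Subgroup G) (_ : N.Normal), ¬ Cfsg.IsNormalizerPStable p (G ⧸ N)) := by
  haveI := Cfsg.pCore_normal p G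
  set T := Cfsg.pCore p G with hT
  have hTp : IsPGroup p T := CfsgLib.Solvable.pCore_isPGroup p
  obtain ⟨H, hHc, hH1, hH2, hH3⟩ := CfsgLib.Transfer.exists_critical hTp
  set A := H.map T.subtype with hA
  have hAT : A ≤ T := map_subtype_le H
  haveI hAn : A.Normal := by haveI := hHc; infer_instance
  have htop : (⊤ : Subgroup T).map T.subtype = T := by
    rw [← MonoidHom.range_eq_map, range_subtype]
  have hcA : centreIn A = (centreIn H).map T.subtype := map_centreIn T.subtype_injective H
  have hA3 : ⁅T, A⁆ ≤ centreIn A := by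
    rw [hcA, commutator_comm, hA]
    conv_lhs => arg 2; rw [← htop]
    rw [← Subgroup.map_commutator]
    exact map_mono hH2
  have hA2 : ⁅A, A⁆ ≤ centralizer (A : Set G) :=
    ((commutator_mono hAT le_rfl).trans hA3).trans inf_le_right
  have hA4 : T ⊓ centralizer (A : Set G) ≤ A := by
    intro x hx
    refine mem_map_of_mem T.subtype (x := (⟨x, hx.1⟩ : T)) (hH3 (mem_centralizer_iff.2 fun h hh => ?_))
    exact Subtype.ext (mem_centralizer_iff.1 hx.2 _ (mem_map_of_mem T.subtype hh))
  have hA5 : ∀ φ : MulAut T, (orderOf φ).Coprime p → (∀ a : T, (a : G) ∈ A → φ a = a) → φ = 1 :=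
    fun φ hφ hfix => Cfsg.Agent.S0121.result hTp H hHc hH1 hH2 hH3 φ hφ
      fun x hx => hfix x (mem_map_of_mem T.subtype hx)
  obtain ⟨g, hgS, hgT, h3, h2, hc⟩ := exists_cubic_element S hAT hA2 hA3 hA5 hK
  refine ⟨g, hgS, hgT, ?_, ?_, fun hcT => ?_⟩
  · have h2' : Cfsg.iterCommutator (centreIn A) (zpowers g) 3 = ⊥ := by
      show ⁅⁅⁅centreIn A, zpowers g⁆, zpowers g⁆, zpowers g⁆ = ⊥
      rw [h2, commutator_bot_left]
    exact iterCommutator_le_of_critical hTp hAT hA3 hA4 g (i := 3) (j := 2) (by norm_num) (by norm_num)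
      (fun U V hUV hU => iterCommutator_on_chief h3 h2' hUV hU)
      (fun U V hUV hU => ((iterCommutator_mono hU 2).trans h2.le).trans bot_le)
  · refine le_bot_iff.1 (le_trans (commutator_mono (commutator_mono ?_ le_rfl) le_rfl) h2.le)
    have hZA : centreIn T ≤ centralizer (A : Set G) :=
      inf_le_right.trans (centralizer_le (SetLike.coe_subset_coe.2 hAT))
    exact le_inf ((le_inf inf_le_left hZA).trans hA4) hZA
  · obtain ⟨U, V, hUV, hUA, hq, hne⟩ := hc hcT
    haveI hVn : V.Normal := hUV.2.2.1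
    refine ⟨V, hVn, ?_⟩
    set π := QuotientGroup.mk' V with hπ
    have hπs : Function.Surjective π := QuotientGroup.mk'_surjective V
    haveI : (U.map π).Normal := Normal.map hUV.2.1 π hπs
    refine not_normalizerPStable_of_quadratic (U := U.map π) ((hTp.to_le (hUA.trans hAT)).map π) ?_ ?_
      (g := π g) ?_ ?_
    · rw [Ne, Subgroup.map_eq_bot_iff, hπ, QuotientGroup.ker_mk']; exact hUV.1.not_ge
    · intro N hN hNU
      have h1 : N.comap π ≤ U := by
        refine (comap_mono hNU).trans ?_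
        rw [comap_map_eq, hπ, QuotientGroup.ker_mk', sup_eq_left.2 hUV.1.le]
      rcases hUV.2.2.2 _ (hN.comap π) (fun v hv => by
        rw [mem_comap, show π v = 1 from (QuotientGroup.eq_one_iff v).2 hv]; exact N.one_mem) h1 with h | h
      · exact Or.inl (by rw [← map_comap_eq_self_of_surjective hπs N, h, hπ, QuotientGroup.map_mk'_self])
      · exact Or.inr (by rw [← map_comap_eq_self_of_surjective hπs N, h])
    · rw [← MonoidHom.map_zpowers, ← Subgroup.map_commutator, ← Subgroup.map_commutator,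
        Subgroup.map_eq_bot_iff, hπ, QuotientGroup.ker_mk']
      exact hq
    · intro hcen
      refine hne (commutator_zpowers_le_iff.2 fun u hu => ?_)
      refine (QuotientGroup.eq_one_iff _).1 ?_
      show π ⁅u, g⁆ = 1
      rw [map_commutatorElement, commutatorElement_eq_one_iff_mul_comm]
      exact mem_centralizer_iff.1 hcen _ (mem_map_of_mem π hu)

end CfsgLib.PLocal
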