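import Cfsg.Prelude.Def_Solvable
import Cfsg.Agent.Lib.Trans3.Large
import Cfsg.Agent.Lib.Transfer.Extraspecial
import Cfsg.Agent.Lib.Amalgam.PCoreOf

/-!
# Self-centralising extraspecial subgroups normal in the centraliser of their centre

The main result is `Pack.mem_conj`: if a conjugate `g z g⁻¹` of the central involution `z` of such a
subgroup `Q` lies in `Q`, then `z` lies in `g Q g⁻¹`.
-/

set_option autoImplicit false

namespace CfsgLib.PLocal.LargeExtra

open Subgroup
open scoped commutatorElement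

/-- Being extraspecial passes along isomorphisms. -/
theorem isExtraspecial_equiv {p : ℕ} {A B : Type*} [Group A] [Group B] (e : A ≃* B)
    (h : Cfsg.IsExtraspecial p A) : Cfsg.IsExtraspecial p B := by
  have hc : (Subgroup.center A).map e.toMonoidHom = Subgroup.center B := by
    ext b
    constructor
    · rintro ⟨a, ha, rfl⟩
      refine Subgroup.mem_center_iff.mpr fun y => ?_
      obtain ⟨y, rfl⟩ := e.surjective y
      simp only [MulEquiv.coe_toMonoidHom, ← map_mul, Subgroup.mem_center_iff.mp ha y]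
    · intro hb
      refine ⟨e.symm b, Subgroup.mem_center_iff.mpr fun y => e.injective ?_, by simp⟩
      simp [Subgroup.mem_center_iff.mp hb (e y)]
  have hf : (frattini A).map e.toMonoidHom = frattini B := by
    refine le_antisymm (Subgroup.map_le_iff_le_comap.mpr
      (frattini_le_comap_frattini_of_surjective (φ := e.toMonoidHom) e.surjective)) fun b hb => ?_
    exact ⟨e.symm b, frattini_le_comap_frattini_of_surjective (φ := e.symm.toMonoidHom)
      e.symm.surjective hb, by simp⟩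
  refine ⟨⟨h.1.1.of_equiv e, ?_, ?_⟩, ?_⟩
  · rw [← hf, h.1.2.1, hc]
  · rw [← hc, ← h.1.2.2, commutator_def, commutator_def, Subgroup.map_commutator,
      Subgroup.map_top_of_surjective e.toMonoidHom e.surjective]
  · rw [← hc, Subgroup.card_map_of_injective e.injective, h.2]

variable {G : Type*} [Group G] [Finite G]

/-- `Q` is extraspecial with centre `⟨z⟩`, contains its centraliser and is normalised by `C(z)`. -/
structure Pack (Q : Subgroup G) (z : G) : Prop where
  ext : Cfsg.IsExtraspecial 2 ↥Q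
  ord : orderOf z = 2
  cen : (center ↥Q).map Q.subtype = zpowers z
  cent : centralizer (Q : Set G) ≤ Q
  norm : centralizer ({z} : Set G) ≤ normalizer (Q : Set G)

variable {Q : Subgroup G} {z : G} (h : Pack Q z)

include h

namespace Pack

theorem mem : z ∈ Q := by
  have : z ∈ (center ↥Q).map Q.subtype := h.cen.symm ▸ mem_zpowers z
  obtain ⟨y, -, rfl⟩ := this
  exact y.2

theorem z_mul_z : z * z = 1 := Trans3.invol_mul_self h.ord

theorem z_inv : z⁻¹ = z := Trans3.invol_inv h.ord

theorem z_ne : z ≠ 1 := Trans3.invol_ne_one h.ord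

theorem comm_z {a : G} (ha : a ∈ Q) : a * z = z * a := by
  have : z ∈ (center ↥Q).map Q.subtype := h.cen.symm ▸ mem_zpowers z
  obtain ⟨y, hy, rfl⟩ := this
  exact congrArg Subtype.val (mem_center_iff.1 hy ⟨a, ha⟩)

theorem mem_centralizer_z {a : G} (ha : a ∈ Q) : a ∈ centralizer ({z} : Set G) :=
  mem_centralizer_singleton_iff.2 (h.comm_z ha)

theorem of_center {a : ↥Q} (ha : a ∈ center ↥Q) : (a : G) = 1 ∨ (a : G) = z :=
  Trans3.mem_zpowers_invol h.ord (h.cen ▸ ⟨a, ha, rfl⟩)

theorem eq_of_central {a : G} (ha : a ∈ Q) (hc : ∀ b ∈ Q, a * b = b * a) : a = 1 ∨ a = z :=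
  h.of_center (a := ⟨a, ha⟩) (mem_center_iff.2 fun b => Subtype.ext (hc b b.2).symm)

theorem comm_cases {a b : G} (ha : a ∈ Q) (hb : b ∈ Q) :
    a * b * a⁻¹ * b⁻¹ = 1 ∨ a * b * a⁻¹ * b⁻¹ = z :=
  h.of_center (Transfer.special_commutatorElement_mem_center h.ext.1 ⟨a, ha⟩ ⟨b, hb⟩)

theorem conj_cases {a b : G} (ha : a ∈ Q) (hb : b ∈ Q) : a * b * a⁻¹ = b ∨ a * b * a⁻¹ = z * b := by
  rcases h.comm_cases ha hb with e | e
  · exact .inl (mul_inv_eq_one.1 e)
  · exact .inr (mul_inv_eq_iff_eq_mul.1 e)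

theorem sq_cases {a : G} (ha : a ∈ Q) : a * a = 1 ∨ a * a = z := by
  have : Fact (Nat.Prime 2) := ⟨Nat.prime_two⟩
  have hm : (⟨a, ha⟩ : ↥Q) ^ 2 ∈ center ↥Q :=
    h.ext.1.2.1 ▸ Transfer.pow_mem_frattini h.ext.1.1 _
  simpa [pow_two] using h.of_center hm

theorem conj_of_not_commute {a b : G} (ha : a ∈ Q) (hb : b ∈ Q) (hn : a * b ≠ b * a) :
    a * b * a⁻¹ = z * b :=
  (h.conj_cases ha hb).resolve_left fun e => hn (mul_inv_eq_iff_eq_mul.1 e)

theorem mul_commute {a b x : G} (ha : a ∈ Q) (hb : b ∈ Q) (hx : x ∈ Q) (h1 : a * x ≠ x * a)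
    (h2 : b * x ≠ x * b) : a * b * x = x * (a * b) := by
  have e1 := mul_inv_eq_iff_eq_mul.1 (h.conj_of_not_commute ha hx h1)
  have e2 := mul_inv_eq_iff_eq_mul.1 (h.conj_of_not_commute hb hx h2)
  calc a * b * x = a * (z * x * b) := by rw [mul_assoc, e2]
    _ = a * z * x * b := by group
    _ = z * (a * x) * b := by rw [h.comm_z ha]; group
    _ = z * z * x * a * b := by rw [e1]; group
    _ = x * (a * b) := by rw [h.z_mul_z, one_mul, mul_assoc]

theorem eq_of_commute_centralizer {x c : G} (hx : x ∈ Q) (hxz : x ≠ 1 ∧ x ≠ z) (hx2 : x * x = 1)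
    (hc : c ∈ Q) (hcomm : ∀ p ∈ Q, p * x = x * p → c * p = p * c) :
    c = 1 ∨ c = z ∨ c = x ∨ c = z * x := by
  have hcx : c * x = x * c := hcomm x hx rfl
  obtain ⟨q, hq, hqx⟩ : ∃ q ∈ Q, q * x ≠ x * q := by
    by_contra hn
    push Not at hn
    rcases h.eq_of_central hx fun b hb => (hn b hb).symm with e | e
    · exact hxz.1 e
    · exact hxz.2 e
  by_cases hqc : c * q = q * c
  · rcases h.eq_of_central hc fun b hb => (by
      by_cases hbx : b * x = x * b
      · exact hcomm b hb hbx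
      · have e := hcomm _ (mul_mem hq hb) (h.mul_commute hq hb hx hqx hbx)
        exact mul_left_cancel (a := q) (by
          calc q * (c * b) = q * c * b := (mul_assoc q c b).symm
            _ = c * (q * b) := by rw [← hqc, mul_assoc]
            _ = q * (b * c) := by rw [e, mul_assoc])) with e | e
    · exact .inl e
    · exact .inr (.inl e)
  · have hcm : c * x ∈ Q := mul_mem hc hx
    have key : c * x * q = q * (c * x) := h.mul_commute hc hx hq hqc fun e => hqx e.symm
    rcases h.eq_of_central hcm fun b hb => (by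
      by_cases hbx : b * x = x * b
      · calc c * x * b = c * (b * x) := by rw [mul_assoc, hbx]
          _ = b * (c * x) := by rw [← mul_assoc, hcomm b hb hbx, mul_assoc]
      · have hqb := h.mul_commute hq hb hx hqx hbx
        have e := hcomm _ (mul_mem hq hb) hqb
        have e' : c * x * (q * b) = q * b * (c * x) := by
          calc c * x * (q * b) = c * (q * b * x) := by rw [mul_assoc, hqb]
            _ = q * b * (c * x) := by rw [← mul_assoc, e, mul_assoc]
        exact mul_left_cancel (a := q) (by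
          calc q * (c * x * b) = q * (c * x) * b := (mul_assoc _ _ _).symm
            _ = c * x * (q * b) := by rw [← key, mul_assoc]
            _ = q * (b * (c * x)) := by rw [e', mul_assoc])) with e | e
    · exact .inr (.inr (.inl (by rw [eq_inv_of_mul_eq_one_left e, inv_eq_of_mul_eq_one_right hx2])))
    · refine .inr (.inr (.inr ?_))
      rw [← e, mul_assoc, hx2, mul_one]

theorem noncomm_centralizer {x : G} (hx : x ∈ Q) (hxz : x ≠ 1 ∧ x ≠ z) (hx2 : x * x = 1)
    (h16 : 16 ≤ Nat.card Q) :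
    ∃ a ∈ Q, ∃ b ∈ Q, a * x = x * a ∧ b * x = x * b ∧ a * b * a⁻¹ * b⁻¹ = z := by
  classical
  by_contra hn
  push Not at hn
  have hab : ∀ a ∈ Q, ∀ b ∈ Q, a * x = x * a → b * x = x * b → a * b = b * a := fun a ha b hb h1 h2 =>
    mul_inv_eq_iff_eq_mul.1 (mul_inv_eq_one.1 ((h.comm_cases ha hb).resolve_right (hn a ha b hb h1 h2)))
  have hfour : ∀ a ∈ Q, a * x = x * a → a ∈ ({1, z, x, z * x} : Finset G) := fun a ha h1 => by
    rcases h.eq_of_commute_centralizer hx hxz hx2 ha (fun p hp hpx => hab a ha p hp h1 hpx) with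
      e | e | e | e <;> simp [e]
  obtain ⟨q, hq, hqx⟩ : ∃ q ∈ Q, q * x ≠ x * q := by
    by_contra hh
    push Not at hh
    rcases h.eq_of_central hx fun b hb => (hh b hb).symm with e | e
    · exact hxz.1 e
    · exact hxz.2 e
  have := Fintype.ofFinite Q
  have hle : (Finset.univ.map ⟨((↑) : Q → G), Subtype.val_injective⟩) ⊆
      ({1, z, x, z * x} : Finset G) ∪ ({1, z, x, z * x} : Finset G).image (q⁻¹ * ·) := by
    intro a ha
    simp only [Finset.mem_map, Finset.mem_univ, true_and, Function.Embedding.coeFn_mk] at ha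
    obtain ⟨a, rfl⟩ := ha
    by_cases hax : (a : G) * x = x * a
    · exact Finset.mem_union_left _ (hfour a a.2 hax)
    · exact Finset.mem_union_right _ (Finset.mem_image.2
        ⟨q * a, hfour _ (mul_mem hq a.2) (h.mul_commute hq a.2 hx hqx hax), by group⟩)
  have h1 := Finset.card_le_card hle
  rw [Finset.card_map, Finset.card_univ, ← Nat.card_eq_fintype_card] at h1
  have h2 := Finset.card_union_le ({1, z, x, z * x} : Finset G)
    (({1, z, x, z * x} : Finset G).image (q⁻¹ * ·))
  have h3 : (({1, z, x, z * x} : Finset G).image (q⁻¹ * ·)).card ≤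
    ({1, z, x, z * x} : Finset G).card := Finset.card_image_le
  have h4 : ({1, z, x, z * x} : Finset G).card ≤ 4 := Finset.card_le_four
  omega

/-- An automorphism trivial modulo the centre is inner, so comes from `Q`. -/
theorem mem_of_central_commutator {s : G} (hsz : s * z = z * s)
    (hs : ∀ q ∈ Q, s * q * s⁻¹ * q⁻¹ = 1 ∨ s * q * s⁻¹ * q⁻¹ = z) : s ∈ Q := by
  have : Fact (Nat.Prime 2) := ⟨Nat.prime_two⟩
  have hzc : (⟨z, h.mem⟩ : ↥Q) ∈ center ↥Q :=
    mem_center_iff.2 fun b => Subtype.ext (h.comm_z b.2)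
  have hQ : ∀ q ∈ Q, s * q * s⁻¹ * q⁻¹ ∈ Q := fun q hq => by
    rcases hs q hq with e | e <;> rw [e]
    exacts [one_mem _, h.mem]
  have hcm : ∀ q : ↥Q, (⟨s * q * s⁻¹ * (q : G)⁻¹, hQ q q.2⟩ : ↥Q) ∈ center ↥Q := fun q => by
    rcases hs q q.2 with e | e
    · rw [show (⟨s * q * s⁻¹ * (q : G)⁻¹, hQ q q.2⟩ : ↥Q) = 1 from Subtype.ext e]; exact one_mem _
    · rw [show (⟨s * q * s⁻¹ * (q : G)⁻¹, hQ q q.2⟩ : ↥Q) = ⟨z, h.mem⟩ from Subtype.ext e]; exact hzc
  let c : ↥Q →* center ↥Q :=
    MonoidHom.mk' (fun q => ⟨_, hcm q⟩) fun a b => Subtype.ext (Subtype.ext (by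
      have e1 := congrArg Subtype.val (mem_center_iff.1 (hcm b) a)
      show s * ((a : G) * b) * s⁻¹ * ((a : G) * b)⁻¹ =
        s * a * s⁻¹ * (a : G)⁻¹ * (s * b * s⁻¹ * (b : G)⁻¹)
      calc s * ((a : G) * b) * s⁻¹ * ((a : G) * b)⁻¹
          = s * a * s⁻¹ * ((s * b * s⁻¹ * (b : G)⁻¹) * (a : G)⁻¹) := by group
        _ = s * a * s⁻¹ * ((a : G)⁻¹ * ((a : G) * (s * b * s⁻¹ * (b : G)⁻¹)) * (a : G)⁻¹) := by group
        _ = _ := by rw [show (a : G) * (s * b * s⁻¹ * (b : G)⁻¹) = s * b * s⁻¹ * (b : G)⁻¹ * a from e1]; group))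
  obtain ⟨e, he⟩ := Transfer.extraspecial_exists_commutator_eq h.ext c fun q hq => by
    rw [MonoidHom.mem_ker]
    refine Subtype.ext (Subtype.ext ?_)
    show s * (q : G) * s⁻¹ * (q : G)⁻¹ = 1
    rcases h.of_center hq with e | e <;> rw [e]
    · group
    · rw [hsz, mul_inv_cancel_right, mul_inv_cancel]
  have hconj : ∀ q ∈ Q, s * q * s⁻¹ = e * q * (e : G)⁻¹ := fun q hq => by
    have := congrArg Subtype.val (he ⟨q, hq⟩)
    exact mul_right_cancel (b := q⁻¹) this
  have : (e : G)⁻¹ * s ∈ centralizer (Q : Set G) := mem_centralizer_iff.2 fun q hq => by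
    have := hconj q hq
    calc q * ((e : G)⁻¹ * s) = (e : G)⁻¹ * (e * q * (e : G)⁻¹) * s := by group
      _ = (e : G)⁻¹ * s * q := by rw [← this]; group
  simpa using mul_mem e.2 (h.cent this)

/-- An element of the centraliser of `z` centralising `C_Q(x)` lies in `⟨z, x⟩`. -/
theorem eq_of_fix {x s : G} (hx : x ∈ Q) (hxz : x ≠ 1 ∧ x ≠ z) (hx2 : x * x = 1)
    (hs : s * z = z * s) (hfix : ∀ p ∈ Q, p * x = x * p → s * p = p * s) :
    s = 1 ∨ s = z ∨ s = x ∨ s = z * x := by
  have hsn : ∀ q ∈ Q, s * q * s⁻¹ ∈ Q := fun q hq =>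
    (mem_normalizer_iff.1 (h.norm (mem_centralizer_singleton_iff.2 hs)) q).1 hq
  have hsx := hfix x hx rfl
  have hsQ : s ∈ Q := by
    refine h.mem_of_central_commutator hs fun q hq => ?_
    by_cases hqx : q * x = x * q
    · left; rw [hfix q hq hqx, mul_inv_cancel_right, mul_inv_cancel]
    obtain ⟨d, hd⟩ : ∃ d, d = s * q * s⁻¹ * q⁻¹ := ⟨_, rfl⟩
    have hdQ : d ∈ Q := hd ▸ mul_mem (hsn q hq) (inv_mem hq)
    have hdfix : ∀ p ∈ Q, p * x = x * p → d * p = p * d := by
      intro p hp hpx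
      have hp' : q⁻¹ * p * q ∈ Q := mul_mem (mul_mem (inv_mem hq) hp) hq
      have hp'x : q⁻¹ * p * q * x = x * (q⁻¹ * p * q) := by
        rcases h.conj_cases (inv_mem hq) hp with e | e <;> rw [inv_inv] at e <;> rw [e]
        · exact hpx
        · rw [mul_assoc, hpx, ← mul_assoc, ← h.comm_z hx, mul_assoc]
      have e := hfix _ hp' hp'x
      have hps := hfix p hp hpx
      calc d * p = s * q * s⁻¹ * (q⁻¹ * p * q) * q⁻¹ := by rw [hd]; group
        _ = s * q * s⁻¹ * (q⁻¹ * p * q * s) * s⁻¹ * q⁻¹ := by group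
        _ = s * p * q * s⁻¹ * q⁻¹ := by rw [← e]; group
        _ = p * d := by rw [hps, hd]; group
    rw [← hd]
    have hsq : (d * q) * (d * q) = q * q := by
      have e : d * q = s * q * s⁻¹ := by rw [hd]; group
      rw [e, show s * q * s⁻¹ * (s * q * s⁻¹) = s * (q * q) * s⁻¹ by group]
      rcases h.sq_cases hq with e' | e' <;> rw [e']
      · group
      · rw [hs, mul_inv_cancel_right]
    rcases h.eq_of_commute_centralizer hx hxz hx2 hdQ hdfix with e | e | e | e
    · exact .inl e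
    · exact .inr e
    all_goals
      exfalso
      have hqc := mul_inv_eq_iff_eq_mul.1 (h.conj_of_not_commute hq hx hqx)
      rw [e] at hsq
      refine h.z_ne (mul_right_cancel (b := q * q) (Eq.trans ?_ (hsq.trans (one_mul _).symm)))
    · calc z * (q * q) = x * z * x * (q * q) := by
            rw [h.comm_z hx, mul_assoc z x x, hx2, mul_one]
        _ = x * (z * x * q) * q := by group
        _ = x * (q * x) * q := by rw [← hqc]
        _ = x * q * (x * q) := by group
    · calc z * (q * q) = x * z * x * (q * q) := by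
            rw [h.comm_z hx, mul_assoc z x x, hx2, mul_one]
        _ = x * (z * x * q) * q := by group
        _ = x * (q * x) * q := by rw [← hqc]
        _ = 1 * (x * q) * (x * q) := by group
        _ = z * z * (x * q) * (x * q) := by rw [h.z_mul_z]
        _ = z * (z * (x * q)) * (x * q) := by group
        _ = z * (x * q * z) * (x * q) := by rw [← h.comm_z (mul_mem hx hq)]
        _ = z * x * q * (z * x * q) := by group
  exact h.eq_of_commute_centralizer hx hxz hx2 hsQ hfix

/-- Conjugates of a pack are packs. -/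
theorem map (g : G) : Pack (Q.map (MulAut.conj g).toMonoidHom) (g * z * g⁻¹) := by
  obtain ⟨f, hf⟩ : ∃ f : G →* G, f = (MulAut.conj g).toMonoidHom := ⟨_, rfl⟩
  have hfi : Function.Injective f := hf ▸ (MulAut.conj g).injective
  have happ : ∀ y, f y = g * y * g⁻¹ := fun y => by rw [hf]; rfl
  have hback : ∀ y, g⁻¹ * (g * y * g⁻¹) * g = y := fun y => by group
  have hinv : ∀ y, g * (g⁻¹ * y * g) * g⁻¹ = y := fun y => by group
  rw [← hf]
  let e := Q.equivMapOfInjective f hfi
  have hce : (center ↥Q).map e.toMonoidHom = center ↥(Q.map f) := by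
    refine le_antisymm ?_ fun y hy => ⟨e.symm y, ?_, e.apply_symm_apply y⟩
    · rintro _ ⟨a, ha, rfl⟩
      exact mem_center_iff.2 fun b => by
        obtain ⟨b, rfl⟩ := e.surjective b
        show e b * e a = e a * e b
        rw [← map_mul, ← map_mul, mem_center_iff.1 ha b]
    · exact mem_center_iff.2 fun b => e.injective (by
        rw [map_mul, map_mul, e.apply_symm_apply]; exact mem_center_iff.1 hy (e b))
  refine ⟨isExtraspecial_equiv e h.ext, ?_, ?_, fun c hc => ?_, fun c hc => ?_⟩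
  · rw [Trans3.orderOf_conj, h.ord]
  · rw [← hce, Subgroup.map_map,
      show (Q.map f).subtype.comp e.toMonoidHom = f.comp Q.subtype from
        MonoidHom.ext fun y => coe_equivMapOfInjective_apply Q f hfi y,
      ← Subgroup.map_map, h.cen, MonoidHom.map_zpowers, happ]
  · refine ⟨g⁻¹ * c * g, h.cent (mem_centralizer_iff.2 fun q hq => ?_), by rw [happ, hinv]⟩
    have := mem_centralizer_iff.1 hc (f q) ⟨q, hq, rfl⟩
    rw [happ] at this
    calc q * (g⁻¹ * c * g) = g⁻¹ * (g * q * g⁻¹ * c) * g := by group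
      _ = g⁻¹ * c * g * q := by rw [this]; group
  · have hc' : g⁻¹ * c * g ∈ centralizer ({z} : Set G) := mem_centralizer_singleton_iff.2 (by
      calc g⁻¹ * c * g * z = g⁻¹ * (c * (g * z * g⁻¹)) * g := by group
        _ = z * (g⁻¹ * c * g) := by rw [mem_centralizer_singleton_iff.1 hc]; group)
    refine mem_normalizer_iff.2 fun y => ⟨?_, fun hy => ?_⟩
    · rintro ⟨q, hq, rfl⟩
      exact ⟨_, (mem_normalizer_iff.1 (h.norm hc') q).1 hq, by rw [happ, happ]; group⟩
    · obtain ⟨q, hq, e⟩ := hy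
      rw [happ] at e
      refine ⟨g⁻¹ * y * g, (mem_normalizer_iff.1 (h.norm hc') _).2 ?_, by rw [happ, hinv]⟩
      rw [show g⁻¹ * c * g * (g⁻¹ * y * g) * (g⁻¹ * c * g)⁻¹ = g⁻¹ * (c * y * c⁻¹) * g by group,
        ← e, hback]
      exact hq

/-- Elements fixing `z` fix `Q`. -/
theorem map_eq_of_fix {k : G} (hk : k * z * k⁻¹ = z) : Q.map (MulAut.conj k).toMonoidHom = Q :=
  (mem_normalizer_iff_map_conj_eq.1
    (h.norm (mem_centralizer_singleton_iff.2 (mul_inv_eq_iff_eq_mul.1 hk))))

/-- Conjugates of `Q` with the same centre are equal. -/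
theorem map_eq_of_eq {g g' : G} (e : g * z * g⁻¹ = g' * z * g'⁻¹) :
    Q.map (MulAut.conj g).toMonoidHom = Q.map (MulAut.conj g').toMonoidHom := by
  have e1 := h.map_eq_of_fix (k := g'⁻¹ * g) (by
    rw [show g'⁻¹ * g * z * (g'⁻¹ * g)⁻¹ = g'⁻¹ * (g * z * g⁻¹) * g' by group, e]; group)
  conv_rhs => rw [← e1, Subgroup.map_map]
  congr 1
  ext y
  simp [mul_assoc]

end Pack

end CfsgLib.PLocal.LargeExtra
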