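import Cfsg.Agent.Lib.PLocal.SylowIn

/-!
# Generating a `p`-subgroup by a normal set, one normalizing element at a time
-/

namespace CfsgLib.PLocal

open Subgroup

variable {G : Type*} [Group G] [Finite G] {p : ℕ} [Fact p.Prime]

/-- If `E` is a `p`-group generated by the set `D` closed under `E`-conjugation and `K < E` is
generated by elements of `D`, then some element of `D` outside `K` normalizes `K`. -/
theorem exists_mem_set_normalizer {E K : Subgroup G} {D : Set G} (hE : IsPGroup p E)
    (hgen : closure D = E) (hD : ∀ e ∈ E, ∀ d ∈ D, e * d * e⁻¹ ∈ D) (hK : closure (D ∩ K) = K)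
    (hKE : K < E) : ∃ d ∈ D, d ∉ K ∧ d ∈ normalizer (K : Set G) := by
  by_contra hcon
  push Not at hcon
  set L := E ⊓ normalizer (K : Set G) with hL
  have hDL : D ∩ L ⊆ K := by
    rintro d ⟨hd, hdL⟩
    by_contra hdK
    exact hcon d hd hdK hdL.2
  rcases eq_or_lt_of_le (inf_le_left : L ≤ E) with h | h
  · refine hKE.not_ge ?_
    rw [← hgen, closure_le]
    intro d hd
    exact hDL ⟨hd, h.ge (hgen ▸ subset_closure hd)⟩
  · obtain ⟨e, heE, heN, heL⟩ := CfsgLib.Transfer.exists_mem_normalizer_not_mem hE h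
    refine heL ⟨heE, ?_⟩
    show e ∈ normalizer (K : Set G)
    rw [← conjMap_eq_self_iff]
    refine Subgroup.eq_of_le_of_card_ge ?_ (card_conjMap e K).ge
    conv_lhs => rw [← hK]
    rw [conjMap, MonoidHom.map_closure, closure_le]
    rintro _ ⟨d, ⟨hd, hdK⟩, rfl⟩
    refine hDL ⟨hD e heE d hd, ?_⟩
    exact (mem_normalizer_iff.1 heN d).1 ⟨hKE.le hdK, le_normalizer hdK⟩

end CfsgLib.PLocal
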