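import Mathlib

/-!
# Averaging a function over moved orbits
-/

namespace CfsgLib.PLocal

variable {α A : Type*} [DecidableEq α] [CommGroup A]

/-- If `σ` has `p`-power order and moves every point of `F`, and products over `p` consecutive
points vanish, then the product over `F` vanishes. -/
theorem prod_moved_eq_one {p : ℕ} [Fact p.Prime] (σ : Equiv.Perm α) {n : ℕ} (hn : σ ^ (p ^ n) = 1)
    (f : α → A) (hblock : ∀ c, σ c ≠ c → ∏ i ∈ Finset.range p, f ((σ ^ i) c) = 1) :
    ∀ F : Finset α, (∀ c ∈ F, σ c ≠ c) → (∀ c, σ c ∈ F ↔ c ∈ F) → ∏ c ∈ F, f c = 1 := by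
  intro F
  induction F using Finset.strongInduction with
  | H F ih =>
    intro hmove hinv
    rcases F.eq_empty_or_nonempty with rfl | ⟨c, hc⟩
    · simp
    set m := Function.minimalPeriod σ c with hm
    have hper : Function.IsPeriodicPt σ (p ^ n) c := by
      show (σ^[p ^ n]) c = c
      rw [← Equiv.Perm.coe_pow, hn, Equiv.Perm.one_apply]
    have hmdvd : m ∣ p ^ n := hper.minimalPeriod_dvd
    obtain ⟨e, -, he⟩ := (Nat.dvd_prime_pow (Fact.out : p.Prime)).1 hmdvd
    have he0 : e ≠ 0 := by
      rintro rfl
      rw [pow_zero] at he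
      exact hmove c hc (Function.minimalPeriod_eq_one_iff_isFixedPt.1 he)
    have hmem : ∀ i : ℕ, (σ ^ i) c ∈ F := by
      intro i
      induction i with
      | zero => simpa using hc
      | succ i ihi => rw [pow_succ', Equiv.Perm.mul_apply]; exact (hinv _).2 ihi
    set O := (Finset.range m).image (fun i => (σ ^ i) c) with hO
    have hinj : Set.InjOn (fun i => (σ ^ i) c) (Finset.range m : Set ℕ) := by
      intro i hi j hj hij
      simp only [Finset.coe_range, Set.mem_Iio] at hi hj
      simp only [Equiv.Perm.coe_pow] at hij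
      exact Function.iterate_injOn_Iio_minimalPeriod hi hj hij
    have hprod : ∏ x ∈ O, f x = 1 := by
      rw [hO, Finset.prod_image hinj, he]
      obtain ⟨e', rfl⟩ : ∃ e', e = e' + 1 := ⟨e - 1, by omega⟩
      rw [pow_succ]
      have key : ∀ k : ℕ, ∏ i ∈ Finset.range (k * p), f ((σ ^ i) c) = 1 := by
        intro k
        induction k with
        | zero => simp
        | succ k ihk =>
          rw [Nat.succ_mul, Finset.prod_range_add, ihk, one_mul]
          have hmv : σ ((σ ^ (k * p)) c) ≠ (σ ^ (k * p)) c := hmove _ (hmem _)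
          have := hblock _ hmv
          simpa [← Equiv.Perm.mul_apply, ← pow_add, add_comm] using this
      exact key _
    have hOF : O ⊆ F := by
      intro x hx
      obtain ⟨i, -, rfl⟩ := Finset.mem_image.1 hx
      exact hmem i
    have hOinv : ∀ x, σ x ∈ O ↔ x ∈ O := by
      intro x
      have hsucc : ∀ y ∈ O, σ y ∈ O := by
        intro y hy
        obtain ⟨i, -, rfl⟩ := Finset.mem_image.1 hy
        refine Finset.mem_image.2 ⟨(i + 1) % m, Finset.mem_range.2
          (Nat.mod_lt _ (by rw [he]; exact pow_pos (Fact.out : p.Prime).pos e)), ?_⟩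
        simp only [Equiv.Perm.coe_pow, hm, Function.iterate_mod_minimalPeriod_eq]
        rw [Function.iterate_succ_apply']
      refine ⟨fun hx => ?_, hsucc x⟩
      have hk : ∀ k : ℕ, (σ ^ k) (σ x) ∈ O := fun k => by
        induction k with
        | zero => simpa using hx
        | succ k ihk => rw [pow_succ', Equiv.Perm.mul_apply]; exact hsucc _ ihk
      have := hk (p ^ n - 1)
      rwa [← Equiv.Perm.mul_apply, ← pow_succ, Nat.sub_add_cancel (pow_pos (Fact.out : p.Prime).pos n), hn,
        Equiv.Perm.one_apply] at this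
    rw [← Finset.prod_sdiff hOF, hprod, mul_one]
    refine ih _ (Finset.sdiff_ssubset hOF ⟨c, Finset.mem_image.2 ⟨0, Finset.mem_range.2
      (by rw [he]; exact pow_pos (Fact.out : p.Prime).pos e), by simp⟩⟩)
      (fun x hx => hmove x (Finset.mem_sdiff.1 hx).1) (fun x => ?_)
    simp only [Finset.mem_sdiff, hinv, hOinv]

end CfsgLib.PLocal
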