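import Cfsg.Prelude.Def_PLocal
import Cfsg.Prelude.Def_Transfer
import Cfsg.Agent.Lib.PLocal.OrbitSum
import Cfsg.Agent.Lib.PLocal.ChainGen

/-!
# An averaging argument for actions on abelian normal subgroups
-/

namespace CfsgLib.PLocal

open Subgroup
open scoped commutatorElement

section Identity

open Polynomial

variable {p : ℕ} [Fact p.Prime]

theorem sub_one_pow_eq_geom : ((X : (ZMod p)[X]) - 1) ^ (p - 1) = ∑ i ∈ Finset.range p, X ^ i := by
  refine mul_right_cancel₀ (X_sub_C_ne_zero (1 : ZMod p)) ?_
  rw [map_one, ← pow_succ, Nat.sub_add_cancel (Fact.out : p.Prime).one_le, sub_pow_char, one_pow,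
    geom_sum_mul]

end Identity

variable {G : Type*} [Group G] {p : ℕ} [Fact p.Prime]

/-- Forward differences: a sum over `p` consecutive conjugates is an iterated commutator. -/
theorem prod_range_conj_eq_one {U : Subgroup G} [U.Normal] {A : Type*} [CommGroup A]
    (hA : ∀ a : A, a ^ p = 1) (h : U →* A) (u : G)
    (hit : Cfsg.iterCommutator U (zpowers u) (p - 1) = ⊥) (x : U) :
    ∏ i ∈ Finset.range p,
      h ⟨u⁻¹ ^ i * x * (u⁻¹ ^ i)⁻¹, Normal.conj_mem inferInstance _ x.2 _⟩ = 1 := by
  let conjU : ℕ → U → U := fun i y =>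
    ⟨u⁻¹ ^ i * y * (u⁻¹ ^ i)⁻¹, Normal.conj_mem inferInstance _ y.2 _⟩
  let d : U → U := fun y => conjU 1 y * y⁻¹
  have hiter : ∀ k, ((d^[k]) x : G) ∈ Cfsg.iterCommutator U (zpowers u) k := by
    intro k
    induction k with
    | zero => exact x.2
    | succ k ih =>
      rw [Function.iterate_succ_apply']
      have h1 : (d ((d^[k]) x) : G) = ⁅((d^[k]) x : G), u⁻¹⁆⁻¹ := by
        simp only [d, conjU, Subgroup.coe_mul, InvMemClass.coe_inv, pow_one, commutatorElement_def]
        group
      rw [h1]
      exact Subgroup.inv_mem _ (commutator_mem_commutator ih (inv_mem (mem_zpowers u)))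
  letI : Module (ZMod p) (Additive A) := AddCommGroup.zmodModule (n := p)
    (fun a => congrArg Additive.ofMul (hA a.toMul))
  let T : Module.End (ZMod p) (ℕ → Additive A) :=
    { toFun := fun a i => a (i + 1)
      map_add' := fun _ _ => rfl
      map_smul' := fun _ _ => rfl }
  let seq : U → ℕ → Additive A := fun y i => Additive.ofMul (h (conjU i y))
  have hT : ∀ y, (T - 1) (seq y) = seq (d y) := by
    intro y
    funext i
    show Additive.ofMul (h (conjU (i + 1) y)) - Additive.ofMul (h (conjU i y)) =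
      Additive.ofMul (h (conjU i (d y)))
    have e : conjU i (d y) = conjU (i + 1) y * (conjU i y)⁻¹ := by
      refine Subtype.ext ?_
      simp only [d, conjU, Subgroup.coe_mul, InvMemClass.coe_inv, pow_succ, pow_one]
      group
    rw [e, map_mul, map_inv, ← div_eq_mul_inv, ofMul_div]
  have hTk : ∀ k, ((T - 1) ^ k) (seq x) = seq ((d^[k]) x) := by
    intro k
    induction k with
    | zero => rfl
    | succ k ih => rw [pow_succ', Module.End.mul_apply, ih, hT, Function.iterate_succ_apply']
  have hTi : ∀ i j, (T ^ i) (seq x) j = seq x (j + i) := by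
    intro i
    induction i with
    | zero => intro j; rfl
    | succ i ih =>
      intro j
      rw [pow_succ', Module.End.mul_apply]
      show (T ^ i) (seq x) (j + 1) = _
      rw [ih, add_right_comm, add_assoc]
  have hid := congrArg (fun q => (Polynomial.aeval T q) (seq x) 0) (sub_one_pow_eq_geom (p := p))
  simp only [map_pow, map_sub, map_one, Polynomial.aeval_X, map_sum, LinearMap.sum_apply,
    Finset.sum_apply] at hid
  rw [hTk, Finset.sum_congr rfl fun i _ => hTi i 0] at hid
  have h0 : (d^[p - 1]) x = 1 := by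
    have := hiter (p - 1)
    rw [hit, mem_bot] at this
    exact Subtype.ext this
  simp only [seq, zero_add, ← ofMul_prod, h0] at hid
  have hc0 : conjU 0 1 = 1 := Subtype.ext (by simp [conjU])
  rw [hc0, map_one] at hid
  exact (Additive.ofMul.injective hid).symm

variable [Finite G]

/-- If `M` centralizes `U / U₀` and `E` is a `p`-group generated by elements acting on `U` with small
nilpotency degree whose only fixed coset of `M` is `M`, then `G` centralizes `U / U₀`. -/
theorem commutator_mem_of_averaging (U U₀ M E : Subgroup G) [U.Normal]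
    (hU : Cfsg.IsElementaryAbelian p U)
    (hM : ∀ m ∈ M, ∀ x ∈ U, m * x * m⁻¹ * x⁻¹ ∈ U₀) (hE : IsPGroup p E)
    (D : Set G) (hgen : closure D = E) (hDconj : ∀ e ∈ E, ∀ d ∈ D, e * d * e⁻¹ ∈ D)
    (hgood : ∀ d ∈ D, Cfsg.iterCommutator U (zpowers d) (p - 1) = ⊥)
    (hEM : E ≤ M) (hfix : ∀ g : G, (∀ e ∈ E, g⁻¹ * e * g ∈ M) → g ∈ M) :
    ∀ g : G, ∀ x ∈ U, g * x * g⁻¹ * x⁻¹ ∈ U₀ := by
  classical
  letI : CommGroup U := { (inferInstance : Group U) with mul_comm := fun a b => hU.1.is_comm.comm a b }
  let lam : U →* U ⧸ U₀.subgroupOf U := QuotientGroup.mk' _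
  have hAp : ∀ a : U ⧸ U₀.subgroupOf U, a ^ p = 1 := fun a => by
    obtain ⟨y, rfl⟩ := QuotientGroup.mk'_surjective _ a
    rw [← map_pow, show y ^ p = 1 from Subtype.ext (hU.2 y y.2), map_one]
  have hlam : ∀ x y : U, (x : G) * (y : G)⁻¹ ∈ U₀ → lam x = lam y := by
    intro x y hxy
    refine (mul_inv_eq_one.1 ?_)
    rw [← map_inv, ← map_mul]
    exact (QuotientGroup.eq_one_iff _).2 (mem_subgroupOf.2 hxy)
  let f : G ⧸ M → U →* U ⧸ U₀.subgroupOf U := fun c =>
    lam.comp (MulAut.conjNormal (c.out)⁻¹ : MulAut U).toMonoidHom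
  have hf : ∀ (g : G) (x y : U), (y : G) = g⁻¹ * x * g → f (g : G ⧸ M) x = lam y := by
    intro g x y hy
    obtain ⟨m, hm⟩ := QuotientGroup.mk_out_eq_mul M g
    refine hlam _ _ ?_
    rw [MulEquiv.coe_toMonoidHom, MulAut.conjNormal_apply, hm, hy]
    have h1 := hM (m : G)⁻¹ (inv_mem m.2) (g⁻¹ * x * g) (by
      simpa using Normal.conj_mem (inferInstance : U.Normal) (x : G) x.2 g⁻¹)
    simpa [mul_assoc] using h1
  have hsmul : ∀ (g : G) (c : G ⧸ M) (x y : U), (y : G) = g⁻¹ * x * g → f (g • c) x = f c y := by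
    intro g c x y hy
    induction c using Quotient.inductionOn' with
    | h a =>
      let z : U := ⟨a⁻¹ * y * a⁻¹⁻¹, Normal.conj_mem inferInstance _ y.2 _⟩
      show f ((g * a : G) : G ⧸ M) x = f (a : G ⧸ M) y
      rw [hf (g * a) x z (by simp only [z, hy]; group), hf a y z (by simp only [z]; group)]
  haveI : Fintype (G ⧸ M) := Fintype.ofFinite _
  let Φ : U → U ⧸ U₀.subgroupOf U := fun x => ∏ c, f c x
  have hΦ : ∀ (g : G) (x y : U), (y : G) = g * x * g⁻¹ → Φ y = Φ x := by
    intro g x y hy
    show ∏ c, f c y = ∏ c, f c x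
    rw [← Equiv.prod_comp (MulAction.toPerm g) fun c => f c y]
    refine Finset.prod_congr rfl fun c _ => hsmul g c y x ?_
    rw [hy]; group
  let Fix : Subgroup G → Finset (G ⧸ M) := fun K => Finset.univ.filter fun c => ∀ k ∈ K, k • c = c
  have chain : ∀ n, ∀ K : Subgroup G, K ≤ E → closure (D ∩ K) = K → Nat.card E - Nat.card K = n →
      ∀ x, ∏ c ∈ Fix K, f c x = ∏ c ∈ Fix E, f c x := by
    intro n
    induction n using Nat.strong_induction_on with
    | _ n ih =>
      intro K hKE hK hn x
      rcases eq_or_lt_of_le hKE with rfl | hlt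
      · rfl
      obtain ⟨d, hdD, hdK, hdN⟩ := exists_mem_set_normalizer hE hgen hDconj hK hlt
      have hdE : d ∈ E := hgen ▸ subset_closure hdD
      set K' := K ⊔ zpowers d with hK'
      have hK'E : K' ≤ E := sup_le hKE (zpowers_le.2 hdE)
      have hK'gen : closure (D ∩ K') = K' := by
        refine le_antisymm ((closure_le _).2 Set.inter_subset_right) (sup_le ?_ ?_)
        · conv_lhs => rw [← hK]
          exact closure_mono (Set.inter_subset_inter_right _ (SetLike.coe_subset_coe.2 le_sup_left))
        · exact zpowers_le.2 (subset_closure ⟨hdD, mem_sup_right (mem_zpowers d)⟩)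
      have hlt' : Nat.card K < Nat.card K' := by
        refine lt_of_le_of_ne (card_le_of_le le_sup_left) fun hc => hdK ?_
        rw [Subgroup.eq_of_le_of_card_ge (le_sup_left : K ≤ K') hc.ge]
        exact mem_sup_right (mem_zpowers d)
      have hle := card_le_of_le hK'E
      rw [← ih _ (by omega) K' hK'E hK'gen rfl x]
      let σ : Equiv.Perm (G ⧸ M) := MulAction.toPerm d
      have hσinv : ∀ c, σ c ∈ Fix K ↔ c ∈ Fix K := by
        intro c
        simp only [Fix, Finset.mem_filter, Finset.mem_univ, true_and]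
        show (∀ k ∈ K, k • d • c = d • c) ↔ _
        constructor
        · intro h k hk
          have := h (d * k * d⁻¹) ((mem_normalizer_iff.1 hdN k).1 hk)
          rw [smul_smul, inv_mul_cancel_right, ← smul_smul] at this
          exact (MulAction.injective d) this
        · intro h k hk
          have := h _ ((mem_normalizer_iff''.1 hdN k).1 hk)
          calc k • d • c = d • (d⁻¹ * k * d) • c := by simp [smul_smul, mul_assoc]
            _ = _ := by rw [this]
      have hFix : Fix K' = (Fix K).filter fun c => σ c = c := by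
        ext c
        simp only [Fix, Finset.mem_filter, Finset.mem_univ, true_and]
        show (∀ k ∈ K', k • c = c) ↔ (∀ k ∈ K, k • c = c) ∧ d • c = c
        refine ⟨fun h => ⟨fun k hk => h k (mem_sup_left hk), h d (mem_sup_right (mem_zpowers d))⟩,
          fun ⟨h1, h2⟩ k hk => ?_⟩
        exact (sup_le (fun j hj => h1 j hj) (zpowers_le.2 (show d ∈ MulAction.stabilizer G c from h2)) :
          K' ≤ MulAction.stabilizer G c) hk
      rw [hFix, ← Finset.prod_filter_mul_prod_filter_not (Fix K) (fun c => σ c = c)]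
      obtain ⟨j, hj⟩ := hE ⟨d, hdE⟩
      have hj' : d ^ (p ^ j) = 1 := congrArg Subtype.val hj
      have hpowσ : ∀ i : ℕ, σ ^ i = MulAction.toPerm (d ^ i) := fun i => by
        simp only [σ, ← MulAction.toPermHom_apply, map_pow]
      have h1 := prod_moved_eq_one σ (n := j) (by
        rw [hpowσ, hj']; ext c; simp) (fun c => f c x) (fun c _ => ?_)
        ((Fix K).filter fun c => ¬ σ c = c) (fun c hc => (Finset.mem_filter.1 hc).2) (fun c => ?_)
      · rw [h1, mul_one]
      · have h2 := prod_range_conj_eq_one hAp (f c) d (hgood d hdD) x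
        rw [← h2]
        refine Finset.prod_congr rfl fun i _ => ?_
        rw [hpowσ]
        refine hsmul (d ^ i) c x _ ?_
        simp [inv_pow]
      · simp only [Finset.mem_filter, hσinv, σ.apply_eq_iff_eq]
  have hFixE : Fix E = {((1 : G) : G ⧸ M)} := by
    ext c
    simp only [Fix, Finset.mem_filter, Finset.mem_univ, true_and, Finset.mem_singleton]
    constructor
    · intro h
      induction c using Quotient.inductionOn' with
      | h a =>
        refine QuotientGroup.eq.2 ?_
        rw [mul_one]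
        refine inv_mem (hfix a fun e he => ?_)
        have h1 : ((e * a : G) : G ⧸ M) = (a : G ⧸ M) := h e he
        have h2 := QuotientGroup.eq.1 h1.symm
        simpa [mul_assoc] using h2
    · rintro rfl k hk
      show ((k * 1 : G) : G ⧸ M) = _
      rw [mul_one]
      exact QuotientGroup.eq.2 (by simpa using hEM hk)
  have hΦlam : ∀ x, Φ x = lam x := by
    intro x
    have h0 : closure (D ∩ ((⊥ : Subgroup G) : Set G)) = ⊥ :=
      le_bot_iff.1 ((closure_le _).2 Set.inter_subset_right)
    have := chain _ ⊥ bot_le h0 rfl x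
    rw [hFixE, Finset.prod_singleton, hf 1 x x (by group)] at this
    rw [← this]
    refine (Finset.prod_congr ?_ fun _ _ => rfl).symm
    ext c
    simp [Fix]
  intro g x hx
  have h1 := hΦ g ⟨x, hx⟩ ⟨g * x * g⁻¹, Normal.conj_mem inferInstance x hx g⟩ rfl
  rw [hΦlam, hΦlam, ← mul_inv_eq_one, ← map_inv, ← map_mul] at h1
  exact mem_subgroupOf.1 ((QuotientGroup.eq_one_iff _).1 h1)

end CfsgLib.PLocal
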