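import Cfsg.Agent.Lib.PLocal.ControlTransfer
import Cfsg.Agent.Lib.PLocal.StrongReduce

/-!
# Control of transfer by induced functors: subgroups, isomorphisms, quotients
-/

namespace CfsgLib.PLocal

open Subgroup

universe u

variable {p : ℕ} [Fact p.Prime]

/-- The induced family controls transfer. -/
abbrev CtrlT (p : ℕ) (𝓦 : Set (∀ (Q : Type u) [Group Q], Subgroup Q)) (G : Type u) [Group G] : Prop :=
  Cfsg.FamilyControlsTransferIn p (indSet 𝓦 G) ⊤

/-- `⨆ W, S ∩ N(W S)'`. -/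
abbrev transferJoin {G : Type u} [Group G] (𝓦 : Set (∀ (Q : Type u) [Group Q], Subgroup Q))
    (S : Subgroup G) : Subgroup G :=
  ⨆ W ∈ 𝓦, S ⊓ ⁅normalizer ((Cfsg.inducedFunctor (G := G) W S : Subgroup G) : Set G),
    normalizer ((Cfsg.inducedFunctor (G := G) W S : Subgroup G) : Set G)⁆

omit [Fact p.Prime] in
theorem transferJoin_le {G : Type u} [Group G] (𝓦 : Set (∀ (Q : Type u) [Group Q], Subgroup Q))
    (S : Subgroup G) : transferJoin 𝓦 S ≤ S ⊓ commutator G :=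
  iSup₂_le fun _ _ => inf_le_inf_left _ (commutator_mono le_top le_top)

theorem ctrlT_iff {G : Type u} [Group G] [Finite G]
    {𝓦 : Set (∀ (Q : Type u) [Group Q], Subgroup Q)}
    (h𝓦 : ∀ W ∈ 𝓦, Cfsg.IsCharPFunctor.{u} p W) (S : Sylow p G) :
    CtrlT p 𝓦 G ↔ (S : Subgroup G) ⊓ commutator G ≤ transferJoin 𝓦 (S : Subgroup G) := by
  constructor
  · intro h
    have h1 := familyTransfer_at (indSet_functor h𝓦) h (sylowIn_top S)
    simp only [iSup_image, top_inf_eq] at h1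
    rw [← commutator_def] at h1
    exact h1.le
  · intro h
    refine ⟨(S : Subgroup G), le_top, S.2, (sylowIn_top S).2.2, ?_⟩
    simp only [iSup_image, top_inf_eq]
    rw [← commutator_def]
    exact le_antisymm h (transferJoin_le 𝓦 (S : Subgroup G))

theorem ctrlT_equiv {X Y : Type u} [Group X] [Finite X] [Group Y] [Finite Y]
    {𝓦 : Set (∀ (Q : Type u) [Group Q], Subgroup Q)}
    (h𝓦 : ∀ W ∈ 𝓦, Cfsg.IsCharPFunctor.{u} p W) (e : X ≃* Y) (hc : CtrlT p 𝓦 X) :
    CtrlT p 𝓦 Y := by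
  obtain ⟨S⟩ : Nonempty (Sylow p X) := inferInstance
  have hes : Function.Surjective e.toMonoidHom := e.surjective
  have h := map_mono (f := e.toMonoidHom) ((ctrlT_iff h𝓦 S).1 hc)
  rw [ctrlT_iff h𝓦 (S.mapSurjective hes), Sylow.coe_mapSurjective]
  rw [Subgroup.map_inf _ _ _ e.injective, map_commutator_eq, MonoidHom.range_eq_top.2 hes,
    ← commutator_def, transferJoin, Subgroup.map_iSup] at h
  refine h.trans (iSup_le fun W => ?_)
  rw [Subgroup.map_iSup]
  refine iSup_le fun hW => le_iSup₂_of_le W hW ?_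
  rw [Subgroup.map_inf _ _ _ e.injective, Subgroup.map_commutator,
    map_normalizer_eq_of_bijective _ e.bijective, induced_map_of_injOn (h𝓦 W hW) _ S.2 e.injective.injOn]

theorem ctrlT_subgroup {G : Type u} [Group G] [Finite G]
    {𝓦 : Set (∀ (Q : Type u) [Group Q], Subgroup Q)}
    (h𝓦 : ∀ W ∈ 𝓦, Cfsg.IsCharPFunctor.{u} p W) {H : Subgroup G} (hc : CtrlT p 𝓦 H)
    {T : Subgroup G} (hT : SylowIn p T H) :
    T ⊓ ⁅H, H⁆ = ⨆ W ∈ indSet 𝓦 G, T ⊓ ⁅H ⊓ normalizer ((W T : Subgroup G) : Set G),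
      H ⊓ normalizer ((W T : Subgroup G) : Set G)⁆ := by
  have hsT : SylowIn p (T.subgroupOf H) (⊤ : Subgroup H) :=
    ⟨le_top, hT.2.1.comap_subtype, by rw [relIndex_top_right]; exact hT.2.2⟩
  have h := congrArg (Subgroup.map H.subtype) (familyTransfer_at (indSet_functor h𝓦) hc hsT)
  simp only [iSup_image, Subgroup.map_iSup] at h
  simp only [iSup_image]
  rw [Subgroup.map_inf _ _ _ H.subtype_injective, Subgroup.map_commutator, map_subgroupOf_eq_of_le hT.1,
    ← MonoidHom.range_eq_map, range_subtype] at h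
  rw [h]
  refine iSup_congr fun W => iSup_congr fun hW => ?_
  rw [Subgroup.map_inf _ _ _ H.subtype_injective, Subgroup.map_commutator, map_subgroupOf_eq_of_le hT.1]
  have e1 : ((⊤ : Subgroup H) ⊓ normalizer ((Cfsg.inducedFunctor (G := H) W (T.subgroupOf H) :
      Subgroup H) : Set H)).map H.subtype =
      H ⊓ normalizer ((Cfsg.inducedFunctor (G := G) W T : Subgroup G) : Set G) := by
    have h1 := induced_map_of_injOn (h𝓦 W hW) H.subtype hsT.2.1 H.subtype_injective.injOn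
    rw [map_subgroupOf_eq_of_le hT.1] at h1
    rw [top_inf_eq, ← h1]
    ext x
    constructor
    · rintro ⟨y, hy, rfl⟩
      exact ⟨y.2, le_normalizer_map _ ⟨y, hy, rfl⟩⟩
    · rintro ⟨hx1, hx2⟩
      refine ⟨⟨x, hx1⟩, ?_, rfl⟩
      show (⟨x, hx1⟩ : H) ∈ normalizer ((Cfsg.inducedFunctor (G := H) W (T.subgroupOf H) :
        Subgroup H) : Set H)
      rw [mem_normalizer_iff]
      intro z
      have := mem_normalizer_iff.1 hx2 (z : G)
      constructor
      · intro hz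
        obtain ⟨w, hw, hwe⟩ := this.1 (mem_map_of_mem H.subtype hz)
        have : w = ⟨x, hx1⟩ * z * ⟨x, hx1⟩⁻¹ := Subtype.ext hwe
        rwa [← this]
      · intro hz
        obtain ⟨w, hw, hwe⟩ := this.2 (mem_map_of_mem H.subtype hz)
        have : w = z := Subtype.ext hwe
        rwa [← this]
  rw [e1]

theorem familyTransfer_of_ctrlT {G : Type u} [Group G] [Finite G]
    {𝓦 : Set (∀ (Q : Type u) [Group Q], Subgroup Q)}
    (h𝓦 : ∀ W ∈ 𝓦, Cfsg.IsCharPFunctor.{u} p W) {H : Subgroup G} (hc : CtrlT p 𝓦 H) :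
    Cfsg.FamilyControlsTransferIn p (indSet 𝓦 G) H := by
  obtain ⟨T, hT, -⟩ := exists_sylowIn_le (p := p) (IsPGroup.of_bot : IsPGroup p (⊥ : Subgroup G))
    (bot_le : ⊥ ≤ H)
  exact ⟨T, hT.1, hT.2.1, hT.2.2, ctrlT_subgroup h𝓦 hc hT⟩

theorem inf_commutator_le_transferJoin {G : Type u} [Group G] [Finite G]
    {𝓦 : Set (∀ (Q : Type u) [Group Q], Subgroup Q)}
    (h𝓦 : ∀ W ∈ 𝓦, Cfsg.IsCharPFunctor.{u} p W) (S : Sylow p G) {H : Subgroup G} (hc : CtrlT p 𝓦 H)
    (hSH : (S : Subgroup G) ≤ H) :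
    (S : Subgroup G) ⊓ ⁅H, H⁆ ≤ transferJoin 𝓦 (S : Subgroup G) := by
  rw [ctrlT_subgroup h𝓦 hc (T := (S : Subgroup G)) ⟨hSH, S.2, fun hd =>
    S.not_dvd_index (hd.trans (relIndex_dvd_index_of_le hSH))⟩]
  simp only [iSup_image]
  exact iSup₂_mono fun W _ => inf_le_inf_left _ (commutator_mono inf_le_right inf_le_right)

end CfsgLib.PLocal
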