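import Cfsg.Prelude.Def_LocalEven
import Cfsg.Agent.Lib.PLocal.CtrlTransferInd
import Cfsg.Agent.Lib.PLocal.Averaging
import Cfsg.Agent.Lib.PLocal.Sylow
import Cfsg.Agent.Lib.Solvable.MinNormal

/-!
# Glauberman: minimal failures of control of transfer
-/

namespace CfsgLib.PLocal

open Subgroup
open scoped commutatorElement

universe u

variable {p : ℕ} [hp : Fact p.Prime] {G : Type u} [Group G] [Finite G]

/-- A central element of a Sylow subgroup lying in `G'` lies in `S'`. -/
theorem central_mem_commutator (S : Sylow p G) {z : G} (hzS : z ∈ (S : Subgroup G))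
    (hzc : z ∈ center G) (hzd : z ∈ commutator G) :
    z ∈ ⁅(S : Subgroup G), (S : Subgroup G)⁆ := by
  set S' : Subgroup G := (S : Subgroup G)
  let ϕ : S' →* Abelianization S' := Abelianization.of
  have key : ∀ (k : ℕ) (g₀ : G), g₀⁻¹ * z ^ k * g₀ ∈ S' → g₀⁻¹ * z ^ k * g₀ = z ^ k := fun k g₀ _ => by
    rw [mul_assoc, ← mem_center_iff.1 (pow_mem hzc k) g₀, inv_mul_cancel_left]
  have h1 : MonoidHom.transfer ϕ z = 1 :=
    MonoidHom.mem_ker.1 (Abelianization.commutator_subset_ker _ hzd)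
  rw [MonoidHom.transfer_eq_pow ϕ z key] at h1
  have h2 : ϕ (⟨z, hzS⟩ ^ S'.index) = 1 := h1
  rw [map_pow] at h2
  have h3 : ϕ ⟨z, hzS⟩ = 1 := by
    obtain ⟨k, hk⟩ := S.2 ⟨z, hzS⟩
    have hcop : (p ^ k).Coprime S'.index :=
      Nat.Coprime.pow_left k (hp.out.coprime_iff_not_dvd.2 S.not_dvd_index)
    refine orderOf_eq_one_iff.1 (Nat.eq_one_of_dvd_coprimes hcop ?_ (orderOf_dvd_of_pow_eq_one h2))
    exact orderOf_dvd_of_pow_eq_one (by rw [← map_pow, hk, map_one])
  have h4 : (⟨z, hzS⟩ : S') ∈ commutator S' := (QuotientGroup.eq_one_iff _).1 h3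
  rw [← Subgroup.map_subtype_commutator]
  exact ⟨_, h4, rfl⟩

variable {𝓦 : Set (∀ (Q : Type u) [Group Q], Subgroup Q)}

/-- The standing hypotheses of a minimal failure of control of transfer. -/
structure TransferFailure (p : ℕ) (𝓦 : Set (∀ (Q : Type u) [Group Q], Subgroup Q)) (G : Type u)
    [Group G] : Prop where
  functor : ∀ W ∈ 𝓦, Cfsg.IsCharPFunctor.{u} p W
  nonempty : 𝓦.Nonempty
  subgroup : ∀ H : Subgroup G, H ≠ ⊤ → CtrlT p 𝓦 H
  quotient : ∀ (N : Subgroup G) [N.Normal], N ≠ ⊥ → CtrlT p 𝓦 (G ⧸ N)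
  fail : ¬ CtrlT p 𝓦 G

theorem TransferFailure.not_le (h : TransferFailure p 𝓦 G) (S : Sylow p G) :
    ¬ (S : Subgroup G) ⊓ commutator G ≤ transferJoin 𝓦 (S : Subgroup G) :=
  fun hh => h.fail ((ctrlT_iff h.functor S).2 hh)

theorem TransferFailure.inf_le_join (h : TransferFailure p 𝓦 G) (S : Sylow p G) {H : Subgroup G}
    (hH : H ≠ ⊤) (hSH : (S : Subgroup G) ≤ H) :
    (S : Subgroup G) ⊓ ⁅H, H⁆ ≤ transferJoin 𝓦 (S : Subgroup G) :=
  inf_commutator_le_transferJoin h.functor S (h.subgroup H hH) hSH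

theorem TransferFailure.derived_le_join (h : TransferFailure p 𝓦 G) (S : Sylow p G) :
    ⁅(S : Subgroup G), (S : Subgroup G)⁆ ≤ transferJoin 𝓦 (S : Subgroup G) := by
  obtain ⟨W, hW⟩ := h.nonempty
  have hf := induced_isConjugacyFunctor (G := G) (h.functor W hW)
  exact le_trans (le_inf (Subgroup.le_normalizer_iff_commutator_le_left.1 Subgroup.le_normalizer)
    (commutator_mono (le_normalizer_functor hf S.2) (le_normalizer_functor hf S.2)))
    (le_iSup₂_of_le W hW le_rfl)

theorem TransferFailure.normalizer_ne_top (h : TransferFailure p 𝓦 G) (S : Sylow p G) :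
    normalizer ((S : Subgroup G) : Set G) ≠ ⊤ := by
  intro htop
  obtain ⟨W, hW⟩ := h.nonempty
  refine h.not_le S (le_trans ?_ (le_iSup₂_of_le W hW le_rfl))
  have hN := normalizer_le_normalizer_functor (induced_isConjugacyFunctor (G := G) (h.functor W hW)) S.2
  rw [htop, top_le_iff] at hN
  rw [hN, commutator_def]

theorem TransferFailure.pPrimeCore_eq_bot (h : TransferFailure p 𝓦 G) : Cfsg.pPrimeCore p G = ⊥ := by
  by_contra hO
  obtain ⟨S⟩ : Nonempty (Sylow p G) := inferInstance
  haveI := Cfsg.pPrimeCore_normal p G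
  set L := Cfsg.pPrimeCore p G with hL
  have hLc := CfsgLib.Comp.coprime_card_pPrimeCore p G
  set π := QuotientGroup.mk' L with hπ
  have hπs : Function.Surjective π := QuotientGroup.mk'_surjective L
  set S' : Subgroup G := (S : Subgroup G) with hS'
  have hinj : Set.InjOn π (S' : Set G) := injOn_mk'_of_isPGroup hLc S.2
  have hc := (ctrlT_iff h.functor (S.mapSurjective hπs)).1 (h.quotient L hO)
  rw [Sylow.coe_mapSurjective] at hc
  refine h.not_le S fun x hx => ?_
  obtain ⟨hxS, hxG⟩ := mem_inf.1 hx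
  have hx' : π x ∈ transferJoin 𝓦 (S'.map π) := hc ⟨mem_map_of_mem π hxS, by
    rw [commutator_def, ← map_top_of_surjective π hπs, ← Subgroup.map_commutator, ← commutator_def]
    exact mem_map_of_mem π hxG⟩
  have hle : transferJoin 𝓦 (S'.map π) ≤ (transferJoin 𝓦 S').map π := by
    refine iSup₂_le fun W hW => ?_
    rw [transferJoin, Subgroup.map_iSup]
    simp only [Subgroup.map_iSup]
    refine le_iSup₂_of_le W hW ?_
    have hUp : IsPGroup p (Cfsg.inducedFunctor (G := G) W S') := S.2.to_le (map_subtype_le _)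
    rw [← induced_map_of_injOn (h.functor W hW) π S.2 hinj, ← CfsgLib.Comp.map_normalizer_eq hLc hUp,
      ← Subgroup.map_commutator]
    set N := normalizer (Cfsg.inducedFunctor (G := G) W S' : Set G) with hN
    rintro _ ⟨⟨y, hy, rfl⟩, w, hw, hwy⟩
    refine ⟨y, ⟨hy, ?_⟩, rfl⟩
    -- a `p`-element of `N` lying in `N' L` lies in `N'`
    have hSN : S' ≤ N := le_normalizer_functor (induced_isConjugacyFunctor (h.functor W hW)) S.2
    have hl : w⁻¹ * y ∈ L := QuotientGroup.eq.1 hwy
    have hwN : w ∈ N := (commutator_le.2 fun a ha b hb => by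
      rw [commutatorElement_def]
      exact N.mul_mem (N.mul_mem (N.mul_mem ha hb) (N.inv_mem ha)) (N.inv_mem hb)) hw
    let y' : N := ⟨y, hSN hy⟩
    let w' : N := ⟨w, hwN⟩
    have hw' : w' ∈ commutator N := by
      have hw1 : w ∈ (commutator N).map N.subtype := by rw [map_subtype_commutator]; exact hw
      obtain ⟨v, hv, hve⟩ := hw1
      rwa [show w' = v from Subtype.ext hve.symm]
    have hy'L : Abelianization.of y' = Abelianization.of (w'⁻¹ * y') := by
      rw [map_mul, map_inv, show Abelianization.of w' = 1 from (QuotientGroup.eq_one_iff _).2 hw',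
        inv_one, one_mul]
    obtain ⟨k, hk⟩ := S.2 ⟨y, hy⟩
    have h1 : orderOf (Abelianization.of y') ∣ p ^ k :=
      (orderOf_map_dvd _ _).trans (orderOf_dvd_of_pow_eq_one (Subtype.ext (congrArg Subtype.val hk :)))
    have h2 : orderOf (Abelianization.of y') ∣ Nat.card L := by
      rw [hy'L]
      refine (orderOf_map_dvd _ _).trans ?_
      rw [← Subgroup.orderOf_coe]
      exact L.orderOf_dvd_natCard hl
    have h3 : Abelianization.of y' = 1 := orderOf_eq_one_iff.1
      (Nat.eq_one_of_dvd_coprimes (hLc.symm.pow_left k) h1 h2)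
    rw [← map_subtype_commutator]
    exact ⟨y', (QuotientGroup.eq_one_iff _).1 h3, rfl⟩
  obtain ⟨t, ht, hte⟩ := hle hx'
  have htS : t ∈ S' := (transferJoin_le 𝓦 S').trans inf_le_left ht
  exact hinj htS hxS hte ▸ ht

theorem TransferFailure.pCore_ne_bot (h : TransferFailure p 𝓦 G) : Cfsg.pCore p G ≠ ⊥ := by
  intro hQ
  obtain ⟨S⟩ : Nonempty (Sylow p G) := inferInstance
  refine h.fail (familyTransfer_top S _ (indSet_functor h.functor) (fullNormSet p (S : Subgroup G))
    (fun U hU => hU) (fun T hT => exists_fullNormalized S hT) fun U hU hne => ?_)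
  refine familyTransfer_of_ctrlT h.functor (h.subgroup _ fun htop => hne (eq_bot_iff.2 ?_))
  rw [← hQ]
  exact CfsgLib.Solvable.le_pCore (normalizer_eq_top_iff.1 htop) (S.2.to_le hU.1)

/-- The failure is visible on `O_p(G)`. -/
theorem TransferFailure.pCore_inf_not_le (h : TransferFailure p 𝓦 G) (S : Sylow p G) :
    ¬ Cfsg.pCore p G ⊓ commutator G ≤ transferJoin 𝓦 (S : Subgroup G) := by
  intro hQT
  haveI := Cfsg.pCore_normal p G
  set Q := Cfsg.pCore p G with hQ
  set S' : Subgroup G := (S : Subgroup G) with hS'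
  have hQS : Q ≤ S' := CfsgLib.Solvable.pCore_le_sylow S
  set π := QuotientGroup.mk' Q with hπ
  have hπs : Function.Surjective π := QuotientGroup.mk'_surjective Q
  have hker : ∀ z : G, π z = 1 ↔ z ∈ Q := fun z => QuotientGroup.eq_one_iff z
  have hpre : ∀ z : G, π z ∈ S'.map π → z ∈ S' := fun z hz => by
    rw [← mem_comap, comap_map_eq, hπ, QuotientGroup.ker_mk', sup_eq_left.2 hQS] at hz
    exact hz
  have hc := (ctrlT_iff h.functor (S.mapSurjective hπs)).1 (h.quotient Q h.pCore_ne_bot)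
  rw [Sylow.coe_mapSurjective] at hc
  set T := transferJoin 𝓦 S' with hT
  refine h.not_le S fun x hx => ?_
  obtain ⟨hxS, hxG⟩ := mem_inf.1 hx
  have hx' : π x ∈ transferJoin 𝓦 (S'.map π) := hc ⟨mem_map_of_mem π hxS, by
    rw [commutator_def, ← map_top_of_surjective π hπs, ← Subgroup.map_commutator, ← commutator_def]
    exact mem_map_of_mem π hxG⟩
  have hle : transferJoin 𝓦 (S'.map π) ≤ T.map π := by
    refine iSup₂_le fun W hW => ?_
    set U := Cfsg.inducedFunctor (G := G ⧸ Q) W (S'.map π) with hU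
    have hWf := induced_isConjugacyFunctor (G := G ⧸ Q) (h.functor W hW)
    have hTp : IsPGroup p (S'.map π) := S.2.map π
    set H := normalizer ((U.comap π : Subgroup G) : Set G) with hH
    have hHeq : H = (normalizer (U : Set (G ⧸ Q))).comap π :=
      (comap_normalizer_eq_of_surjective U hπs).symm
    have hSH : S' ≤ H := fun z hz => hHeq ▸ le_normalizer_functor hWf hTp (mem_map_of_mem π hz)
    have hUS : U.comap π ≤ S' := fun z hz => hpre z (functor_le hWf hTp hz)
    have hHtop : H ≠ ⊤ := by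
      intro h0
      have hle : U.comap π ≤ Q := CfsgLib.Solvable.le_pCore (normalizer_eq_top_iff.1 h0) (S.2.to_le hUS)
      by_cases hSne : S'.map π = ⊥
      · refine h.normalizer_ne_top S (normalizer_eq_top_iff.2 ?_)
        have : S' ≤ Q := fun z hz => (hker z).1 (by
          rw [← mem_bot, ← hSne]; exact mem_map_of_mem π hz)
        have e : (S : Subgroup G) = Q := le_antisymm this hQS
        rw [e]
        exact Cfsg.pCore_normal p G
      · refine functor_ne_bot hWf hTp hSne (eq_bot_iff.2 fun z hz => ?_)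
        obtain ⟨z, rfl⟩ := hπs z
        exact mem_bot.2 ((hker z).2 (hle hz))
    have e : normalizer (U : Set (G ⧸ Q)) = H.map π := by
      rw [hHeq, map_comap_eq_self_of_surjective hπs]
    rw [e, ← Subgroup.map_commutator]
    rintro _ ⟨hyS, y, hy, rfl⟩
    exact mem_map_of_mem π (h.inf_le_join S hHtop hSH ⟨hpre y hyS, hy⟩)
  obtain ⟨t, ht, hte⟩ := hle hx'
  have hq : t⁻¹ * x ∈ Q := QuotientGroup.eq.1 hte
  have := T.mul_mem ht (hQT ⟨hq, (commutator G).mul_mem ((commutator G).inv_mem ((transferJoin_le 𝓦 S').trans inf_le_right ht)) hxG⟩)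
  rwa [mul_inv_cancel_left] at this

variable (S : Sylow p G)

/-- `N_G(T ∩ O_p(G))`. -/
abbrev failNorm (𝓦 : Set (∀ (Q : Type u) [Group Q], Subgroup Q)) : Subgroup G :=
  normalizer ((transferJoin 𝓦 (S : Subgroup G) ⊓ Cfsg.pCore p G : Subgroup G) : Set G)

theorem TransferFailure.commutator_le_inf (h : TransferFailure p 𝓦 G) {H : Subgroup G}
    (hSH : (S : Subgroup G) ≤ H) (hH : H ≠ ⊤) :
    ⁅Cfsg.pCore p G, H⁆ ≤ transferJoin 𝓦 (S : Subgroup G) ⊓ Cfsg.pCore p G := by
  haveI := Cfsg.pCore_normal p G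
  have hQS : Cfsg.pCore p G ≤ (S : Subgroup G) := CfsgLib.Solvable.pCore_le_sylow S
  have hle : ⁅Cfsg.pCore p G, H⁆ ≤ Cfsg.pCore p G := commutator_le_left _ _
  exact le_inf ((le_inf (hle.trans hQS) (commutator_mono (hQS.trans hSH) le_rfl)).trans
    (h.inf_le_join S hH hSH)) hle

theorem TransferFailure.le_failNorm (h : TransferFailure p 𝓦 G) {H : Subgroup G}
    (hSH : (S : Subgroup G) ≤ H) (hH : H ≠ ⊤) : H ≤ failNorm S 𝓦 := by
  refine le_normalizer_iff_commutator_le_left.2 ?_
  exact (commutator_mono inf_le_right le_rfl).trans (h.commutator_le_inf S hSH hH)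

theorem TransferFailure.failNorm_ne_top (h : TransferFailure p 𝓦 G) : failNorm S 𝓦 ≠ ⊤ := by
  intro htop
  haveI := Cfsg.pCore_normal p G
  set Q := Cfsg.pCore p G with hQ
  set S' : Subgroup G := (S : Subgroup G) with hS'
  set Q₀ := transferJoin 𝓦 S' ⊓ Q with hQ₀
  haveI hn : Q₀.Normal := normalizer_eq_top_iff.1 htop
  have hQS : Q ≤ S' := CfsgLib.Solvable.pCore_le_sylow S
  set π := QuotientGroup.mk' Q₀ with hπ
  have hπs : Function.Surjective π := QuotientGroup.mk'_surjective Q₀
  -- `Q / Q₀` is central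
  have hQc : ∀ q ∈ Q, ∀ g : G, π q * π g = π g * π q := by
    let C : Subgroup G := (centralizer ((Q.map π : Subgroup _) : Set (G ⧸ Q₀))).comap π
    haveI : (Q.map π).Normal := Normal.map inferInstance π hπs
    haveI : C.Normal := Normal.comap inferInstance π
    have hmem : ∀ g : G, (∀ q ∈ Q, ⁅q, g⁆ ∈ Q₀) → g ∈ C := by
      intro g hg
      refine mem_centralizer_iff.2 ?_
      rintro _ ⟨q, hq, rfl⟩
      refine commutatorElement_eq_one_iff_mul_comm.1 ?_
      rw [← map_commutatorElement]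
      exact (QuotientGroup.eq_one_iff _).2 (hg q hq)
    have hSC : S' ≤ C := fun s hs => hmem s fun q hq =>
      ⟨h.derived_le_join S (commutator_mem_commutator (hQS hq) hs),
        commutator_le_left Q S' (commutator_mem_commutator hq hs)⟩
    have hNC : normalizer (S' : Set G) ≤ C := fun n hn => hmem n fun q hq =>
      h.commutator_le_inf S le_normalizer (h.normalizer_ne_top S) (commutator_mem_commutator hq hn)
    have htopC : C = ⊤ := by
      refine eq_top_iff.2 ?_
      rw [← frattini_sup S C]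
      refine sup_le le_rfl ?_
      rw [inf_eq_left.2 hSC]
      exact hNC
    intro q hq g
    exact mem_centralizer_iff.1 (show g ∈ C from htopC ▸ mem_top g) _ (mem_map_of_mem π hq)
  refine h.pCore_inf_not_le S fun q hq => ?_
  obtain ⟨hqQ, hqG⟩ := mem_inf.1 hq
  have h1 := central_mem_commutator (S.mapSurjective hπs) (z := π q)
    (mem_map_of_mem π (hQS hqQ))
    (mem_center_iff.2 fun y => by obtain ⟨g, rfl⟩ := hπs y; exact (hQc q hqQ g).symm)
    (by rw [commutator_def, ← map_top_of_surjective π hπs, ← Subgroup.map_commutator, ← commutator_def]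
        exact mem_map_of_mem π hqG)
  rw [Sylow.coe_mapSurjective, ← Subgroup.map_commutator] at h1
  obtain ⟨w, hw, hwq⟩ := h1
  have h2 : w⁻¹ * q ∈ Q₀ := QuotientGroup.eq.1 hwq
  have := mul_mem (h.derived_le_join S hw) (mem_inf.1 h2).1
  rwa [mul_inv_cancel_left] at this

theorem TransferFailure.sylow_le_failNorm (h : TransferFailure p 𝓦 G) :
    (S : Subgroup G) ≤ failNorm S 𝓦 := by
  refine le_normalizer.trans (h.le_failNorm S le_normalizer (h.normalizer_ne_top S))

theorem TransferFailure.constrained (h : TransferFailure p 𝓦 G) : Constrained p G := by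
  obtain ⟨S⟩ : Nonempty (Sylow p G) := inferInstance
  by_contra hc
  haveI := Cfsg.pCore_normal p G
  set Q := Cfsg.pCore p G with hQ
  set S' : Subgroup G := (S : Subgroup G) with hS'
  set C := centralizer (Q : Set G) with hC
  set N₀ := normalizer ((S' ⊓ (Q ⊔ C) : Subgroup G) : Set G) with hN₀
  have hSN₀ : S' ≤ N₀ := (le_inf S'.le_normalizer (le_normalizer_of_normal S' (Q ⊔ C))).trans
    inf_normalizer_le_normalizer_inf
  by_cases htop : N₀ = ⊤
  · refine hc ?_
    have hn : (S' ⊓ (Q ⊔ C)).Normal := normalizer_eq_top_iff.1 htop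
    have hle : S' ⊓ (Q ⊔ C) ≤ Q := CfsgLib.Solvable.le_pCore hn (S.2.to_le inf_le_left)
    obtain ⟨SC, hSC⟩ := CfsgLib.Transfer.exists_sylow_eq_subgroupOf S C
    have hcen : ∀ x ∈ (SC : Subgroup C), ∀ y : C, x * y = y * x := fun x hx y => by
      rw [hSC] at hx
      exact Subtype.ext (mem_centralizer_iff.1 y.2 _ (hle ⟨hx, mem_sup_right x.2⟩))
    have hB := CfsgLib.Transfer.hasNormalPComplement_of_normalizer_le_centralizer SC
      fun y _ => mem_centralizer_iff.2 fun x hx => hcen x hx y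
    rw [CfsgLib.Transfer.hasNormalPComplement_iff_coprime_pResidual] at hB
    have hKn : ((Cfsg.pResidual p C).map C.subtype).Normal := by
      haveI := CfsgLib.Transfer.pResidual_characteristic (p := p) (G := C)
      infer_instance
    have hK1 : Cfsg.pResidual p C = ⊥ := by
      have : (Cfsg.pResidual p C).map C.subtype ≤ Cfsg.pPrimeCore p G :=
        le_sSup ⟨hKn, by rwa [card_map_of_injective C.subtype_injective]⟩
      rwa [h.pPrimeCore_eq_bot, le_bot_iff, map_eq_bot_iff_of_injective _ C.subtype_injective] at this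
    haveI := CfsgLib.Transfer.pResidual_normal (p := p) (G := C)
    have hCp : IsPGroup p C :=
      (CfsgLib.Transfer.isPGroup_quotient_of_pResidual_le le_rfl :
        IsPGroup p (C ⧸ Cfsg.pResidual p C)).of_equiv
        ((QuotientGroup.quotientMulEquivOfEq hK1).trans QuotientGroup.quotientBot)
    exact CfsgLib.Solvable.le_pCore inferInstance hCp
  · refine h.failNorm_ne_top S (eq_top_iff.2 ?_)
    rw [← frattini_sup S (Q ⊔ C)]
    refine sup_le (sup_le ?_ ?_) (h.le_failNorm S hSN₀ htop)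
    · exact (CfsgLib.Solvable.pCore_le_sylow S).trans (h.sylow_le_failNorm S)
    · exact (centralizer_le (SetLike.coe_subset_coe.2 inf_le_right)).trans (centralizer_le_normalizer _)

omit hp [Finite G] in
theorem iterCommutator_map {H : Type*} [Group H] (f : G →* H) (U K : Subgroup G) :
    ∀ k, (Cfsg.iterCommutator U K k).map f = Cfsg.iterCommutator (U.map f) (K.map f) k
  | 0 => rfl
  | k + 1 => by
    show Subgroup.map f ⁅_, _⁆ = ⁅_, _⁆
    rw [Subgroup.map_commutator, iterCommutator_map f U K k]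

omit hp [Finite G] in
theorem iterCommutator_conj {U : Subgroup G} [U.Normal] (g u : G) (k : ℕ) :
    Cfsg.iterCommutator U (zpowers (g * u * g⁻¹)) k =
      (Cfsg.iterCommutator U (zpowers u) k).map (MulAut.conj g).toMonoidHom := by
  rw [iterCommutator_map, MonoidHom.map_zpowers,
    show U.map (MulAut.conj g).toMonoidHom = U from mem_normalizer_iff_map_conj_eq.1
      (by rw [normalizer_eq_top]; exact mem_top g)]
  rfl

omit hp [Finite G] in
theorem iterCommutator_le_conj {U V : Subgroup G} [U.Normal] [V.Normal] (g : G) {u : G} {k : ℕ}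
    (hu : Cfsg.iterCommutator U (zpowers u) k ≤ V) :
    Cfsg.iterCommutator U (zpowers (g * u * g⁻¹)) k ≤ V := by
  rw [iterCommutator_conj]
  rintro _ ⟨x, hx, rfl⟩
  exact Normal.conj_mem inferInstance x (hu hx) g

/-- **Glauberman**: no element outside `O_p(G)` acts on every chief factor below `O_p(G)` with
degree less than `p`. -/
theorem TransferFailure.exists_chiefFactor (h : TransferFailure p 𝓦 G) :
    ∀ u : G, u ∈ (S : Subgroup G) → u ∉ Cfsg.pCore p G →
      ∃ U V : Subgroup G, Cfsg.IsChiefFactor U V ∧ U ≤ Cfsg.pCore p G ∧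
        ¬ Cfsg.iterCommutator U (zpowers u) (p - 1) ≤ V := by
  intro u huS huQ
  haveI := Cfsg.pCore_normal p G
  set Q := Cfsg.pCore p G with hQ
  set S' : Subgroup G := (S : Subgroup G) with hS'
  set T := transferJoin 𝓦 S' with hT
  set M := failNorm S 𝓦 with hM
  have hQS : Q ≤ S' := CfsgLib.Solvable.pCore_le_sylow S
  have hSM : S' ≤ M := h.sylow_le_failNorm S
  -- `V` maximal normal inside `Q ∩ G' ∩ T`, `U` minimal normal over it
  set Q₁ := Q ⊓ commutator G with hQ₁
  obtain ⟨V, hVn, hVle, hVmax⟩ : ∃ V : Subgroup G, V.Normal ∧ V ≤ Q₁ ⊓ T ∧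
      ∀ V' : Subgroup G, V'.Normal → V' ≤ Q₁ ⊓ T → Nat.card V' ≤ Nat.card V := by
    classical
    obtain ⟨V, hV, hmax⟩ := Set.exists_max_image {V : Subgroup G | V.Normal ∧ V ≤ Q₁ ⊓ T}
      (fun V => Nat.card V) (Set.toFinite _) ⟨⊥, inferInstance, bot_le⟩
    exact ⟨V, hV.1, hV.2, fun V' h1 h2 => hmax V' ⟨h1, h2⟩⟩
  set π := QuotientGroup.mk' V with hπ
  have hπs : Function.Surjective π := QuotientGroup.mk'_surjective V
  have hker : ∀ z : G, π z = 1 ↔ z ∈ V := fun z => QuotientGroup.eq_one_iff z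
  haveI hQ₁n : Q₁.Normal := inferInstance
  have hQ₁ne : Q₁.map π ≠ ⊥ := fun h0 => h.pCore_inf_not_le S fun z hz =>
    (mem_inf.1 (hVle ((hker z).1 (by rw [← mem_bot, ← h0]; exact mem_map_of_mem π hz)))).2
  obtain ⟨Ub, hUbn, hUbne, hUble, hUbmin⟩ :=
    CfsgLib.Solvable.exists_minimal_normal_le (hQ₁n.map π hπs) hQ₁ne
  set U := Ub.comap π with hU
  haveI hUn : U.Normal := hUbn.comap π
  have hUmap : U.map π = Ub := map_comap_eq_self_of_surjective hπs Ub
  have hVU : V ≤ U := fun z hz => by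
    show π z ∈ Ub
    rw [(hker z).2 hz]; exact one_mem _
  have hUQ₁ : U ≤ Q₁ := fun z hz => by
    obtain ⟨q, hq, hqz⟩ := hUble (show π z ∈ Ub from hz)
    have := mul_mem hq (mem_inf.1 (hVle (show q⁻¹ * z ∈ V from QuotientGroup.eq.1 hqz))).1
    rwa [mul_inv_cancel_left] at this
  have hUQ : U ≤ Q := hUQ₁.trans inf_le_left
  have hUT : ¬ U ≤ T := by
    intro hUT
    have := hVmax U hUn (le_inf hUQ₁ hUT)
    exact hUbne (by rw [← hUmap, Subgroup.map_eq_bot_iff, hπ, QuotientGroup.ker_mk',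
      Subgroup.eq_of_le_of_card_ge hVU this])
  have hchief : Cfsg.IsChiefFactor U V := by
    refine ⟨lt_of_le_of_ne hVU fun e => hUT (e ▸ hVle.trans inf_le_right), hUn, hVn, fun N hN hVN hNU => ?_⟩
    rcases hUbmin (N.map π) (hN.map π hπs) (hUmap ▸ map_mono hNU) with h0 | h0
    · left
      refine le_antisymm (fun z hz => (hker z).1 ?_) hVN
      rw [← mem_bot, ← h0]; exact mem_map_of_mem π hz
    · right
      refine le_antisymm hNU ?_
      rw [hU, ← h0, comap_map_eq, hπ, QuotientGroup.ker_mk', sup_eq_left.2 hVN]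
  refine ⟨U, V, hchief, hUQ, fun hbad => ?_⟩
  -- the subgroup generated by the bad elements
  set D : Set G := {x | x ∈ S' ∧ x ∉ Q ∧ Cfsg.iterCommutator U (zpowers x) (p - 1) ≤ V} with hD
  set E := closure D with hE
  have hES : E ≤ S' := (closure_le _).2 fun x hx => hx.1
  have huE : u ∈ E := subset_closure ⟨huS, huQ, hbad⟩
  have hEstab : ∀ g : G, (∀ e ∈ E, g * e * g⁻¹ ∈ S') → g ∈ normalizer (E : Set G) := by
    intro g hg
    rw [← conjMap_eq_self_iff]
    refine Subgroup.eq_of_le_of_card_ge ?_ (card_conjMap g E).ge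
    rw [conjMap, hE, MonoidHom.map_closure, closure_le]
    rintro _ ⟨x, hx, rfl⟩
    refine subset_closure ⟨hg x (subset_closure hx), fun hq => hx.2.1 ?_, iterCommutator_le_conj g hx.2.2⟩
    simpa [mul_assoc] using Normal.conj_mem (inferInstance : Q.Normal) _ hq g⁻¹
  have hSE : S' ≤ normalizer (E : Set G) := fun s hs => hEstab s fun e he =>
    S'.mul_mem (S'.mul_mem hs (hES he)) (S'.inv_mem hs)
  have hNE : normalizer (E : Set G) ≤ M := by
    refine h.le_failNorm S hSE fun htop => huQ ?_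
    exact CfsgLib.Solvable.le_pCore (normalizer_eq_top_iff.1 htop) (S.2.to_le hES) huE
  have hfix : ∀ g : G, (∀ e ∈ E, g⁻¹ * e * g ∈ M) → g ∈ M := by
    intro g hg
    obtain ⟨m, hm, hmle⟩ := (show SylowIn p S' M from ⟨hSM, S.2, fun hd =>
      S.not_dvd_index (hd.trans (relIndex_dvd_index_of_le hSM))⟩).exists_conj_le
        (R := conjMap g⁻¹ E) ((S.2.to_le hES).map _) (by
          rintro _ ⟨e, he, rfl⟩
          simpa using hg e he)
    rw [conjMap_conjMap] at hmle
    have := hNE (hEstab (m * g⁻¹) fun e he => hmle (conj_mem_conjMap he))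
    have h2 := M.mul_mem (M.inv_mem hm) this
    rw [inv_mul_cancel_left] at h2
    simpa using M.inv_mem h2
  -- apply the averaging argument in `G ⧸ V`
  have hUbp : IsPGroup p Ub := hUmap ▸ ((CfsgLib.Solvable.pCore_isPGroup p).to_le hUQ).map π
  haveI := hUbp.isNilpotent
  haveI := hUbn
  have hUbab := CfsgLib.Solvable.isMulCommutative_of_minimal_normal hUbne hUbmin
  have hUbel : Cfsg.IsElementaryAbelian p Ub := by
    refine ⟨hUbab, fun a ha => ?_⟩
    let E₁ : Subgroup (G ⧸ V) :=
      { carrier := {x | x ∈ Ub ∧ x ^ p = 1}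
        one_mem' := ⟨Ub.one_mem, one_pow p⟩
        mul_mem' := fun {x y} hx hy => ⟨Ub.mul_mem hx.1 hy.1, by
          have hc : Commute x y := congrArg Subtype.val (hUbab.is_comm.comm ⟨x, hx.1⟩ ⟨y, hy.1⟩)
          rw [hc.mul_pow, hx.2, hy.2, one_mul]⟩
        inv_mem' := fun {x} hx => ⟨Ub.inv_mem hx.1, by rw [inv_pow, hx.2, inv_one]⟩ }
    have hE₁n : E₁.Normal := ⟨fun x hx g => ⟨hUbn.conj_mem x hx.1 g, by
      rw [conj_pow, hx.2, mul_one, mul_inv_cancel]⟩⟩
    rcases hUbmin E₁ hE₁n (fun x hx => hx.1) with h0 | h0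
    · exfalso
      haveI : Nontrivial Ub := (nontrivial_iff_ne_bot Ub).2 hUbne
      obtain ⟨k, hk, hcard⟩ := hUbp.nontrivial_iff_card.1 inferInstance
      obtain ⟨x, hx⟩ := exists_prime_orderOf_dvd_card' (G := Ub) p (hcard ▸ dvd_pow_self p hk.ne')
      have h1 : (x : G ⧸ V) ∈ E₁ := ⟨x.2, by
        rw [← SubmonoidClass.coe_pow, ← hx, pow_orderOf_eq_one]; rfl⟩
      rw [h0, mem_bot, OneMemClass.coe_eq_one] at h1
      exact hp.out.ne_one (by rw [← hx, h1, orderOf_one])
    · exact ((h0 ▸ ha : a ∈ E₁)).2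
  set U₀ := (U ⊓ T).map π with hU₀
  have key := commutator_mem_of_averaging (p := p) Ub U₀ (M.map π) (E.map π) hUbel ?_
    ((S.2.to_le hES).map π) (π '' D) (by rw [hE, MonoidHom.map_closure]) ?_ ?_
    (map_mono (hES.trans hSM)) ?_
  · -- conclusion
    have hle : ⁅Ub, (⊤ : Subgroup (G ⧸ V))⁆ ≤ U₀ := by
      rw [commutator_le]
      intro x hx g _
      have h1 := key g x hx
      have h2 := inv_mem h1
      rw [commutatorElement_def]
      simpa [mul_assoc] using h2
    rcases hUbmin ⁅Ub, (⊤ : Subgroup (G ⧸ V))⁆ inferInstance (commutator_le_left _ _) with h0 | h0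
    swap
    · refine hUT fun z hz => ?_
      have h1 : π z ∈ U₀ := hle (h0.symm ▸ (show π z ∈ Ub from hz))
      obtain ⟨w, hw, hwz⟩ := h1
      have := mul_mem (mem_inf.1 hw).2 (mem_inf.1 (hVle (show w⁻¹ * z ∈ V from QuotientGroup.eq.1 hwz))).2
      rwa [mul_inv_cancel_left] at this
    refine hUT fun z hz => ?_
    have hz1 := hUQ₁ hz
    have h1 := central_mem_commutator (S.mapSurjective hπs) (z := π z)
      (mem_map_of_mem π (hQS (hUQ hz)))
      (mem_center_iff.2 fun y => by
        have : ⁅π z, y⁆ ∈ ⁅Ub, (⊤ : Subgroup (G ⧸ V))⁆ := commutator_mem_commutator hz (mem_top y)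
        rw [h0, mem_bot, commutatorElement_eq_one_iff_mul_comm] at this
        exact this.symm)
      (by rw [commutator_def, ← map_top_of_surjective π hπs, ← Subgroup.map_commutator, ← commutator_def]
          exact mem_map_of_mem π (mem_inf.1 hz1).2)
    rw [Sylow.coe_mapSurjective, ← Subgroup.map_commutator] at h1
    obtain ⟨w, hw, hwz⟩ := h1
    have h2 := (mem_inf.1 (hVle (show w⁻¹ * z ∈ V from QuotientGroup.eq.1 hwz))).2
    have := mul_mem (h.derived_le_join S hw) h2
    rwa [mul_inv_cancel_left] at this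
  · rintro _ ⟨m, hm, rfl⟩ x hx
    obtain ⟨z, rfl⟩ := hπs x
    rw [← map_inv, ← map_mul, ← map_inv, ← map_mul, ← map_mul]
    refine mem_map_of_mem π ⟨U.mul_mem (hUn.conj_mem z hx m) (U.inv_mem hx), ?_⟩
    have h1 := (h.commutator_le_inf S hSM (h.failNorm_ne_top S))
      (commutator_mem_commutator (hUQ hx) hm)
    have h2 := inv_mem (mem_inf.1 h1).1
    rw [commutatorElement_inv, commutatorElement_def] at h2
    exact h2
  · rintro _ ⟨e, he, rfl⟩ _ ⟨d, hd, rfl⟩
    refine ⟨e * d * e⁻¹, ⟨S'.mul_mem (S'.mul_mem (hES he) hd.1) (S'.inv_mem (hES he)),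
      fun hq => hd.2.1 ?_, iterCommutator_le_conj e hd.2.2⟩, by simp⟩
    simpa [mul_assoc] using Normal.conj_mem (inferInstance : Q.Normal) _ hq e⁻¹
  · rintro _ ⟨d, hd, rfl⟩
    rw [← hUmap, ← MonoidHom.map_zpowers, ← iterCommutator_map, Subgroup.map_eq_bot_iff, hπ,
      QuotientGroup.ker_mk']
    exact hd.2.2
  · intro g hg
    obtain ⟨g, rfl⟩ := hπs g
    refine mem_map_of_mem π (hfix g fun e he => ?_)
    have h1 := hg _ (mem_map_of_mem π he)
    rw [← map_inv, ← map_mul, ← map_mul, ← mem_comap, comap_map_eq, hπ, QuotientGroup.ker_mk',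
      sup_eq_left.2] at h1
    · exact h1
    · exact (hVU.trans hUQ).trans (hQS.trans hSM)

end CfsgLib.PLocal
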