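import Cfsg.Agent.Lib.PLocal.SFourGood
import Cfsg.Agent.Lib.PLocal.SFourJHat
import Cfsg.Agent.Lib.Complement.Thompson

/-!
# The two-factorisations of a constrained group without a section `S₄`
-/

set_option autoImplicit false
set_option linter.unusedSectionVars false

namespace CfsgLib.PLocal.SFourW

open Subgroup CfsgLib.PLocal CfsgLib.Fusion
open scoped commutatorElement

universe u

variable {G : Type u} [Group G]

/-- `J` is contained in `Ĵ`: it is an E-group. -/
theorem thompson_le_jH [Finite G] (P : Subgroup G) :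
    Cfsg.thompsonSubgroupOf 2 P ≤ jH P := by
  obtain ⟨J, hJ⟩ : ∃ J, J = Cfsg.thompsonSubgroupOf 2 P := ⟨_, rfl⟩
  rw [← hJ]
  refine le_jH (hJ ▸ thompsonOf_le P) ?_ hJ.ge
  intro V hVn hVel hprop
  have hsq : SqGood (⊤ : Subgroup J) V := fun R _ hR => (hprop R hR.1 hR.2.1 hR.2.2).1
  have h1 := thompson_le_centralizer hsq.noOff le_top hVel
  have htop : Cfsg.thompsonSubgroupOf 2 (⊤ : Subgroup J) = ⊤ := by
    refine map_injective J.subtype_injective ?_
    rw [thompsonOf_map_of_injective J.subtype_injective, ← MonoidHom.range_eq_map,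
      Subgroup.range_subtype, hJ]
    exact thompsonOf_eq_of_le le_rfl (thompsonOf_le P)
  rw [htop] at h1
  intro v hv
  exact mem_center_iff.2 fun x => (h1 (mem_top x) v hv).symm

/-- A subgroup centralised by `J(S)` with exponent two lies in `J(S)`. -/
theorem le_thompson_of_centralized [Finite G] {S Y : Subgroup G} (hYS : Y ≤ S)
    (hY : Cfsg.IsElementaryAbelian 2 Y) (h : Cfsg.thompsonSubgroupOf 2 S ≤ centralizer (Y : Set G)) :
    Y ≤ Cfsg.thompsonSubgroupOf 2 S := by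
  obtain ⟨A, hA⟩ := exists_maxElemIn 2 S
  exact fun y hy => le_thompsonOf hA (mem_maxElemIn_of_centralizes hA (hYS hy) (hY.2 y hy)
    fun a ha => (h (le_thompsonOf hA ha) y hy).symm)

variable [Finite G]

theorem constrained_normal (hc : centralizer (Cfsg.pCore 2 G : Set G) ≤ Cfsg.pCore 2 G)
    (N : Subgroup G) [N.Normal] :
    centralizer (Cfsg.pCore 2 N : Set N) ≤ Cfsg.pCore 2 N := by
  haveI := Fact.mk Nat.prime_two
  obtain ⟨Q, hQ⟩ : ∃ Q : Subgroup G, Q = Cfsg.pCore 2 G := ⟨_, rfl⟩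
  haveI : Q.Normal := hQ ▸ Cfsg.pCore_normal 2 G
  haveI := CfsgLib.Solvable.pCore_normal 2 N
  have hQp : IsPGroup 2 Q := hQ ▸ CfsgLib.Solvable.pCore_isPGroup 2
  have hQN : Q.subgroupOf N ≤ Cfsg.pCore 2 N :=
    CfsgLib.Solvable.le_pCore inferInstance (hQp.comap_subtype)
  have hcQ : centralizer (Q : Set G) ≤ Q := by rw [hQ]; exact hc
  refine CfsgLib.Solvable.le_pCore inferInstance fun x => ?_
  obtain ⟨a, m, hm, hord⟩ :=
    Nat.exists_eq_pow_mul_and_not_dvd (orderOf_pos (x : N)).ne' 2 (by norm_num)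
  refine ⟨a, Subtype.ext ?_⟩
  obtain ⟨l, hl⟩ : ∃ l : G, l = ((x : N) : G) ^ 2 ^ a := ⟨_, rfl⟩
  have hlm : l ^ m = 1 := by
    rw [hl, ← pow_mul, ← hord, ← SubgroupClass.coe_pow, pow_orderOf_eq_one]; rfl
  have hm2 : Nat.Coprime m 2 := ((Nat.prime_two.coprime_iff_not_dvd).2 hm).symm
  have hlc : ∀ z ∈ Q, z ∈ N → l * z * l⁻¹ = z := fun z hz hzN => by
    have h1 : ((x : N) ^ 2 ^ a) ∈ centralizer (Cfsg.pCore 2 N : Set N) := pow_mem x.2 _
    have h2 := congrArg Subtype.val (h1 ⟨z, hzN⟩ (hQN hz))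
    simp only [Subgroup.coe_mul, SubgroupClass.coe_pow] at h2
    rw [hl, ← h2, mul_inv_cancel_right]
  have hlN : l ∈ N := hl ▸ pow_mem (x : N).2 _
  have hlQ : l ∈ Q := hcQ fun z hz => by
    have hin : l * z * l⁻¹ * z⁻¹ ∈ Q :=
      Q.mul_mem (Normal.conj_mem inferInstance z hz l) (Q.inv_mem hz)
    have hinN : l * z * l⁻¹ * z⁻¹ ∈ N := by
      rw [show l * z * l⁻¹ * z⁻¹ = l * (z * l⁻¹ * z⁻¹) by group]
      exact N.mul_mem hlN (Normal.conj_mem inferInstance _ (N.inv_mem hlN) z)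
    obtain ⟨k, hk⟩ := hQp ⟨_, hin⟩
    have hf := fix_of_step (k := k) hm2 hlm (congrArg Subtype.val hk) (hlc _ hin hinN) (p := z)
      (by group)
    exact (mul_inv_eq_iff_eq_mul.1 (mul_inv_eq_one.1 hf)).symm
  obtain ⟨k, hk⟩ := hQp ⟨l, hlQ⟩
  have h1 : l = 1 := orderOf_eq_one_iff.1 (Nat.eq_one_of_dvd_coprimes (hm2.pow_right k)
    (orderOf_dvd_of_pow_eq_one hlm) (orderOf_dvd_of_pow_eq_one (congrArg Subtype.val hk)))
  refine Subtype.ext ?_
  rw [SubgroupClass.coe_pow, SubgroupClass.coe_pow, ← hl, h1]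
  rfl

variable (hfree : ¬ Cfsg.Involves (Equiv.Perm (Fin 4)) G)
  (hK : Cfsg.IsCompositionKGroupWith Cfsg.IsSuzukiOrPSL2OddPowerThree G)
  (hc : centralizer (Cfsg.pCore 2 G : Set G) ≤ Cfsg.pCore 2 G) (S : Sylow 2 G)

include hfree hK hc

/-- The normal closure of a good subgroup is elementary and has no offenders. -/
theorem normalClosure_good {V : Subgroup G} (hVS : V ≤ (S : Subgroup G))
    (hVel : Cfsg.IsElementaryAbelian 2 V)
    (hSV : (S : Subgroup G) ≤ Subgroup.normalizer (V : Set G)) (hsq : SqGood (S : Subgroup G) V) :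
    Cfsg.IsElementaryAbelian 2 (Subgroup.normalClosure (V : Set G)) ∧
      Subgroup.normalClosure (V : Set G) ≤ (S : Subgroup G) ∧
      NoOffOn (S : Subgroup G) (Subgroup.normalClosure (V : Set G)) := by
  haveI := Fact.mk Nat.prime_two
  have hVQ := sqGood_le_pCore hfree hK hc S hVS hVel hSV hsq
  haveI := Cfsg.pCore_normal 2 G
  have hQS : Cfsg.pCore 2 G ≤ (S : Subgroup G) := CfsgLib.Solvable.pCore_le_sylow S
  have hconjQ : ∀ g : G, conjSub g V ≤ (S : Subgroup G) := by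
    rintro g _ ⟨v, hv, rfl⟩
    exact hQS (Normal.conj_mem inferInstance v (hVQ hv) g)
  have hsym : ∀ (g : G) (A B : Subgroup G), Nat.card ↥(A ⊓ centralizer (B : Set G)) =
      Nat.card ↥(conjSub g A ⊓ centralizer ((conjSub g B : Subgroup G) : Set G)) := fun g A B =>
    card_inf_centralizer_map (MulAut.conj g).injective A B
  have hcomm : ∀ g : G, conjSub g V ≤ centralizer (V : Set G) := by
    intro g
    by_contra hnot
    have hel : ∀ h : G, ¬ conjSub h V ≤ centralizer (V : Set G) → ElemAct V (conjSub h V) := fun h hh =>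
      ⟨commutator_le.2 fun a ha b hb => by
        rw [commutatorElement_eq_one_iff_mul_comm.2 (elemAb_comm (elemAb_map _ hVel) ha hb)]
        exact one_mem _,
      fun a ha => by rw [(elemAb_map (MulAut.conj h).toMonoidHom hVel).2 a ha]; exact one_mem _, hh⟩
    have hnot' : ¬ conjSub g⁻¹ V ≤ centralizer (V : Set G) := fun hle => hnot (by
      rw [le_centralizer_iff]
      rintro x hx _ ⟨v, hv, rfl⟩
      have h := hle (show g⁻¹ * x * g⁻¹⁻¹ ∈ conjSub g⁻¹ V from conj_mem_conjSub hx) v hv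
      show g * v * g⁻¹ * x = x * (g * v * g⁻¹)
      calc g * v * g⁻¹ * x = g * (v * (g⁻¹ * x * g⁻¹⁻¹)) * g⁻¹ := by group
        _ = g * (g⁻¹ * x * g⁻¹⁻¹ * v) * g⁻¹ := by rw [h]
        _ = _ := by group)
    have p1 := hsq _ (hconjQ g) (hel g hnot)
    have p2 := hsq _ (hconjQ g⁻¹) (hel g⁻¹ hnot')
    have e1 := hsym g (conjSub g⁻¹ V) V
    rw [← conjSub_mul, mul_inv_cancel, conjSub_one] at e1
    have e2 := hsym g V (conjSub g⁻¹ V)
    rw [← conjSub_mul, mul_inv_cancel, conjSub_one] at e2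
    rw [e1, e2] at p2
    rw [card_conjSub] at p1 p2
    obtain ⟨p, hp⟩ : ∃ p, p = Nat.card V := ⟨_, rfl⟩
    obtain ⟨f, hf⟩ : ∃ f, f = Nat.card ↥(V ⊓ centralizer (conjSub g V : Set G)) := ⟨_, rfl⟩
    obtain ⟨c, hc'⟩ : ∃ c, c = Nat.card ↥(conjSub g V ⊓ centralizer (V : Set G)) := ⟨_, rfl⟩
    have hfp : f ≤ p := hf ▸ hp ▸ card_le_of_le inf_le_left
    have hcp : c ≤ p := by
      rw [hc', hp, ← card_conjSub g V]
      exact card_le_of_le inf_le_left
    rw [← hp, ← hf, ← hc'] at p1 p2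
    have h3 : p ^ 2 < c * f := by
      refine Nat.lt_of_mul_lt_mul_left (a := p ^ 4 * f ^ 2 * c ^ 2) ?_
      calc p ^ 4 * f ^ 2 * c ^ 2 * p ^ 2 = (p ^ 3 * f ^ 2) * (p ^ 3 * c ^ 2) := by ring
        _ < (p ^ 2 * c ^ 3) * (p ^ 2 * f ^ 3) := Nat.mul_lt_mul'' p1 p2
        _ = _ := by ring
    exact h3.not_ge ((Nat.mul_le_mul hcp hfp).trans (le_of_eq (by ring)))
  obtain ⟨T, hT⟩ : ∃ T, T = Group.conjugatesOfSet (V : Set G) := ⟨_, rfl⟩
  have hmemT : ∀ x ∈ T, ∃ g, x ∈ conjSub g V := fun x hx => by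
    rw [hT, Group.mem_conjugatesOfSet_iff] at hx
    obtain ⟨v, hv, hc'⟩ := hx
    obtain ⟨g, hg⟩ := isConj_iff.1 hc'
    exact ⟨g, hg ▸ conj_mem_conjSub hv⟩
  have hTc : ∀ x ∈ T, ∀ y ∈ T, x * y = y * x := by
    intro x hx y hy
    obtain ⟨g, v, hv, rfl⟩ := hmemT x hx
    obtain ⟨h, w, hw, rfl⟩ := hmemT y hy
    show g * v * g⁻¹ * (h * w * h⁻¹) = h * w * h⁻¹ * (g * v * g⁻¹)
    have h1 := hcomm (g⁻¹ * h) (conj_mem_conjSub hw) v hv
    calc g * v * g⁻¹ * (h * w * h⁻¹) = g * (v * (g⁻¹ * h * w * (g⁻¹ * h)⁻¹)) * g⁻¹ := by group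
      _ = g * (g⁻¹ * h * w * (g⁻¹ * h)⁻¹ * v) * g⁻¹ := by rw [h1]
      _ = _ := by group
  have hNC : Subgroup.normalClosure (V : Set G) = closure T := by rw [hT]; rfl
  have hcl : closure T ≤ centralizer ((closure T : Subgroup G) : Set G) := by
    rw [centralizer_closure, closure_le]
    exact fun x hx y hy => hTc y hy x hx
  have hel : Cfsg.IsElementaryAbelian 2 (closure T) := by
    refine ⟨le_centralizer_iff_isMulCommutative.1 hcl, fun x hx => ?_⟩
    induction hx using closure_induction with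
    | mem x hx =>
      obtain ⟨g, hg⟩ := hmemT x hx
      exact (elemAb_map (MulAut.conj g).toMonoidHom hVel).2 x hg
    | one => exact one_pow 2
    | mul a b ha hb iha ihb =>
      rw [(show Commute a b from (hcl ha b hb).symm).mul_pow, iha, ihb, one_mul]
    | inv a ha iha => rw [inv_pow, iha, inv_one]
  rw [← hNC] at hel
  exact ⟨hel, (normalClosure_le_normal hVQ).trans hQS,
    noOffOn_normalClosure hfree S hel rfl hSV hsq.noOff⟩

/-- Without a proper normal subgroup above `J(S)`, a good subgroup is central. -/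
theorem good_central
    (hmin : ∀ N : Subgroup G, N.Normal → Cfsg.thompsonSubgroupOf 2 (S : Subgroup G) ≤ N → N = ⊤)
    {V : Subgroup G} (hVS : V ≤ (S : Subgroup G)) (hVel : Cfsg.IsElementaryAbelian 2 V)
    (hSV : (S : Subgroup G) ≤ Subgroup.normalizer (V : Set G)) (hsq : SqGood (S : Subgroup G) V) :
    ∀ v ∈ V, ∀ g : G, g * v = v * g := by
  obtain ⟨h1, h2, h3⟩ := normalClosure_good hfree hK hc S hVS hVel hSV hsq
  haveI : (Subgroup.normalClosure (V : Set G)).Normal := normalClosure_normal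
  have htop := hmin (centralizer (Subgroup.normalClosure (V : Set G) : Set G)) inferInstance
    (thompson_le_centralizer h3 h2 h1)
  intro v hv g
  exact ((htop ▸ mem_top g : g ∈ centralizer _) v (le_normalClosure hv)).symm

/-- The reduced subgroup `Ω₁⟨Z(S)^G⟩` and the two factorisations through its centralizer. -/
theorem factor_centre :
    ∀ g : G, ∃ c ∈ centralizer (((S : Subgroup G) ⊓ centralizer ((S : Subgroup G) : Set G) :
        Subgroup G) : Set G),
      ∃ n : G, n ∈ Subgroup.normalizer (Cfsg.thompsonSubgroupOf 2 (S : Subgroup G) : Set G) ∧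
        n ∈ Subgroup.normalizer (jH (S : Subgroup G) : Set G) ∧ g = c * n := by
  haveI := Fact.mk Nat.prime_two
  obtain ⟨S', hS'⟩ : ∃ S', S' = (S : Subgroup G) := ⟨_, rfl⟩
  obtain ⟨Q, hQ⟩ : ∃ Q : Subgroup G, Q = Cfsg.pCore 2 G := ⟨_, rfl⟩
  haveI hQn : Q.Normal := hQ ▸ Cfsg.pCore_normal 2 G
  have hQS : Q ≤ S' := by rw [hQ, hS']; exact CfsgLib.Solvable.pCore_le_sylow S
  have hcQ : centralizer (Q : Set G) ≤ Q := by rw [hQ]; exact hc
  obtain ⟨Zs, hZs⟩ : ∃ Zs, Zs = S' ⊓ centralizer (S' : Set G) := ⟨_, rfl⟩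
  obtain ⟨W, hW⟩ : ∃ W, W = Subgroup.normalClosure (Zs : Set G) := ⟨_, rfl⟩
  haveI hWn : W.Normal := hW ▸ normalClosure_normal
  haveI : (Q ⊓ centralizer (Q : Set G)).Normal := inferInstance
  have hWQ : W ≤ Q ⊓ centralizer (Q : Set G) := hW ▸ normalClosure_le_normal (by
    intro z hz
    rw [hZs] at hz
    have h1 : z ∈ centralizer (Q : Set G) := centralizer_le hQS hz.2
    exact ⟨hcQ h1, h1⟩)
  have hWc : W ≤ centralizer (W : Set G) := fun a ha b hb => (hWQ ha).2 b (hWQ hb).1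
  have hWS : W ≤ S' := hWQ.trans (inf_le_left.trans hQS)
  have hSp : IsPGroup 2 S' := hS' ▸ S.2
  obtain ⟨Y, hY⟩ : ∃ Y, Y = Cfsg.omegaOne 2 W := ⟨_, rfl⟩
  haveI hYn : Y.Normal := hY ▸ CfsgLib.Complement.omegaOne_normal W
  have hYel : Cfsg.IsElementaryAbelian 2 Y := hY ▸ omegaOne_elemAb hWc
  have hYW : Y ≤ W := hY ▸ omegaOne_le 2 W
  have hCWY : centralizer (W : Set G) ≤ centralizer (Y : Set G) := centralizer_le hYW
  have hodd : ∀ x ∈ centralizer (Y : Set G), (orderOf x).Coprime 2 → x ∈ centralizer (W : Set G) :=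
    fun x hx hxo => CfsgLib.Complement.mem_centralizer_of_fixes_omega hWc (hSp.to_le hWS)
      (by rw [normalizer_eq_top]; exact mem_top x) hxo
      fun y hy hy2 => hx y (hY ▸ subset_closure ⟨hy, hy2⟩)
  have hcov : centralizer (Y : Set G) ≤
      centralizer (W : Set G) ⊔ ((S : Subgroup G) ⊓ centralizer (Y : Set G)) := by
    refine normal_pGroup_quotient_le S hCWY ?_
    have hp : IsPGroup 2 (↥(centralizer (Y : Set G)) ⧸
        (centralizer (W : Set G)).subgroupOf (centralizer (Y : Set G))) := by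
      intro y
      obtain ⟨x, rfl⟩ := QuotientGroup.mk_surjective y
      obtain ⟨a, m, hm, hord⟩ :=
        Nat.exists_eq_pow_mul_and_not_dvd (orderOf_pos (x : G)).ne' 2 (by norm_num)
      refine ⟨a, (QuotientGroup.eq_one_iff (x ^ 2 ^ a)).2 (mem_subgroupOf.2 ?_)⟩
      refine hodd _ (x ^ 2 ^ a).2 ?_
      rw [SubgroupClass.coe_pow]
      exact Nat.Coprime.coprime_dvd_left
        (orderOf_dvd_of_pow_eq_one (by rw [← pow_mul, ← hord, pow_orderOf_eq_one]))
        ((Nat.prime_two.coprime_iff_not_dvd).2 hm).symm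
    obtain ⟨k, hk⟩ := hp.exists_card_eq
    exact ⟨k, hk⟩
  -- `Y` is reduced
  have hred : Cfsg.pCore 2 (G ⧸ centralizer (Y : Set G)) = ⊥ := by
    obtain ⟨R, hR⟩ : ∃ R, R = (Cfsg.pCore 2 (G ⧸ centralizer (Y : Set G))).comap
        (QuotientGroup.mk' (centralizer (Y : Set G))) := ⟨_, rfl⟩
    haveI : (Cfsg.pCore 2 (G ⧸ centralizer (Y : Set G))).Normal := Cfsg.pCore_normal 2 _
    haveI hRn : R.Normal := hR ▸ Subgroup.Normal.comap inferInstance _
    have hCR : centralizer (Y : Set G) ≤ R := fun x hx => by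
      rw [hR, mem_comap, QuotientGroup.mk'_apply, (QuotientGroup.eq_one_iff x).2 hx]; exact one_mem _
    have hle : R ≤ centralizer (Y : Set G) ⊔ ((S : Subgroup G) ⊓ R) :=
      normal_pGroup_quotient_le S hCR (hR ▸ pCore_comap_relIndex _)
    have hle2 : R ≤ centralizer (W : Set G) ⊔ ((S : Subgroup G) ⊓ R) :=
      hle.trans (sup_le (hcov.trans (sup_le le_sup_left
        ((inf_le_inf_left _ hCR).trans le_sup_right))) le_sup_right)
    have hRW : (S : Subgroup G) ⊓ R ≤ centralizer (W : Set G) := by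
      rw [le_centralizer_iff]
      conv_lhs => rw [hW]
      refine (closure_le _).2 ?_
      intro x hx
      obtain ⟨z, hz, hxz⟩ := Group.mem_conjugatesOfSet_iff.1 hx
      obtain ⟨g, rfl⟩ := isConj_iff.1 hxz
      obtain ⟨c, hcR, n, hn, rfl⟩ := frattini_mul S R g
      obtain ⟨c', hc', r, hr, rfl⟩ := mem_sup_of_normal_left.1 (hle2 hcR)
      have hn' : r * n ∈ Subgroup.normalizer (((S : Subgroup G) ⊓ R : Subgroup G) : Set G) :=
        mul_mem (le_normalizer hr) hn
      have hxW : r * n * z * (r * n)⁻¹ ∈ W :=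
        hW ▸ normalClosure_normal.conj_mem z (subset_normalClosure hz) _
      intro s hs
      have hfix : s * (r * n * z * (r * n)⁻¹) = r * n * z * (r * n)⁻¹ * s := by
        have hs' := (mem_normalizer_iff''.1 hn' s).1 hs
        rw [hZs, hS'] at hz
        have h := hz.2 _ hs'.1
        calc s * (r * n * z * (r * n)⁻¹) = r * n * (((r * n)⁻¹ * s * (r * n)) * z) * (r * n)⁻¹ := by group
          _ = r * n * (z * ((r * n)⁻¹ * s * (r * n))) * (r * n)⁻¹ := by rw [h]
          _ = _ := by group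
      have e : c' * r * n * z * (c' * r * n)⁻¹ = r * n * z * (r * n)⁻¹ := by
        rw [show c' * r * n * z * (c' * r * n)⁻¹ = c' * (r * n * z * (r * n)⁻¹) * c'⁻¹ by group,
          ← hc' _ hxW, mul_inv_cancel_right]
      rw [e]
      exact hfix
    have hRC : R ≤ centralizer (Y : Set G) :=
      hle.trans (sup_le le_rfl (hRW.trans hCWY))
    rw [← map_comap_eq_self_of_surjective (QuotientGroup.mk'_surjective (centralizer (Y : Set G)))
      (Cfsg.pCore 2 (G ⧸ centralizer (Y : Set G))), ← hR, eq_bot_iff]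
    rintro _ ⟨x, hx, rfl⟩
    exact mem_bot.2 ((QuotientGroup.eq_one_iff x).2 (hRC hx))
  have hYS : Y ≤ (S : Subgroup G) := hS' ▸ hYW.trans hWS
  have hno : NoOffOn (S : Subgroup G) Y :=
    SqGood.noOff fun R _ hR => (reduced_eProp hfree hK hYel hred hR).1
  obtain ⟨S₁, hS₁⟩ : ∃ S₁, S₁ = (S : Subgroup G) ⊓ centralizer (Y : Set G) := ⟨_, rfl⟩
  have hJ1 : Cfsg.thompsonSubgroupOf 2 (S : Subgroup G) ≤ S₁ :=
    hS₁ ▸ le_inf (thompsonOf_le _) (thompson_le_centralizer hno hYS hYel)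
  have hYJ : Y ≤ Cfsg.thompsonSubgroupOf 2 (S : Subgroup G) :=
    le_thompson_of_centralized hYS hYel (thompson_le_centralizer hno hYS hYel)
  have hH1 : jH (S : Subgroup G) ≤ S₁ := by
    rw [hS₁, jH_eq]
    refine sSup_le fun U hU => le_inf hU.1 ?_
    obtain ⟨hUS, hE, hJU⟩ := hU
    have hYU : Y ≤ U := hYJ.trans hJU
    have hmap : (Y.subgroupOf U).map U.subtype = Y := map_subgroupOf_eq_of_le hYU
    have hcen := hE (Y.subgroupOf U) inferInstance
      (elemAb_comap_of_injective U.subtype_injective hYel) fun R a b c => by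
        have hel := (elemAct_map U.subtype_injective).2 (⟨a, b, c⟩ : ElemAct (Y.subgroupOf U) R)
        rw [hmap] at hel
        obtain ⟨p1, p2⟩ := reduced_eProp hfree hK hYel hred hel
        rw [card_inf_centralizer_map U.subtype_injective R, card_inf_centralizer_map U.subtype_injective
          (Y.subgroupOf U), ← card_map_of_injective (f := U.subtype) U.subtype_injective (K := R),
          ← card_map_of_injective (f := U.subtype) U.subtype_injective (K := Y.subgroupOf U),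
          ← card_map_of_injective (f := U.subtype) U.subtype_injective (K := ⁅Y.subgroupOf U, R⁆),
          map_commutator, hmap]
        exact ⟨p1, p2⟩
    intro x hx y hy
    exact congrArg Subtype.val (mem_center_iff.1 (hcen (show (⟨y, hYU hy⟩ : U) ∈ Y.subgroupOf U from hy))
      ⟨x, hx⟩).symm
  intro g
  obtain ⟨c, hc', n, hn, rfl⟩ := frattini_mul S (centralizer (Y : Set G)) g
  obtain ⟨c', hc'', r, hr, rfl⟩ := mem_sup_of_normal_left.1 (hcov hc')
  rw [← hS₁] at hn hr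
  have hn' : r * n ∈ Subgroup.normalizer (S₁ : Set G) := mul_mem (le_normalizer hr) hn
  refine ⟨c', ?_, r * n, ?_, ?_, mul_assoc _ _ _⟩
  · exact fun z hz => hc'' z (hW ▸ subset_normalClosure (hZs ▸ hS' ▸ hz))
  · rw [← thompsonOf_eq_of_le hJ1 (hS₁ ▸ inf_le_left)]
    exact normalizer_le_normalizer_thompsonOf S₁ hn'
  · have heq : jH S₁ = jH (S : Subgroup G) := by
      refine le_antisymm (jH_mono hJ1 (hS₁ ▸ inf_le_left)) ?_
      conv_lhs => rw [jH_eq]
      rw [jH_eq S₁]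
      refine sSup_le_sSup fun U hU => ⟨(le_jH hU.1 hU.2.1 hU.2.2).trans hH1, hU.2.1, ?_⟩
      rw [thompsonOf_eq_of_le hJ1 (hS₁ ▸ inf_le_left)]
      exact hU.2.2
    rw [← heq]
    exact normalizer_le_normalizer_jH S₁ hn'

end CfsgLib.PLocal.SFourW
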