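import Cfsg.Agent.Lib.PLocal.SFourFactor

/-!
# The factorisation through the centralizer of `Ω₁(Z(Ĵ(S)))`
-/

set_option autoImplicit false
set_option linter.unusedSectionVars false

namespace CfsgLib.PLocal.SFourW

open Subgroup CfsgLib.PLocal CfsgLib.Fusion
open scoped commutatorElement

universe u

theorem factor_zHat : ∀ (n : ℕ) (G : Type u) [Group G] [Finite G], Nat.card G ≤ n →
    ¬ Cfsg.Involves (Equiv.Perm (Fin 4)) G →
    Cfsg.IsCompositionKGroupWith Cfsg.IsSuzukiOrPSL2OddPowerThree G →
    centralizer (Cfsg.pCore 2 G : Set G) ≤ Cfsg.pCore 2 G → ∀ S : Sylow 2 G, ∀ g : G,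
      ∃ c ∈ centralizer (zHat (S : Subgroup G) : Set G),
        ∃ m ∈ Subgroup.normalizer (Cfsg.thompsonSubgroupOf 2 (S : Subgroup G) : Set G), g = c * m := by
  haveI := Fact.mk Nat.prime_two
  intro n
  induction n using Nat.strong_induction_on with
  | _ n ih =>
    intro G _ _ hn hfree hK hc S g
    by_cases hex : ∃ N : Subgroup G, N.Normal ∧
        Cfsg.thompsonSubgroupOf 2 (S : Subgroup G) ≤ N ∧ N ≠ ⊤
    · obtain ⟨N, hNn, hJN, hNe⟩ := hex
      haveI := hNn
      obtain ⟨T, hT⟩ := CfsgLib.Transfer.exists_sylow_eq_subgroupOf S N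
      have hTmap : (T : Subgroup N).map N.subtype = (S : Subgroup G) ⊓ N := by
        rw [hT, subgroupOf_map_subtype]
      have hlt : Nat.card N < n := lt_of_lt_of_le
        (lt_of_le_of_ne (card_le_card_group N) fun he => hNe (eq_top_of_card_eq N he)) hn
      obtain ⟨c, hc', m, hm, rfl⟩ := frattini_mul S N g
      obtain ⟨a, ha, b, hb, hab⟩ := ih _ hlt N le_rfl
        (fun h => hfree (CfsgLib.Complement.involves_of_subgroup h)) (compK_of_normal N hK)
        (constrained_normal hc N) T ⟨c, hc'⟩
      have hJ0 : Cfsg.thompsonSubgroupOf 2 (S : Subgroup G) ≤ (S : Subgroup G) ⊓ N :=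
        le_inf (thompsonOf_le _) hJN
      have hJeq := thompsonOf_eq_of_le hJ0 inf_le_left
      refine ⟨(a : G), ?_, (b : G) * m, mul_mem ?_ ?_, ?_⟩
      · have h1 : (a : G) ∈ centralizer ((((zHat (T : Subgroup N)).map N.subtype) : Subgroup G) : Set G) :=
          (mem_centralizer_map N.subtype_injective).2 ha
        rw [zHat_map_of_injective N.subtype_injective, hTmap] at h1
        exact centralizer_le (zHat_anti hJ0 inf_le_left (thompson_le_jH _) (thompson_le_jH _)) h1
      · have h1 : (b : G) ∈ Subgroup.normalizer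
            (((Cfsg.thompsonSubgroupOf 2 (T : Subgroup N)).map N.subtype : Subgroup G) : Set G) := by
          rw [mem_normalizer_iff_map_conj_eq] at hb ⊢
          conv_rhs => rw [← hb]
          rw [Subgroup.map_map, Subgroup.map_map]
          congr 1
        rw [thompsonOf_map_of_injective N.subtype_injective, hTmap, hJeq] at h1
        exact h1
      · rw [← hJeq]
        exact normalizer_le_normalizer_thompsonOf _ hm
      · rw [← mul_assoc]
        congr 1
        exact congrArg Subtype.val hab
    push Not at hex
    have hcen := fun V hVS hVel hSV hsq =>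
      good_central hfree hK hc S (fun N hN hJN => hex N hN hJN) (V := V) hVS hVel hSV hsq
    have hE : Cfsg.IsEGroup (S : Subgroup G) := by
      intro V hVn hVel hprop
      obtain ⟨S', hS'⟩ : ∃ S', S' = (S : Subgroup G) := ⟨_, rfl⟩
      have hsq : SqGood (S : Subgroup G) (V.map (S : Subgroup G).subtype) := by
        intro R hR hel
        have hmap : (R.subgroupOf (S : Subgroup G)).map (S : Subgroup G).subtype = R :=
          map_subgroupOf_eq_of_le hR
        rw [← hmap] at hel
        obtain ⟨a, b, c⟩ := (elemAct_map (S : Subgroup G).subtype_injective).1 hel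
        obtain ⟨p1, -⟩ := hprop _ a b c
        rw [card_inf_centralizer_map (S : Subgroup G).subtype_injective,
          card_inf_centralizer_map (S : Subgroup G).subtype_injective V, hmap,
          ← card_map_of_injective (f := (S : Subgroup G).subtype) (S : Subgroup G).subtype_injective
            (K := R.subgroupOf (S : Subgroup G)),
          ← card_map_of_injective (f := (S : Subgroup G).subtype) (S : Subgroup G).subtype_injective
            (K := V), hmap] at p1
        exact p1
      have hSV : (S : Subgroup G) ≤ Subgroup.normalizer (V.map (S : Subgroup G).subtype : Set G) := by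
        intro s hs
        rw [mem_normalizer_iff_map_conj_eq]
        refine eq_of_le_of_card_ge ?_ (card_map_of_injective (MulAut.conj s).injective).ge
        rintro _ ⟨_, ⟨v, hv, rfl⟩, rfl⟩
        exact ⟨⟨s, hs⟩ * v * ⟨s, hs⟩⁻¹, hVn.conj_mem v hv _, rfl⟩
      intro v hv
      refine mem_center_iff.2 fun x => Subtype.ext ?_
      exact hcen _ (map_subtype_le V) (elemAb_map _ hVel) hSV hsq v (mem_map_of_mem _ hv) x
    have hjH : jH (S : Subgroup G) = S :=
      le_antisymm (jH_le _) (le_jH le_rfl hE (thompsonOf_le _))
    have hzS : zHat (S : Subgroup G) ≤ (S : Subgroup G) := (zHat_le _).trans (jH_le _)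
    have hzC : (S : Subgroup G) ≤ centralizer (zHat (S : Subgroup G) : Set G) := by
      rw [le_centralizer_iff]
      refine ((omegaOne_le 2 _).trans inf_le_right).trans ?_
      rw [hjH]
    refine ⟨g, fun z hz => ?_, 1, one_mem _, (mul_one g).symm⟩
    refine (hcen (zHat (S : Subgroup G)) hzS (zHat_elemAb _)
      (fun s hs => mem_normalizer_iff_map_conj_eq.2 (eq_of_le_of_card_ge ?_
        (card_map_of_injective (MulAut.conj s).injective).ge))
      (fun R hR hel => absurd (hR.trans hzC) hel.2.2) z hz g).symm
    rintro _ ⟨z', hz', rfl⟩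
    show s * z' * s⁻¹ ∈ zHat (S : Subgroup G)
    rw [← hzC hs z' hz', mul_inv_cancel_right]
    exact hz'

end CfsgLib.PLocal.SFourW
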