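import Cfsg.Agent.Lib.PLocal.Order320
import Cfsg.Agent.Lib.Invol.PSUThreeFour

/-!
# The centralizer of an involution in `PSU₃(4)` carries a frame
-/

set_option autoImplicit false

namespace CfsgLib.PLocal.Order320

open Matrix
open scoped commutatorElement
open CfsgLib.Invol

universe v

/-- The centralizer model: `SU₃` for the anti-diagonal form. -/
def antiForm {F : Type v} [Field F] (u w : Fin 3 → F) : F :=
  u 0 * w 2 ^ 4 + u 1 * w 1 ^ 4 + u 2 * w 0 ^ 4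

variable {F : Type v} [Field F] [Fintype F]

local notation "SL3" => Matrix.SpecialLinearGroup (Fin 3) F

variable (F) in
/-- The isometry group of the anti-diagonal form. -/
def antiSU : Subgroup SL3 := Cfsg.preserving (Cfsg.slToMat 3 F) antiForm

theorem exists_antiSU_equiv (hF : Fintype.card F = 16) :
    Nonempty (antiSU F ≃* Cfsg.SU 3 F 4) := by
  obtain ⟨⟨x, hx⟩⟩ : Nonempty {c : F // c + c ^ 4 = 1} := by
    have := UU.exists_b hF 1 (by simp)
    exact (Nat.card_pos_iff.1 (by omega)).1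
  have hdet : (UU.chg x).det ≠ 0 := by
    have : (UU.chg x).det = -1 := by simp [UU.chg, det_fin_three]
    rw [this]; exact neg_ne_zero.2 one_ne_zero
  obtain ⟨P, hPdef⟩ : ∃ P : GL (Fin 3) F, (P : Matrix (Fin 3) (Fin 3) F) = UU.chg x :=
    ⟨Matrix.GeneralLinearGroup.mkOfDetNeZero _ hdet, rfl⟩
  obtain ⟨R, hR⟩ : ∃ R : Matrix (Fin 3) (Fin 3) F, R = ((P⁻¹ : GL (Fin 3) F) : Matrix (Fin 3) (Fin 3) F) :=
    ⟨_, rfl⟩
  have hPR : (P : Matrix (Fin 3) (Fin 3) F) * R = 1 := by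
    rw [hR, ← Units.val_mul, mul_inv_cancel, Units.val_one]
  have hRP : R * (P : Matrix (Fin 3) (Fin 3) F) = 1 := by
    rw [hR, ← Units.val_mul, inv_mul_cancel, Units.val_one]
  have hP : ∀ u w : Fin 3 → F, Cfsg.hermForm 3 F 4 ((P : Matrix (Fin 3) (Fin 3) F) *ᵥ u)
      ((P : Matrix (Fin 3) (Fin 3) F) *ᵥ w) = antiForm u w := by
    intro u w
    simp [hPdef, antiForm, UU.chg, Cfsg.hermForm, Fin.sum_univ_three, Matrix.mulVec, dotProduct,
      sixteen_add hF, mul_pow]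
    linear_combination (u 2 * w 2 ^ 4) * hx
      + (u 0 * w 0 ^ 4 + u 2 * w 0 ^ 4 * x + u 0 * w 2 ^ 4 * x ^ 4
          + u 2 * w 2 ^ 4 * (x * x ^ 4 + 1)) * sixteen_two hF
  have hdet2 : (P : Matrix (Fin 3) (Fin 3) F).det * R.det = 1 := by rw [← det_mul, hPR, det_one]
  obtain ⟨c, hc⟩ : ∃ c : SL3 →* SL3, ∀ g, (c g : Matrix (Fin 3) (Fin 3) F) =
      (P : Matrix (Fin 3) (Fin 3) F) * g * R := by
    refine ⟨MonoidHom.mk' (fun g => ⟨(P : Matrix (Fin 3) (Fin 3) F) * g * R, ?_⟩) (fun g h => Subtype.ext ?_),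
      fun g => rfl⟩
    · rw [det_mul, det_mul, g.2, mul_one, hdet2]
    · show (P : Matrix (Fin 3) (Fin 3) F) * ((g : Matrix (Fin 3) (Fin 3) F) * h) * R =
        (P : Matrix (Fin 3) (Fin 3) F) * g * R * ((P : Matrix (Fin 3) (Fin 3) F) * h * R)
      calc _ = (P : Matrix (Fin 3) (Fin 3) F) * g * 1 * ((h : Matrix (Fin 3) (Fin 3) F) * R) := by
            simp only [mul_one, mul_assoc]
        _ = _ := by rw [← hRP]; simp only [mul_assoc]
  have hmem : ∀ g, c g ∈ Cfsg.SU 3 F 4 ↔ g ∈ antiSU F := by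
    intro g
    have hgP : ∀ u, (c g : Matrix (Fin 3) (Fin 3) F) *ᵥ ((P : Matrix (Fin 3) (Fin 3) F) *ᵥ u) =
        (P : Matrix (Fin 3) (Fin 3) F) *ᵥ ((g : Matrix (Fin 3) (Fin 3) F) *ᵥ u) := by
      intro u
      rw [hc, mulVec_mulVec, mulVec_mulVec, mul_assoc, hRP, mul_one]
    constructor
    · intro h u w
      show antiForm ((g : Matrix (Fin 3) (Fin 3) F) *ᵥ u) ((g : Matrix (Fin 3) (Fin 3) F) *ᵥ w) = _
      rw [← hP, ← hgP, ← hgP, ← hP]
      exact h _ _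
    · intro h u w
      show Cfsg.hermForm 3 F 4 ((c g : Matrix (Fin 3) (Fin 3) F) *ᵥ u)
        ((c g : Matrix (Fin 3) (Fin 3) F) *ᵥ w) = _
      have hu : (P : Matrix (Fin 3) (Fin 3) F) *ᵥ (R *ᵥ u) = u := by rw [mulVec_mulVec, hPR, one_mulVec]
      have hw : (P : Matrix (Fin 3) (Fin 3) F) *ᵥ (R *ᵥ w) = w := by rw [mulVec_mulVec, hPR, one_mulVec]
      rw [← hu, ← hw, hgP, hgP, hP, hP]
      exact h _ _
  refine ⟨MulEquiv.ofBijective (MonoidHom.mk' (fun g : antiSU F => (⟨c g.1, (hmem _).2 g.2⟩ : Cfsg.SU 3 F 4))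
    (fun g h => Subtype.ext (map_mul c g.1 h.1))) ⟨fun g h e => Subtype.ext (Subtype.ext ?_), fun y => ?_⟩⟩
  · have e' := congrArg (fun z : Cfsg.SU 3 F 4 => R * (z.1 : Matrix (Fin 3) (Fin 3) F) * P) e
    simp only [MonoidHom.mk'_apply, hc, ← mul_assoc, hRP, one_mul] at e'
    simpa only [mul_assoc, hRP, mul_one] using e'
  · obtain ⟨g, hg⟩ : ∃ g : SL3, c g = y.1 := by
      refine ⟨⟨R * (y.1 : Matrix (Fin 3) (Fin 3) F) * P, ?_⟩, Subtype.ext ?_⟩
      · rw [det_mul, det_mul, y.1.2, mul_one, mul_comm, hdet2]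
      · refine (hc _).trans ?_
        show (P : Matrix (Fin 3) (Fin 3) F) * (R * (y.1 : Matrix (Fin 3) (Fin 3) F) * P) * R = _
        rw [mul_assoc, mul_assoc (R * _), hPR, mul_one, ← mul_assoc, hPR, one_mul]
    exact ⟨⟨g, (hmem g).1 (hg ▸ y.2)⟩, Subtype.ext hg⟩

variable {hF : Fintype.card F = 16}

theorem mat_det (p : UU F hF) : (UU.mat p).det = 1 := by simp [UU.mat, det_fin_three]

theorem mat_mem (p : UU F hF) : (⟨UU.mat p, mat_det p⟩ : SL3) ∈ antiSU F := by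
  intro u w
  show antiForm (UU.mat p *ᵥ u) (UU.mat p *ᵥ w) = antiForm u w
  simp [antiForm, UU.mat, Matrix.mulVec, dotProduct, Fin.sum_univ_three, sixteen_add hF, mul_pow,
    sixteen_pow hF]
  linear_combination (u 2 * w 2 ^ 4) * p.ok
    + (p.a * u 1 * w 2 ^ 4 + p.a ^ 4 * u 2 * w 1 ^ 4) * sixteen_two hF

/-- The root group as a homomorphism. -/
noncomputable def rootHom : UU F hF →* antiSU F :=
  MonoidHom.mk' (fun p => ⟨⟨UU.mat p, mat_det p⟩, mat_mem p⟩)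
    (fun p r => Subtype.ext (Subtype.ext (UU.mat_mul p r)))

theorem rootHom_coe (p : UU F hF) : ((rootHom p).1 : Matrix (Fin 3) (Fin 3) F) = UU.mat p := rfl

theorem rootHom_injective : Function.Injective (rootHom (F := F) (hF := hF)) := fun p r h =>
  UU.mat_injective (congrArg (fun z : antiSU F => (z.1 : Matrix (Fin 3) (Fin 3) F)) h)

/-- A centralizer with a frame. -/
theorem exists_frame_centralizer (hF : Fintype.card F = 16) :
    ∃ t : antiSU F, orderOf t = 2 ∧ Nonempty (Frame (Subgroup.centralizer ({t} : Set (antiSU F)))) := by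
  classical
  have hFfin : Finite F := Finite.of_fintype F
  obtain ⟨z, hz⟩ : ∃ z : UU F hF, z.a = 0 ∧ z.b = 1 :=
    ⟨⟨0, 1, by linear_combination sixteen_two hF⟩, rfl, rfl⟩
  obtain ⟨t, ht⟩ : ∃ t, t = rootHom z := ⟨_, rfl⟩
  have ht2 : orderOf t = 2 := by
    rw [ht, orderOf_injective rootHom rootHom_injective]
    refine orderOf_eq_prime (UU.sq_eq_one_of_center hz.1) fun h => one_ne_zero (α := F) ?_
    rw [← hz.2, h, UU.one_b]
  refine ⟨t, ht2, ?_⟩
  have htm : (t.1 : Matrix (Fin 3) (Fin 3) F) = !![1, 0, 1; 0, 1, 0; 0, 0, 1] := by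
    rw [ht, rootHom_coe, UU.mat, hz.1, hz.2]
    simp
  obtain ⟨T, hT⟩ : ∃ T : Subgroup (antiSU F), T = Subgroup.centralizer {t} := ⟨_, rfl⟩
  rw [← hT]
  have hu : ∀ p : UU F hF, rootHom p ∈ T := fun p => by
    rw [hT, Subgroup.mem_centralizer_singleton_iff, ht, ← map_mul, ← map_mul,
      ((UU.comm_iff p z).2 (by rw [hz.1]; simp))]
  -- an element of order five
  obtain ⟨ζ, hζ⟩ : ∃ ζ : Fˣ, orderOf ζ = 5 := by
    have : Fact (Nat.Prime 5) := ⟨Nat.prime_five⟩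
    refine exists_prime_orderOf_dvd_card' 5 ?_
    rw [Nat.card_units, Nat.card_eq_fintype_card, hF]
    norm_num
  have hζ5 : (ζ : F) ^ 5 = 1 := by rw [← Units.val_pow_eq_pow_val, ← hζ, pow_orderOf_eq_one, Units.val_one]
  have hζ1 : (ζ : F) ≠ 1 := fun h => by
    rw [show ζ = 1 from Units.ext h, orderOf_one] at hζ
    omega
  have hdiag : ∀ l : F, l ^ 5 = 1 → (Matrix.of ![![l, 0, 0], ![0, l ^ 3, 0], ![0, 0, l]]).det = 1 := by
    intro l hl
    simp [det_fin_three]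
    linear_combination hl
  obtain ⟨s, hs⟩ : ∃ s : T, ((s.1).1 : Matrix (Fin 3) (Fin 3) F) = !![(ζ : F), 0, 0; 0, (ζ : F) ^ 3, 0; 0, 0, ζ] := by
    refine ⟨⟨⟨⟨!![(ζ : F), 0, 0; 0, (ζ : F) ^ 3, 0; 0, 0, ζ], hdiag _ hζ5⟩, ?_⟩, ?_⟩, rfl⟩
    · intro u w
      show antiForm (!![(ζ : F), 0, 0; 0, (ζ : F) ^ 3, 0; 0, 0, ζ] *ᵥ u)
        (!![(ζ : F), 0, 0; 0, (ζ : F) ^ 3, 0; 0, 0, ζ] *ᵥ w) = antiForm u w
      simp [antiForm, Matrix.mulVec, dotProduct, Fin.sum_univ_three, mul_pow]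
      linear_combination (u 0 * w 2 ^ 4 + u 2 * w 0 ^ 4) * hζ5 +
        (u 1 * w 1 ^ 4) * ((ζ : F) ^ 10 + (ζ : F) ^ 5 + 1) * hζ5
    · rw [hT, Subgroup.mem_centralizer_singleton_iff]
      refine Subtype.ext (Subtype.ext ?_)
      show !![(ζ : F), 0, 0; 0, (ζ : F) ^ 3, 0; 0, 0, ζ] * (t.1 : Matrix (Fin 3) (Fin 3) F) =
        (t.1 : Matrix (Fin 3) (Fin 3) F) * !![(ζ : F), 0, 0; 0, (ζ : F) ^ 3, 0; 0, 0, ζ]
      rw [htm]
      ext i j
      fin_cases i <;> fin_cases j <;> simp [Matrix.mul_apply, Fin.sum_univ_three]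
  obtain ⟨r, hr⟩ : ∃ r : UU F hF →* T, ∀ p, (r p).1 = rootHom p :=
    ⟨rootHom.codRestrict T hu, fun p => rfl⟩
  have hrinj : Function.Injective r := fun p q h => rootHom_injective (by rw [← hr, ← hr, h])
  have hrm : ∀ p, (((r p).1).1 : Matrix (Fin 3) (Fin 3) F) = UU.mat p := fun p => by rw [hr]; rfl
  have hspow : ∀ k : ℕ, (((s ^ k).1).1 : Matrix (Fin 3) (Fin 3) F) =
      !![(ζ : F) ^ k, 0, 0; 0, ((ζ : F) ^ 3) ^ k, 0; 0, 0, (ζ : F) ^ k] := by
    intro k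
    induction k with
    | zero => ext i j; fin_cases i <;> fin_cases j <;> simp
    | succ k ih =>
      rw [pow_succ, Subgroup.coe_mul, Subgroup.coe_mul, Matrix.SpecialLinearGroup.coe_mul, ih, hs]
      ext i j
      fin_cases i <;> fin_cases j <;> simp [Matrix.mul_apply, Fin.sum_univ_three, pow_succ]
  have hs5 : s ^ 5 = 1 := by
    refine Subtype.ext (Subtype.ext (Subtype.ext ?_))
    rw [hspow, ← pow_mul, show (ζ : F) ^ (3 * 5) = 1 by rw [mul_comm, pow_mul, hζ5, one_pow], hζ5]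
    ext i j; fin_cases i <;> fin_cases j <;> simp
  -- every element is a product
  have hdec : ∀ g : T, ∃ (k : Fin 5) (p : UU F hF), g = s ^ (k : ℕ) * r p := by
    intro g
    have hg := hT.le g.2
    rw [Subgroup.mem_centralizer_singleton_iff] at hg
    have hg' := congrArg (fun z : antiSU F => (z.1 : Matrix (Fin 3) (Fin 3) F)) hg
    simp only [Subgroup.coe_mul, Matrix.SpecialLinearGroup.coe_mul, htm] at hg'
    obtain ⟨m, hm⟩ : ∃ m : Matrix (Fin 3) (Fin 3) F, m = ((g.1).1 : Matrix (Fin 3) (Fin 3) F) := ⟨_, rfl⟩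
    rw [← hm] at hg'
    have e00 := congrFun (congrFun hg' 0) 0
    have e02 := congrFun (congrFun hg' 0) 2
    have e01 := congrFun (congrFun hg' 0) 1
    have e12 := congrFun (congrFun hg' 1) 2
    simp [Matrix.mul_apply, Fin.sum_univ_three] at e00 e01 e02 e12
    have h20 : m 2 0 = 0 := e00
    have h10 : m 1 0 = 0 := e12
    have h21 : m 2 1 = 0 := e01
    have h22 : m 0 0 = m 2 2 := by linear_combination e02
    have hiso : ∀ u w, antiForm (m *ᵥ u) (m *ᵥ w) = antiForm u w := hm ▸ g.1.2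
    have q11 := hiso ![0, 1, 0] ![0, 1, 0]
    have q02 := hiso ![1, 0, 0] ![0, 0, 1]
    have q12 := hiso ![0, 1, 0] ![0, 0, 1]
    have q22 := hiso ![0, 0, 1] ![0, 0, 1]
    simp [antiForm, Matrix.mulVec, dotProduct, Fin.sum_univ_three, h20, h10, h21] at q11 q02 q12 q22
    have hd : m.det = 1 := by rw [hm]; exact g.1.1.2
    rw [det_fin_three, h20, h10, h21, ← h22] at hd
    rw [← h22] at q02 q12 q22
    have hl5 : m 0 0 ^ 5 = 1 := by linear_combination q02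
    have hlne : m 0 0 ≠ 0 := fun h => by rw [h] at hl5; simp at hl5
    obtain ⟨j, hj5, hj'⟩ : ∃ j < 5, (ζ : F) ^ j = m 0 0 := by
      have hp : IsPrimitiveRoot (ζ : F) 5 := by
        rw [IsPrimitiveRoot.coe_units_iff, ← hζ]
        exact IsPrimitiveRoot.orderOf ζ
      exact hp.eq_pow_of_pow_eq_one hl5
    have h11 : m 1 1 = m 0 0 ^ 3 := by linear_combination (m 0 0 ^ 3) * hd - (m 1 1) * hl5
    have h12 : m 1 2 = m 0 0 ^ 4 * m 0 1 ^ 4 := by
      have e : (m 0 1 * m 0 0 ^ 4) ^ 4 = (m 1 1 * m 1 2 ^ 4) ^ 4 := by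
        refine congrArg (· ^ 4) ?_
        linear_combination q12 - (m 1 1 * m 1 2 ^ 4) * sixteen_two hF
      rw [mul_pow, mul_pow, sixteen_pow hF, sixteen_pow hF, h11] at e
      have e2 : m 1 2 * ((m 0 0 ^ 5) ^ 3) = m 0 1 ^ 4 * m 0 0 * m 0 0 ^ 3 := by
        linear_combination -(m 0 0 ^ 3) * e
      rw [hl5, one_pow, mul_one] at e2
      linear_combination e2
    have hok : m 0 0 ^ 4 * m 0 2 + (m 0 0 ^ 4 * m 0 2) ^ 4 +
        (m 0 0 ^ 4 * m 0 1) * (m 0 0 ^ 4 * m 0 1) ^ 4 = 0 := by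
      rw [mul_pow, mul_pow, sixteen_pow hF]
      have h125 : m 1 2 * m 1 2 ^ 4 = m 0 1 * m 0 1 ^ 4 := by
        have hx : ∀ x : F, (x ^ 4) ^ 4 = x := sixteen_pow hF
        rw [h12, mul_pow, hx, hx]
        linear_combination (m 0 1 * m 0 1 ^ 4) * hl5
      linear_combination q22 - h125 + (m 0 1 * m 0 1 ^ 4) * hl5
    refine ⟨⟨j, hj5⟩, ⟨_, _, hok⟩, Subtype.ext (Subtype.ext (Subtype.ext ?_))⟩
    rw [Subgroup.coe_mul, Subgroup.coe_mul, Matrix.SpecialLinearGroup.coe_mul, hspow, hrm,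
      show ((ζ : F) ^ 3) ^ j = m 0 0 ^ 3 by rw [← hj', ← pow_mul, ← pow_mul, mul_comm], hj', ← hm, UU.mat]
    ext i k
    fin_cases i <;> fin_cases k <;>
      simp [Matrix.mul_apply, Fin.sum_univ_three, h20, h10, h21, h22.symm, h11, h12]
    · linear_combination -(m 0 1) * hl5
    · linear_combination -(m 0 2) * hl5
    · linear_combination -(m 0 0 ^ 4 * m 0 1 ^ 4) * (m 0 0 ^ 10 + m 0 0 ^ 5 + 1) * hl5
  have hinj : Function.Injective fun kp : Fin 5 × UU F hF => s ^ (kp.1 : ℕ) * r kp.2 := by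
    rintro ⟨k, p⟩ ⟨l, q⟩ h
    have h00 := congrArg (fun z : T => ((z.1).1 : Matrix (Fin 3) (Fin 3) F) 0 0) h
    simp only [Subgroup.coe_mul, Matrix.SpecialLinearGroup.coe_mul, hspow, hrm, UU.mat] at h00
    simp [Matrix.mul_apply, Fin.sum_univ_three] at h00
    have hkl : k = l := by
      refine Fin.ext ?_
      have h' : ζ ^ (k : ℕ) = ζ ^ (l : ℕ) := Units.ext (by simpa using h00)
      exact pow_injOn_Iio_orderOf (by rw [hζ]; exact k.2) (by rw [hζ]; exact l.2) h'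
    subst hkl
    exact Prod.ext rfl (hrinj (mul_left_cancel h))
  have hTcard : Nat.card T = 320 := by
    rw [← Nat.card_eq_of_bijective _ ⟨hinj, fun g => by
      obtain ⟨k, p, h⟩ := hdec g; exact ⟨(k, p), h.symm⟩⟩, Nat.card_prod, UU.card_eq, Nat.card_fin]
  -- conjugation by `s`
  have hconj : ∀ p : UU F hF, ∃ q : UU F hF, q.a = (ζ : F) ^ 3 * p.a ∧ q.b = p.b ∧ s * r p * s⁻¹ = r q := by
    intro p
    refine ⟨⟨(ζ : F) ^ 3 * p.a, p.b, ?_⟩, rfl, rfl, ?_⟩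
    · rw [mul_pow]
      linear_combination p.ok + (p.a * p.a ^ 4) * ((ζ : F) ^ 10 + (ζ : F) ^ 5 + 1) * hζ5
    · rw [mul_inv_eq_iff_eq_mul]
      refine Subtype.ext (Subtype.ext (Subtype.ext ?_))
      simp only [Subgroup.coe_mul, Matrix.SpecialLinearGroup.coe_mul, hs, hrm, UU.mat]
      ext i k
      fin_cases i <;> fin_cases k <;> simp [Matrix.mul_apply, Fin.sum_univ_three, mul_pow]
      · linear_combination -((ζ : F) * p.a) * hζ5
      · ring
      · linear_combination -((ζ : F) ^ 3 * p.a ^ 4) * ((ζ : F) ^ 5 + 1) * hζ5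
  have hsfix : ∀ p : UU F hF, p.a = 0 → s * r p * s⁻¹ = r p := by
    intro p hp
    obtain ⟨q, qa, qb, e⟩ := hconj p
    rw [e, show q = p from UU.ext (by rw [qa, hp, mul_zero]) qb]
  have hnorm : r.range.Normal := by
    refine ⟨fun n hn g => ?_⟩
    obtain ⟨p, rfl⟩ := hn
    obtain ⟨k, q, rfl⟩ := hdec g
    have hk : ∀ (i : ℕ) (p : UU F hF), s ^ i * r p * (s ^ i)⁻¹ ∈ r.range := by
      intro i
      induction i with
      | zero => intro p; exact ⟨p, by simp⟩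
      | succ i ih =>
        intro p
        obtain ⟨q', -, -, e⟩ := hconj p
        rw [show s ^ (i + 1) * r p * (s ^ (i + 1))⁻¹ = s ^ i * (s * r p * s⁻¹) * (s ^ i)⁻¹ by group, e]
        exact ih q'
    rw [show s ^ (k : ℕ) * r q * r p * (s ^ (k : ℕ) * r q)⁻¹ =
      s ^ (k : ℕ) * r (q * p * q⁻¹) * (s ^ (k : ℕ))⁻¹ by rw [map_mul, map_mul, map_inv]; group]
    exact hk _ _
  obtain ⟨C, hC⟩ : ∃ C : Subgroup T, C = (Subgroup.center (UU F hF)).map r := ⟨_, rfl⟩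
  have hCmem : ∀ p, r p ∈ C ↔ p.a = 0 := fun p => by
    rw [hC, Subgroup.mem_map_iff_mem hrinj, UU.mem_center_iff]
  refine ⟨{ D := r.range, C := C, s := s, hG := hTcard, hD := ?_, hC := ?_, normal := hnorm, le := ?_,
            le_comm := ?_, central := ?_, fixed := ?_, sq_one := ?_, comm_mem := ?_, sq_mem := ?_,
            s_pow := hs5, s_notMem := ?_, fpf := ?_ }⟩
  · rw [← Nat.card_congr (MonoidHom.ofInjective hrinj).toEquiv, UU.card_eq]
  · rw [hC, Subgroup.card_map_of_injective hrinj, UU.card_center]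
  · rw [hC]; exact Subgroup.map_le_range _ _
  · rw [hC, MonoidHom.range_eq_map, ← Subgroup.map_commutator, ← commutator_def]
    exact Subgroup.map_mono UU.center_le_commutator
  · rw [hC]
    rintro _ ⟨c, hc, rfl⟩ _ ⟨d, rfl⟩
    rw [← map_mul, ← map_mul, Subgroup.mem_center_iff.1 hc d]
  · rw [hC]
    rintro _ ⟨c, hc, rfl⟩
    exact mul_inv_eq_iff_eq_mul.1 (hsfix c (UU.mem_center_iff.1 hc))
  · rw [hC]
    rintro _ ⟨c, hc, rfl⟩
    rw [← map_mul, ← pow_two, UU.sq_eq_one_of_center (UU.mem_center_iff.1 hc), map_one]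
  · rintro _ ⟨x, rfl⟩ _ ⟨y, rfl⟩
    rw [← map_commutatorElement, hC, Subgroup.mem_map_iff_mem hrinj]
    exact UU.commutator_le_center (Subgroup.commutator_mem_commutator (Subgroup.mem_top _) (Subgroup.mem_top _))
  · rintro _ ⟨x, rfl⟩
    rw [← map_mul, hCmem, ← pow_two]
    exact UU.sq_a x
  · rintro ⟨p, hp⟩
    have h00 := congrArg (fun z : T => ((z.1).1 : Matrix (Fin 3) (Fin 3) F) 0 0) hp
    simp only [hrm, hs, UU.mat] at h00
    simp at h00
    exact hζ1 h00.symm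
  · rintro _ ⟨p, rfl⟩ hmem
    obtain ⟨q, qa, -, e⟩ := hconj p
    rw [commutatorElement_def, e, ← map_inv, ← map_mul, hCmem, UU.mul_a] at hmem
    rw [hCmem]
    have h' : ((ζ : F) ^ 3 - 1) * p.a = 0 := by
      have hinv : p⁻¹.a = p.a := rfl
      rw [hinv, qa] at hmem
      linear_combination hmem - p.a * sixteen_two hF
    refine (mul_eq_zero.1 h').resolve_left fun h3 => hζ1 ?_
    linear_combination ((ζ : F) ^ 3 + 1) * h3 - (ζ : F) * hζ5

/-- The statement in `PSU₃(4)`. -/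
theorem exists_frame_psu (hF : Fintype.card F = 16) :
    ∃ t : Cfsg.PSU 3 F 4, orderOf t = 2 ∧
      Nonempty (Frame (Subgroup.centralizer ({t} : Set (Cfsg.PSU 3 F 4)))) := by
  obtain ⟨t₀, ht₀, hfr⟩ := exists_frame_centralizer (F := F) hF
  obtain ⟨e⟩ := exists_antiSU_equiv (F := F) hF
  have hbot : Subgroup.center (Cfsg.SU 3 F 4) = ⊥ := Subgroup.card_eq_one.1 (by
    rw [CfsgLib.Classical.card_center_su (q := 4) (by rw [hF]; norm_num) (by norm_num)]
    rfl)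
  obtain ⟨φ, hφ⟩ : ∃ φ : antiSU F ≃* Cfsg.PSU 3 F 4, True :=
    ⟨e.trans ((QuotientGroup.quotientBot (G := Cfsg.SU 3 F 4)).symm.trans
      (QuotientGroup.quotientMulEquivOfEq hbot.symm)), trivial⟩
  refine ⟨φ t₀, by rw [φ.orderOf_eq, ht₀], ?_⟩
  have heq : (Subgroup.centralizer ({t₀} : Set (antiSU F))).map φ.toMonoidHom =
      Subgroup.centralizer ({φ t₀} : Set (Cfsg.PSU 3 F 4)) := by
    ext y
    obtain ⟨g, rfl⟩ := φ.surjective y
    rw [Subgroup.mem_centralizer_singleton_iff]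
    show φ.toMonoidHom g ∈ _ ↔ _
    rw [Subgroup.mem_map_iff_mem (f := φ.toMonoidHom) φ.injective, Subgroup.mem_centralizer_singleton_iff, ← map_mul, ← map_mul,
      φ.injective.eq_iff]
  obtain ⟨fr⟩ := hfr
  exact ⟨fr.map ((φ.subgroupMap _).trans (MulEquiv.subgroupCongr heq))⟩

end CfsgLib.PLocal.Order320
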