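import Cfsg.Agent.Lib.PLocal.ConjFamily

/-!
# Well placed conjugates
-/

namespace CfsgLib.PLocal

open Subgroup

variable {G : Type*} [Group G] [Finite G] {p : ℕ} [Fact p.Prime]

omit [Finite G] [Fact p.Prime] in
theorem tower_le {W : Subgroup G → Subgroup G} (hW : Cfsg.IsConjugacyFunctor p W) {S T : Subgroup G}
    (hS : IsPGroup p S) (hT : T ≤ S) : ∀ i, Cfsg.functorTower W S T i ≤ S
  | 0 => hT
  | _ + 1 => (functor_le hW (hS.to_le inf_le_left)).trans inf_le_left

omit [Finite G] [Fact p.Prime] in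
theorem towerNorm_mono {W : Subgroup G → Subgroup G} (hW : Cfsg.IsConjugacyFunctor p W)
    {S T : Subgroup G} (hS : IsPGroup p S) {i j : ℕ} (hij : i ≤ j) :
    S ⊓ normalizer (Cfsg.functorTower W S T i : Set G) ≤
      S ⊓ normalizer (Cfsg.functorTower W S T j : Set G) := by
  induction hij with
  | refl => exact le_rfl
  | step _ ih =>
    exact ih.trans (le_inf inf_le_left (le_normalizer_functor hW (hS.to_le inf_le_left)))

/-- `T` is well placed below level `n`. -/
def PlacedBelow (p : ℕ) (W : Subgroup G → Subgroup G) (S T : Subgroup G) (n : ℕ) : Prop :=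
  T ≤ S ∧ ∀ i < n, SylowIn p (S ⊓ normalizer (Cfsg.functorTower W S T i : Set G))
    (normalizer (Cfsg.functorTower W S T i : Set G))

theorem exists_placedBelow (S : Sylow p G) {W : Subgroup G → Subgroup G}
    (hW : Cfsg.IsConjugacyFunctor p W) {T : Subgroup G} (hT : T ≤ (S : Subgroup G)) :
    ∀ n, ∃ g : G, PlacedBelow p W (S : Subgroup G) (conjMap g T) n := by
  intro n
  induction n with
  | zero => exact ⟨1, by rwa [conjMap_one], fun i hi => absurd hi i.not_lt_zero⟩
  | succ n ih =>
    obtain ⟨g, hle, hsyl⟩ := ih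
    set T₁ := conjMap g T
    set U := Cfsg.functorTower W (S : Subgroup G) T₁ n with hU
    have hSn : IsPGroup p ((S : Subgroup G) ⊓ normalizer (U : Set G) : Subgroup G) := S.2.to_le inf_le_left
    obtain ⟨R, hR, hRle⟩ := exists_sylowIn_le hSn inf_le_right
    obtain ⟨x, -, hx⟩ := (sylowIn_top S).exists_conj_le hR.2.1 le_top
    have hT₁le : T₁ ≤ (S : Subgroup G) ⊓ normalizer (Cfsg.functorTower W (S : Subgroup G) T₁ 0 : Set G) :=
      le_inf hle le_normalizer
    have hxT : conjMap x T₁ ≤ (S : Subgroup G) :=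
      (conjMap_mono (((hT₁le.trans (towerNorm_mono hW S.2 n.zero_le))).trans hRle)).trans hx
    have key : ∀ i ≤ n, Cfsg.functorTower W (S : Subgroup G) (conjMap x T₁) i =
        conjMap x (Cfsg.functorTower W (S : Subgroup G) T₁ i) ∧
        (i < n → (S : Subgroup G) ⊓ normalizer (Cfsg.functorTower W (S : Subgroup G) (conjMap x T₁) i : Set G) =
          conjMap x ((S : Subgroup G) ⊓ normalizer (Cfsg.functorTower W (S : Subgroup G) T₁ i : Set G))) := by
      intro i
      induction i with
      | zero =>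
        intro _
        refine ⟨rfl, fun h0 => ?_⟩
        refine (((hsyl 0 h0).conj x).eq_of_le (S.2.to_le inf_le_left) ?_ (le_inf ?_ ?_)).symm
        · rw [conjMap_normalizer]; exact inf_le_right
        · exact (conjMap_mono ((towerNorm_mono hW S.2 h0.le).trans hRle)).trans hx
        · exact (conjMap_mono inf_le_right).trans (le_of_eq (conjMap_normalizer x _))
      | succ i ihi =>
        intro hi
        obtain ⟨-, h2⟩ := ihi (by omega)
        have e : Cfsg.functorTower W (S : Subgroup G) (conjMap x T₁) (i + 1) =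
            conjMap x (Cfsg.functorTower W (S : Subgroup G) T₁ (i + 1)) := by
          show W _ = conjMap x (W _)
          rw [h2 (by omega), functor_conj hW (S.2.to_le inf_le_left)]
        refine ⟨e, fun h0 => ?_⟩
        refine (((hsyl (i + 1) h0).conj x).eq_of_le (S.2.to_le inf_le_left) ?_ (le_inf ?_ ?_)).symm
        · rw [e, conjMap_normalizer]; exact inf_le_right
        · exact (conjMap_mono ((towerNorm_mono hW S.2 h0.le).trans hRle)).trans hx
        · rw [e]; exact (conjMap_mono inf_le_right).trans (le_of_eq (conjMap_normalizer x _))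
    refine ⟨x * g, ?_⟩
    rw [show conjMap (x * g) T = conjMap x T₁ from (conjMap_conjMap x g T).symm]
    refine ⟨hxT, fun i hi => ?_⟩
    rcases eq_or_lt_of_le (Nat.lt_succ_iff.1 hi) with rfl | hlt
    · have e := (key i le_rfl).1
      refine SylowIn.of_card_le (T := conjMap x R) ?_ (S.2.to_le inf_le_left) inf_le_right
        (card_le_of_le (le_inf hx ?_))
      · rw [e, ← conjMap_normalizer]; exact hR.conj x
      · rw [e, ← conjMap_normalizer]; exact conjMap_mono hR.1
    · obtain ⟨e, e'⟩ := key i hlt.le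
      rw [e' hlt, e, ← conjMap_normalizer]
      exact (hsyl i hlt).conj x

theorem exists_wellPlaced (S : Sylow p G) {W : Subgroup G → Subgroup G}
    (hW : Cfsg.IsConjugacyFunctor p W) {T : Subgroup G} (hT : T ≤ (S : Subgroup G)) :
    ∃ g : G, Cfsg.IsWellPlaced p W (S : Subgroup G) (conjMap g T) := by
  choose g hg using exists_placedBelow S hW hT
  obtain ⟨g₀, hg₀⟩ := Finite.exists_infinite_fiber g
  refine ⟨g₀, ?_, fun i => ?_⟩
  · obtain ⟨⟨n, hn⟩⟩ := hg₀.nonempty
    rw [← show g n = g₀ from hn]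
    exact (hg n).1
  · obtain ⟨n, hn, hin⟩ := (Set.infinite_coe_iff.1 hg₀).exists_gt i
    rw [← show g n = g₀ from hn]
    exact ((hg n).2 i hin).2.2

theorem wellPlaced_good (S : Sylow p G) {W : Subgroup G → Subgroup G}
    (hW : Cfsg.IsConjugacyFunctor p W) (T : Subgroup G) (hT : T ≤ (S : Subgroup G)) :
    ∃ U ∈ {T : Subgroup G | Cfsg.IsWellPlaced p W (S : Subgroup G) T}, (∃ g : G, conjMap g T = U) ∧
      ¬ p ∣ ((S : Subgroup G) ⊓ normalizer (U : Set G)).relIndex (normalizer (U : Set G)) := by
  obtain ⟨g, hg⟩ := exists_wellPlaced S hW hT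
  exact ⟨_, hg, ⟨g, rfl⟩, hg.2 0⟩

end CfsgLib.PLocal
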