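import Cfsg.Agent.Lib.Comp.SFT.Bound
import Cfsg.Agent.Lib.Coprime.Abelian
import Cfsg.Agent.Lib.Solvable.Nilpotent

/-!
# The abelianization of a nilpotent group acting on an abelian group

Let a nilpotent `p'`-group `N` act faithfully and coprimely on an abelian group `V ≠ 1` and let an
element `k` of order `p` centralize `N` and act without fixed points on `V`, `|V|` prime to `p`.
Then `p * |N : N'| ≤ |V|`.  (The order of `N` itself may exceed `|V|`, e.g. for `p = 3`.)
-/

set_option autoImplicit false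
set_option linter.style.haveILetI false

namespace CfsgLib.PLocal.AbBound

open Subgroup CfsgLib.Comp.SFT.BoundAux
open scoped commutatorElement

universe u

section Groups

variable {K : Type u} [Group K]

theorem card_commutator_top (H : Subgroup K) :
    Nat.card (⁅(⊤ : Subgroup H), (⊤ : Subgroup H)⁆ : Subgroup H) = Nat.card (⁅H, H⁆ : Subgroup K) := by
  rw [← card_map_of_injective (f := H.subtype) (subtype_injective H), map_commutator,
    ← MonoidHom.range_eq_map, range_subtype]

theorem card_map_mul {L : Type u} [Group L] (f : K →* L) (D : Subgroup K) :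
    Nat.card (D.map f) * Nat.card (f.ker ⊓ D : Subgroup K) = Nat.card D := by
  have h := (f.comp D.subtype).ker.card_mul_index
  rw [index_ker, MonoidHom.range_comp, range_subtype] at h
  have h2 : Nat.card (f.comp D.subtype).ker = Nat.card (f.ker ⊓ D : Subgroup K) := by
    rw [← subgroupOf_map_subtype, card_map_of_injective (subtype_injective D)]
    rfl
  rw [h2, mul_comm] at h
  exact h

/-- The derived subgroup is at least the product of those of an image and of the kernel. -/
theorem card_derived_mul_le [Finite K] {L : Type u} [Group L] (f : K →* L) :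
    Nat.card (⁅f.range, f.range⁆ : Subgroup L) * Nat.card (⁅f.ker, f.ker⁆ : Subgroup K) ≤
      Nat.card (⁅(⊤ : Subgroup K), (⊤ : Subgroup K)⁆ : Subgroup K) := by
  rw [MonoidHom.range_eq_map, ← map_commutator]
  refine le_trans (Nat.mul_le_mul_left _ ?_) (card_map_mul f ⁅(⊤ : Subgroup K), (⊤ : Subgroup K)⁆).le
  exact card_le_of_le (le_inf ((commutator_le_self f.ker)) (commutator_mono le_top le_top))

/-- A non-cyclic normal abelian subgroup of a nilpotent group gives two elements of prime order `q`,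
the first central, the second with all conjugates in the coset of the first. -/
theorem exists_pair [Finite K] [Group.IsNilpotent K] (A : Subgroup K) (hAn : A.Normal)
    (hAc : IsMulCommutative A) (hnc : ¬ IsCyclic A) :
    ∃ q : ℕ, q.Prime ∧ ∃ e x : K, x ^ q = 1 ∧ e ^ q = 1 ∧ Commute e x ∧ x ∈ center K ∧ x ≠ 1 ∧
      e ∉ zpowers x ∧ ∀ n : K, n * e * n⁻¹ * e⁻¹ ∈ zpowers x := by
  letI : CommGroup A := { (inferInstance : Group A) with mul_comm := hAc.is_comm.comm }
  obtain ⟨q, hq, hcard⟩ : ∃ q : ℕ, q.Prime ∧ q < Nat.card (powMonoidHom q : A →* A).ker := by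
    by_contra hh
    push Not at hh
    exact hnc (CfsgLib.Coprime.isCyclic_of_card_prime_roots hh)
  haveI : Fact q.Prime := ⟨hq⟩
  set F : Subgroup K := (powMonoidHom q : A →* A).ker.map A.subtype with hF
  have hmem : ∀ a : K, a ∈ F ↔ a ∈ A ∧ a ^ q = 1 := by
    intro a
    constructor
    · rintro ⟨b, hb, rfl⟩
      exact ⟨b.2, congrArg Subtype.val (MonoidHom.mem_ker.1 hb)⟩
    · rintro ⟨ha, hq'⟩
      exact ⟨⟨a, ha⟩, MonoidHom.mem_ker.2 (Subtype.ext hq'), rfl⟩
  have hFn : F.Normal := ⟨fun a ha g => by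
    rw [hmem] at ha ⊢
    exact ⟨hAn.conj_mem a ha.1 g, by rw [conj_pow, ha.2, mul_one, mul_inv_cancel]⟩⟩
  have hFc : q < Nat.card F := by rwa [hF, card_map_of_injective (subtype_injective A)]
  have hFne : F ≠ ⊥ := fun h => by rw [h, card_bot] at hFc; exact absurd hFc (not_lt.2 hq.one_lt.le)
  obtain ⟨x, ⟨hxF, hxc⟩, hx1⟩ :=
    (bot_or_exists_ne_one _).resolve_left (CfsgLib.Solvable.normal_inf_center_ne_bot F hFne)
  set Z := zpowers x with hZ
  have hxo : orderOf x = q := orderOf_eq_prime ((hmem x).1 hxF).2 hx1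
  haveI : Z.Normal := ⟨fun a ha g => by
    have h : a ∈ center K := zpowers_le.2 hxc ha
    rwa [mem_center_iff.1 h g, mul_inv_cancel_right]⟩
  have hFZ : ¬ F ≤ Z := fun h => by
    have h1 := card_le_of_le h
    rw [hZ, Nat.card_zpowers, hxo] at h1
    omega
  haveI : (F.map (QuotientGroup.mk' Z)).Normal :=
    hFn.map _ (QuotientGroup.mk'_surjective Z)
  have hne : F.map (QuotientGroup.mk' Z) ≠ ⊥ := fun h => hFZ (by
    rwa [Subgroup.map_eq_bot_iff, QuotientGroup.ker_mk'] at h)
  obtain ⟨y, ⟨⟨e, heF, rfl⟩, hyc⟩, hy1⟩ :=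
    (bot_or_exists_ne_one _).resolve_left (CfsgLib.Solvable.normal_inf_center_ne_bot _ hne)
  refine ⟨q, hq, e, x, ((hmem x).1 hxF).2, ((hmem e).1 heF).2,
    (mem_center_iff.1 hxc e), hxc, hx1,
    fun h => hy1 ((QuotientGroup.eq_one_iff e).2 h), fun n => ?_⟩
  rw [← QuotientGroup.eq_one_iff (N := Z)]
  show QuotientGroup.mk' Z (n * e * n⁻¹ * e⁻¹) = 1
  rw [map_mul, map_mul, map_mul, map_inv, map_inv, mem_center_iff.1 hyc (QuotientGroup.mk' Z n)]
  group

/-- A nilpotent group has a self-centralizing normal abelian subgroup. -/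
theorem exists_self_centralizing [Finite K] [Group.IsNilpotent K] :
    ∃ A : Subgroup K, A.Normal ∧ IsMulCommutative A ∧ centralizer (A : Set K) ≤ A := by
  obtain ⟨A, -, hA⟩ := Finite.exists_le_maximal
    (p := fun A : Subgroup K => A.Normal ∧ IsMulCommutative A) (a := ⊥)
    ⟨inferInstance, ⟨⟨fun a b => Subtype.ext (by rw [mem_bot.1 (a * b).2, mem_bot.1 (b * a).2])⟩⟩⟩
  obtain ⟨hAn, hAc⟩ := hA.prop
  refine ⟨A, hAn, hAc, ?_⟩
  by_contra hle
  haveI := hAn
  haveI : ((centralizer (A : Set K)).map (QuotientGroup.mk' A)).Normal :=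
    (inferInstance : (centralizer (A : Set K)).Normal).map _ (QuotientGroup.mk'_surjective A)
  have hne : (centralizer (A : Set K)).map (QuotientGroup.mk' A) ≠ ⊥ := fun h => hle (by
    rwa [Subgroup.map_eq_bot_iff, QuotientGroup.ker_mk'] at h)
  obtain ⟨y, ⟨⟨e, heC, rfl⟩, hyc⟩, hy1⟩ :=
    (bot_or_exists_ne_one _).resolve_left (CfsgLib.Solvable.normal_inf_center_ne_bot _ hne)
  have heA : e ∉ A := fun h => hy1 ((QuotientGroup.eq_one_iff e).2 h)
  set B := A ⊔ zpowers e with hB
  have hBc : IsMulCommutative B := by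
    rw [hB, ← closure_eq A, zpowers_eq_closure, ← Subgroup.closure_union]
    refine isMulCommutative_closure ?_
    rintro a (ha | ha) b (hb | hb)
    · exact congrArg Subtype.val (hAc.is_comm.comm ⟨a, ha⟩ ⟨b, hb⟩)
    · rw [Set.mem_singleton_iff.1 hb]; exact mem_centralizer_iff.1 heC a ha
    · rw [Set.mem_singleton_iff.1 ha]; exact (mem_centralizer_iff.1 heC b hb).symm
    · rw [Set.mem_singleton_iff.1 ha, Set.mem_singleton_iff.1 hb]
  have hBn : B.Normal := by
    refine ⟨fun b hb g => ?_⟩
    have key : ∀ g : K, B ≤ B.comap (MulAut.conj g).toMonoidHom := fun g => by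
      rw [hB, sup_le_iff, zpowers_le]
      refine ⟨fun a ha => mem_sup_left (hAn.conj_mem a ha g), ?_⟩
      show g * e * g⁻¹ ∈ A ⊔ zpowers e
      have hA' : g * e * g⁻¹ * e⁻¹ ∈ A := by
        rw [← QuotientGroup.eq_one_iff (N := A)]
        show QuotientGroup.mk' A (g * e * g⁻¹ * e⁻¹) = 1
        rw [map_mul, map_mul, map_mul, map_inv, map_inv, mem_center_iff.1 hyc (QuotientGroup.mk' A g)]
        group
      rw [show g * e * g⁻¹ = g * e * g⁻¹ * e⁻¹ * e by group]
      exact mul_mem_sup hA' (mem_zpowers e)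
    exact key g hb
  exact heA (hA.le_of_ge ⟨hBn, hBc⟩ le_sup_left (mem_sup_right (mem_zpowers e)))

/-- The index of a cyclic self-centralizing normal subgroup is at most the order of the derived
subgroup. -/
theorem index_le_card_derived [Finite K] {A : Subgroup K} (hc : IsCyclic A)
    (hA : centralizer (A : Set K) ≤ A) :
    A.index ≤ Nat.card (⁅(⊤ : Subgroup K), (⊤ : Subgroup K)⁆ : Subgroup K) := by
  obtain ⟨a, ha⟩ := hc.exists_generator
  rw [index_eq_card]
  refine Nat.card_le_card_of_injective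
    (fun c : K ⧸ A => (⟨⁅c.out, (a : K)⁆, commutator_mem_commutator (mem_top _) (mem_top _)⟩ :
      (⁅(⊤ : Subgroup K), (⊤ : Subgroup K)⁆ : Subgroup K))) fun c d h => ?_
  have h' := congrArg Subtype.val h
  simp only [commutatorElement_def] at h'
  have h2 : c.out * (a : K) * c.out⁻¹ = d.out * a * d.out⁻¹ := mul_right_cancel h'
  rw [← c.out_eq, ← d.out_eq]
  refine QuotientGroup.eq.2 (hA (mem_centralizer_iff.2 fun b hb => ?_))
  obtain ⟨i, hi⟩ := mem_zpowers_iff.1 (ha ⟨b, hb⟩)
  have hb' : b = (a : K) ^ i := by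
    rw [← SubgroupClass.coe_zpow, hi]
  have hcm : Commute (c.out⁻¹ * d.out) (a : K) := by
    show c.out⁻¹ * d.out * (a : K) = a * (c.out⁻¹ * d.out)
    calc c.out⁻¹ * d.out * (a : K) = c.out⁻¹ * (d.out * a * d.out⁻¹) * d.out := by group
      _ = a * (c.out⁻¹ * d.out) := by rw [← h2]; group
  rw [hb']
  exact ((hcm.zpow_right i).eq).symm

end Groups

section Action

variable {V : Type u} [CommGroup V] [Finite V]

/-- The statement for groups of automorphisms. -/
def Bound (p : ℕ) (V : Type u) [CommGroup V] : Prop :=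
  Nontrivial V → ∀ (k : MulAut V) (N : Subgroup (MulAut V)), k ^ p = 1 → (∀ n ∈ N, Commute k n) →
    fixed k = ⊥ → Group.IsNilpotent N → (Nat.card N).Coprime (Nat.card V) →
    (Nat.card N).Coprime p → p.Coprime (Nat.card V) →
    Nat.card N * p ≤ Nat.card V * Nat.card (⁅N, N⁆ : Subgroup (MulAut V))

variable {p : ℕ}

/-- The bound passes to a family of invariant subgroups on which the group is faithful. -/
theorem chain (IH : ∀ W : Subgroup V, W ≠ ⊤ → Bound p W) {k : MulAut V} (hk : k ^ p = 1)
    (hfix : fixed k = ⊥) (hpV : p.Coprime (Nat.card V)) {H : Subgroup (MulAut V)}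
    (hH : Group.IsNilpotent H) (hkH : ∀ n ∈ H, Commute k n)
    (hcop : (Nat.card H).Coprime (Nat.card V)) (hHp : (Nat.card H).Coprime p)
    {ι : Type} [DecidableEq ι] (W : ι → Subgroup V) (hWb : ∀ j, W j ≠ ⊥) (hWt : ∀ j, W j ≠ ⊤)
    (hWH : ∀ j, ∀ n ∈ H, ∀ w ∈ W j, n w ∈ W j) (hWk : ∀ j, ∀ w ∈ W j, k w ∈ W j)
    (hfa : ∀ n ∈ H, (∀ j, ∀ w ∈ W j, n w = w) → n = 1) (S : Finset ι) :
    ∀ H' : Subgroup (MulAut V), H' ≤ H → (∀ n ∈ H', ∀ j ∉ S, ∀ w ∈ W j, n w = w) →
      Nat.card H' * p ^ S.card ≤
        (∏ j ∈ S, Nat.card (W j)) * Nat.card (⁅H', H'⁆ : Subgroup (MulAut V)) := by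
  induction S using Finset.induction_on with
  | empty =>
    intro H' hle hfree
    have hbot : H' = ⊥ := (eq_bot_iff_forall _).2 fun n hn =>
      hfa n (hle hn) fun j => hfree n hn j (Finset.notMem_empty j)
    subst hbot
    rw [card_bot, Finset.card_empty, pow_zero, Finset.prod_empty, one_mul, one_mul]
    exact Nat.card_pos
  | insert a S ha ih =>
    intro H' hle hfree
    have hW' : ∀ n ∈ H', ∀ w ∈ W a, n w ∈ W a := fun n hn => hWH a n (hle hn)
    set r := res H' (W a) hW' with hr
    set L : Subgroup (MulAut V) := r.ker.map H'.subtype with hL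
    have hLle : L ≤ H' := map_subtype_le _
    have h1 := ih L (hLle.trans hle) (by
      rintro _ ⟨n, hn, rfl⟩ j hj w hw
      by_cases hja : j = a
      · subst hja
        exact apply_eq_of_res_eq_one (MonoidHom.mem_ker.1 hn) hw
      · exact hfree n n.2 j (by simp [hja, hj]) w hw)
    have hd : Nat.card r.range ∣ Nat.card H :=
      (card_range_dvd _).trans (card_dvd_of_le hle)
    have hkz : ∀ n ∈ zpowers k, ∀ w ∈ W a, n w ∈ W a := by
      intro n hn w hw
      obtain ⟨i, rfl⟩ := (mem_powers_iff_mem_zpowers (x := k)).2 hn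
      clear hn
      show (k ^ i) w ∈ W a
      induction i with
      | zero => exact hw
      | succ i ih' => rw [pow_succ', MulAut.mul_apply]; exact hWk a _ ih'
    set k' := res (zpowers k) (W a) hkz ⟨k, mem_zpowers k⟩ with hk'
    have hnil : Group.IsNilpotent r.range := by
      haveI := hH
      haveI : Group.IsNilpotent H' :=
        Group.nilpotent_of_mulEquiv (subgroupOfEquivOfLe hle)
      exact Group.nilpotent_of_surjective _ r.rangeRestrict_surjective
    have h2 : Nat.card r.range * p ≤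
        Nat.card (W a) * Nat.card (⁅r.range, r.range⁆ : Subgroup (MulAut (W a))) := by
      refine IH (W a) (hWt a) ((nontrivial_iff_ne_bot _).2 (hWb a)) k' r.range ?_ ?_ ?_ hnil
        ((hcop.coprime_dvd_left hd).coprime_dvd_right (card_subgroup_dvd_card _))
        (hHp.coprime_dvd_left hd) (hpV.coprime_dvd_right (card_subgroup_dvd_card _))
      · rw [hk', ← map_pow]
        have : (⟨k, mem_zpowers k⟩ : zpowers k) ^ p = 1 := Subtype.ext hk
        rw [this, map_one]
      · rintro _ ⟨n, rfl⟩
        refine MulEquiv.ext fun w => Subtype.ext ?_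
        exact congrArg (fun f : MulAut V => f (w : V)) (hkH n (hle n.2)).eq
      · rw [eq_bot_iff]
        intro w hw
        have h : (w : V) ∈ fixed k := congrArg Subtype.val (hw : k' w = w)
        rw [hfix, mem_bot] at h
        exact mem_bot.2 (Subtype.ext h)
    have hcard : Nat.card H' = Nat.card r.range * Nat.card L := by
      rw [hL, card_map_of_injective (subtype_injective H'), ← index_ker, mul_comm, card_mul_index]
    have hder : Nat.card (⁅r.range, r.range⁆ : Subgroup (MulAut (W a))) *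
        Nat.card (⁅L, L⁆ : Subgroup (MulAut V)) ≤ Nat.card (⁅H', H'⁆ : Subgroup (MulAut V)) := by
      rw [← card_commutator_top H', hL, ← map_commutator,
        card_map_of_injective (subtype_injective H')]
      exact card_derived_mul_le r
    rw [Finset.card_insert_of_notMem ha, Finset.prod_insert ha, pow_succ, hcard]
    calc Nat.card r.range * Nat.card L * (p ^ S.card * p)
        = Nat.card r.range * p * (Nat.card L * p ^ S.card) := by ring
      _ ≤ Nat.card (W a) * Nat.card (⁅r.range, r.range⁆ : Subgroup (MulAut (W a))) *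
          ((∏ j ∈ S, Nat.card (W j)) * Nat.card (⁅L, L⁆ : Subgroup (MulAut V))) :=
        Nat.mul_le_mul h2 h1
      _ = Nat.card (W a) * (∏ j ∈ S, Nat.card (W j)) *
          (Nat.card (⁅r.range, r.range⁆ : Subgroup (MulAut (W a))) *
            Nat.card (⁅L, L⁆ : Subgroup (MulAut V))) := by ring
      _ ≤ _ := Nat.mul_le_mul_left _ hder

end Action

end CfsgLib.PLocal.AbBound
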