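import Cfsg.Agent.Lib.PLocal.AbBound

/-!
# The abelianization bound

`p * |N : N'| ≤ |V|` for a nilpotent `p'`-group `N` acting faithfully and coprimely on the abelian
group `V ≠ 1` and centralized by an element of order `p` without fixed points on `V`.
-/

set_option autoImplicit false
set_option linter.style.haveILetI false

namespace CfsgLib.PLocal.AbBound

open Subgroup CfsgLib.Comp.SFT.BoundAux
open scoped commutatorElement

universe u

theorem le_pow_pred {p q : ℕ} (hp : 2 ≤ p) : q ≤ p ^ (q - 1) :=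
  calc q ≤ 2 ^ (q - 1) := by
        have := (q - 1).lt_two_pow_self
        omega
    _ ≤ p ^ (q - 1) := Nat.pow_le_pow_left hp _

variable {p : ℕ} [hp : Fact p.Prime]

theorem finish {N H W N' H' q : ℕ} (hq : 1 ≤ q) (hN : N ≤ q * H) (hH : H * p ^ q ≤ W * H')
    (hH' : H' ≤ N') : N * p ≤ W * N' := by
  have h1 : N * p * p ^ (q - 1) ≤ W * N' * p ^ (q - 1) := by
    calc N * p * p ^ (q - 1) = N * p ^ q := by
          rw [mul_assoc, ← pow_succ', Nat.sub_add_cancel hq]
      _ ≤ q * H * p ^ q := Nat.mul_le_mul_right _ hN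
      _ = q * (H * p ^ q) := by ring
      _ ≤ p ^ (q - 1) * (W * H') := Nat.mul_le_mul (le_pow_pred hp.out.two_le) hH
      _ ≤ p ^ (q - 1) * (W * N') := Nat.mul_le_mul_left _ (Nat.mul_le_mul_left _ hH')
      _ = _ := by ring
  exact Nat.le_of_mul_le_mul_right h1 (pow_pos hp.out.pos _)

theorem key : ∀ (c : ℕ) (V : Type u) [CommGroup V] [Finite V], Nat.card V = c → Bound p V := by
  intro c
  induction c using Nat.strong_induction_on with
  | _ c IH =>
  intro V _ _ hc hVnt k N hk hkN hfix hnil hcop hNp hpV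
  classical
  have IH' : ∀ W : Subgroup V, W ≠ ⊤ → Bound p W := fun W hW =>
    IH _ (hc ▸ lt_of_le_of_ne (card_le_card_group W) (fun h => hW (eq_top_of_card_eq W h))) W rfl
  by_cases hi : ∃ n ∈ N, (∀ m ∈ N, m * n = n * m) ∧
      ∃ i : ℕ, n * k ^ i ≠ 1 ∧ fixed (n * k ^ i) ≠ ⊥
  · -- a central element with proper nontrivial fixed points
    obtain ⟨n, hn, hnc, i, hz1, hC⟩ := hi
    set z := n * k ^ i with hz
    have hzp : (orderOf z).Coprime (Nat.card V) := by
      refine Nat.Coprime.coprime_dvd_left (k := Nat.card N * p) ?_ (hcop.mul_left hpV)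
      refine orderOf_dvd_of_pow_eq_one ?_
      rw [hz, ((hkN n hn).symm.pow_right i).mul_pow, ← pow_mul k, mul_comm i, pow_mul k,
        pow_mul n, orderOf_dvd_iff_pow_eq_one.1 (orderOf_dvd_natCard N hn), one_pow, one_mul,
        mul_comm (Nat.card N), pow_mul k, hk, one_pow, one_pow]
    have hzc : ∀ m ∈ N, m * z = z * m := fun m hm =>
      ((show Commute m n from hnc m hm).mul_right ((hkN m hm).symm.pow_right i)).eq
    have hzk : k * z = z * k :=
      ((hkN n hn).mul_right ((Commute.refl k).pow_right i)).eq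
    set f : V →* V :=
      { toFun := fun v => z v * v⁻¹
        map_one' := by simp
        map_mul' := fun a b => by rw [map_mul, mul_inv]; exact mul_mul_mul_comm _ _ _ _ } with hf
    have hker : f.ker = fixed z := by
      ext v
      exact mul_inv_eq_one
    set D := f.range with hD
    have hCD : fixed z ⊓ D = ⊥ := by
      rw [eq_bot_iff]
      rintro w ⟨hw, v, rfl⟩
      have hzi : ∀ i : ℕ, (z ^ i) v = v * f v ^ i := by
        intro i
        induction i with
        | zero => simp
        | succ i ih =>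
          rw [pow_succ', MulAut.mul_apply, ih, map_mul, map_pow, (hw : z (f v) = f v), pow_succ']
          show z v * _ = v * ((z v * v⁻¹) * _)
          rw [← mul_assoc v, mul_comm v (z v * v⁻¹), inv_mul_cancel_right]
      have h1 := hzi (orderOf z)
      rw [pow_orderOf_eq_one, MulAut.one_apply] at h1
      rw [Subgroup.mem_bot]
      refine eq_one_of_pow (mul_eq_left.1 h1.symm) ?_
      exact hzp
    have hcard : Nat.card (fixed z) * Nat.card D = Nat.card V := by
      rw [← hker, hD, ← Subgroup.index_ker, Subgroup.card_mul_index]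
    have hDb : D ≠ ⊥ := fun h => hz1 (MulEquiv.ext fun v => by
      have h1 : f v ∈ D := ⟨v, rfl⟩
      rw [h, Subgroup.mem_bot] at h1
      exact mul_inv_eq_one.1 h1)
    have hCt : fixed z ≠ ⊤ := fun h => hz1 (MulEquiv.ext fun v => (h ▸ Subgroup.mem_top v : v ∈ fixed z))
    have hDt : D ≠ ⊤ := fun h => hC (by rw [← hCD, h, inf_top_eq])
    have hsup : fixed z ⊔ D = ⊤ := by
      refine Subgroup.eq_top_of_card_eq _ (le_antisymm (Subgroup.card_le_card_group _) ?_)
      rw [← hcard]
      have h1 := Subgroup.relIndex_sup_left (H := D) (K := fixed z)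
      have h2 : (fixed z).relIndex D = Nat.card D := by
        rw [← Subgroup.inf_relIndex_right, hCD, Subgroup.relIndex_bot_left]
      have h3 := Subgroup.relIndex_mul_relIndex ⊥ (fixed z) (fixed z ⊔ D) bot_le le_sup_left
      rw [Subgroup.relIndex_bot_left, Subgroup.relIndex_bot_left, h1, h2] at h3
      exact h3.le
    have hWC : ∀ n ∈ N, ∀ w ∈ fixed z, n w ∈ fixed z := fun n hn w hw => fixed_map (hzc n hn) hw
    have hWD : ∀ n ∈ N, ∀ w ∈ D, n w ∈ D := by
      rintro n hn _ ⟨v, rfl⟩
      refine ⟨n v, ?_⟩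
      show z (n v) * (n v)⁻¹ = n (z v * v⁻¹)
      rw [map_mul, map_inv, ← MulAut.mul_apply, ← hzc n hn, MulAut.mul_apply]
    have hWDk : ∀ w ∈ D, k w ∈ D := by
      rintro _ ⟨v, rfl⟩
      refine ⟨k v, ?_⟩
      show z (k v) * (k v)⁻¹ = k (z v * v⁻¹)
      rw [map_mul, map_inv, ← MulAut.mul_apply, ← hzk, MulAut.mul_apply]
    let W : Bool → Subgroup V := fun b => if b then fixed z else D
    have hfa : ∀ m ∈ N, (∀ j, ∀ w ∈ W j, m w = w) → m = 1 := fun m _ h => by
      have hle : fixed z ⊔ D ≤ fixed m :=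
        sup_le (fun w hw => h true w hw) (fun w hw => h false w hw)
      exact MulEquiv.ext fun v => hle (hsup ▸ mem_top v)
    have h := chain IH' hk hfix hpV hnil hkN hcop hNp W
      (fun j => by cases j; exacts [hDb, hC]) (fun j => by cases j; exacts [hDt, hCt])
      (fun j => by cases j; exacts [hWD, hWC])
      (fun j => by cases j; exacts [hWDk, fun w hw => fixed_map hzk hw]) hfa
      Finset.univ N le_rfl (fun m _ j hj => absurd (Finset.mem_univ j) hj)
    rw [Fintype.prod_bool, Finset.card_univ, Fintype.card_bool] at h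
    simp only [W, if_true, Bool.false_eq_true, if_false] at h
    rw [hcard] at h
    exact finish (q := 2) (by norm_num) (Nat.le_mul_of_pos_left _ two_pos) h le_rfl
  push Not at hi
  haveI := hnil
  have hcent : ∀ y : N, y ∈ center N → y ≠ 1 → fixed (y : MulAut V) = ⊥ := fun y hy hy1 => by
    have h := hi y y.2 (fun m hm => congrArg Subtype.val (mem_center_iff.1 hy ⟨m, hm⟩)) 0
    rw [pow_zero, mul_one] at h
    exact h (fun e => hy1 (Subtype.ext e))
  by_cases hA : ∃ A : Subgroup N, A.Normal ∧ IsMulCommutative A ∧ ¬ IsCyclic A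
  · obtain ⟨A, hAn, hAc, hAnc⟩ := hA
    obtain ⟨q, hq, e', x₀, hxq₀, heq', hex₀, hxc₀, hx₀1, henot, hcj⟩ :=
      exists_pair A hAn hAc hAnc
    haveI : Fact q.Prime := ⟨hq⟩
    -- choose the generator moved onto by `g`
    obtain ⟨x', hxq', hex', hxc', hx'1, hxz, hg'⟩ : ∃ x' : N, x' ^ q = 1 ∧ Commute e' x' ∧
        x' ∈ center N ∧ x' ≠ 1 ∧ zpowers x' = zpowers x₀ ∧
        (e' ∈ center N ∨ ∃ g : N, g * e' * g⁻¹ = e' * x') := by
      by_cases hec : e' ∈ center N
      · exact ⟨x₀, hxq₀, hex₀, hxc₀, hx₀1, rfl, Or.inl hec⟩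
      obtain ⟨g, hg⟩ : ∃ g : N, g * e' * g⁻¹ ≠ e' := by
        by_contra hh
        push Not at hh
        exact hec (mem_center_iff.2 fun m => mul_inv_eq_iff_eq_mul.1 (hh m))
      have hmem := hcj g
      have hne : g * e' * g⁻¹ * e'⁻¹ ≠ 1 := fun h => hg (mul_inv_eq_one.1 h)
      have hcen : g * e' * g⁻¹ * e'⁻¹ ∈ center N := zpowers_le.2 hxc₀ hmem
      have hq' : (g * e' * g⁻¹ * e'⁻¹) ^ q = 1 := by
        obtain ⟨i, hi'⟩ := mem_zpowers_iff.1 hmem
        rw [← hi', ← zpow_natCast, ← zpow_mul, mul_comm, zpow_mul, zpow_natCast, hxq₀, one_zpow]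
      refine ⟨_, hq', mem_center_iff.1 hcen e', hcen, hne, ?_, Or.inr ⟨g, ?_⟩⟩
      · refine eq_of_le_of_card_ge (zpowers_le.2 hmem) ?_
        rw [Nat.card_zpowers, Nat.card_zpowers, orderOf_eq_prime hq' hne, orderOf_eq_prime hxq₀ hx₀1]
      · rw [mem_center_iff.1 hcen e']; group
    have hxo : orderOf x' = q := orderOf_eq_prime hxq' hx'1
    set e : MulAut V := (e' : MulAut V) with he
    set x : MulAut V := (x' : MulAut V) with hx
    have hex : Commute e x := congrArg Subtype.val hex'.eq
    have hxq : x ^ q = 1 := congrArg Subtype.val hxq'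
    have heq : e ^ q = 1 := congrArg Subtype.val heq'
    have hfpf : ∀ i, 0 < i → i < q → fixed (x ^ i) = ⊥ := fun i hi0 hiq =>
      hcent (x' ^ i) (pow_mem hxc' i) (pow_ne_one_of_lt_orderOf hi0.ne' (hxo.symm ▸ hiq))
    have hqV : q.Coprime (Nat.card V) :=
      hcop.coprime_dvd_left (hxo ▸ _root_.orderOf_dvd_natCard x')
    have hne : ∀ j : ℕ, e' * x' ^ j ≠ 1 := fun j h => henot (by
      rw [← hxz, eq_inv_of_mul_eq_one_left h]
      exact inv_mem (pow_mem (mem_zpowers x') j))
    rcases hg' with hec | ⟨g, hg⟩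
    · exfalso
      obtain ⟨v, hv⟩ := exists_ne (1 : V)
      refine hv (eq_one_of_pow ?_ hqV)
      rw [pow_eq_prod hq hex hxq hfpf v]
      refine Finset.prod_eq_one fun j _ => ?_
      have h := T_mem_fixed (x := e * x ^ j) (q := q)
        (by rw [(hex.pow_right j).mul_pow, heq, ← pow_mul, mul_comm, pow_mul, hxq, one_pow, mul_one]) v
      have hb : fixed (e * x ^ j) = ⊥ :=
        hcent (e' * x' ^ j) (mul_mem hec (pow_mem hxc' j)) (hne j)
      rwa [hb, mem_bot] at h
    have hconj : ∀ n : N, ∃ j, j < q ∧ n * e' * n⁻¹ = e' * x' ^ j := by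
      intro n
      obtain ⟨i, hi'⟩ := mem_zpowers_iff.1 (hxz ▸ hcj n : n * e' * n⁻¹ * e'⁻¹ ∈ zpowers x')
      refine ⟨(i % (q : ℤ)).toNat, ?_, ?_⟩
      · have := Int.emod_lt_of_pos i (Int.natCast_pos.2 hq.pos)
        have := Int.emod_nonneg i (Int.natCast_ne_zero.2 hq.ne_zero)
        omega
      · rw [← zpow_natCast, Int.toNat_of_nonneg (Int.emod_nonneg i (Int.natCast_ne_zero.2 hq.ne_zero)),
          ← hxo, zpow_mod_orderOf, hi', mem_center_iff.1 (zpowers_le.2 hxc₀ (hcj n)) e']
        group
    set H : Subgroup (MulAut V) := N ⊓ Subgroup.centralizer ({e} : Set (MulAut V)) with hH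
    set W : Fin q → Subgroup V := fun j => fixed (e * x ^ (j : ℕ)) with hWdef
    have hWinv : ∀ j : Fin q, ∀ n ∈ H, ∀ w ∈ W j, n w ∈ W j := by
      intro j n hn w hw
      refine fixed_map ?_ hw
      have h1 : n * e = e * n := Subgroup.mem_centralizer_singleton_iff.1 hn.2
      have h2 : n * x = x * n := congrArg Subtype.val (mem_center_iff.1 hxc' ⟨n, hn.1⟩)
      exact ((show Commute n e from h1).mul_right ((show Commute n x from h2).pow_right (j : ℕ))).eq
    have hWk : ∀ j : Fin q, ∀ w ∈ W j, k w ∈ W j := fun j w hw =>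
      fixed_map ((hkN e e'.2).mul_right ((hkN x x'.2).pow_right (j : ℕ))).eq hw
    have hgj : ∀ j : ℕ, g ^ j * e' * (g ^ j)⁻¹ = e' * x' ^ j := by
      intro j
      induction j with
      | zero => simp
      | succ j ih =>
        rw [pow_succ' g, mul_inv_rev, show g * g ^ j * e' * ((g ^ j)⁻¹ * g⁻¹) = g * (g ^ j * e' * (g ^ j)⁻¹) * g⁻¹ by group,
          ih, show g * (e' * x' ^ j) * g⁻¹ = g * e' * g⁻¹ * (g * x' ^ j * g⁻¹) by group, hg,
          Subgroup.mem_center_iff.1 (pow_mem hxc' j) g, mul_inv_cancel_right, pow_succ' x', mul_assoc]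
    have hNH : Nat.card N ≤ q * Nat.card H := by
      choose c hcq hc using hconj
      let rep : Fin q → N := fun j => g ^ (j : ℕ)
      have hmem : ∀ n : N, (((rep ⟨c n, hcq n⟩)⁻¹ * n : N) : MulAut V) ∈ H := by
        intro n
        refine ⟨SetLike.coe_mem _, Subgroup.mem_centralizer_singleton_iff.2 ?_⟩
        have h : ((rep ⟨c n, hcq n⟩)⁻¹ * n) * e' = e' * ((rep ⟨c n, hcq n⟩)⁻¹ * n) := by
          refine mul_inv_eq_iff_eq_mul.1 ?_
          show (g ^ c n)⁻¹ * n * e' * ((g ^ c n)⁻¹ * n)⁻¹ = e'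
          rw [show (g ^ c n)⁻¹ * n * e' * ((g ^ c n)⁻¹ * n)⁻¹ = (g ^ c n)⁻¹ * (n * e' * n⁻¹) * g ^ c n by group,
            hc n, ← hgj (c n)]
          group
        exact congrArg Subtype.val h
      let φ : N → Fin q × H := fun n => (⟨c n, hcq n⟩, ⟨_, hmem n⟩)
      have hφ : Function.Injective φ := by
        intro a b h
        have h1 : (⟨c a, hcq a⟩ : Fin q) = ⟨c b, hcq b⟩ := (Prod.ext_iff.1 h).1
        have h2 : (((rep ⟨c a, hcq a⟩)⁻¹ * a : N) : MulAut V) = (((rep ⟨c b, hcq b⟩)⁻¹ * b : N) : MulAut V) :=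
          congrArg (fun z : H => (z : MulAut V)) (Prod.ext_iff.1 h).2
        rw [h1] at h2
        exact mul_left_cancel (Subtype.ext h2)
      have h := Nat.card_le_card_of_injective φ hφ
      rwa [Nat.card_prod, Nat.card_eq_fintype_card (α := Fin q), Fintype.card_fin] at h
    have hdec : ∀ v, v ^ q = ∏ j : Fin q, T q (e * x ^ (j : ℕ)) v := fun v => by
      rw [pow_eq_prod hq hex hxq hfpf v, Finset.prod_range]
    have hTW : ∀ (j : Fin q) v, T q (e * x ^ (j : ℕ)) v ∈ W j := fun j v =>
      T_mem_fixed (by rw [(hex.pow_right _).mul_pow, heq, ← pow_mul, mul_comm, pow_mul, hxq, one_pow, mul_one]) v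
    -- `g ^ j` maps block `0` onto block `j`
    have hmove : ∀ i j : Fin q, ∀ w, w ∈ W i → W j = ⊥ → w = 1 := by
      intro i j w hw hj
      set n := g ^ (j : ℕ) * (g ^ (i : ℕ))⁻¹ with hn
      have h : n * (e' * x' ^ (i : ℕ)) = (e' * x' ^ (j : ℕ)) * n := by
        rw [← hgj, ← hgj, hn]; group
      have hm : (n : MulAut V) w ∈ W j := fixed_map (congrArg Subtype.val h) hw
      rw [hj, Subgroup.mem_bot] at hm
      exact (MulEquiv.map_eq_one_iff (n : MulAut V)).1 hm
    have hWb : ∀ j, W j ≠ ⊥ := by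
      intro j hj
      obtain ⟨v, hv⟩ := exists_ne (1 : V)
      refine hv (eq_one_of_pow ?_ hqV)
      rw [hdec]
      exact Finset.prod_eq_one fun i _ => hmove i j _ (hTW i v) hj
    -- the blocks are independent
    have hindep : ∀ (w : Fin q → V), (∀ j, w j ∈ W j) → (∏ j, w j) = 1 → ∀ j, w j = 1 := by
      intro w hw hprod j
      have hjk : ∀ l, l ≠ j → T q (e * x ^ (j : ℕ)) (w l) = 1 := by
        intro l hlj
        set y := T q (e * x ^ (j : ℕ)) (w l) with hy
        have hyj : (e * x ^ (j : ℕ)) y = y := hTW j (w l)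
        have hcc : Commute (e * x ^ (l : ℕ)) (e * x ^ (j : ℕ)) :=
          ((Commute.refl e).mul_right (hex.pow_right _)).mul_left
            ((hex.symm.pow_left _).mul_right ((Commute.refl x).pow_pow _ _))
        have hyl : (e * x ^ (l : ℕ)) y = y := by
          show (e * x ^ (l : ℕ)) (∏ i ∈ Finset.range q, ((e * x ^ (j : ℕ)) ^ i) (w l)) = _
          rw [map_prod]
          refine Finset.prod_congr rfl fun i _ => ?_
          rw [← MulAut.mul_apply, (hcc.pow_right i).eq, MulAut.mul_apply, (hw l : (e * x ^ (l : ℕ)) (w l) = w l)]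
        have hxy : (x ^ (l : ℕ)) y = (x ^ (j : ℕ)) y := by
          rw [MulAut.mul_apply] at hyj hyl
          exact e.injective (hyl.trans hyj.symm)
        rcases lt_trichotomy (l : ℕ) (j : ℕ) with hlt | heq' | hgt
        · have h : y ∈ fixed (x ^ ((j : ℕ) - (l : ℕ))) := (x ^ (l : ℕ)).injective (by
            rw [← MulAut.mul_apply, ← pow_add, Nat.add_sub_cancel' hlt.le, hxy])
          rw [hfpf _ (by omega) (by omega), Subgroup.mem_bot] at h
          exact h
        · exact absurd (Fin.ext heq') hlj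
        · have h : y ∈ fixed (x ^ ((l : ℕ) - (j : ℕ))) := (x ^ (j : ℕ)).injective (by
            rw [← MulAut.mul_apply, ← pow_add, Nat.add_sub_cancel' hgt.le, hxy])
          rw [hfpf _ (by omega) (by omega), Subgroup.mem_bot] at h
          exact h
      have h := congrArg (T q (e * x ^ (j : ℕ))) hprod
      rw [map_prod, map_one, Fintype.prod_eq_single j hjk, T_eq_pow (hw j)] at h
      exact eq_one_of_pow h hqV
    have hWt : ∀ j, W j ≠ ⊤ := by
      intro j hj
      have hq1 : 1 < q := hq.one_lt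
      obtain ⟨l, hl⟩ : ∃ l : Fin q, l ≠ j := Fintype.exists_ne_of_one_lt_card (by simpa using hq1) j
      obtain ⟨w, hw, hw1⟩ := (Subgroup.bot_or_exists_ne_one _).resolve_left (hWb l)
      have h := hindep (Function.update (Function.update (fun _ => 1) l w) j w⁻¹) (fun i => ?_) ?_ l
      · rw [Function.update_of_ne hl, Function.update_self] at h
        exact hw1 h
      · by_cases hij : i = j
        · subst hij; rw [Function.update_self, hj]; trivial
        · rw [Function.update_of_ne hij]
          by_cases hil : i = l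
          · subst hil; rw [Function.update_self]; exact hw
          · rw [Function.update_of_ne hil]; exact one_mem _
      · rw [Finset.prod_update_of_mem (Finset.mem_univ j), Finset.prod_eq_single l, Function.update_self, inv_mul_cancel]
        · intro i _ hil; rw [Function.update_of_ne hil]
        · intro h; simp at h; exact absurd h hl
    have hWV : (∏ j : Fin q, Nat.card (W j)) ≤ Nat.card V := by
      rw [← Nat.card_pi]
      refine Nat.card_le_card_of_injective (fun w : (j : Fin q) → W j => ∏ j, (w j : V)) ?_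
      intro a b hab'
      funext j
      refine Subtype.ext (div_eq_one.1 (hindep (fun j => (a j : V) / b j) (fun j => div_mem (a j).2 (b j).2) ?_ j))
      rw [Finset.prod_div_distrib, div_eq_one]
      exact hab'
    have hfa : ∀ n ∈ H, (∀ j, ∀ w ∈ W j, n w = w) → n = 1 := by
      intro n _ h
      refine MulEquiv.ext fun v => ?_
      show n v = v
      have hq' : (n v * v⁻¹) ^ q = 1 := by
        rw [mul_pow, inv_pow, ← map_pow, hdec, map_prod, mul_inv_eq_one]
        exact Finset.prod_congr rfl fun j _ => h j _ (hTW j v)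
      exact mul_inv_eq_one.1 (eq_one_of_pow hq' hqV)
    have hHnil : Group.IsNilpotent H :=
      Group.nilpotent_of_mulEquiv (subgroupOfEquivOfLe (inf_le_left : H ≤ N))
    have h := chain IH' hk hfix hpV hHnil (fun n hn => hkN n hn.1)
      (hcop.coprime_dvd_left (card_dvd_of_le inf_le_left))
      (hNp.coprime_dvd_left (card_dvd_of_le inf_le_left))
      W hWb hWt hWinv hWk hfa Finset.univ H le_rfl (fun m _ j hj => absurd (Finset.mem_univ j) hj)
    rw [Finset.card_univ, Fintype.card_fin] at h
    exact finish hq.one_lt.le hNH (h.trans (Nat.mul_le_mul_right _ hWV))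
      (card_le_of_le (commutator_mono inf_le_left inf_le_left))
  -- all normal abelian subgroups are cyclic
  push Not at hA
  obtain ⟨A, hAn, hAc, hAC⟩ := exists_self_centralizing (K := N)
  have hAcyc := hA A hAn hAc
  have hfree : ∀ b ∈ A, ∀ v : V, v ≠ 1 → (b : MulAut V) v = v → b = 1 := by
    intro b hb v hv hbv
    by_contra hb1
    have hn : (zpowers b).Normal := by
      obtain ⟨a, ha⟩ := hAcyc.exists_generator
      refine ⟨fun y hy g => ?_⟩
      obtain ⟨t, ht⟩ := mem_zpowers_iff.1 (ha ⟨b, hb⟩)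
      obtain ⟨w, hw⟩ := mem_zpowers_iff.1 (ha ⟨_, hAn.conj_mem a a.2 g⟩)
      obtain ⟨l, rfl⟩ := mem_zpowers_iff.1 hy
      have ht' : (a : N) ^ t = b := congrArg Subtype.val ht
      have hw' : (a : N) ^ w = g * a * g⁻¹ := congrArg Subtype.val hw
      refine mem_zpowers_iff.2 ⟨l * w, ?_⟩
      rw [← ht', ← zpow_mul, ← zpow_mul, ← conj_zpow, ← hw', ← zpow_mul]
      ring_nf
    obtain ⟨y, ⟨hy, hyc⟩, hy1⟩ := (bot_or_exists_ne_one _).resolve_left
      (CfsgLib.Solvable.normal_inf_center_ne_bot (zpowers b) (hNn := hn)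
        (mt zpowers_eq_bot.1 hb1))
    obtain ⟨l, rfl⟩ := (mem_powers_iff_mem_zpowers (x := b)).2 hy
    have hfy : v ∈ fixed ((b ^ l : N) : MulAut V) := by
      show ((b ^ l : N) : MulAut V) v = v
      rw [SubmonoidClass.coe_pow]
      exact fixed_pow hbv l
    rw [hcent _ hyc hy1, mem_bot] at hfy
    exact hv hfy
  obtain ⟨v, hv⟩ := exists_ne (1 : V)
  have hkfree : ∀ m : ℕ, (k ^ m) v = v → p ∣ m := by
    intro m hm
    by_contra hnd
    have hco : (orderOf k).Coprime m :=
      Nat.Coprime.coprime_dvd_left (orderOf_dvd_of_pow_eq_one hk)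
        ((Nat.Prime.coprime_iff_not_dvd hp.out).2 hnd)
    obtain ⟨m', hm'⟩ := exists_pow_eq_self_of_coprime (Nat.Coprime.symm hco)
    have h : v ∈ fixed k := by
      show k v = v
      rw [← hm']
      exact fixed_pow hm m'
    rw [hfix, mem_bot] at h
    exact hv h
  have hcard : Nat.card A * p ≤ Nat.card V := by
    let f : A × Fin p → V := fun bi => ((bi.1 : N) : MulAut V) ((k ^ (bi.2 : ℕ)) v)
    have hf : Function.Injective f := by
      rintro ⟨b, i⟩ ⟨b', j⟩ h
      set d : N := (b' : N)⁻¹ * b with hd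
      set m : ℕ := j + (p - i) with hm
      have hkd : Commute k (d : MulAut V) := hkN _ d.2
      have h1 : ((d : MulAut V) * k ^ (i : ℕ)) v = (k ^ (j : ℕ)) v := by
        rw [MulAut.mul_apply, hd, Subgroup.coe_mul, MulAut.mul_apply,
          InvMemClass.coe_inv]
        exact (congrArg _ h).trans (MulAut.inv_apply_self _ _ _)
      have h2 : (d : MulAut V) v = (k ^ m) v := by
        have h3 := congrArg (fun w => (k ^ (p - (i : ℕ))) w) h1
        simp only [← MulAut.mul_apply] at h3
        rw [← mul_assoc, (hkd.pow_left _).eq, mul_assoc, ← pow_add, ← pow_add,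
          Nat.sub_add_cancel i.2.le, hk, mul_one, add_comm] at h3
        exact h3
      have h4 : ∀ l : ℕ, ((d : MulAut V) ^ l) v = (k ^ (m * l)) v := by
        intro l
        induction l with
        | zero => simp
        | succ l ih =>
          rw [pow_succ', MulAut.mul_apply, ih, ← MulAut.mul_apply, ← (hkd.pow_left _).eq,
            MulAut.mul_apply, h2, ← MulAut.mul_apply, ← pow_add, mul_add_one]
      have hdA : d ∈ A := mul_mem (inv_mem b'.2) b.2
      have hdp : d ^ p = 1 := hfree _ (pow_mem hdA p) v hv (by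
        rw [SubmonoidClass.coe_pow, h4, mul_comm, pow_mul, hk, one_pow, MulAut.one_apply])
      have hd1 : d = 1 := orderOf_eq_one_iff.1 (Nat.eq_one_of_dvd_coprimes hNp
        (_root_.orderOf_dvd_natCard d) (orderOf_dvd_of_pow_eq_one hdp))
      rw [hd1, OneMemClass.coe_one, MulAut.one_apply] at h2
      have hdvd := hkfree m h2.symm
      have hb : b = b' := Subtype.ext (inv_mul_eq_one.1 hd1).symm
      have hij : i = j := by
        apply Fin.ext
        obtain ⟨t, ht⟩ := hdvd
        rcases t with _ | _ | t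
        · omega
        · omega
        · have h5 : p * (t + 1 + 1) = p * t + p + p := by ring
          omega
      rw [hb, hij]
    have h := Nat.card_le_card_of_injective f hf
    rwa [Nat.card_prod, Nat.card_fin] at h
  have h1 := index_le_card_derived hAcyc hAC
  rw [card_commutator_top] at h1
  calc Nat.card N * p = A.index * (Nat.card A * p) := by rw [← A.card_mul_index]; ring
    _ ≤ Nat.card (⁅N, N⁆ : Subgroup (MulAut V)) * Nat.card V := Nat.mul_le_mul h1 hcard
    _ = _ := mul_comm _ _

end CfsgLib.PLocal.AbBound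

namespace CfsgLib.PLocal

open Subgroup
open scoped commutatorElement

universe u

/-- A nilpotent `p'`-subgroup `N` acting faithfully and coprimely on an abelian subgroup `V ≠ 1`,
centralized by an element of order dividing `p` without fixed points on `V`, satisfies
`p * |N| ≤ |V| * |N'|`. -/
theorem card_mul_le_card_mul_derived {p : ℕ} [Fact p.Prime] {G : Type u} [Group G] [Finite G]
    {k : G} {N V : Subgroup G} (hk : k ^ p = 1) (hN : Group.IsNilpotent N)
    (hV : IsMulCommutative V) (hV0 : V ≠ ⊥) (hNV : N ≤ normalizer (V : Set G))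
    (hkV : k ∈ normalizer (V : Set G)) (hkN : k ∈ centralizer (N : Set G))
    (hfix : V ⊓ centralizer ({k} : Set G) = ⊥) (hfaith : N ⊓ centralizer (V : Set G) = ⊥)
    (hcop : (Nat.card N).Coprime (Nat.card V)) (hNp : (Nat.card N).Coprime p)
    (hVp : (Nat.card V).Coprime p) :
    Nat.card N * p ≤ Nat.card V * Nat.card (⁅N, N⁆ : Subgroup G) := by
  letI : CommGroup V := { (inferInstance : Group V) with mul_comm := hV.is_comm.comm }
  let φ : normalizer (V : Set G) →* MulAut V :=
    { toFun := fun n =>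
        { toFun := fun v => ⟨n * v * (n : G)⁻¹, (Subgroup.mem_normalizer_iff.1 n.2 v).1 v.2⟩
          invFun := fun v => ⟨(n : G)⁻¹ * v * n, by
            simpa using (Subgroup.mem_normalizer_iff.1 (inv_mem n.2) v).1 v.2⟩
          left_inv := fun v => Subtype.ext (by simp [mul_assoc])
          right_inv := fun v => Subtype.ext (by simp [mul_assoc])
          map_mul' := fun a b => Subtype.ext (by simp [mul_assoc]) }
      map_one' := by ext v; simp
      map_mul' := fun a b => by ext v; simp [mul_assoc] }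
  let f : N →* MulAut V := φ.comp (inclusion hNV)
  have hf : Function.Injective f := by
    rw [injective_iff_map_eq_one]
    intro n hn
    refine Subtype.ext (mem_bot.1 (hfaith ▸ ⟨n.2, mem_centralizer_iff.2 fun v hv => ?_⟩))
    have h := congrArg (fun ψ : MulAut V => ((ψ ⟨v, hv⟩ : V) : G)) hn
    exact (mul_inv_eq_iff_eq_mul.1 (h : (n : G) * v * (n : G)⁻¹ = v)).symm
  have hc : Nat.card f.range = Nat.card N := (Nat.card_congr (MonoidHom.ofInjective hf).toEquiv).symm
  have hd : Nat.card (⁅f.range, f.range⁆ : Subgroup (MulAut V)) =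
      Nat.card (⁅N, N⁆ : Subgroup G) := by
    rw [MonoidHom.range_eq_map, ← map_commutator, card_map_of_injective hf,
      AbBound.card_commutator_top]
  rw [← hc, ← hd]
  haveI := hN
  refine AbBound.key _ V rfl ((nontrivial_iff_ne_bot V).2 hV0) (φ ⟨k, hkV⟩) f.range ?_ ?_ ?_
    (Group.nilpotent_of_surjective _ f.rangeRestrict_surjective) ?_ ?_ hVp.symm
  · rw [← map_pow, show (⟨k, hkV⟩ : normalizer (V : Set G)) ^ p = 1 from Subtype.ext hk, map_one]
  · rintro _ ⟨n, rfl⟩
    refine Commute.map (?_ : Commute (⟨k, hkV⟩ : normalizer (V : Set G)) (inclusion hNV n)) φ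
    exact Subtype.ext (mem_centralizer_iff.1 hkN n n.2).symm
  · rw [eq_bot_iff]
    intro v hv
    have h := congrArg Subtype.val (hv : φ ⟨k, hkV⟩ v = v)
    have hvk : (v : G) ∈ V ⊓ centralizer ({k} : Set G) :=
      ⟨v.2, mem_centralizer_singleton_iff.2
        (mul_inv_eq_iff_eq_mul.1 (h : k * v * k⁻¹ = v)).symm⟩
    rw [hfix, mem_bot] at hvk
    exact mem_bot.2 (Subtype.ext hvk)
  · rw [hc]; exact hcop
  · rw [hc]; exact hNp

end CfsgLib.PLocal
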