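import Mathlib
import Cfsg.Agent.Lib.Solvable.PCore
import Cfsg.Prelude.Def_Local
import Cfsg.Agent.Lib.PLocal.SLTwoSection
import Cfsg.Agent.Lib.PLocal.QdFusion
import Cfsg.Agent.Lib.Solvable.Hall
import Cfsg.Agent.Lib.Solvable.Fitting
import Cfsg.Agent.Lib.Solvable.HallHigman
import Cfsg.Agent.Lib.Coprime.Hall
import Cfsg.Agent.Lib.Transfer.Basic
import Cfsg.Agent.Lib.Comp.KBalance

/-!
Groups in which every `p'`-subgroup is abelian of exponent dividing `p - 1`: the solvable ones.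
-/

set_option autoImplicit false
set_option linter.style.haveILetI false
set_option linter.unusedSectionVars false

namespace CfsgLib.PLocal

open Subgroup
open scoped MatrixGroups Pointwise

universe u

/-- Every subgroup of order prime to `p` is abelian of exponent dividing `p - 1`. -/
def IsAbExp (p : ℕ) (G : Type u) [Group G] : Prop :=
  ∀ H : Subgroup G, (Nat.card ↥H).Coprime p → IsMulCommutative ↥H ∧ ∀ x ∈ H, x ^ (p - 1) = 1

variable {G : Type u} [Group G] [Finite G] {p : ℕ} [hp : Fact p.Prime]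

theorem IsAbExp.subgroup (h : IsAbExp p G) (K : Subgroup G) : IsAbExp p ↥K := by
  intro H hH
  have h1 := h (H.map K.subtype) (by rwa [card_map_of_injective K.subtype_injective])
  refine ⟨⟨⟨fun a b => Subtype.ext (K.subtype_injective ?_)⟩⟩, fun x hx => K.subtype_injective ?_⟩
  · exact congrArg Subtype.val (h1.1.is_comm.comm ⟨_, mem_map_of_mem K.subtype a.2⟩
      ⟨_, mem_map_of_mem K.subtype b.2⟩)
  · rw [map_pow, map_one]
    exact h1.2 _ (mem_map_of_mem K.subtype hx)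

/-- Two commuting-by-normalization `p'`-pieces commute. -/
theorem IsAbExp.le_centralizer_of_le_normalizer (h : IsAbExp p G) {Q X : Subgroup G}
    (hQ : (Nat.card ↥Q).Coprime p) (hX : (Nat.card ↥X).Coprime p)
    (hXQ : X ≤ normalizer (Q : Set G)) : X ≤ centralizer (Q : Set G) := by
  have hc : (Nat.card ↥(Q ⊔ X)).Coprime p :=
    Nat.Coprime.coprime_dvd_left (Comp.card_sup_dvd_mul hXQ) (Nat.Coprime.mul_left hQ hX)
  exact fun x hx => mem_centralizer_iff.2 fun q hq => congrArg Subtype.val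
    ((h _ hc).1.is_comm.comm ⟨q, mem_sup_left hq⟩ ⟨x, mem_sup_right hx⟩)

/-- An element is in a subgroup as soon as its `p`-part and its `p'`-part are. -/
theorem exists_pElement_not_mem {H : Subgroup G} {g : G} (hg : g ∉ H)
    (hp' : ∀ x ∈ zpowers g, (orderOf x).Coprime p → x ∈ H) :
    ∃ z ∈ zpowers g, z ∉ H ∧ ∃ i : ℕ, orderOf z = p ^ i := by
  obtain ⟨i, r, hr, hord⟩ := Nat.exists_eq_pow_mul_and_not_dvd (orderOf_pos g).ne' p hp.out.ne_one
  have hr0 : r ≠ 0 := fun e => by simp [e] at hr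
  have hpi : p ^ i ≠ 0 := pow_ne_zero _ hp.out.ne_zero
  have h1 : orderOf (g ^ (p ^ i)) = r := by
    rw [orderOf_pow' g hpi, hord, Nat.gcd_mul_right_left, Nat.mul_div_cancel_left _ (Nat.pos_of_ne_zero hpi)]
  have h2 : orderOf (g ^ r) = p ^ i := by
    rw [orderOf_pow' g hr0, hord, Nat.gcd_mul_left_left, Nat.mul_div_cancel _ (Nat.pos_of_ne_zero hr0)]
  have hA := hp' _ (pow_mem (mem_zpowers g) _) (h1 ▸ (hp.out.coprime_iff_not_dvd.2 hr).symm)
  refine ⟨g ^ r, pow_mem (mem_zpowers g) _, fun hB => hg ?_, i, h2⟩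
  have hco : Nat.Coprime (p ^ i) r := Nat.Coprime.pow_left i (hp.out.coprime_iff_not_dvd.2 hr)
  have hb := Nat.gcd_eq_gcd_ab (p ^ i) r
  rw [hco.gcd_eq_one] at hb
  have : g = (g ^ (p ^ i)) ^ Nat.gcdA (p ^ i) r * (g ^ r) ^ Nat.gcdB (p ^ i) r := by
    rw [← zpow_natCast g (p ^ i), ← zpow_natCast g r, ← zpow_mul, ← zpow_mul, ← zpow_add,
      ← hb, Nat.cast_one, zpow_one]
  rw [this]
  exact H.mul_mem (H.zpow_mem hA _) (H.zpow_mem hB _)

theorem IsAbExp.sylow_two_comm (h : IsAbExp p G) (h2 : p ≠ 2) (T : Sylow 2 G) :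
    IsMulCommutative ↥(T : Subgroup G) := by
  refine (h _ ?_).1
  haveI : Fact (Nat.Prime 2) := ⟨Nat.prime_two⟩
  obtain ⟨m, hm⟩ := IsPGroup.iff_card.1 T.2
  rw [hm]
  exact Nat.Coprime.pow_left _ ((Nat.coprime_primes Nat.prime_two hp.out).2 (Ne.symm h2))

/-- No `Qd(p)` is involved. -/
theorem IsAbExp.no_qd (h : IsAbExp p G) (h2 : p ≠ 2) :
    ∀ (K : Subgroup G) (f : K →* ↥(Cfsg.qd p)), ¬ Function.Surjective f := by
  intro K f hf
  obtain ⟨π, τ, hπ⟩ := exists_qdProj (p := p)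
  have hsurj : Function.Surjective π := fun M => by
    have hmem : affMat (0 : Fin 2 → ZMod p) M ∈ Cfsg.qd p := by
      refine subset_closure ⟨?_, ?_, ?_⟩ <;> simp [affMat]
    exact ⟨⟨_, hmem⟩, (affMat_injective (hπ ⟨_, hmem⟩)).2.symm⟩
  obtain ⟨T⟩ : Nonempty (Sylow 2 G) := inferInstance
  exact no_slTwo_section_of_comm_sylow h2 T (h.sylow_two_comm h2 T) K (π.comp f) (hsurj.comp hf)

/-- In a solvable such group every `p'`-subgroup lies in an abelian Hall `p'`-subgroup `B` with `O_p(H)B`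
normal and `H = O_p(H) N(B)`. -/
theorem IsAbExp.exists_hall [Group.IsSolvable G] (h : IsAbExp p G) {E : Subgroup G}
    (hE : (Nat.card ↥E).Coprime p) :
    ∃ B : Subgroup G, E ≤ B ∧ (Nat.card ↥B).Coprime p ∧ IsMulCommutative ↥B ∧
      (∃ k : ℕ, Nat.card G = p ^ k * Nat.card ↥B) ∧
      (Cfsg.pCore p G ⊔ B).Normal ∧ Cfsg.pCore p G ⊔ normalizer (B : Set G) = ⊤ ∧
      ∀ g : G, (∀ b ∈ B, g * b * g⁻¹ * b⁻¹ ∈ Cfsg.pCore p G) → g ∈ Cfsg.pCore p G ⊔ B := by
  obtain ⟨k, m, hm, hcard⟩ :=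
    Nat.exists_eq_pow_mul_and_not_dvd (Nat.card_pos (α := G)).ne' p hp.out.ne_one
  have hmp : m.Coprime p := (hp.out.coprime_iff_not_dvd.2 hm).symm
  have hmk : m.Coprime (p ^ k) := hmp.pow_right k
  have hcard' : Nat.card G = m * p ^ k := hcard.trans (mul_comm _ _)
  obtain ⟨B, hB, hEB⟩ := Solvable.exists_hall_ge hcard' hmk (K := E) (hE.pow_right k)
  have hBp : (Nat.card ↥B).Coprime p := hB ▸ hmp
  obtain ⟨O, hOdef⟩ : ∃ O, O = Cfsg.pCore p G := ⟨_, rfl⟩
  haveI hOn : O.Normal := hOdef ▸ Cfsg.pCore_normal p G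
  have hOp : IsPGroup p ↥O := hOdef ▸ Comp.isPGroup_pCore p G
  let q := QuotientGroup.mk' O
  have hq : Function.Surjective q := QuotientGroup.mk'_surjective O
  haveI : Group.IsSolvable (G ⧸ O) := solvable_of_surjective hq
  obtain ⟨j, hj⟩ := IsPGroup.iff_card.1 hOp
  have hBO : B ⊓ O = ⊥ := by
    rw [inf_comm]; exact Comp.inf_eq_bot_of_isPGroup hOp hBp
  have hBc : IsMulCommutative ↥B := (h B hBp).1
  haveI hFn : (Cfsg.fittingSubgroup (G ⧸ O)).Normal := Solvable.fittingSubgroup_normal _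
  have hFp : (Nat.card ↥(Cfsg.fittingSubgroup (G ⧸ O))).Coprime p := by
    refine (hp.out.coprime_iff_not_dvd.2 fun hd => ?_).symm
    haveI := Solvable.fittingSubgroup_isNilpotent (G := G ⧸ O)
    obtain ⟨S⟩ : Nonempty (Sylow p ↥(Cfsg.fittingSubgroup (G ⧸ O))) := inferInstance
    have hSn : (S : Subgroup ↥(Cfsg.fittingSubgroup (G ⧸ O))).Normal := by
      exact S.normal_of_all_max_subgroups_normal (fun _ h => (normalizerCondition_of_isNilpotent).normal_of_coatom _ h)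
    haveI := S.characteristic_of_normal hSn
    have hle : (S : Subgroup ↥(Cfsg.fittingSubgroup (G ⧸ O))).map (Cfsg.fittingSubgroup (G ⧸ O)).subtype ≤
        Cfsg.pCore p (G ⧸ O) := le_sSup ⟨inferInstance, S.2.map _⟩
    have hbot : Cfsg.pCore p (G ⧸ O) = ⊥ := by
      subst hOdef
      exact Solvable.pCore_quotient_eq_bot p
    rw [hbot, le_bot_iff, Subgroup.map_eq_bot_iff, ker_subtype, le_bot_iff] at hle
    exact S.ne_bot_of_dvd_card hd hle
  have hidx : (Nat.card ↥(B.map q)) = m := by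
    have hinj : Function.Injective (q.comp B.subtype) := by
      rw [← MonoidHom.ker_eq_bot_iff, eq_bot_iff]
      intro a ha
      have h1 : (a : G) ∈ B ⊓ O := ⟨a.2, (QuotientGroup.eq_one_iff _).1 (MonoidHom.mem_ker.1 ha)⟩
      rw [hBO] at h1
      exact Subtype.ext (mem_bot.1 h1)
    have h1 := Nat.card_congr (MonoidHom.ofInjective hinj).toEquiv
    rw [MonoidHom.range_comp, range_subtype, hB] at h1
    exact h1.symm
  have hjk : j ≤ k := by
    have h1 : p ^ j ∣ p ^ k * m := hcard ▸ hj ▸ O.card_subgroup_dvd_card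
    exact (Nat.pow_dvd_pow_iff_le_right hp.out.one_lt).1
      ((hmp.symm.pow_left j).dvd_of_dvd_mul_right h1)
  have hcardQ : Nat.card (G ⧸ O) = m * p ^ (k - j) := by
    have h1 := O.card_eq_card_quotient_mul_card_subgroup
    rw [hj, hcard'] at h1
    refine Nat.eq_of_mul_eq_mul_right (pow_pos hp.out.pos j) ?_
    rw [← h1, mul_assoc, ← pow_add, Nat.sub_add_cancel hjk]
  have hFB : Cfsg.fittingSubgroup (G ⧸ O) ≤ B.map q := by
    obtain ⟨g, hg⟩ := Solvable.exists_conj_le_hall hcardQ (hmp.pow_right _) hidx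
      (K := Cfsg.fittingSubgroup (G ⧸ O)) (hFp.pow_right _)
    exact fun x hx => hg ⟨g⁻¹ * x * g, hFn.conj_mem' x hx g, show g * (g⁻¹ * x * g) * g⁻¹ = x by group⟩
  have hBF : B.map q ≤ Cfsg.fittingSubgroup (G ⧸ O) := by
    refine le_trans (fun x hx => mem_centralizer_iff.2 fun f hf => ?_)
      (Solvable.centralizer_fittingSubgroup_le)
    obtain ⟨a, ha, rfl⟩ := hFB hf
    obtain ⟨b, hb, rfl⟩ := hx
    rw [← map_mul, ← map_mul]
    exact congrArg q (congrArg Subtype.val (hBc.is_comm.comm ⟨a, ha⟩ ⟨b, hb⟩))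
  have hN : (O ⊔ B).Normal := by
    have e : O ⊔ B = (B.map q).comap q := by
      rw [comap_map_eq, QuotientGroup.ker_mk', sup_comm]
    rw [e, le_antisymm hBF hFB]
    exact hFn.comap q
  refine ⟨B, hEB, hBp, hBc, ⟨k, by rw [hB, hcard]⟩, hOdef ▸ hN, ?_, ?_⟩
  swap
  · rw [← hOdef]
    intro g hg
    have h1 : q g ∈ centralizer (Cfsg.fittingSubgroup (G ⧸ O) : Set (G ⧸ O)) := by
      refine mem_centralizer_iff.2 fun f hf => ?_
      obtain ⟨b, hb, rfl⟩ := hFB hf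
      have h2 : q (g * b * g⁻¹ * b⁻¹) = 1 := (QuotientGroup.eq_one_iff _).2 (hg b hb)
      rw [map_mul, map_mul, map_mul, map_inv, map_inv, mul_inv_eq_one, mul_inv_eq_iff_eq_mul] at h2
      exact h2.symm
    have h3 : g ∈ (B.map q).comap q := hFB (Solvable.centralizer_fittingSubgroup_le h1)
    rwa [comap_map_eq, QuotientGroup.ker_mk', sup_comm] at h3
  rw [← hOdef, eq_top_iff]
  intro g _
  obtain ⟨U, hU⟩ : ∃ U, U = O ⊔ B := ⟨_, rfl⟩
  rw [← hU] at hN
  have hBU : B ≤ U := hU ▸ le_sup_right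
  have hcU : Nat.card ↥U = m * p ^ j := by
    have h1 := Coprime.card_map_mul_card_ker q (S := U)
      (by rw [QuotientGroup.ker_mk', hU]; exact le_sup_left)
    have e : U.map q = B.map q := by
      rw [hU, Subgroup.map_sup, QuotientGroup.map_mk'_self, bot_sup_eq]
    rw [e, hidx, QuotientGroup.ker_mk', hj] at h1
    exact h1.symm
  obtain ⟨B', hB'def⟩ : ∃ B', B' = B.map (MulAut.conj g).toMonoidHom := ⟨_, rfl⟩
  have hB'U : B' ≤ U := by
    rw [hB'def]
    rintro _ ⟨b, hb, rfl⟩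
    exact hN.conj_mem b (hBU hb) g
  obtain ⟨x, hx⟩ := Solvable.hall_conj (G := ↥U) hcU (hmp.pow_right j) (H := B.subgroupOf U)
    (K := B'.subgroupOf U) (by rw [Nat.card_congr (subgroupOfEquivOfLe hBU).toEquiv, hB])
    (by rw [Nat.card_congr (subgroupOfEquivOfLe hB'U).toEquiv, hB'def,
      card_map_of_injective (MulAut.conj g).injective, hB])
  have hnorm : (x : G)⁻¹ * g ∈ normalizer (B : Set G) := by
    refine mem_normalizer_iff.2 fun b => ?_
    have key : ∀ b : G, b ∈ B → (x : G) * b * (x : G)⁻¹ ∈ B' := by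
      intro b hb
      have h1 : (⟨(x : G) * b * (x : G)⁻¹, U.mul_mem (U.mul_mem x.2 (hBU hb)) (U.inv_mem x.2)⟩ : ↥U) ∈
          MulAut.conj x • B.subgroupOf U := ⟨⟨b, hBU hb⟩, hb, Subtype.ext rfl⟩
      rw [hx] at h1
      exact h1
    have key2 : ∀ y : G, y ∈ B' → ∃ b ∈ B, y = (x : G) * b * (x : G)⁻¹ := by
      intro y hy
      have h1 : (⟨y, hB'U hy⟩ : ↥U) ∈ MulAut.conj x • B.subgroupOf U := by rw [hx]; exact hy
      obtain ⟨b, hb, e⟩ := h1
      exact ⟨(b : G), hb, (congrArg Subtype.val e).symm⟩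
    constructor
    · intro hb
      obtain ⟨c, hc, e⟩ := key2 (g * b * g⁻¹) (hB'def ▸ ⟨b, hb, rfl⟩)
      have e2 : (x : G)⁻¹ * g * b * ((x : G)⁻¹ * g)⁻¹ = (x : G)⁻¹ * (g * b * g⁻¹) * x := by group
      rw [e2, e]
      simpa [mul_assoc] using hc
    · intro hb
      have h1 := key _ hb
      have e2 : (x : G) * ((x : G)⁻¹ * g * b * ((x : G)⁻¹ * g)⁻¹) * (x : G)⁻¹ = g * b * g⁻¹ := by group
      rw [e2, hB'def] at h1
      obtain ⟨c, hc, e⟩ := h1
      have e' : g * c * g⁻¹ = g * b * g⁻¹ := e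
      rwa [← mul_left_cancel (mul_right_cancel e')]
  have hxm : (x : G) ∈ O ⊔ normalizer (B : Set G) := by
    have h1 : (x : G) ∈ O ⊔ B := hU ▸ x.2
    exact sup_le_sup_left le_normalizer O h1
  rw [show g = (x : G) * ((x : G)⁻¹ * g) by group]
  exact mul_mem hxm (mem_sup_right hnorm)

/-- A `p`-subgroup of `OB` lies in the normal subgroup `O` when `B` is a `p'`-group. -/
theorem le_of_le_sup_coprime {O B D : Subgroup G} [O.Normal] (hB : (Nat.card ↥B).Coprime p)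
    (hD : IsPGroup p ↥D) (hle : D ≤ O ⊔ B) : D ≤ O := by
  intro x hx
  have h1 : (QuotientGroup.mk' O x) ∈ B.map (QuotientGroup.mk' O) ⊓ D.map (QuotientGroup.mk' O) := by
    refine mem_inf.2 ⟨?_, mem_map_of_mem _ hx⟩
    have := mem_map_of_mem (QuotientGroup.mk' O) (hle hx)
    rwa [Subgroup.map_sup, QuotientGroup.map_mk'_self, bot_sup_eq] at this
  rw [inf_comm, Comp.inf_eq_bot_of_isPGroup (hD.map _) (Nat.Coprime.coprime_dvd_left
    (B.card_map_dvd (QuotientGroup.mk' O)) hB), mem_bot] at h1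
  exact (QuotientGroup.eq_one_iff x).1 h1

/-- A `p`-subgroup normalized by a Hall `p'`-subgroup `B` as above lies in `O_p`. -/
theorem le_pCore_of_normalized {D B : Subgroup G} (hBp : (Nat.card ↥B).Coprime p)
    (hn : (Cfsg.pCore p G ⊔ B).Normal)
    (hself : ∀ g : G, (∀ b ∈ B, g * b * g⁻¹ * b⁻¹ ∈ Cfsg.pCore p G) → g ∈ Cfsg.pCore p G ⊔ B)
    (hD : IsPGroup p ↥D) (hBD : B ≤ normalizer (D : Set G)) : D ≤ Cfsg.pCore p G := by
  haveI := Cfsg.pCore_normal p G
  refine le_of_le_sup_coprime hBp hD fun g hg => hself g fun b hb => ?_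
  have hP : IsPGroup p ↥((D ⊔ Cfsg.pCore p G) ⊓ (Cfsg.pCore p G ⊔ B) : Subgroup G) :=
    (hD.to_sup_of_normal_right (Comp.isPGroup_pCore p G)).to_le inf_le_left
  refine le_of_le_sup_coprime hBp hP inf_le_right (mem_inf.2 ⟨mem_sup_left ?_, ?_⟩)
  · rw [show g * b * g⁻¹ * b⁻¹ = g * (b * g⁻¹ * b⁻¹) by group]
    exact D.mul_mem hg ((mem_normalizer_iff.1 (hBD hb) _).1 (D.inv_mem hg))
  · exact (Cfsg.pCore p G ⊔ B).mul_mem (hn.conj_mem b (mem_sup_right hb) g)
      ((Cfsg.pCore p G ⊔ B).inv_mem (mem_sup_right hb))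

/-- Without a proper normal subgroup of `p`-power index, the `p`-subgroups lie in `O_p`. -/
theorem IsAbExp.le_pCore_of_le_pResidual [Group.IsSolvable G] (h : IsAbExp p G) {P : Subgroup G}
    (hP : IsPGroup p ↥P) (hres : P ≤ Cfsg.pResidual p G) : P ≤ Cfsg.pCore p G := by
  obtain ⟨B, -, hBp, -, ⟨k, hk⟩, hn, -, -⟩ := h.exists_hall (E := (⊥ : Subgroup G)) (by simp)
  haveI := Cfsg.pCore_normal p G
  obtain ⟨O, hO⟩ : ∃ O, O = Cfsg.pCore p G := ⟨_, rfl⟩
  rw [← hO] at hn ⊢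
  haveI : (O).Normal := hO ▸ Cfsg.pCore_normal p G
  haveI := hn
  have hidx : IsPGroup p (G ⧸ (O ⊔ B)) := by
    rw [IsPGroup.iff_card]
    have h1 := (O ⊔ B).card_eq_card_quotient_mul_card_subgroup
    have h2 : Nat.card (G ⧸ (O ⊔ B)) ∣ p ^ k := by
      obtain ⟨c, hc⟩ : Nat.card ↥B ∣ Nat.card ↥(O ⊔ B) := card_dvd_of_le le_sup_right
      refine ⟨c, Nat.eq_of_mul_eq_mul_right (Nat.card_pos (α := ↥B)) ?_⟩
      rw [← hk, h1, hc]; ring
    exact ((Nat.dvd_prime_pow hp.out).1 h2).imp fun i hi => hi.2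
  exact le_of_le_sup_coprime hBp hP fun x hx => Transfer.pResidual_le_of_isPGroup_quotient hidx (hres hx)

end CfsgLib.PLocal
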