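import Cfsg.Agent.Lib.PLocal.AbExpReal
import Cfsg.Agent.S1224

/-!
The coset count: a minimal simple group of `AbExpSit` does not exist.
-/

set_option autoImplicit false
set_option linter.style.haveILetI false
set_option linter.unusedSectionVars false

namespace CfsgLib.PLocal

open Subgroup

universe u

variable {G : Type u} [Group G] [Finite G] {p : ℕ} [hp : Fact p.Prime]

/-- The Sylow `p`-subgroups are centralizers of real elements; they miss `C(E)`. -/
theorem AbExpSit.exists_real (h : AbExpSit p G) {E : Subgroup G} (hE : IsMaxTwo E) {u : G}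
    (hu : orderOf u = 2) (huM : u ∉ normalizer (E : Set G)) :
    ∃ d : G, d ∈ normalizer (E : Set G) ⊓ (normalizer (E : Set G)).map (MulAut.conj u).toMonoidHom ∧
      d ≠ 1 ∧ u * d * u⁻¹ = d⁻¹ ∧ ∃ i : ℕ, d ^ p ^ i = 1 := by
  haveI : Fact (Nat.Prime 2) := ⟨Nat.prime_two⟩
  classical
  obtain ⟨M, hM⟩ : ∃ M, M = normalizer (E : Set G) := ⟨_, rfl⟩
  have hSE : Cfsg.IsStronglyEmbedded M := hM ▸ h.stronglyEmbedded_normalizer hE
  rw [← hM] at huM ⊢
  have hne : ((1 : G) : G ⧸ M) ≠ (u : G ⧸ M) := fun e => huM (by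
    have := QuotientGroup.eq.1 e
    rwa [inv_one, one_mul] at this)
  have hcard : Nat.card {t : G // orderOf t = 2 ∧ t ∈ M} = p := by
    have e : {t : G | orderOf t = 2 ∧ t ∈ M} = (E : Set G) \ {1} := by
      ext t
      constructor
      · intro ht
        refine ⟨h.mem_of_sq_eq_one hE (hM ▸ ht.2) (by rw [← ht.1]; exact pow_orderOf_eq_one t), ?_⟩
        intro e1
        have := ht.1
        rw [Set.mem_singleton_iff.1 e1, orderOf_one] at this
        omega
      · rintro ⟨ht, ht1⟩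
        exact ⟨orderOf_eq_prime (hE.1.2 t ht) ht1, hM ▸ le_normalizer ht⟩
    have h2 := Set.ncard_diff_singleton_of_mem (E.one_mem : (1 : G) ∈ (E : Set G))
    rw [← e, ← Nat.card_coe_set_eq (E : Set G)] at h2
    have h3 : Nat.card {t : G // orderOf t = 2 ∧ t ∈ M} = {t : G | orderOf t = 2 ∧ t ∈ M}.ncard :=
      Nat.card_coe_set_eq _
    rw [h3, h2]
    show Nat.card ↥E - 1 = p
    rw [h.card_maxTwo hE]
    rfl
  have hswap := Cfsg.Agent.S1224.result M hSE ((1 : G) : G ⧸ M) (u : G ⧸ M) hne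
  rw [hcard] at hswap
  haveI : Nontrivial {i : G // orderOf i = 2 ∧ i • ((1 : G) : G ⧸ M) = (u : G ⧸ M)} :=
    Finite.one_lt_card_iff_nontrivial.1 (hswap ▸ hp.out.one_lt)
  obtain ⟨⟨i, hi2, hi⟩, hiu⟩ := exists_ne (⟨u, hu, by
    rw [MulAction.Quotient.smul_mk, smul_eq_mul, mul_one]⟩ :
    {i : G // orderOf i = 2 ∧ i • ((1 : G) : G ⧸ M) = (u : G ⧸ M)})
  rw [MulAction.Quotient.smul_mk, smul_eq_mul, mul_one] at hi
  have hinv : ∀ {t : G}, orderOf t = 2 → t⁻¹ = t := fun {t} ht =>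
    inv_eq_of_mul_eq_one_right (by rw [← pow_two, ← ht]; exact pow_orderOf_eq_one t)
  have h1 : u * i ∈ M := by
    have := M.inv_mem (QuotientGroup.eq.1 hi)
    rwa [mul_inv_rev, inv_inv, hinv hu] at this
  refine ⟨u * i, mem_inf.2 ⟨h1, (u * i)⁻¹, M.inv_mem h1, ?_⟩, ?_, ?_, ?_⟩
  · show u * (u * i)⁻¹ * u⁻¹ = u * i
    rw [mul_inv_rev, hinv hu, hinv hi2]
    calc u * (i * u) * u = u * i * (u * u) := by group
      _ = u * i := by rw [← pow_two, ← hu, pow_orderOf_eq_one, mul_one]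
  · intro e
    have : i = u := by rw [← hinv hu]; exact eq_inv_of_mul_eq_one_right e
    exact hiu (Subtype.ext this)
  · rw [hinv hu, mul_inv_rev, hinv hu, hinv hi2]
    calc u * (u * i) * u = (u * u) * i * u := by group
      _ = i * u := by rw [← pow_two, ← hu, pow_orderOf_eq_one, one_mul]
  · obtain ⟨k, hk⟩ := h.isPGroup_inf_conj hE (hM ▸ huM) ⟨u * i, hM ▸ mem_inf.2 ⟨h1, (u * i)⁻¹, M.inv_mem h1, by
      show u * (u * i)⁻¹ * u⁻¹ = u * i
      rw [mul_inv_rev, hinv hu, hinv hi2]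
      calc u * (i * u) * u = u * i * (u * u) := by group
        _ = u * i := by rw [← pow_two, ← hu, pow_orderOf_eq_one, mul_one]⟩⟩
    exact ⟨k, congrArg Subtype.val hk⟩

/-- The basic configuration. -/
theorem AbExpSit.exists_config (h : AbExpSit p G) {E : Subgroup G} (hE : IsMaxTwo E) :
    ∃ u d : G, orderOf u = 2 ∧ u ∉ normalizer (E : Set G) ∧ u * d * u⁻¹ = d⁻¹ ∧ orderOf d = p ∧
      d ∈ normalizer (E : Set G) ⊓ (normalizer (E : Set G)).map (MulAut.conj u).toMonoidHom ∧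
      (∃ P : Sylow p G, (P : Subgroup G) = centralizer ({d} : Set G)) ∧
      (∀ x ∈ centralizer (E : Set G), (∃ i : ℕ, x ^ p ^ i = 1) → x = 1) ∧
      (∀ z : G, z ≠ 1 → (∃ i : ℕ, z ^ p ^ i = 1) → IsPGroup p ↥(centralizer ({z} : Set G))) := by
  obtain ⟨u, hu, huM⟩ := h.exists_involution_not_mem hE
  obtain ⟨d, hdD, hd1, hdu, i, hdi⟩ := h.exists_real hE hu huM
  have hu2 : u ^ 2 = 1 := by rw [← hu]; exact pow_orderOf_eq_one u
  have hu1 : u ≠ 1 := fun e => by rw [e, orderOf_one] at hu; omega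
  obtain ⟨hinv, hab, hPp⟩ := h.inverts_centralizer hd1 hdi hu2 hu1 hdu
  have hself : ∀ x ∈ centralizer ({d} : Set G), x ≠ 1 →
      centralizer ({x} : Set G) = centralizer ({d} : Set G) := by
    intro x hx hx1
    obtain ⟨j, hj⟩ := hPp ⟨x, hx⟩
    obtain ⟨-, hab', -⟩ := h.inverts_centralizer hx1 (i := j) (congrArg Subtype.val hj) hu2 hu1 (hinv x hx)
    refine le_antisymm (fun y hy => mem_centralizer_singleton_iff.2 ?_) (fun y hy => mem_centralizer_singleton_iff.2 ?_)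
    · exact congrArg Subtype.val (hab'.is_comm.comm ⟨y, hy⟩
        ⟨d, mem_centralizer_singleton_iff.2 (mem_centralizer_singleton_iff.1 hx).symm⟩)
    · exact congrArg Subtype.val (hab.is_comm.comm ⟨y, hy⟩ ⟨x, hx⟩)
  obtain ⟨P, hP⟩ := hPp.exists_le_sylow
  have hPeq : (P : Subgroup G) = centralizer ({d} : Set G) := by
    refine le_antisymm ?_ hP
    have hdP : d ∈ (P : Subgroup G) := hP (mem_centralizer_singleton_iff.2 rfl)
    haveI := (Subgroup.nontrivial_iff_ne_bot (P : Subgroup G)).2 fun e => hd1 (by rwa [e, mem_bot] at hdP)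
    haveI := P.2.center_nontrivial
    obtain ⟨⟨⟨z, hzP⟩, hz⟩, hz1⟩ := exists_ne (1 : center ↥(P : Subgroup G))
    have hzd : z ∈ centralizer ({d} : Set G) := mem_centralizer_singleton_iff.2
      (congrArg Subtype.val (mem_center_iff.1 hz ⟨d, hdP⟩)).symm
    rw [← hself z hzd fun e => hz1 (Subtype.ext (Subtype.ext e))]
    exact fun y hy => mem_centralizer_singleton_iff.2 (congrArg Subtype.val (mem_center_iff.1 hz ⟨y, hy⟩))
  have hcent : ∀ z : G, z ≠ 1 → (∃ i : ℕ, z ^ p ^ i = 1) → IsPGroup p ↥(centralizer ({z} : Set G)) := by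
    rintro z hz1 ⟨j, hj⟩
    have hz : IsPGroup p ↥(zpowers z) := by
      rintro ⟨w, hw⟩
      obtain ⟨m, rfl⟩ := mem_zpowers_iff.1 hw
      refine ⟨j, Subtype.ext ?_⟩
      show (z ^ m) ^ p ^ j = 1
      rw [← zpow_natCast (z ^ m), ← zpow_mul, mul_comm, zpow_mul, zpow_natCast, hj, one_zpow]
    obtain ⟨T, hT⟩ := hz.exists_le_sylow
    obtain ⟨g, hg⟩ := MulAction.exists_smul_eq G T P
    have hgz : g * z * g⁻¹ ∈ centralizer ({d} : Set G) :=
      hPeq ▸ hg ▸ (⟨z, hT (mem_zpowers z), rfl⟩ : g * z * g⁻¹ ∈ ((g • T : Sylow p G) : Subgroup G))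
    have h1 := hself _ hgz fun e => hz1 (conj_eq_one_iff.1 e)
    intro x
    have hx : g * (x : G) * g⁻¹ ∈ centralizer ({d} : Set G) := by
      rw [← h1]
      refine mem_centralizer_singleton_iff.2 ?_
      calc g * (x : G) * g⁻¹ * (g * z * g⁻¹) = g * ((x : G) * z) * g⁻¹ := by group
        _ = g * (z * x) * g⁻¹ := by rw [mem_centralizer_singleton_iff.1 x.2]
        _ = _ := by group
    obtain ⟨k, hk⟩ := hPp ⟨_, hx⟩
    refine ⟨k, Subtype.ext ?_⟩
    have h2 : (g * (x : G) * g⁻¹) ^ p ^ k = 1 := congrArg Subtype.val hk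
    rw [conj_pow, conj_eq_one_iff] at h2
    exact h2
  have hCE : ∀ x ∈ centralizer (E : Set G), (∃ i : ℕ, x ^ p ^ i = 1) → x = 1 := by
    intro x hx hxp
    by_contra hx1
    have hle : E ≤ centralizer ({x} : Set G) := fun e he =>
      mem_centralizer_singleton_iff.2 (mem_centralizer_iff.1 hx e he)
    refine hE.ne_bot h ?_
    rw [← Comp.inf_eq_bot_of_isPGroup ((hcent x hx1 hxp).to_le hle)
      (coprime_of_two_group h.ne_two (elemAb_isPGroup hE.1)), inf_idem]
  refine ⟨u, d, hu, huM, hdu, orderOf_eq_prime ?_ hd1, hdD, ⟨P, hPeq⟩, hCE, hcent⟩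
  obtain ⟨hd, hd'⟩ := mem_inf.1 hdD
  refine hCE _ (mem_centralizer_iff.2 fun e he => ?_) ⟨i, by rw [← pow_mul, mul_comm, pow_mul, hdi, one_pow]⟩
  by_cases he1 : e = 1
  · rw [he1, one_mul, mul_one]
  classical
  let f : ↥E →* ↥E := (normalizerMonoidHom E ⟨d, hd⟩).toMonoidHom
  have hinj : Function.Injective f := (normalizerMonoidHom E ⟨d, hd⟩).injective
  have hit : ∀ k : ℕ, ((f^[k] ⟨e, he⟩ : ↥E) : G) = d ^ k * e * (d ^ k)⁻¹ := by
    intro k
    induction k with
    | zero => simp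
    | succ k ih =>
      rw [Function.iterate_succ_apply']
      change d * ((f^[k] ⟨e, he⟩ : ↥E) : G) * d⁻¹ = _
      rw [ih, pow_succ']
      group
  have hper : Function.IsPeriodicPt f (p ^ i) ⟨e, he⟩ := by
    refine Subtype.ext ((hit _).trans ?_)
    rw [hdi, one_mul, inv_one, mul_one]
  obtain ⟨j, -, hj⟩ := (Nat.dvd_prime_pow hp.out).1 hper.minimalPeriod_dvd
  have hle : Function.minimalPeriod f ⟨e, he⟩ ≤ p := by
    have hsub : Nat.card {x : ↥E // x ≠ 1} = p := by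
      have h2 := Set.ncard_add_ncard_compl ({1} : Set ↥E)
      rw [Set.ncard_singleton, h.card_maxTwo hE] at h2
      rw [show Nat.card {x : ↥E // x ≠ 1} = ({1} : Set ↥E)ᶜ.ncard from Nat.card_coe_set_eq _]
      omega
    rw [← hsub, ← Nat.card_fin (Function.minimalPeriod f ⟨e, he⟩)]
    refine Nat.card_le_card_of_injective (fun k => ⟨f^[(k : ℕ)] ⟨e, he⟩, ?_⟩) fun a b hab =>
      Fin.ext (Function.iterate_injOn_Iio_minimalPeriod a.2 b.2 (congrArg Subtype.val hab))
    exact fun hk => he1 (congrArg Subtype.val ((hinj.iterate k) (hk.trans (Function.iterate_fixed (map_one f) k).symm)))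
  rw [hj] at hle
  have hj1 : j ≤ 1 := (Nat.pow_le_pow_iff_right hp.out.one_lt).1 (hle.trans_eq (pow_one p).symm)
  have hfix : Function.IsPeriodicPt f p ⟨e, he⟩ := by
    refine Function.IsPeriodicPt.trans_dvd (Function.isPeriodicPt_minimalPeriod f _) ?_
    rw [hj]
    exact (pow_dvd_pow p hj1).trans (dvd_of_eq (pow_one p))
  have h3 : d ^ p * e * (d ^ p)⁻¹ = e := (hit p).symm.trans (congrArg Subtype.val hfix)
  exact (mul_inv_eq_iff_eq_mul.1 h3).symm

end CfsgLib.PLocal
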