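import Cfsg.Agent.Lib.PLocal.AbExpCount

/-!
The coset count contradiction.
-/

set_option autoImplicit false
set_option linter.style.haveILetI false
set_option linter.unusedSectionVars false

namespace CfsgLib.PLocal

open Subgroup

universe u

variable {G : Type u} [Group G] [Finite G] {p : ℕ} [hp : Fact p.Prime]

theorem eq_zero_of_pow_mem {H : Subgroup G} {d : G} (hd : orderOf d = p) (hdH : d ∉ H) {n : ℕ} (hn : n < p)
    (hmem : d ^ n ∈ H) : n = 0 := by
  by_contra h0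
  refine hdH ?_
  have hc : Nat.Coprime n p :=
    ((hp.out.coprime_iff_not_dvd).2 fun hdv => h0 (Nat.eq_zero_of_dvd_of_lt hdv hn)).symm
  obtain ⟨k, hk⟩ := exists_pow_eq_self_of_coprime (hd ▸ hc : n.Coprime (orderOf d))
  rw [← hk]
  exact H.pow_mem hmem k

theorem AbExpSit.false_of_sit (h : AbExpSit p G) : False := by
  haveI : Fact (Nat.Prime 2) := ⟨Nat.prime_two⟩
  haveI := h.simple
  classical
  obtain ⟨E, hE⟩ := exists_isMaxTwo (G := G)
  obtain ⟨u, d, hu, huM, hdu, hdp, hdD, ⟨P, hP⟩, hCE, hcent⟩ := h.exists_config hE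
  obtain ⟨M, hM⟩ : ∃ M, M = normalizer (E : Set G) := ⟨_, rfl⟩
  obtain ⟨C, hC⟩ : ∃ C, C = centralizer (E : Set G) := ⟨_, rfl⟩
  have hCM : C ≤ M := hM ▸ hC ▸ Subgroup.centralizer_le_normalizer _
  have hu2 : u ^ 2 = 1 := by rw [← hu]; exact pow_orderOf_eq_one u
  have hu1 : u ≠ 1 := fun e => by rw [e, orderOf_one] at hu; omega
  have hd1 : d ≠ 1 := fun e => by rw [e, orderOf_one] at hdp; exact hp.out.one_lt.ne hdp
  have hdpow : d ^ p ^ 1 = 1 := by rw [pow_one, ← hdp]; exact pow_orderOf_eq_one d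
  have hdM : d ∈ M := hM ▸ (mem_inf.1 hdD).1
  have hdC : d ∉ C := fun e => hd1 (hCE d (hC ▸ e) ⟨1, hdpow⟩)
  have hp5 := h.p5
  obtain ⟨hinv, -, -⟩ := h.inverts_centralizer hd1 hdpow hu2 hu1 hdu
  obtain ⟨e, he, he1⟩ := (bot_or_exists_ne_one E).resolve_left (hE.ne_bot h)
  have hEsub : Nat.card {x : ↥E // x ≠ 1} = p := by
    have h2 := Set.ncard_add_ncard_compl ({1} : Set ↥E)
    rw [Set.ncard_singleton, h.card_maxTwo hE] at h2
    rw [show Nat.card {x : ↥E // x ≠ 1} = ({1} : Set ↥E)ᶜ.ncard from Nat.card_coe_set_eq _]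
    omega
  have hconjE : ∀ g ∈ M, g * e * g⁻¹ ∈ E ∧ g * e * g⁻¹ ≠ 1 := fun g hg =>
    ⟨(mem_normalizer_iff.1 (hM ▸ hg : g ∈ normalizer (E : Set G)) e).1 he,
      fun e0 => he1 (conj_eq_one_iff.1 e0)⟩
  have hfixC : ∀ g : G, g * e * g⁻¹ = e → g ∈ C := fun g hg => by
    rw [hC, ← h.centralizer_eq hE he he1, mem_centralizer_singleton_iff]
    exact mul_inv_eq_iff_eq_mul.1 hg
  have hcancel : ∀ a b : G, a * e * a⁻¹ = b * e * b⁻¹ → b⁻¹ * a ∈ C := fun a b hab => hfixC _ (by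
    calc b⁻¹ * a * e * (b⁻¹ * a)⁻¹ = b⁻¹ * (a * e * a⁻¹) * b := by group
      _ = b⁻¹ * (b * e * b⁻¹) * b := by rw [hab]
      _ = e := by group)
  have hsplit : ∀ a b : ℕ, a ≤ b → b < p → (d ^ a)⁻¹ * d ^ b ∈ C → a = b := fun a b hab hb hmem => by
    have h1 : d ^ (b - a) ∈ C := by
      rwa [pow_sub _ hab, show d ^ b * (d ^ a)⁻¹ = (d ^ a)⁻¹ * d ^ b from
        ((Commute.pow_pow_self d a b).inv_left.eq).symm]
    have := eq_zero_of_pow_mem hdp hdC (by omega) h1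
    omega
  -- `M = ⟨d⟩ C(E)`
  have hdec : ∀ m ∈ M, ∃ j : Fin p, (d ^ (j : ℕ))⁻¹ * m ∈ C := by
    intro m hm
    obtain ⟨f, hf⟩ : ∃ f : Fin p → {x : ↥E // x ≠ 1}, ∀ j : Fin p,
        ((f j : ↥E) : G) = d ^ (j : ℕ) * e * (d ^ (j : ℕ))⁻¹ :=
      ⟨fun j => ⟨⟨_, (hconjE _ (pow_mem hdM _)).1⟩, fun e0 => (hconjE _ (pow_mem hdM _)).2
        (congrArg Subtype.val e0)⟩, fun _ => rfl⟩
    have hinj : Function.Injective f := fun a b hab => by
      have h1 : d ^ (a : ℕ) * e * (d ^ (a : ℕ))⁻¹ = d ^ (b : ℕ) * e * (d ^ (b : ℕ))⁻¹ := by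
        rw [← hf, ← hf, hab]
      apply Fin.ext
      rcases le_total (a : ℕ) b with hab' | hab'
      · exact hsplit _ _ hab' b.2 (hcancel _ _ h1.symm)
      · exact (hsplit _ _ hab' a.2 (hcancel _ _ h1)).symm
    obtain ⟨j, hj⟩ := ((Nat.bijective_iff_injective_and_card f).2 ⟨hinj, by
      rw [hEsub, Nat.card_fin]⟩).2 ⟨⟨m * e * m⁻¹, (hconjE m hm).1⟩,
        fun e0 => (hconjE m hm).2 (congrArg Subtype.val e0)⟩
    exact ⟨j, hcancel _ _ (by rw [← hf, hj])⟩
  have hMcard : Nat.card ↥M = p * Nat.card ↥C := by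
    have hb : Function.Bijective (fun jc : Fin p × ↥C =>
        (⟨d ^ (jc.1 : ℕ) * jc.2, M.mul_mem (pow_mem hdM _) (hCM jc.2.2)⟩ : ↥M)) := by
      refine ⟨fun a b hab => ?_, fun m => ?_⟩
      · have h1 : d ^ (a.1 : ℕ) * (a.2 : G) = d ^ (b.1 : ℕ) * b.2 := congrArg Subtype.val hab
        have h2 : (d ^ (a.1 : ℕ))⁻¹ * d ^ (b.1 : ℕ) ∈ C := by
          have : (d ^ (a.1 : ℕ))⁻¹ * d ^ (b.1 : ℕ) = (a.2 : G) * (b.2 : G)⁻¹ := by
            rw [inv_mul_eq_iff_eq_mul, ← mul_assoc, h1, mul_inv_cancel_right]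
          rw [this]
          exact C.mul_mem a.2.2 (C.inv_mem b.2.2)
        have h3 : a.1 = b.1 := by
          apply Fin.ext
          rcases le_total (a.1 : ℕ) b.1 with hab' | hab'
          · exact hsplit _ _ hab' b.1.2 h2
          · refine (hsplit _ _ hab' a.1.2 ?_).symm
            have := C.inv_mem h2
            rwa [mul_inv_rev, inv_inv] at this
        refine Prod.ext h3 (Subtype.ext ?_)
        rw [h3] at h1
        exact mul_left_cancel h1
      · obtain ⟨j, hj⟩ := hdec m m.2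
        exact ⟨(j, ⟨_, hj⟩), Subtype.ext (mul_inv_cancel_left _ _)⟩
    rw [← Nat.card_congr (Equiv.ofBijective _ hb), Nat.card_prod, Nat.card_fin]
  -- `p`-subgroups of `M`
  have hQle : ∀ Q : Subgroup G, IsPGroup p ↥Q → Q ≤ M → Nat.card ↥Q ≤ p := by
    intro Q hQ hQM
    rw [← hEsub]
    refine Nat.card_le_card_of_injective (fun q : ↥Q => (⟨⟨(q : G) * e * (q : G)⁻¹, (hconjE _ (hQM q.2)).1⟩,
      fun e0 => (hconjE _ (hQM q.2)).2 (congrArg Subtype.val e0)⟩ : {x : ↥E // x ≠ 1})) fun a b hab => ?_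
    have h1 := hcancel a b (congrArg (fun x : {x : ↥E // x ≠ 1} => ((x : ↥E) : G)) hab)
    obtain ⟨k, hk⟩ := hQ (b⁻¹ * a)
    exact Subtype.ext (inv_mul_eq_one.1 (hCE _ (hC ▸ h1) ⟨k, congrArg Subtype.val hk⟩)).symm
  have hdz : IsPGroup p ↥(zpowers d) :=
    IsPGroup.of_card (n := 1) (by rw [Nat.card_zpowers, hdp, pow_one])
  have hQeq : ∀ Q : Subgroup G, IsPGroup p ↥Q → Q ≤ M → d ∈ Q → Q = zpowers d := fun Q hQ hQM hdQ =>
    (eq_of_le_of_card_ge (zpowers_le.2 hdQ) (by rw [Nat.card_zpowers, hdp]; exact hQle Q hQ hQM)).symm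
  -- `p`-elements of `M` are conjugate into `⟨d⟩`
  have hconjd : ∀ g ∈ M, g ≠ 1 → (∃ i : ℕ, g ^ p ^ i = 1) →
      ∃ m ∈ M, m * d * m⁻¹ ∈ zpowers g := by
    rintro g hgM hg1 ⟨i, hi⟩
    have hgz : IsPGroup p ↥(zpowers g) := by
      rintro ⟨w, hw⟩
      obtain ⟨m, rfl⟩ := mem_zpowers_iff.1 hw
      refine ⟨i, Subtype.ext ?_⟩
      show (g ^ m) ^ p ^ i = 1
      rw [← zpow_natCast (g ^ m), ← zpow_mul, mul_comm, zpow_mul, zpow_natCast, hi, one_zpow]
    obtain ⟨S, hS⟩ := (hdz.comap_subtype (K := M)).exists_le_sylow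
    obtain ⟨T, hT⟩ := (hgz.comap_subtype (K := M)).exists_le_sylow
    obtain ⟨m, hm⟩ := MulAction.exists_smul_eq ↥M S T
    refine ⟨m, m.2, ?_⟩
    have h1 : m * (⟨d, hdM⟩ : ↥M) * m⁻¹ ∈ (T : Subgroup ↥M) := by
      rw [← hm]
      exact ⟨_, hS (mem_subgroupOf.2 (mem_zpowers d)), rfl⟩
    obtain ⟨Q, hQdef⟩ : ∃ Q, Q = (T : Subgroup ↥M).map M.subtype := ⟨_, rfl⟩
    have hQM : Q ≤ M := hQdef ▸ map_subtype_le _
    have hQp : IsPGroup p ↥Q := hQdef ▸ T.2.map _
    have hgQ : zpowers g ≤ Q := fun x hx => hQdef ▸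
      ⟨⟨x, zpowers_le.2 hgM hx⟩, hT (mem_subgroupOf.2 hx), rfl⟩
    have hgp : p ≤ Nat.card ↥(zpowers g) := by
      rcases hgz.card_eq_or_dvd with h0 | h0
      · exact absurd (zpowers_eq_bot.1 (card_eq_one.1 h0)) hg1
      · exact Nat.le_of_dvd Nat.card_pos h0
    rw [eq_of_le_of_card_ge hgQ ((hQle Q hQp hQM).trans hgp)]
    exact hQdef ▸ mem_map_of_mem M.subtype h1
  -- the normalizer of `⟨d⟩`
  obtain ⟨N, hN⟩ : ∃ N, N = normalizer (zpowers d : Set G) := ⟨_, rfl⟩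
  have hcdN : centralizer ({d} : Set G) ≤ N := by
    rw [hN, ← Comp.centralizer_zpowers]
    exact Subgroup.centralizer_le_normalizer _
  have hNM : ∀ m ∈ M, m ∈ N → m ∈ zpowers d := by
    intro m hm hmN
    obtain ⟨j, hj⟩ := hdec m hm
    obtain ⟨c, hc⟩ : ∃ c, c = (d ^ (j : ℕ))⁻¹ * m := ⟨_, rfl⟩
    rw [← hc] at hj
    have hcN : c ∈ N := hc ▸ N.mul_mem (N.inv_mem (N.pow_mem (hN ▸ le_normalizer (mem_zpowers d)) _)) hmN
    have h1 : c * d * c⁻¹ * d⁻¹ ∈ zpowers d :=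
      mul_mem ((mem_normalizer_iff.1 (hN ▸ hcN : c ∈ normalizer (zpowers d : Set G)) d).1 (mem_zpowers d))
        (inv_mem (mem_zpowers d))
    have h2 : c * d * c⁻¹ * d⁻¹ ∈ C := by
      have h3 : d * c⁻¹ * d⁻¹ ∈ C := by
        rw [hC]
        refine mem_centralizer_iff.2 fun f hf => ?_
        have hf' : d⁻¹ * f * d ∈ E := by
          have := (mem_normalizer_iff.1 (hM ▸ M.inv_mem hdM : d⁻¹ ∈ normalizer (E : Set G)) f).1 hf
          rwa [inv_inv] at this
        have h4 := mem_centralizer_iff.1 (hC ▸ C.inv_mem hj : c⁻¹ ∈ centralizer (E : Set G)) _ hf'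
        calc f * (d * c⁻¹ * d⁻¹) = d * (d⁻¹ * f * d * c⁻¹) * d⁻¹ := by group
          _ = d * (c⁻¹ * (d⁻¹ * f * d)) * d⁻¹ := by rw [h4]
          _ = _ := by group
      rw [show c * d * c⁻¹ * d⁻¹ = c * (d * c⁻¹ * d⁻¹) by group]
      exact C.mul_mem hj h3
    obtain ⟨k, hk⟩ := hdz ⟨_, h1⟩
    have h5 : c * d * c⁻¹ * d⁻¹ = 1 := hCE _ (hC ▸ h2) ⟨k, congrArg Subtype.val hk⟩
    have h6 : c ∈ centralizer ({d} : Set G) :=
      mem_centralizer_singleton_iff.2 (mul_inv_eq_iff_eq_mul.1 (mul_inv_eq_one.1 h5))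
    obtain ⟨l, hl⟩ := hcent d hd1 ⟨1, hdpow⟩ ⟨c, h6⟩
    have hc1 : c = 1 := hCE c (hC ▸ hj) ⟨l, congrArg Subtype.val hl⟩
    rw [hc, inv_mul_eq_one] at hc1
    exact hc1 ▸ pow_mem (mem_zpowers d) _
  -- the fixed points of `d`
  have hSE : Cfsg.IsStronglyEmbedded M := hM ▸ h.stronglyEmbedded_normalizer hE
  rw [← hM] at huM hdD
  have hmkM : ∀ g : G, (g : G ⧸ M) = ((1 : G) : G ⧸ M) ↔ g ∈ M := fun g => by
    rw [QuotientGroup.eq, mul_one, inv_mem_iff]
  have hsmul : ∀ g a : G, g • (a : G ⧸ M) = ((g * a : G) : G ⧸ M) := fun g a => rfl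
  have hinvol : ∀ {t : G}, orderOf t = 2 → t⁻¹ = t := fun {t} ht =>
    inv_eq_of_mul_eq_one_right (by rw [← pow_two, ← ht]; exact pow_orderOf_eq_one t)
  have hswap : ∀ i : G, orderOf i = 2 → i ∉ M → ∀ a : G, a ∈ M ⊓ M.map (MulAut.conj i).toMonoidHom ↔
      a ∈ M ∧ a • (i : G ⧸ M) = (i : G ⧸ M) := by
    intro i _ _ a
    rw [mem_inf, mem_map_equiv, MulAut.conj_symm_apply, hsmul, eq_comm (a := ((a * i : G) : G ⧸ M)),
      QuotientGroup.eq, mul_assoc]
  have hDi : ∀ i : G, orderOf i = 2 → i ∉ M → d • (i : G ⧸ M) = (i : G ⧸ M) → i * d * i⁻¹ = d⁻¹ := by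
    intro i hi hiM hfix
    have hmem : d ∈ M ⊓ M.map (MulAut.conj i).toMonoidHom := (hswap i hi hiM d).2 ⟨hdM, hfix⟩
    have hDeq : M ⊓ M.map (MulAut.conj i).toMonoidHom = zpowers d :=
      hQeq _ (hM ▸ h.isPGroup_inf_conj hE (hM ▸ hiM)) inf_le_left hmem
    have hii : i * i = 1 := by rw [← pow_two, ← hi]; exact pow_orderOf_eq_one i
    have hidi : i * d * i⁻¹ ∈ zpowers d := by
      rw [← hDeq]
      refine mem_inf.2 ⟨?_, mem_map_of_mem _ hdM⟩
      have h1 := (mem_inf.1 hmem).2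
      rw [mem_map_equiv, MulAut.conj_symm_apply] at h1
      rwa [hinvol hi] at h1 ⊢
    obtain ⟨c, hc⟩ : ∃ c, c = i * d * i⁻¹ * d := ⟨_, rfl⟩
    have hcz : c ∈ centralizer ({d} : Set G) := by
      rw [hc]
      refine (zpowers_le.2 (mem_centralizer_singleton_iff.2 rfl)) (mul_mem hidi (mem_zpowers d))
    have hci : i * c = c * i := by
      obtain ⟨k, hk⟩ := mem_zpowers_iff.1 hidi
      have hcm : d * (i * d * i⁻¹) = i * d * i⁻¹ * d := by rw [← hk]; exact (Commute.self_zpow d k).eq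
      rw [hc]
      calc i * (i * d * i⁻¹ * d) = (i * i) * d * i⁻¹ * d := by group
        _ = d * i⁻¹ * d := by rw [hii, one_mul]
        _ = d * (i * d * i⁻¹) * i := by rw [hinvol hi]; rw [show d * (i * d * i) * i = d * i * d * (i * i) by group, hii, mul_one]
        _ = _ := by rw [hcm]
    by_contra hne
    have hc1 : c ≠ 1 := fun e0 => hne (eq_inv_of_mul_eq_one_left (hc ▸ e0))
    obtain ⟨k, hk⟩ := hcent d hd1 ⟨1, hdpow⟩ ⟨c, hcz⟩
    have := h.no_involution_centralizer hc1 (congrArg Subtype.val hk) hu2 (hinv c hcz)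
      (t := i) (by rw [← hi]; exact pow_orderOf_eq_one i) hci
    rw [this, orderOf_one] at hi
    omega
  obtain ⟨x0, hx0⟩ : ∃ x0 : G ⧸ M, x0 = ((1 : G) : G ⧸ M) := ⟨_, rfl⟩
  obtain ⟨F, hF⟩ : ∃ F : Set (G ⧸ M), F = {y | d • y = y} := ⟨_, rfl⟩
  have hx0F : x0 ∈ F := by
    rw [hF, Set.mem_ofPred_eq, hx0, hsmul, mul_one]
    exact (hmkM d).2 hdM
  have hu0F : (u : G ⧸ M) ∈ F := by
    rw [hF, Set.mem_ofPred_eq]
    exact ((hswap u hu huM d).1 hdD).2
  have hu0 : (u : G ⧸ M) ≠ x0 := fun e0 => huM ((hmkM u).1 (e0.trans hx0))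
  have hJ : Nat.card ↥(centralizer ({d} : Set G)) + p = F.ncard * p := by
    have h1 : Nat.card {i : G // orderOf i = 2 ∧ i * d * i⁻¹ = d⁻¹} = Nat.card ↥(centralizer ({d} : Set G)) := by
      refine Nat.card_congr ⟨fun i => ⟨u * i, ?_⟩, fun x => ⟨u * x, ?_, ?_⟩, fun i => ?_, fun x => ?_⟩
      · refine mem_centralizer_singleton_iff.2 (mul_inv_eq_iff_eq_mul.1 ?_)
        calc u * (i : G) * d * (u * i)⁻¹ = u * ((i : G) * d * (i : G)⁻¹) * u⁻¹ := by group
          _ = u * d⁻¹ * u⁻¹ := by rw [i.2.2]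
          _ = (u * d * u⁻¹)⁻¹ := by group
          _ = d := by rw [hdu, inv_inv]
      · refine orderOf_eq_prime ?_ ?_
        · rw [pow_two]
          calc u * (x : G) * (u * x) = (u * (x : G) * u⁻¹) * (u * u) * x := by group
            _ = 1 := by rw [hinv x x.2, ← pow_two, hu2, mul_one, inv_mul_cancel]
        · intro e0
          have h2 := hinv d (mem_centralizer_singleton_iff.2 rfl)
          have h3 : u = (x : G)⁻¹ := eq_inv_of_mul_eq_one_left e0
          have h4 : u * d * u⁻¹ = d := by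
            rw [h3]
            exact mul_inv_eq_iff_eq_mul.2 (mem_centralizer_singleton_iff.1 (inv_mem x.2))
          rw [h4] at h2
          exact hd1 (eq_one_of_pow_of_sq h.ne_two hdpow (by rw [pow_two]; exact eq_inv_iff_mul_eq_one.1 h2))
      · calc u * (x : G) * d * (u * x)⁻¹ = u * ((x : G) * d * (x : G)⁻¹) * u⁻¹ := by group
          _ = u * d * u⁻¹ := by rw [mem_centralizer_singleton_iff.1 x.2, mul_inv_cancel_right]
          _ = d⁻¹ := hdu
      · exact Subtype.ext (by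
          show u * (u * (i : G)) = i
          rw [← mul_assoc, ← pow_two, hu2, one_mul])
      · exact Subtype.ext (by
          show u * (u * (x : G)) = x
          rw [← mul_assoc, ← pow_two, hu2, one_mul])
    have hmemF : ∀ i : {i : G // orderOf i = 2 ∧ i * d * i⁻¹ = d⁻¹},
        ((i : G) : G ⧸ M) ∈ F \ {x0} := by
      rintro ⟨i, hi, hid⟩
      refine ⟨?_, fun e0 => ?_⟩
      · rw [hF, Set.mem_ofPred_eq, hsmul, QuotientGroup.eq]
        have e1 : (d * i)⁻¹ * i = i⁻¹ * d⁻¹ * i := by group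
        have e2 : i⁻¹ * d⁻¹ * i = d := by rw [← hid]; group
        rw [e1, e2]
        exact hdM
      · have hiM : i ∈ M := (hmkM i).1 ((Set.mem_singleton_iff.1 e0).trans hx0)
        have hiE : i ∈ E := h.mem_of_sq_eq_one hE (hM ▸ hiM) (by rw [← hi]; exact pow_orderOf_eq_one i)
        have h7 : i * d * i⁻¹ * d⁻¹ ∈ E := by
          rw [show i * d * i⁻¹ * d⁻¹ = i * (d * i⁻¹ * d⁻¹) by group]
          exact E.mul_mem hiE
            ((mem_normalizer_iff.1 (hM ▸ hdM : d ∈ normalizer (E : Set G)) _).1 (E.inv_mem hiE))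
        rw [hid, ← pow_two] at h7
        have h8 := hE.1.2 _ h7
        rw [← pow_mul, inv_pow, inv_eq_one] at h8
        refine hd1 (eq_one_of_pow_of_sq h.ne_two hdpow (eq_one_of_pow_of_sq (i := 1) h.ne_two ?_ ?_))
        · rw [← pow_mul, mul_comm, pow_mul, hdpow, one_pow]
        · rw [← pow_mul]; exact h8
    haveI : Fintype ↥(F \ {x0}) := Fintype.ofFinite _
    have h2 : Nat.card {i : G // orderOf i = 2 ∧ i * d * i⁻¹ = d⁻¹} = (F \ {x0}).ncard * p := by
      rw [← Nat.card_coe_set_eq (F \ {x0})]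
      rw [Nat.card_congr (Equiv.sigmaFiberEquiv fun i => (⟨_, hmemF i⟩ : ↥(F \ {x0}))).symm, Nat.card_sigma,
        Finset.sum_congr rfl fun y _ => ?_, Finset.sum_const, Finset.card_univ, smul_eq_mul,
        ← Nat.card_eq_fintype_card]
      obtain ⟨⟨y, hyF, hy0⟩, rfl⟩ : ∃ y', y' = y := ⟨y, rfl⟩
      have h3 := Cfsg.Agent.S1224.result M hSE x0 y fun e0 => hy0 e0.symm
      have hcard : Nat.card {t : G // orderOf t = 2 ∧ t ∈ M} = p := by
        rw [← hEsub]
        refine Nat.card_congr ⟨fun t => ⟨⟨t, h.mem_of_sq_eq_one hE (hM ▸ t.2.2)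
          (orderOf_dvd_iff_pow_eq_one.1 (dvd_of_eq t.2.1))⟩, fun e0 => ?_⟩,
          fun x => ⟨x.1, ?_, hM ▸ le_normalizer x.1.2⟩, fun t => rfl, fun x => rfl⟩
        · have h4 : (t : G) = 1 := congrArg Subtype.val e0
          have h5 := t.2.1
          rw [h4, orderOf_one] at h5
          omega
        · exact orderOf_eq_prime (hE.1.2 _ x.1.2) fun e0 => x.2 (Subtype.ext e0)
      rw [← hcard, ← h3]
      have hto : ∀ i : G, i • x0 = ((i : G) : G ⧸ M) := fun i => by rw [hx0, hsmul, mul_one]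
      refine Nat.card_congr ⟨fun i => ⟨i.1.1, i.1.2.1, ?_⟩, fun i => ⟨⟨i.1, i.2.1, ?_⟩, ?_⟩,
        fun i => rfl, fun i => rfl⟩
      · exact (hto _).trans (congrArg Subtype.val i.2)
      · have hi0 : ((i.1 : G) : G ⧸ M) = y := (hto _).symm.trans i.2.2
        refine hDi i.1 i.2.1 (fun hiM => hy0 ?_) ?_
        · exact Set.mem_singleton_iff.2 (hi0.symm.trans (((hmkM i.1).2 hiM).trans hx0.symm))
        · rw [hi0]
          rw [hF] at hyF
          exact hyF
      · exact Subtype.ext ((hto _).symm.trans i.2.2)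
    rw [← h1, h2, ← Set.ncard_sdiff_singleton_add_one hx0F, add_mul, one_mul]
  -- `N` is transitive on the fixed points
  have horb : MulAction.orbit ↥N x0 = F := by
    ext y
    constructor
    · rintro ⟨n, rfl⟩
      rw [hF, Set.mem_ofPred_eq]
      show d • ((n : G) • x0) = (n : G) • x0
      have h1 : (n : G)⁻¹ * d * n ∈ M := by
        have h2 := (mem_normalizer_iff.1 (hN ▸ N.inv_mem n.2 : (n : G)⁻¹ ∈ normalizer (zpowers d : Set G)) d).1
          (mem_zpowers d)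
        rw [inv_inv] at h2
        exact zpowers_le.2 hdM h2
      rw [hx0, hsmul, mul_one, hsmul, QuotientGroup.eq]
      have h2 := M.inv_mem h1
      rw [show ((n : G)⁻¹ * d * n)⁻¹ = (d * n)⁻¹ * n by group] at h2
      exact h2
    · intro hy
      obtain ⟨g, rfl⟩ := QuotientGroup.mk_surjective y
      rw [hF, Set.mem_ofPred_eq, hsmul, QuotientGroup.eq] at hy
      have hg : g⁻¹ * d * g ∈ M := by
        have := M.inv_mem hy
        rwa [show ((d * g)⁻¹ * g)⁻¹ = g⁻¹ * d * g by group] at this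
      have hg1 : g⁻¹ * d * g ≠ 1 := fun e0 => hd1 (by
        rw [show d = g * (g⁻¹ * d * g) * g⁻¹ by group, e0, mul_one, mul_inv_cancel])
      have hpe : (g⁻¹ * d * g) ^ p ^ 1 = 1 := by
        have := conj_pow (i := p ^ 1) (a := g⁻¹) (b := d)
        rw [inv_inv] at this
        rw [this, hdpow, mul_one, inv_mul_cancel]
      obtain ⟨m, hm, hmd⟩ := hconjd _ hg hg1 ⟨1, hpe⟩
      obtain ⟨k, hk⟩ := mem_zpowers_iff.1 hmd
      have hgm : g * m ∈ N := by
        rw [hN, mem_normalizer_iff_map_conj_eq, MonoidHom.map_zpowers]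
        refine eq_of_le_of_card_ge ?_ (by
          rw [Nat.card_zpowers, Nat.card_zpowers]
          exact ((orderOf_injective _ (MulAut.conj (g * m)).injective d)).ge)
        rw [zpowers_le]
        show g * m * d * (g * m)⁻¹ ∈ zpowers d
        have e1 : g * m * d * (g * m)⁻¹ = d ^ k := by
          have h4 : (g⁻¹ * d * g) ^ k = g⁻¹ * d ^ k * g := by
            have := conj_zpow (i := k) (a := g⁻¹) (b := d)
            rw [inv_inv] at this
            exact this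
          calc g * m * d * (g * m)⁻¹ = g * (m * d * m⁻¹) * g⁻¹ := by group
            _ = g * ((g⁻¹ * d * g) ^ k) * g⁻¹ := by rw [hk]
            _ = _ := by rw [h4]; group
        rw [e1]
        exact zpow_mem (mem_zpowers d) k
      refine ⟨⟨g * m, hgm⟩, ?_⟩
      show (g * m) • x0 = _
      rw [hx0, hsmul, mul_one, QuotientGroup.eq, show (g * m)⁻¹ * g = m⁻¹ by group]
      exact M.inv_mem hm
  have hstab : Nat.card ↥(MulAction.stabilizer ↥N x0) = p := by
    rw [← hdp, ← Nat.card_zpowers]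
    refine Nat.card_congr ⟨fun n => ⟨((n : ↥N) : G), ?_⟩,
      fun x => ⟨⟨x, hN ▸ le_normalizer x.2⟩, ?_⟩, fun n => rfl, fun x => rfl⟩
    · have key : ∀ a : G, a • x0 = x0 → a ∈ M := fun a ha => by
        rw [hx0, hsmul, mul_one] at ha
        exact (hmkM a).1 ha
      exact hNM _ (key _ n.2) n.1.2
    · show (x : G) • x0 = x0
      rw [hx0, hsmul, mul_one]
      exact (hmkM _).2 (zpowers_le.2 hdM x.2)
  have hNcard : Nat.card ↥N = F.ncard * p := by
    rw [← horb, ← hstab]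
    haveI := Fintype.ofFinite ↥N
    rw [← Nat.card_coe_set_eq, ← Nat.card_prod]
    exact (Nat.card_congr (MulAction.orbitProdStabilizerEquivGroup ↥N x0)).symm
  have hdvd : Nat.card ↥(centralizer ({d} : Set G)) ∣ F.ncard * p := hNcard ▸ card_dvd_of_le hcdN
  have hF2' : 2 ≤ F.ncard := by
    have := Set.ncard_le_ncard (s := {x0, (u : G ⧸ M)}) (t := F) (by
      rintro y (rfl | rfl)
      · exact hx0F
      · exact hu0F)
    rwa [Set.ncard_pair hu0.symm] at this
  have hCd : Nat.card ↥(centralizer ({d} : Set G)) = p := by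
    obtain ⟨c, hc⟩ : Nat.card ↥(centralizer ({d} : Set G)) ∣ p := by
      have h1 : Nat.card ↥(centralizer ({d} : Set G)) + p = F.ncard * p := hJ
      rw [← h1] at hdvd
      exact (Nat.dvd_add_right dvd_rfl).1 hdvd
    have h2 : p ≤ Nat.card ↥(centralizer ({d} : Set G)) := by
      have h3 := card_le_of_le (zpowers_le.2 (mem_centralizer_singleton_iff.2 rfl : d ∈ centralizer ({d} : Set G)))
      rwa [Nat.card_zpowers, hdp] at h3
    exact le_antisymm (Nat.le_of_dvd hp.out.pos ⟨c, hc⟩) h2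
  have hF2 : F.ncard = 2 := by
    rw [hCd] at hJ
    exact Nat.eq_of_mul_eq_mul_right hp.out.pos (by omega)
  have hFeq : F = {x0, (u : G ⧸ M)} := (Set.eq_of_subset_of_ncard_le (by
    rintro y (rfl | rfl)
    · exact hx0F
    · exact hu0F) (by rw [hF2, Set.ncard_pair hu0.symm])).symm
  -- `M` is transitive on the other points
  have horbM : MulAction.orbit ↥M (u : G ⧸ M) = {x0}ᶜ := by
    ext y
    constructor
    · rintro ⟨m, rfl⟩ e0
      refine hu0 ?_
      have e1 : (m : G) • (u : G ⧸ M) = x0 := Set.mem_singleton_iff.1 e0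
      have e2 : (u : G ⧸ M) = (m : G)⁻¹ • x0 := by rw [← e1, inv_smul_smul]
      rw [e2, hx0, hsmul, mul_one]
      exact (hmkM _).2 (M.inv_mem m.2)
    · intro hy
      have hy0 : x0 ≠ y := fun e0 => hy (Set.mem_singleton_iff.2 e0.symm)
      have h3 := Cfsg.Agent.S1224.result M hSE x0 y hy0
      have hne : Nonempty {i : G // orderOf i = 2 ∧ i • x0 = y} := by
        obtain ⟨t, ht, ht1⟩ : ∃ t ∈ E, t ≠ 1 := ⟨e, he, he1⟩
        haveI : Nonempty {t : G // orderOf t = 2 ∧ t ∈ M} :=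
          ⟨⟨t, orderOf_eq_prime (hE.1.2 t ht) ht1, hM ▸ le_normalizer ht⟩⟩
        exact (Nat.card_pos_iff.1 (h3.symm ▸ Nat.card_pos)).1
      obtain ⟨⟨i, hi, hiy⟩⟩ := hne
      rw [hx0, hsmul, mul_one] at hiy
      have hiM : i ∉ M := fun hiM => hy0 (by rw [← hiy, hx0]; exact ((hmkM i).2 hiM).symm)
      obtain ⟨g, hgD, hg1, -, hgp⟩ := h.exists_real hE hi (hM ▸ hiM)
      rw [← hM] at hgD
      obtain ⟨m, hm, hmd⟩ := hconjd g (mem_inf.1 hgD).1 hg1 hgp
      have hstabd : (m * d * m⁻¹) • y = y := by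
        rw [← hiy]
        exact ((hswap i hi hiM _).1 (zpowers_le.2 hgD hmd)).2
      have hyF : m⁻¹ • y ∈ F := by
        rw [hF, Set.mem_ofPred_eq]
        calc d • m⁻¹ • y = m⁻¹ • ((m * d * m⁻¹) • y) := by
              rw [← mul_smul, ← mul_smul]; congr 1; group
          _ = m⁻¹ • y := by rw [hstabd]
      rw [hFeq] at hyF
      rcases hyF with e0 | e0
      · refine absurd ?_ hy0
        have e1 : y = m • x0 := by rw [← e0, smul_inv_smul]
        rw [e1, hx0, hsmul, mul_one]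
        exact ((hmkM m).2 hm).symm
      · exact ⟨⟨m, hm⟩, by
          show m • (u : G ⧸ M) = y
          rw [← Set.mem_singleton_iff.1 e0, smul_inv_smul]⟩
  have hk : Nat.card (G ⧸ M) = Nat.card ↥C + 1 := by
    have h1 : Nat.card ↥(MulAction.stabilizer ↥M (u : G ⧸ M)) = p := by
      rw [← hdp, ← Nat.card_zpowers]
      have hDeq : M ⊓ M.map (MulAut.conj u).toMonoidHom = zpowers d :=
        hQeq _ (hM ▸ h.isPGroup_inf_conj hE (hM ▸ huM)) inf_le_left hdD
      refine Nat.card_congr ⟨fun n => ⟨((n : ↥M) : G), hDeq ▸ (hswap u hu huM _).2 ⟨n.1.2, n.2⟩⟩,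
        fun x => ⟨⟨x, zpowers_le.2 hdM x.2⟩, ((hswap u hu huM _).1 (hDeq.ge x.2)).2⟩, fun n => rfl, fun x => rfl⟩
    have h2 : Nat.card ↥M = Nat.card ↥(MulAction.orbit ↥M (u : G ⧸ M)) * p := by
      rw [← h1, ← Nat.card_prod]
      exact (Nat.card_congr (MulAction.orbitProdStabilizerEquivGroup ↥M (u : G ⧸ M))).symm
    rw [hMcard, horbM, Nat.card_coe_set_eq, mul_comm] at h2
    have h3 := Nat.eq_of_mul_eq_mul_right hp.out.pos h2
    have h4 := Set.ncard_add_ncard_compl ({x0} : Set (G ⧸ M))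
    rw [Set.ncard_singleton, ← h3] at h4
    rw [← h4, add_comm]
  have hmod : Nat.card (G ⧸ M) ≡ 2 [MOD p] := by
    have h1 := hdz.card_modEq_card_fixedPoints (G ⧸ M)
    have h2 : MulAction.fixedPoints ↥(zpowers d) (G ⧸ M) = F := by
      ext y
      rw [hF, Set.mem_ofPred_eq]
      refine ⟨fun hy => hy ⟨d, mem_zpowers d⟩, fun hy g => ?_⟩
      have h3 : zpowers d ≤ MulAction.stabilizer G y := zpowers_le.2 hy
      exact h3 g.2
    rw [h2, Nat.card_coe_set_eq, hF2] at h1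
    exact h1
  -- the primes of the index
  have hcastk : (Nat.card (G ⧸ M) : ZMod p) = 2 := by
    have := (ZMod.natCast_eq_natCast_iff _ _ _).2 hmod
    simpa using this
  have htwo : (2 : ZMod p) ≠ 1 := by
    intro e0
    have h1 : ((1 : ℕ) : ZMod p) = 0 := by
      rw [Nat.cast_one]; linear_combination e0
    have := Nat.le_of_dvd one_pos ((ZMod.natCast_eq_zero_iff _ _).1 h1)
    omega
  refine htwo (hcastk.symm.trans ?_)
  conv_lhs => rw [← Nat.prod_factorization_pow_eq_self (Nat.card_pos (α := G ⧸ M)).ne']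
  rw [Finsupp.prod, Nat.cast_prod]
  refine Finset.prod_eq_one fun q hq => ?_
  rw [Nat.support_factorization] at hq
  obtain ⟨hq, hqk, -⟩ := Nat.mem_primeFactors.1 hq
  haveI := Fact.mk hq
  have hqp : q ≠ p := by
    rintro rfl
    obtain ⟨c, hc⟩ := hqk
    rw [hc, Nat.cast_mul, ZMod.natCast_self, zero_mul] at hcastk
    have h2 : (2 : ℕ) = 0 ∨ q ∣ 2 := Or.inr ((ZMod.natCast_eq_zero_iff 2 q).1 (by simpa using hcastk.symm))
    rcases h2 with h2 | h2
    · omega
    · have := Nat.le_of_dvd two_pos h2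
      omega
  have hqM : ¬ q ∣ Nat.card ↥M := by
    rw [hMcard]
    intro hd'
    rcases hq.dvd_mul.1 hd' with h1 | h1
    · exact hqp ((Nat.prime_dvd_prime_iff_eq hq hp.out).1 h1)
    · rw [hk] at hqk
      exact hq.not_dvd_one ((Nat.dvd_add_right h1).1 hqk)
  obtain ⟨Q⟩ : Nonempty (Sylow q G) := inferInstance
  have hQcard : Nat.card ↥(Q : Subgroup G) = q ^ (Nat.card (G ⧸ M)).factorization q := by
    rw [Q.card_eq_multiplicity, M.card_eq_card_quotient_mul_card_subgroup,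
      Nat.factorization_mul Nat.card_pos.ne' Nat.card_pos.ne', Finsupp.add_apply,
      Nat.factorization_eq_zero_of_not_dvd hqM, add_zero]
  rw [← hQcard]
  have hQp : (Nat.card ↥(Q : Subgroup G)).Coprime p := by
    rw [hQcard]
    exact Nat.Coprime.pow_left _ ((Nat.coprime_primes hq hp.out).2 hqp)
  obtain ⟨g, hg, hgc⟩ := SetLike.not_le_iff_exists.1 fun hle =>
    Transfer.not_hasNormalPComplement_of_simple (fun hc => h.nsolv (isSolvable_of_comm fun x y => hc.is_comm.comm x y))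
      (hqk.trans ⟨_, M.card_eq_card_quotient_mul_card_subgroup⟩)
      (Transfer.hasNormalPComplement_of_normalizer_le_centralizer Q hle)
  obtain ⟨z, hz, hzc, i, hi⟩ := exists_pElement_not_mem (p := p) hgc fun x hx hxp =>
    h.abexp.le_centralizer_of_le_normalizer hQp (by rwa [Nat.card_zpowers])
      (zpowers_le.2 (zpowers_le.2 hg hx)) (mem_zpowers x)
  have hz1 : z ≠ 1 := fun e0 => hzc (e0 ▸ one_mem _)
  have hzpow : z ^ p ^ i = 1 := by rw [← hi]; exact pow_orderOf_eq_one z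
  have hzp : IsPGroup p ↥(zpowers z) := IsPGroup.of_card (n := i) (by rw [Nat.card_zpowers, hi])
  have hzQ : zpowers z ≤ normalizer ((Q : Subgroup G) : Set G) := zpowers_le.2 (zpowers_le.2 hg hz)
  letI : MulAction ↥(zpowers z) ↥(Q : Subgroup G) := MulAction.compHom ↥(Q : Subgroup G)
    ((normalizerMonoidHom (Q : Subgroup G)).comp (inclusion hzQ))
  have h1 := hzp.card_modEq_card_fixedPoints ↥(Q : Subgroup G)
  have h2 : MulAction.fixedPoints ↥(zpowers z) ↥(Q : Subgroup G) = {1} := by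
    ext x
    constructor
    · intro hx
      have hxz : (x : G) ∈ centralizer ({z} : Set G) := mem_centralizer_singleton_iff.2
        (mul_inv_eq_iff_eq_mul.1 (congrArg Subtype.val (hx ⟨z, mem_zpowers z⟩) : z * (x : G) * z⁻¹ = x)).symm
      obtain ⟨k, hk'⟩ := hcent z hz1 ⟨i, hzpow⟩ ⟨(x : G), hxz⟩
      have hx1 : (x : G) ^ p ^ k = 1 := congrArg Subtype.val hk'
      refine Set.mem_singleton_iff.2 (Subtype.ext ?_)
      rw [OneMemClass.coe_one, ← orderOf_eq_one_iff, ← Nat.dvd_one, ← (hQp.pow_right k).gcd_eq_one]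
      refine Nat.dvd_gcd ?_ (orderOf_dvd_of_pow_eq_one hx1)
      exact (Subgroup.orderOf_coe x).symm ▸ orderOf_dvd_natCard x
    · rintro rfl g'
      exact Subtype.ext (show (g' : G) * 1 * (g' : G)⁻¹ = 1 by group)
  rw [h2, Nat.card_coe_set_eq, Set.ncard_singleton] at h1
  have := (ZMod.natCast_eq_natCast_iff _ _ _).2 h1
  simpa using this

end CfsgLib.PLocal
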