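import Cfsg.Prelude.Def_Local
import Cfsg.Agent.Lib.PLocal.AbExpBase
import Cfsg.Agent.Lib.PLocal.ZJControl
import Cfsg.Agent.Lib.Transfer.Focal
import Cfsg.Agent.Lib.Transfer.Frobenius
import Cfsg.Agent.Lib.Transfer.SimpleCount
import Cfsg.Agent.Lib.Complement.TwoTools
import Cfsg.Agent.S1285
import Cfsg.Agent.S0223
import Cfsg.Agent.S1225
import Cfsg.Agent.S0205

/-!
The minimal simple group in which every `p'`-subgroup is abelian of exponent dividing `p - 1`: the
normalizer of an elementary abelian 2-group of largest order is strongly embedded.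
-/

set_option autoImplicit false
set_option linter.style.haveILetI false
set_option linter.unusedSectionVars false

namespace CfsgLib.PLocal

open Subgroup

universe u

/-- A minimal counterexample. -/
structure AbExpSit (p : ℕ) (G : Type u) [Group G] : Prop where
  simple : IsSimpleGroup G
  nsolv : ¬ Group.IsSolvable G
  proper : ∀ H : Subgroup G, H ≠ ⊤ → Group.IsSolvable ↥H
  abexp : IsAbExp p G
  p5 : 5 ≤ p

/-- An elementary abelian 2-subgroup of largest order. -/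
def IsMaxTwo {G : Type u} [Group G] (E : Subgroup G) : Prop :=
  Cfsg.IsElementaryAbelian 2 E ∧
    ∀ F : Subgroup G, Cfsg.IsElementaryAbelian 2 F → Nat.card ↥F ≤ Nat.card ↥E

/-- `O_p(C(a))`. -/
def locCore (p : ℕ) {G : Type u} [Group G] (a : G) : Subgroup G :=
  (Cfsg.pCore p ↥(centralizer ({a} : Set G))).map (centralizer ({a} : Set G)).subtype

/-- The subgroup generated by the `O_p(C(a))` and `N(E)`. -/
def bigLocal (p : ℕ) {G : Type u} [Group G] (E : Subgroup G) : Subgroup G :=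
  Cfsg.signalizerClosure E (locCore p) ⊔ normalizer (E : Set G)

variable {G : Type u} [Group G] [Finite G] {p : ℕ} [hp : Fact p.Prime]

theorem AbExpSit.ne_two (h : AbExpSit p G) : p ≠ 2 := by
  have := h.p5; omega

theorem coprime_of_two_group (h2 : p ≠ 2) {T : Subgroup G} (hT : IsPGroup 2 ↥T) :
    (Nat.card ↥T).Coprime p := by
  haveI : Fact (Nat.Prime 2) := ⟨Nat.prime_two⟩
  obtain ⟨m, hm⟩ := IsPGroup.iff_card.1 hT
  rw [hm]
  exact Nat.Coprime.pow_left _ ((Nat.coprime_primes Nat.prime_two hp.out).2 (Ne.symm h2))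

theorem AbExpSit.centralizer_ne_top (h : AbExpSit p G) {a : G} (ha : a ≠ 1) :
    centralizer ({a} : Set G) ≠ ⊤ := by
  haveI := h.simple
  intro e
  rcases IsSimpleGroup.eq_bot_or_eq_top_of_normal (center G) inferInstance with hz | hz
  · refine ha (mem_bot.1 (hz ▸ mem_center_iff.2 fun g => ?_))
    exact mem_centralizer_singleton_iff.1 (e.ge (mem_top g))
  · exact h.nsolv (isSolvable_of_comm fun x y => mem_center_iff.1 (hz.ge (mem_top y)) x)

theorem AbExpSit.normalizer_ne_top (h : AbExpSit p G) {K : Subgroup G} (h1 : K ≠ ⊥) (h2 : K ≠ ⊤) :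
    normalizer (K : Set G) ≠ ⊤ := by
  haveI := h.simple
  intro e
  rcases IsSimpleGroup.eq_bot_or_eq_top_of_normal K (normalizer_eq_top_iff.1 e) with hz | hz
  · exact h1 hz
  · exact h2 hz

theorem AbExpSit.even_card (h : AbExpSit p G) : 2 ∣ Nat.card G := by
  by_contra hc
  exact h.nsolv (Cfsg.Agent.S0205.result (Nat.not_even_iff_odd.1 fun he => hc he.two_dvd))

theorem exists_isMaxTwo : ∃ E : Subgroup G, IsMaxTwo E := by
  classical
  haveI := Fintype.ofFinite (Subgroup G)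
  obtain ⟨E, hE, hmax⟩ := Finset.exists_max_image
    (Finset.univ.filter fun F : Subgroup G => Cfsg.IsElementaryAbelian 2 F) (fun F => Nat.card ↥F)
    ⟨⊥, by simpa using elemAb_bot⟩
  exact ⟨E, (Finset.mem_filter.1 hE).2, fun F hF => hmax F (by simpa using hF)⟩

theorem IsMaxTwo.mem {E : Subgroup G} (hE : IsMaxTwo E) {x : G} (hx2 : x ^ 2 = 1)
    (hc : ∀ e ∈ E, e * x = x * e) : x ∈ E := by
  have hel : Cfsg.IsElementaryAbelian 2 (E ⊔ zpowers x) :=
    elemAb_sup hE.1 (elemAb_zpowers hx2) (le_centralizer_iff.2 (zpowers_le.2 (mem_centralizer_iff.2 hc)))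
  exact (eq_of_le_of_card_ge le_sup_left (hE.2 _ hel)).ge (mem_sup_right (mem_zpowers x))

theorem IsMaxTwo.conj {E : Subgroup G} (hE : IsMaxTwo E) (g : G) :
    IsMaxTwo (E.map (MulAut.conj g).toMonoidHom) :=
  ⟨elemAb_map _ hE.1, fun F hF => (hE.2 F hF).trans_eq
    (card_map_of_injective (MulAut.conj g).injective).symm⟩

/-- A normalizer of an abelian group containing `E` normalizes `E`. -/
theorem IsMaxTwo.normalizer_le {E B : Subgroup G} (hE : IsMaxTwo E) (hEB : E ≤ B)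
    (hB : IsMulCommutative ↥B) : normalizer (B : Set G) ≤ normalizer (E : Set G) := by
  refine Comp.le_normalizer_of_conj_mem fun g hg x hx => hE.mem ?_ fun e he => ?_
  · rw [conj_pow, hE.1.2 x hx, mul_one, mul_inv_cancel]
  · exact congrArg Subtype.val (hB.is_comm.comm ⟨e, hEB he⟩
      ⟨g * x * g⁻¹, (mem_normalizer_iff.1 hg x).1 (hEB hx)⟩)

theorem AbExpSit.exists_sylow (h : AbExpSit p G) {E : Subgroup G} (hE : IsMaxTwo E) :
    ∃ S : Sylow 2 G, E ≤ (S : Subgroup G) ∧ IsMulCommutative ↥(S : Subgroup G) ∧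
      (∀ x ∈ (S : Subgroup G), x ^ 2 = 1 → x ∈ E) ∧ (S : Subgroup G) ≤ normalizer (E : Set G) ∧
      normalizer ((S : Subgroup G) : Set G) ≤ normalizer (E : Set G) := by
  haveI : Fact (Nat.Prime 2) := ⟨Nat.prime_two⟩
  obtain ⟨S, hS⟩ := (elemAb_isPGroup hE.1).exists_le_sylow
  have hSc := h.abexp.sylow_two_comm h.ne_two S
  refine ⟨S, hS, hSc, fun x hx hx2 => hE.mem hx2 fun e he =>
    congrArg Subtype.val (hSc.is_comm.comm ⟨e, hS he⟩ ⟨x, hx⟩),
    le_normalizer.trans (hE.normalizer_le hS hSc), hE.normalizer_le hS hSc⟩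

theorem IsMaxTwo.ne_bot (h : AbExpSit p G) {E : Subgroup G} (hE : IsMaxTwo E) : E ≠ ⊥ := by
  haveI : Fact (Nat.Prime 2) := ⟨Nat.prime_two⟩
  intro e
  obtain ⟨t, ht⟩ := exists_prime_orderOf_dvd_card' 2 h.even_card
  have ht2 : t ^ 2 = 1 := by rw [← ht]; exact pow_orderOf_eq_one t
  have h1 := hE.2 _ (elemAb_zpowers ht2)
  rw [Nat.card_zpowers, ht, e, card_bot] at h1
  omega

/-- Every involution has a conjugate in `E`. -/
theorem AbExpSit.exists_conj_mem (h : AbExpSit p G) {E : Subgroup G} (hE : IsMaxTwo E) {t : G}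
    (ht : t ^ 2 = 1) : ∃ g : G, g * t * g⁻¹ ∈ E := by
  haveI : Fact (Nat.Prime 2) := ⟨Nat.prime_two⟩
  obtain ⟨S, -, -, hS, -⟩ := h.exists_sylow hE
  obtain ⟨T, hT⟩ := (elemAb_isPGroup (elemAb_zpowers ht)).exists_le_sylow
  obtain ⟨g, hg⟩ := MulAction.exists_smul_eq G T S
  refine ⟨g, hS _ ?_ (by rw [conj_pow, ht, mul_one, mul_inv_cancel])⟩
  rw [← hg]
  exact ⟨t, hT (mem_zpowers t), rfl⟩

/-- `N(E)` contains a `p`-element not centralizing `E`. -/
theorem AbExpSit.exists_moving (h : AbExpSit p G) {E : Subgroup G} (hE : IsMaxTwo E) :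
    ∃ z ∈ normalizer (E : Set G), z ∉ centralizer (E : Set G) ∧ ∃ i : ℕ, orderOf z = p ^ i := by
  haveI : Fact (Nat.Prime 2) := ⟨Nat.prime_two⟩
  haveI := h.simple
  obtain ⟨S, hES, hSc, hS, -, hSN⟩ := h.exists_sylow hE
  have hSp := coprime_of_two_group h.ne_two S.2
  obtain ⟨g, hg, hgc⟩ := SetLike.not_le_iff_exists.1 fun hle =>
    Transfer.not_hasNormalPComplement_of_simple (fun hc => h.nsolv (isSolvable_of_comm fun x y => hc.is_comm.comm x y)) h.even_card
      (Transfer.hasNormalPComplement_of_normalizer_le_centralizer S hle)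
  obtain ⟨z, hz, hzc, i, hi⟩ := exists_pElement_not_mem (p := p) hgc fun x hx hxp =>
    h.abexp.le_centralizer_of_le_normalizer hSp (by rwa [Nat.card_zpowers])
      ((zpowers_le.2 (zpowers_le.2 hg hx))) (mem_zpowers x)
  have hzS : z ∈ normalizer ((S : Subgroup G) : Set G) := zpowers_le.2 hg hz
  refine ⟨z, hSN hzS, fun hzE => hzc ?_, i, hi⟩
  refine Complement.mem_centralizer_of_fixes_omega (p := 2) ?_ S.2 hzS ?_ fun y hy hy2 =>
    mem_centralizer_iff.1 hzE y (hS y hy hy2)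
  · exact le_centralizer_iff_isMulCommutative.2 hSc
  · rw [hi]
    exact Nat.Coprime.pow_left _ ((Nat.coprime_primes hp.out Nat.prime_two).2 h.ne_two)

/-- `|E| ≥ 8`. -/
theorem AbExpSit.eight_le (h : AbExpSit p G) {E : Subgroup G} (hE : IsMaxTwo E) :
    2 ^ 3 ≤ Nat.card ↥E := by
  haveI : Fact (Nat.Prime 2) := ⟨Nat.prime_two⟩
  obtain ⟨z, hz, hzc, i, hi⟩ := h.exists_moving hE
  rw [mem_centralizer_iff] at hzc
  push Not at hzc
  obtain ⟨e, he, hze⟩ := hzc
  let f : ↥E →* ↥E := (normalizerMonoidHom E ⟨z, hz⟩).toMonoidHom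
  have hper : Function.IsPeriodicPt f (p ^ i) ⟨e, he⟩ := by
    have hit : ∀ k : ℕ, ((f^[k] ⟨e, he⟩ : ↥E) : G) = z ^ k * e * (z ^ k)⁻¹ := by
      intro k
      induction k with
      | zero => simp
      | succ k ih =>
        rw [Function.iterate_succ_apply']
        change z * ((f^[k] ⟨e, he⟩ : ↥E) : G) * z⁻¹ = _
        rw [ih, pow_succ']
        group
    refine Subtype.ext ((hit _).trans ?_)
    rw [← hi, pow_orderOf_eq_one, one_mul, inv_one, mul_one]
  have hdvd := hper.minimalPeriod_dvd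
  obtain ⟨j, -, hj⟩ := (Nat.dvd_prime_pow hp.out).1 hdvd
  have hj0 : j ≠ 0 := fun e0 => hze (by
    subst e0
    rw [pow_zero, Function.minimalPeriod_eq_one_iff_isFixedPt] at hj
    exact (mul_inv_eq_iff_eq_mul.1 (congrArg Subtype.val hj)).symm)
  have hle : Function.minimalPeriod f ⟨e, he⟩ ≤ Nat.card ↥E := by
    rw [← Nat.card_fin (Function.minimalPeriod f ⟨e, he⟩)]
    exact Nat.card_le_card_of_injective (fun k => f^[(k : ℕ)] ⟨e, he⟩) fun a b hab =>
      Fin.ext (Function.iterate_injOn_Iio_minimalPeriod a.2 b.2 hab)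
  rw [hj] at hle
  have h5 : 5 ≤ p ^ j := h.p5.trans (Nat.le_self_pow hj0 p)
  obtain ⟨m, hm⟩ := IsPGroup.iff_card.1 (elemAb_isPGroup hE.1)
  rw [hm] at hle ⊢
  refine Nat.pow_le_pow_right two_pos ?_
  by_contra hm3
  have : 2 ^ m ≤ 4 := (Nat.pow_le_pow_right two_pos (by omega : m ≤ 2)).trans_eq rfl
  omega

/-- The structure of a proper subgroup containing `E`. -/
theorem AbExpSit.le_pCore_sup_normalizer (h : AbExpSit p G) {E H : Subgroup G} (hE : IsMaxTwo E)
    (hEH : E ≤ H) (hH : H ≠ ⊤) :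
    H ≤ (Cfsg.pCore p ↥H).map H.subtype ⊔ normalizer (E : Set G) := by
  haveI := h.proper H hH
  obtain ⟨B, hEB, -, hBc, -, -, htop, -⟩ := (h.abexp.subgroup H).exists_hall (E := E.subgroupOf H) (by
    rw [Nat.card_congr (subgroupOfEquivOfLe hEH).toEquiv]
    exact coprime_of_two_group h.ne_two (elemAb_isPGroup hE.1))
  have hB' : IsMulCommutative ↥(B.map H.subtype) := by
    refine le_centralizer_iff_isMulCommutative.1 ?_
    rintro _ ⟨a, ha, rfl⟩ _ ⟨b, hb, rfl⟩
    exact congrArg (fun x : ↥B => ((x : ↥H) : G)) (hBc.is_comm.comm ⟨b, hb⟩ ⟨a, ha⟩)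
  have hle : E ≤ B.map H.subtype := fun x hx => ⟨⟨x, hEH hx⟩, hEB (mem_subgroupOf.2 hx), rfl⟩
  intro x hx
  have h1 : (⟨x, hx⟩ : ↥H) ∈ Cfsg.pCore p ↥H ⊔ normalizer (B : Set ↥H) := htop.ge (mem_top _)
  have h2 := mem_map_of_mem H.subtype h1
  rw [Subgroup.map_sup] at h2
  exact sup_le_sup_left ((le_normalizer_map H.subtype).trans (hE.normalizer_le hle hB')) _ h2

theorem AbExpSit.centralizer_le_bigLocal (h : AbExpSit p G) {E : Subgroup G} (hE : IsMaxTwo E) {a : G}
    (ha : a ∈ E) (ha1 : a ≠ 1) : centralizer ({a} : Set G) ≤ bigLocal p E := by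
  refine (h.le_pCore_sup_normalizer hE (fun e he => mem_centralizer_singleton_iff.2
    (elemAb_comm hE.1 he ha)) (h.centralizer_ne_top ha1)).trans (sup_le_sup_right ?_ _)
  exact le_iSup (fun a : {a : G // a ∈ E ∧ a ≠ 1} => locCore p (a : G)) ⟨a, ha, ha1⟩

theorem isPGroup_locCore (a : G) : IsPGroup p ↥(locCore p a) := (Comp.isPGroup_pCore p _).map _

theorem locCore_le (a : G) : locCore p a ≤ centralizer ({a} : Set G) := map_subtype_le _

theorem centralizer_le_normalizer_locCore (a : G) :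
    centralizer ({a} : Set G) ≤ normalizer (locCore p a : Set G) := by
  refine Comp.le_normalizer_of_conj_mem ?_
  rintro c hc _ ⟨u, hu, rfl⟩
  exact ⟨⟨c, hc⟩ * u * ⟨c, hc⟩⁻¹, (Cfsg.pCore_normal p _).conj_mem u hu ⟨c, hc⟩, rfl⟩

theorem AbExpSit.isSolvableSignalizerFunctor (h : AbExpSit p G) {E : Subgroup G} (hE : IsMaxTwo E) :
    Cfsg.IsSolvableSignalizerFunctor 2 E (locCore p) := by
  haveI : Fact (Nat.Prime 2) := ⟨Nat.prime_two⟩
  refine ⟨⟨fun a _ _ => locCore_le a, fun a _ _ hd => ?_, fun a ha _ b hb x hx => ?_, ?_⟩,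
    fun a _ _ => ?_⟩
  · obtain ⟨m, hm⟩ := IsPGroup.iff_card.1 (isPGroup_locCore (p := p) a)
    rw [hm] at hd
    exact h.ne_two ((Nat.prime_dvd_prime_iff_eq Nat.prime_two hp.out).1
      (Nat.prime_two.dvd_of_dvd_pow hd)).symm
  · exact (mem_normalizer_iff.1 (centralizer_le_normalizer_locCore a
      (mem_centralizer_singleton_iff.2 (elemAb_comm hE.1 hb ha))) x).1 hx
  · intro a ha _ b hb hb1
    obtain ⟨C, hC⟩ : ∃ C, C = centralizer ({b} : Set G) := ⟨_, rfl⟩
    haveI := h.proper C (hC ▸ h.centralizer_ne_top hb1)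
    have hEC : E ≤ C := fun e he => hC ▸ mem_centralizer_singleton_iff.2 (elemAb_comm hE.1 he hb)
    obtain ⟨B, hEB, hBp, hBc, -, hn, -, hself⟩ := (h.abexp.subgroup C).exists_hall (E := E.subgroupOf C) (by
      rw [Nat.card_congr (subgroupOfEquivOfLe hEC).toEquiv]
      exact coprime_of_two_group h.ne_two (elemAb_isPGroup hE.1))
    have hBa : ∀ c ∈ B, (c : G) ∈ centralizer ({a} : Set G) := fun c hc =>
      mem_centralizer_singleton_iff.2 (congrArg (fun x : ↥B => ((x : ↥C) : G))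
        (hBc.is_comm.comm ⟨c, hc⟩ ⟨⟨a, hEC ha⟩, hEB (mem_subgroupOf.2 ha)⟩))
    have key : (locCore p a).subgroupOf C ≤ Cfsg.pCore p ↥C := by
      refine le_pCore_of_normalized hBp hn hself (isPGroup_locCore a).comap_subtype
        (Comp.le_normalizer_of_conj_mem fun c hc x hx => ?_)
      exact (mem_normalizer_iff.1 (centralizer_le_normalizer_locCore a (hBa c hc)) (x : G)).1 hx
    intro x hx
    rw [← hC] at hx
    show x ∈ locCore p b
    rw [locCore, ← hC]
    exact ⟨⟨x, hx.2⟩, key (mem_subgroupOf.2 hx.1), rfl⟩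
  · haveI := (isPGroup_locCore (p := p) a).isNilpotent
    infer_instance

theorem AbExpSit.bigLocal_ne_top (h : AbExpSit p G) {E : Subgroup G} (hE : IsMaxTwo E) :
    bigLocal p E ≠ ⊤ := by
  haveI : Fact (Nat.Prime 2) := ⟨Nat.prime_two⟩
  haveI := h.simple
  obtain ⟨-, X, -, hX2, hX⟩ := Cfsg.Agent.S1285.result 2 E hE.1 (h.eight_le hE) (locCore p)
    (h.isSolvableSignalizerFunctor hE) p fun a _ _ => isPGroup_locCore a
  obtain ⟨W, hWdef⟩ : ∃ W, W = Cfsg.signalizerClosure E (locCore p) := ⟨_, rfl⟩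
  have hW2 : ¬ 2 ∣ Nat.card ↥W := fun hd => hX2 (hd.trans (card_dvd_of_le (hWdef ▸ iSup_le fun a =>
    (hX a a.2.1 a.2.2).ge.trans inf_le_left)))
  have hWtop : W ≠ ⊤ := fun e => hW2 (by rw [e, card_top]; exact h.even_card)
  have hNW : normalizer (E : Set G) ≤ normalizer (W : Set G) := by
    intro n hn
    rw [mem_normalizer_iff_map_conj_eq]
    refine eq_of_le_of_card_ge ?_ (card_map_of_injective (MulAut.conj n).injective).ge
    rw [hWdef, Cfsg.signalizerClosure, Subgroup.map_iSup]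
    refine iSup_le fun a => ?_
    refine le_trans ?_ (le_iSup (fun a : {a : G // a ∈ E ∧ a ≠ 1} => locCore p (a : G))
      ⟨n * a * n⁻¹, (mem_normalizer_iff.1 hn a).1 a.2.1, fun e => a.2.2 (conj_eq_one_iff.1 e)⟩)
    have hcc : (centralizer ({(a : G)} : Set G)).map (MulAut.conj n).toMonoidHom =
        centralizer ({n * a * n⁻¹} : Set G) := by
      ext y
      rw [mem_map_equiv, mem_centralizer_singleton_iff, mem_centralizer_singleton_iff,
        MulAut.conj_symm_apply]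
      constructor
      · intro e
        calc y * (n * a * n⁻¹) = n * ((n⁻¹ * y * n) * a) * n⁻¹ := by group
          _ = n * (a * (n⁻¹ * y * n)) * n⁻¹ := by rw [e]
          _ = _ := by group
      · intro e
        calc n⁻¹ * y * n * a = n⁻¹ * (y * (n * a * n⁻¹)) * n := by group
          _ = n⁻¹ * ((n * a * n⁻¹) * y) * n := by rw [e]
          _ = _ := by group
    rintro _ ⟨_, ⟨u, hu, rfl⟩, rfl⟩
    let φ : ↥(centralizer ({(a : G)} : Set G)) ≃* ↥(centralizer ({n * a * n⁻¹} : Set G)) :=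
      ((MulAut.conj n).subgroupMap (centralizer ({(a : G)} : Set G))).trans (MulEquiv.subgroupCongr hcc)
    refine ⟨φ u, ?_, rfl⟩
    have hle : (Cfsg.pCore p ↥(centralizer ({(a : G)} : Set G))).map φ.toMonoidHom ≤ Cfsg.pCore p _ :=
      le_sSup ⟨(Cfsg.pCore_normal p _).map _ φ.surjective, (Comp.isPGroup_pCore p _).map _⟩
    exact hle (mem_map_of_mem φ.toMonoidHom hu)
  intro htop
  rw [bigLocal, ← hWdef] at htop
  by_cases hW1 : W = ⊥
  · rw [hW1, bot_sup_eq] at htop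
    refine h.normalizer_ne_top (hE.ne_bot h) (fun e => h.nsolv ?_) htop
    exact isSolvable_of_comm fun x y => elemAb_comm hE.1 (e.ge (mem_top x)) (e.ge (mem_top y))
  · exact h.normalizer_ne_top hW1 hWtop (eq_top_iff.2 (htop ▸ sup_le le_normalizer hNW))

/-- `bigLocal p E` is the unique maximal subgroup containing `E`. -/
theorem AbExpSit.le_bigLocal (h : AbExpSit p G) {E H : Subgroup G} (hE : IsMaxTwo E) (hEH : E ≤ H)
    (hH : H ≠ ⊤) : H ≤ bigLocal p E := by
  haveI : Fact (Nat.Prime 2) := ⟨Nat.prime_two⟩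
  refine (h.le_pCore_sup_normalizer hE hEH hH).trans (sup_le ?_ le_sup_right)
  obtain ⟨R, hRdef⟩ : ∃ R, R = (Cfsg.pCore p ↥H).map H.subtype := ⟨_, rfl⟩
  rw [← hRdef]
  have hR2 : ¬ 2 ∣ Nat.card ↥R := fun hd => by
    obtain ⟨m, hm⟩ := IsPGroup.iff_card.1 (hRdef ▸ (Comp.isPGroup_pCore p ↥H).map H.subtype : IsPGroup p ↥R)
    rw [hm] at hd
    exact h.ne_two ((Nat.prime_dvd_prime_iff_eq Nat.prime_two hp.out).1
      (Nat.prime_two.dvd_of_dvd_pow hd)).symm
  have hER : E ≤ normalizer (R : Set G) := by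
    refine Comp.le_normalizer_of_conj_mem fun e he x hx => ?_
    rw [hRdef] at hx ⊢
    obtain ⟨u, hu, rfl⟩ := hx
    exact ⟨⟨e, hEH he⟩ * u * ⟨e, hEH he⟩⁻¹, (Cfsg.pCore_normal p _).conj_mem u hu ⟨e, hEH he⟩, rfl⟩
  rw [Comp.eq_iSup_centralizer_hyperplane hE.1 (hE.ne_bot h) hR2 hER]
  refine iSup_le fun B => ?_
  obtain ⟨a, ha, ha1⟩ := (bot_or_exists_ne_one (B : Subgroup G)).resolve_left fun e => by
    have h1 := B.2.2
    rw [e, relIndex_bot_left] at h1
    have := h.eight_le hE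
    omega
  exact inf_le_right.trans ((centralizer_le (Set.singleton_subset_iff.2 ha)).trans
    (h.centralizer_le_bigLocal hE (B.2.1 ha) ha1))

theorem AbExpSit.isStronglyEmbedded (h : AbExpSit p G) {E : Subgroup G} (hE : IsMaxTwo E) :
    Cfsg.IsStronglyEmbedded (bigLocal p E) := by
  haveI : Fact (Nat.Prime 2) := ⟨Nat.prime_two⟩
  obtain ⟨S, hES, hSc, hS, hSN, hNS⟩ := h.exists_sylow hE
  have hSM : (S : Subgroup G) ≤ bigLocal p E := hSN.trans le_sup_right
  have hinto : ∀ t ∈ bigLocal p E, orderOf t = 2 → ∃ m ∈ bigLocal p E, m * t * m⁻¹ ∈ E := by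
    intro t ht ht2
    have hT : IsPGroup 2 ↥(zpowers (⟨t, ht⟩ : ↥(bigLocal p E))) :=
      elemAb_isPGroup (elemAb_zpowers (Subtype.ext (by
        show t ^ 2 = 1
        rw [← ht2]; exact pow_orderOf_eq_one t)))
    obtain ⟨T, hT⟩ := hT.exists_le_sylow
    obtain ⟨m, hm⟩ := MulAction.exists_smul_eq ↥(bigLocal p E) T (S.subtype hSM)
    refine ⟨m, m.2, hS _ ?_ (by rw [conj_pow, ← ht2, pow_orderOf_eq_one, mul_one, mul_inv_cancel])⟩
    have h1 : m * (⟨t, ht⟩ : ↥(bigLocal p E)) * m⁻¹ ∈ ((S.subtype hSM : Sylow 2 ↥(bigLocal p E)) : Subgroup _) := by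
      rw [← hm]
      exact ⟨_, hT (mem_zpowers _), rfl⟩
    exact h1
  have hev : Even (Nat.card ↥(bigLocal p E)) := by
    obtain ⟨m, hm⟩ := IsPGroup.iff_card.1 (elemAb_isPGroup hE.1)
    have h8 := h.eight_le hE
    refine even_iff_two_dvd.2 ((dvd_trans ⟨2 ^ (m - 1), ?_⟩
      (card_dvd_of_le (hES.trans hSM))) : 2 ∣ _)
    rw [hm] at h8 ⊢
    rw [← pow_succ', Nat.sub_add_cancel (by
      by_contra hm0
      simp [show m = 0 by omega] at h8)]
  refine (Cfsg.Agent.S0223.result _ (h.bigLocal_ne_top hE) hev).2 ⟨fun t ht ht2 => ?_, ?_⟩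
  · obtain ⟨m, hm, he⟩ := hinto t ht ht2
    have hne : m * t * m⁻¹ ≠ 1 := fun e => by
      rw [conj_eq_one_iff.1 e, orderOf_one] at ht2; omega
    intro c hc
    have h1 : m * c * m⁻¹ ∈ bigLocal p E := h.centralizer_le_bigLocal hE he hne
      (mem_centralizer_singleton_iff.2 (by
        calc m * c * m⁻¹ * (m * t * m⁻¹) = m * (c * t) * m⁻¹ := by group
          _ = m * (t * c) * m⁻¹ := by rw [mem_centralizer_singleton_iff.1 hc]
          _ = _ := by group))
    rw [show c = m⁻¹ * (m * c * m⁻¹) * m by group]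
    exact mul_mem (mul_mem (inv_mem hm) h1) hm
  · intro t ht s hs ht2 hs2 hconj
    obtain ⟨m, hm, hme⟩ := hinto t ht ht2
    obtain ⟨m', hm', hme'⟩ := hinto s hs hs2
    obtain ⟨g, hg⟩ := isConj_iff.1 hconj
    haveI := hSc
    obtain ⟨v, hv, hve⟩ := Transfer.abelian_sylow_controls S _ (hES hme) (m' * g * m⁻¹)
      (by
        rw [show m' * g * m⁻¹ * (m * t * m⁻¹) * (m' * g * m⁻¹)⁻¹ = m' * (g * t * g⁻¹) * m'⁻¹ by group, hg]
        exact hES hme')
    refine ⟨m'⁻¹ * v * m, mul_mem (mul_mem (inv_mem hm') ((hNS.trans le_sup_right) hv)) hm, ?_⟩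
    calc m'⁻¹ * v * m * t * (m'⁻¹ * v * m)⁻¹ = m'⁻¹ * (v * (m * t * m⁻¹) * v⁻¹) * m' := by group
      _ = m'⁻¹ * (m' * g * m⁻¹ * (m * t * m⁻¹) * (m' * g * m⁻¹)⁻¹) * m' := by rw [hve]
      _ = g * t * g⁻¹ := by group
      _ = s := hg

end CfsgLib.PLocal
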