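import Cfsg.Agent.Lib.PLocal.AbExpFinal
import Cfsg.Agent.Lib.Solvable.MinNormal
import Cfsg.Agent.Lib.Char.Burnside

/-!
A group whose `p'`-subgroups are abelian of exponent dividing `p - 1` is solvable.
-/

set_option autoImplicit false
set_option linter.style.haveILetI false
set_option linter.unusedSectionVars false

namespace CfsgLib.PLocal

open Subgroup

universe u

variable {G : Type u} [Group G] [Finite G] {p : ℕ} [hp : Fact p.Prime]

/-- The condition passes to quotients by normal subgroups of prime power order. -/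
theorem IsAbExp.quotient (h : IsAbExp p G) {N : Subgroup G} [N.Normal] {q : ℕ} [hq : Fact q.Prime]
    (hN : IsPGroup q ↥N) : IsAbExp p (G ⧸ N) := by
  intro H hH
  obtain ⟨π, hπ⟩ : ∃ π, π = QuotientGroup.mk' N := ⟨_, rfl⟩
  obtain ⟨K, hK, hKmap⟩ : ∃ K : Subgroup G, (Nat.card ↥K).Coprime p ∧ K.map π = H := by
    obtain ⟨m, hm⟩ := IsPGroup.iff_card.1 hN
    obtain ⟨L, hL⟩ : ∃ L, L = H.comap π := ⟨_, rfl⟩
    have hNL : N ≤ L := by
      intro x hx
      rw [hL, mem_comap, hπ]
      show QuotientGroup.mk' N x ∈ H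
      rw [show QuotientGroup.mk' N x = 1 from (QuotientGroup.eq_one_iff x).2 hx]
      exact H.one_mem
    have hLH : L.map π = H := by
      rw [hL]
      exact map_comap_eq_self_of_surjective (hπ ▸ QuotientGroup.mk'_surjective N) H
    have hcard : Nat.card ↥L = Nat.card ↥H * Nat.card ↥N := by
      have h1 := Coprime.card_map_mul_card_ker π (S := L) (by rw [hπ, QuotientGroup.ker_mk']; exact hNL)
      rw [hLH, hπ, QuotientGroup.ker_mk'] at h1
      exact h1.symm
    by_cases hqp : q = p
    · subst hqp
      haveI : (N.subgroupOf L).Normal := Subgroup.Normal.subgroupOf ‹N.Normal› L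
      have hNc : Nat.card ↥(N.subgroupOf L) = Nat.card ↥N := Nat.card_congr (subgroupOfEquivOfLe hNL).toEquiv
      have hidx : (N.subgroupOf L).index = Nat.card ↥H := by
        have h1 := (N.subgroupOf L).card_mul_index
        rw [hNc, hcard, mul_comm (Nat.card ↥H)] at h1
        exact Nat.eq_of_mul_eq_mul_left Nat.card_pos h1
      obtain ⟨C, hC⟩ := exists_right_complement'_of_coprime (N := N.subgroupOf L)
        (by rw [hidx, hNc, hm]; exact (hH.pow_right m).symm)
      refine ⟨C.map L.subtype, ?_, ?_⟩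
      · rw [card_map_of_injective L.subtype_injective]
        have h2 := hC.card_mul
        rw [hNc, hcard, mul_comm (Nat.card ↥H)] at h2
        rw [Nat.eq_of_mul_eq_mul_left Nat.card_pos h2]
        exact hH
      · have hbot : N.map π = ⊥ := by rw [hπ, QuotientGroup.map_mk'_self]
        refine le_antisymm ((map_mono (map_subtype_le C)).trans hLH.le) fun x hx => ?_
        rw [← hLH] at hx
        obtain ⟨l, hl, rfl⟩ := hx
        have h3 : (⟨l, hl⟩ : ↥L) ∈ N.subgroupOf L ⊔ C := hC.sup_eq_top ▸ mem_top _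
        have h4 := mem_map_of_mem (π.comp L.subtype) h3
        rw [Subgroup.map_sup, ← Subgroup.map_map, ← Subgroup.map_map] at h4
        rw [le_bot_iff.1 ((map_mono (subgroupOf_map_subtype N L ▸ inf_le_left)).trans hbot.le), bot_sup_eq] at h4
        exact h4
    · refine ⟨L, ?_, hLH⟩
      rw [hcard, hm]
      exact Nat.Coprime.mul_left hH (Nat.Coprime.pow_left _ ((Nat.coprime_primes hq.out hp.out).2 hqp))
  obtain ⟨hc, he⟩ := h K hK
  refine ⟨le_centralizer_iff_isMulCommutative.1 ?_, ?_⟩
  · rw [← hKmap]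
    rintro _ ⟨a, ha, rfl⟩ _ ⟨b, hb, rfl⟩
    rw [← map_mul, ← map_mul]
    exact congrArg π (congrArg Subtype.val (hc.is_comm.comm ⟨b, hb⟩ ⟨a, ha⟩))
  · rw [← hKmap]
    rintro _ ⟨a, ha, rfl⟩
    rw [← map_pow, he a ha, map_one]

/-- The small primes. -/
theorem IsAbExp.isSolvable_of_lt (h : IsAbExp p G) (hp5 : p < 5) : Group.IsSolvable G := by
  have hdiv : ∀ q : ℕ, q.Prime → q ∣ Nat.card G → q = 2 ∨ q = p := by
    intro q hq hqd
    haveI := Fact.mk hq
    by_contra hne
    push Not at hne
    obtain ⟨x, hx⟩ := exists_prime_orderOf_dvd_card' q hqd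
    have h1 := (h (zpowers x) (by rw [Nat.card_zpowers, hx]; exact (Nat.coprime_primes hq hp.out).2 hne.2)).2 x
      (mem_zpowers x)
    have h2 : q ∣ p - 1 := hx ▸ orderOf_dvd_of_pow_eq_one h1
    have hp2 := hp.out.two_le
    have hp4 : p ≠ 4 := fun e => by rw [e] at hp; exact absurd hp.out (by norm_num)
    have hle := Nat.le_of_dvd (by omega) h2
    have := hq.two_le
    omega
  obtain ⟨a, b, hab⟩ : ∃ a b, Nat.card G = 2 ^ a * p ^ b := by
    obtain ⟨a, m, hm, hcard⟩ :=
      Nat.exists_eq_pow_mul_and_not_dvd (Nat.card_pos (α := G)).ne' 2 (by norm_num)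
    refine ⟨a, m.primeFactorsList.length, ?_⟩
    rw [hcard]
    congr 1
    refine Nat.eq_prime_pow_of_unique_prime_dvd (fun e => hm (e ▸ dvd_zero 2)) fun {q} hq hqm => ?_
    rcases hdiv q hq (hcard ▸ hqm.mul_left _) with rfl | rfl
    · exact absurd hqm hm
    · rfl
  exact Char.burnside_pq 2 p Nat.prime_two hp.out a b G hab

/-- A group whose `p'`-subgroups are abelian of exponent dividing `p - 1` is solvable. -/
theorem IsAbExp.isSolvable (h : IsAbExp p G) : Group.IsSolvable G := by
  rcases lt_or_ge p 5 with hp5 | hp5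
  · exact h.isSolvable_of_lt hp5
  induction hn : Nat.card G using Nat.strong_induction_on generalizing G with
  | _ n ih =>
    subst hn
    by_contra hns
    haveI : Nontrivial G := by
      by_contra hnt
      rw [not_nontrivial_iff_subsingleton] at hnt
      exact hns (isSolvable_of_comm fun a b => Subsingleton.elim _ _)
    have hproper : ∀ H : Subgroup G, H ≠ ⊤ → Group.IsSolvable ↥H := fun H hH =>
      ih _ (lt_of_le_of_ne (card_le_card_group H) fun e => hH (eq_top_of_card_eq H e)) (h.subgroup H) rfl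
    have hsimple : IsSimpleGroup G := by
      refine ⟨fun N hN => or_iff_not_imp_left.2 fun hNbot => ?_⟩
      by_contra hNtop
      haveI := hproper N hNtop
      obtain ⟨M, hMn, hM1, hMN, hmin⟩ := Solvable.exists_minimal_normal_le hN hNbot
      haveI := hMn
      haveI : Group.IsSolvable ↥M := hproper M fun e => hNtop (eq_top_iff.2 (e ▸ hMN))
      obtain ⟨q, hq, hMq, -, -⟩ := Solvable.exists_isPGroup_of_minimal_normal hM1 hmin
      haveI := Fact.mk hq
      haveI : Group.IsSolvable (G ⧸ M) := ih _ (by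
        have h1 := M.card_eq_card_quotient_mul_card_subgroup
        have h2 := M.one_lt_card_iff_ne_bot.2 hM1
        rw [h1]
        exact lt_mul_of_one_lt_right Nat.card_pos h2) (h.quotient hMq) rfl
      exact hns (solvable_of_ker_le_range M.subtype (QuotientGroup.mk' M)
        (by rw [QuotientGroup.ker_mk', range_subtype]))
    exact AbExpSit.false_of_sit (p := p) ⟨hsimple, hns, hproper, h, hp5⟩

end CfsgLib.PLocal
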