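import Cfsg.Agent.Lib.PLocal.AbExpLocal

/-!
The strongly embedded subgroup is `N(E)`.
-/

set_option autoImplicit false
set_option linter.style.haveILetI false
set_option linter.unusedSectionVars false

namespace CfsgLib.PLocal

open Subgroup
open scoped commutatorElement

universe u

variable {G : Type u} [Group G] [Finite G] {p : ℕ} [hp : Fact p.Prime]

theorem AbExpSit.bigLocal_eq_normalizer (h : AbExpSit p G) {E : Subgroup G} (hE : IsMaxTwo E) :
    bigLocal p E = normalizer (E : Set G) := by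
  haveI : Fact (Nat.Prime 2) := ⟨Nat.prime_two⟩
  haveI := h.simple
  refine le_antisymm ?_ le_sup_right
  obtain ⟨M, hMdef⟩ : ∃ M, M = bigLocal p E := ⟨_, rfl⟩
  have hMne : M ≠ ⊤ := hMdef ▸ h.bigLocal_ne_top hE
  have hEM : E ≤ M := hMdef ▸ le_normalizer.trans le_sup_right
  obtain ⟨R, hRdef⟩ : ∃ R, R = (Cfsg.pCore p ↥M).map M.subtype := ⟨_, rfl⟩
  have hRp : IsPGroup p ↥R := hRdef ▸ (Comp.isPGroup_pCore p ↥M).map M.subtype
  have hRM : R ≤ M := hRdef ▸ map_subtype_le _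
  have hMR : M ≤ normalizer (R : Set G) := by
    refine Comp.le_normalizer_of_conj_mem fun c hc x hx => ?_
    rw [hRdef] at hx ⊢
    obtain ⟨u, hu, rfl⟩ := hx
    exact ⟨⟨c, hc⟩ * u * ⟨c, hc⟩⁻¹, (Cfsg.pCore_normal p _).conj_mem u hu ⟨c, hc⟩, rfl⟩
  rw [← hMdef]
  suffices hcent : R ≤ centralizer (E : Set G) by
    refine ((h.le_pCore_sup_normalizer hE hEM hMne).trans (sup_le ?_ le_rfl))
    exact hRdef ▸ hcent.trans (Subgroup.centralizer_le_normalizer _)
  by_contra hcon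
  have hnone : ∀ e ∈ E, e ≠ 1 → e ∉ centralizer (R : Set G) := by
    intro e he he1 hec
    refine hcon fun x hx => mem_centralizer_iff.2 fun f hf => ?_
    by_cases hf1 : f = 1
    · rw [hf1, one_mul, mul_one]
    have horder : ∀ y ∈ E, y ≠ 1 → orderOf y = 2 := fun y hy hy1 =>
      orderOf_eq_prime (hE.1.2 y hy) hy1
    obtain ⟨m, hm, hmef⟩ := ((Cfsg.Agent.S0223.result _ (h.bigLocal_ne_top hE)
      (h.isStronglyEmbedded hE).2.1).1 (h.isStronglyEmbedded hE)).2 e (hMdef ▸ hEM he) f (hMdef ▸ hEM hf)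
      (horder e he he1) (horder f hf hf1) (isConj_iff.2 (by
        obtain ⟨u, hu⟩ : ∃ u : G, orderOf u = 2 ∧ u ∉ bigLocal p E := by
          by_contra hc
          push Not at hc
          refine h.bigLocal_ne_top hE ?_
          rcases IsSimpleGroup.eq_bot_or_eq_top_of_normal (normalClosure {t : G | orderOf t = 2})
            normalClosure_normal with hb | ht
          · have hmem : e ∈ normalClosure {t : G | orderOf t = 2} :=
              subset_normalClosure (horder e he he1)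
            rw [hb, mem_bot] at hmem
            exact absurd hmem he1
          · refine eq_top_iff.2 (ht ▸ ?_)
            refine (closure_le _).2 fun t ht2 => ?_
            obtain ⟨u, hu, hut⟩ := Group.mem_conjugatesOfSet_iff.1 ht2
            obtain ⟨g, rfl⟩ := isConj_iff.1 hut
            exact hc _ ((orderOf_injective (MulAut.conj g).toMonoidHom (MulAut.conj g).injective u).trans hu)
        exact isConj_iff.1 ((Cfsg.Agent.S1225.result _ (h.isStronglyEmbedded hE) u hu.1 hu.2 e f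
          (horder e he he1) (hMdef ▸ hEM he) (horder f hf hf1) (hMdef ▸ hEM hf)).2 e f
          (horder e he he1) (horder f hf hf1))))
    rw [← hMdef] at hm
    rw [← hmef]
    have hx' : m⁻¹ * x * m ∈ R := by
      have := (mem_normalizer_iff.1 (hMR (inv_mem hm)) x).1 hx
      rwa [inv_inv] at this
    calc m * e * m⁻¹ * x = m * (e * (m⁻¹ * x * m)) * m⁻¹ := by group
      _ = m * ((m⁻¹ * x * m) * e) * m⁻¹ := by rw [mem_centralizer_iff.1 hec _ hx']
      _ = _ := by group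
  have hR1 : R ≠ ⊥ := fun e => hcon (e ▸ bot_le)
  have hRtop : R ≠ ⊤ := fun e => hMne (eq_top_iff.2 (e ▸ hRM))
  have hMeq : normalizer (R : Set G) ≤ M := hMdef ▸ h.le_bigLocal hE (hEM.trans hMR)
    (h.normalizer_ne_top hR1 hRtop)
  obtain ⟨P, hP⟩ := hRp.exists_le_sylow
  obtain ⟨Z, hZdef⟩ : ∃ Z, Z = Cfsg.centerThompsonAOf (P : Subgroup G) := ⟨_, rfl⟩
  have hctrl := controls_centerThompsonAOf h.ne_two (h.abexp.no_qd h.ne_two) P
  obtain ⟨L, hLdef⟩ : ∃ L, L = normalizer (Z : Set G) := ⟨_, rfl⟩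
  have hPL : (P : Subgroup G) ≤ L := by
    rw [hLdef, hZdef]
    exact le_normalizer.trans (normalizer_le_normalizer_centerThompsonAOf _)
  have hLne : L ≠ ⊤ := by
    rw [hLdef]
    refine h.normalizer_ne_top ?_ fun e => ?_
    · intro e
      have hne : (P : Subgroup G) ≠ ⊥ := fun e' => hR1 (le_bot_iff.1 (e' ▸ hP))
      haveI := (Subgroup.nontrivial_iff_ne_bot _).2 hne
      haveI := P.2.center_nontrivial
      obtain ⟨⟨⟨x, hxP⟩, hx⟩, hx1⟩ := exists_ne (1 : center ↥(P : Subgroup G))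
      have hxZ : x ∈ Z := hZdef ▸ mem_centerThompsonAOf hxP fun z hz =>
        congrArg Subtype.val (mem_center_iff.1 hx ⟨z, thompsonAOf_le _ hz⟩)
      rw [e, mem_bot] at hxZ
      exact hx1 (Subtype.ext (Subtype.ext hxZ))
    · refine h.nsolv ?_
      have hPtop : (P : Subgroup G) = ⊤ := eq_top_iff.2 (e ▸ hZdef ▸ centerThompsonAOf_le _)
      haveI := (P.2.of_equiv ((MulEquiv.subgroupCongr hPtop).trans Subgroup.topEquiv)).isNilpotent
      infer_instance
  have hres : Cfsg.pResidual p G = ⊤ := by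
    rcases IsSimpleGroup.eq_bot_or_eq_top_of_normal (Cfsg.pResidual p G) Transfer.pResidual_normal with hb | ht
    · refine absurd ?_ h.nsolv
      have hG : IsPGroup p G := fun g => by
        obtain ⟨i, r, hr, hord⟩ := Nat.exists_eq_pow_mul_and_not_dvd (orderOf_pos g).ne' p hp.out.ne_one
        refine ⟨i, mem_bot.1 (hb ▸ Transfer.mem_pResidual_of_coprime ?_)⟩
        rw [orderOf_pow' g (pow_ne_zero _ hp.out.ne_zero), hord, Nat.gcd_mul_right_left,
          Nat.mul_div_cancel_left _ (pow_pos hp.out.pos i)]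
        exact (hp.out.coprime_iff_not_dvd.2 hr).symm
      haveI := hG.isNilpotent
      infer_instance
    · exact ht
  have hPn : L ≤ normalizer ((P : Subgroup G) : Set G) := by
    haveI := h.proper L hLne
    have hfoc := Transfer.inf_pResidual_eq_of_controls P hPL fun x hx g hg => by
      obtain ⟨v, hv, hve⟩ := (hctrl {x} (Set.singleton_subset_iff.2 hx)).2 g (by
        rintro _ ⟨y, rfl, rfl⟩
        exact hg)
      exact ⟨v, hLdef ▸ hZdef ▸ hv, (hve x rfl).symm⟩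
    rw [hres, inf_top_eq] at hfoc
    have hP' : (P : Subgroup G).subgroupOf L ≤ Cfsg.pCore p ↥L := by
      refine (h.abexp.subgroup L).le_pCore_of_le_pResidual P.2.comap_subtype fun x hx => ?_
      obtain ⟨u, hu, hux⟩ := (hfoc.le (mem_subgroupOf.1 hx)).2
      rwa [← Subtype.ext hux]
    have heq : (P : Subgroup G) = (Cfsg.pCore p ↥L).map L.subtype := by
      refine (P.3 ((Comp.isPGroup_pCore p ↥L).map _) fun x hx => ?_).symm
      exact ⟨⟨x, hPL hx⟩, hP' hx, rfl⟩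
    refine Comp.le_normalizer_of_conj_mem fun c hc x hx => ?_
    rw [heq] at hx ⊢
    obtain ⟨u, hu, rfl⟩ := hx
    exact ⟨⟨c, hc⟩ * u * ⟨c, hc⟩⁻¹, (Cfsg.pCore_normal p _).conj_mem u hu ⟨c, hc⟩, rfl⟩
  obtain ⟨z, hz, hzc, i, hi⟩ := h.exists_moving hE
  refine hzc (mem_centralizer_iff.2 fun a ha => ?_)
  have hzM : z ∈ M := hMdef ▸ mem_sup_right hz
  obtain ⟨φ, hφdef⟩ : ∃ φ, φ = normalizerMonoidHom R := ⟨_, rfl⟩
  have hact : ∀ g : G, ∀ hg : g ∈ normalizer (R : Set G), ∃ x : G, x ∈ normalizer ((P : Subgroup G) : Set G) ∧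
      ∃ hx : x ∈ normalizer (R : Set G), φ ⟨g, hg⟩ = φ ⟨x, hx⟩ := by
    intro g hg
    obtain ⟨x, hx, hxe⟩ := (hctrl (R : Set G) hP).2 g (by
      rintro _ ⟨r, hr, rfl⟩
      exact hP ((mem_normalizer_iff.1 hg r).1 hr))
    have hxR : x ∈ normalizer (R : Set G) := by
      rw [mem_normalizer_iff_map_conj_eq]
      conv_rhs => rw [← mem_normalizer_iff_map_conj_eq.1 hg]
      refine le_antisymm ?_ ?_ <;> rintro _ ⟨r, hr, rfl⟩
      · exact ⟨r, hr, hxe r hr⟩
      · exact ⟨r, hr, (hxe r hr).symm⟩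
    exact ⟨x, hPn (hLdef ▸ hZdef ▸ hx), hxR, hφdef ▸ MulEquiv.ext fun r => Subtype.ext (hxe r r.2)⟩
  obtain ⟨x, hxP, hxR, hxz⟩ := hact z (hMR hzM)
  obtain ⟨y, hyP, hyR, hya⟩ := hact a (hMR (hEM ha))
  have hx' : ∃ x' ∈ (P : Subgroup G), ∃ hx'R : x' ∈ normalizer (R : Set G),
      φ ⟨x', hx'R⟩ = φ ⟨z, hMR hzM⟩ := by
    obtain ⟨j, r, hr, hord⟩ := Nat.exists_eq_pow_mul_and_not_dvd (orderOf_pos x).ne' p hp.out.ne_one
    obtain ⟨s, hs1, hs0⟩ := Nat.chineseRemainder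
      (Nat.Coprime.pow_left i (hp.out.coprime_iff_not_dvd.2 hr) : (p ^ i).Coprime r) 1 0
    refine ⟨x ^ s, ?_, pow_mem hxR s, ?_⟩
    · have hpel : (x ^ s) ^ p ^ j = 1 := by
        obtain ⟨t, rfl⟩ : r ∣ s := Nat.modEq_zero_iff_dvd.1 hs0
        rw [← pow_mul, ← orderOf_dvd_iff_pow_eq_one, hord]
        exact ⟨t, by ring⟩
      have hsub : IsPGroup p ↥(zpowers (x ^ s)) := by
        rintro ⟨w, hw⟩
        obtain ⟨m, rfl⟩ := mem_zpowers_iff.1 hw
        refine ⟨j, Subtype.ext ?_⟩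
        show ((x ^ s) ^ m) ^ p ^ j = 1
        rw [← zpow_natCast ((x ^ s) ^ m), ← zpow_mul, mul_comm, zpow_mul, zpow_natCast, hpel, one_zpow]
      have hsup := hsub.to_sup_of_normal_right' P.2 (zpowers_le.2 (pow_mem hxP s))
      exact (P.3 hsup le_sup_right).le (mem_sup_left (mem_zpowers _))
    · show φ ((⟨x, hxR⟩ : ↥(normalizer (R : Set G))) ^ s) = _
      rw [map_pow, ← hxz]
      have hz1 : φ ⟨z, hMR hzM⟩ ^ p ^ i = 1 := by
        rw [← map_pow, ← map_one φ]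
        congr 1
        exact Subtype.ext (by rw [← hi]; exact pow_orderOf_eq_one z)
      rw [pow_eq_pow_mod s hz1, hs1, ← pow_eq_pow_mod 1 hz1, pow_one]
  obtain ⟨x', hx'P, hx'R, hx'z⟩ := hx'
  have hcE : ⁅z, a⁆ ∈ E := by
    rw [commutatorElement_def]
    exact E.mul_mem ((mem_normalizer_iff.1 hz a).1 ha) (E.inv_mem ha)
  have hcP : ⁅x', y⁆ ∈ (P : Subgroup G) := by
    rw [commutatorElement_def, mul_assoc, mul_assoc]
    refine (P : Subgroup G).mul_mem hx'P ?_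
    rw [← mul_assoc]
    exact (mem_normalizer_iff.1 hyP _).1 (inv_mem hx'P)
  obtain ⟨k, hk⟩ := P.2 ⟨_, hcP⟩
  have hzmem : ⁅z, a⁆ ∈ normalizer (R : Set G) := hMR (hEM hcE)
  have heq : φ ⟨⁅z, a⁆, hzmem⟩ = φ ⟨⁅x', y⁆, mul_mem (mul_mem (mul_mem hx'R hyR) (inv_mem hx'R)) (inv_mem hyR)⟩ := by
    have e1 : (⟨⁅z, a⁆, hzmem⟩ : ↥(normalizer (R : Set G))) =
        ⁅(⟨z, hMR hzM⟩ : ↥(normalizer (R : Set G))), (⟨a, hMR (hEM ha)⟩ : ↥(normalizer (R : Set G)))⁆ := rfl
    have e2 : (⟨⁅x', y⁆, mul_mem (mul_mem (mul_mem hx'R hyR) (inv_mem hx'R)) (inv_mem hyR)⟩ :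
        ↥(normalizer (R : Set G))) =
        ⁅(⟨x', hx'R⟩ : ↥(normalizer (R : Set G))), (⟨y, hyR⟩ : ↥(normalizer (R : Set G)))⁆ := rfl
    rw [e1, e2, map_commutatorElement, map_commutatorElement, hya, hx'z]
  have h2 : φ ⟨⁅z, a⁆, hzmem⟩ ^ 2 = 1 := by
    rw [← map_pow, ← map_one φ]
    congr 1
    exact Subtype.ext (hE.1.2 _ hcE)
  have h3 : φ ⟨⁅z, a⁆, hzmem⟩ ^ p ^ k = 1 := by
    rw [heq, ← map_pow, ← map_one φ]
    exact congrArg φ (Subtype.ext (congrArg (fun w : ↥(P : Subgroup G) => (w : G)) hk))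
  have h4 : φ ⟨⁅z, a⁆, hzmem⟩ = 1 := by
    rw [← orderOf_eq_one_iff, ← Nat.dvd_one,
      ← ((Nat.coprime_primes Nat.prime_two hp.out).2 (Ne.symm h.ne_two)).pow_right k |>.gcd_eq_one]
    exact Nat.dvd_gcd (orderOf_dvd_of_pow_eq_one h2) (orderOf_dvd_of_pow_eq_one h3)
  by_contra hza
  refine hnone _ hcE (fun e => hza (commutatorElement_eq_one_iff_mul_comm.1 e).symm) ?_
  rw [hφdef] at h4
  have h5 := (normalizerMonoidHom_ker R).le (MonoidHom.mem_ker.2 h4)
  exact mem_subgroupOf.1 h5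

end CfsgLib.PLocal
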