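import Mathlib.GroupTheory.FixedPointFree
import Cfsg.Agent.Lib.PLocal.AbExpNormal

/-!
Centralizers of elements inverted by an involution, in the minimal simple group of `AbExpSit`.
-/

set_option autoImplicit false
set_option linter.style.haveILetI false
set_option linter.unusedSectionVars false

namespace CfsgLib.PLocal

open Subgroup

universe u

variable {G : Type u} [Group G] [Finite G] {p : ℕ} [hp : Fact p.Prime]

theorem AbExpSit.le_normalizer_maxTwo (h : AbExpSit p G) {E H : Subgroup G} (hE : IsMaxTwo E)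
    (hEH : E ≤ H) (hH : H ≠ ⊤) : H ≤ normalizer (E : Set G) :=
  h.bigLocal_eq_normalizer hE ▸ h.le_bigLocal hE hEH hH

theorem AbExpSit.stronglyEmbedded_normalizer (h : AbExpSit p G) {E : Subgroup G} (hE : IsMaxTwo E) :
    Cfsg.IsStronglyEmbedded (normalizer (E : Set G)) :=
  h.bigLocal_eq_normalizer hE ▸ h.isStronglyEmbedded hE

/-- The involutions of `N(E)` lie in `E`. -/
theorem AbExpSit.mem_of_sq_eq_one (h : AbExpSit p G) {E : Subgroup G} (hE : IsMaxTwo E) {t : G}
    (ht : t ∈ normalizer (E : Set G)) (ht2 : t ^ 2 = 1) : t ∈ E := by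
  refine hE.mem ht2 fun e he => ?_
  exact mem_centralizer_iff.1 (h.abexp.le_centralizer_of_le_normalizer
    (coprime_of_two_group h.ne_two (elemAb_isPGroup hE.1))
    (coprime_of_two_group h.ne_two (elemAb_isPGroup (elemAb_zpowers ht2)))
    (zpowers_le.2 ht) (mem_zpowers t)) e he

/-- A subgroup of largest order contained in `N(E)` equals `E`. -/
theorem AbExpSit.eq_of_le_normalizer (h : AbExpSit p G) {E F : Subgroup G} (hE : IsMaxTwo E)
    (hF : IsMaxTwo F) (hle : F ≤ normalizer (E : Set G)) : F = E :=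
  eq_of_le_of_card_ge (fun x hx => h.mem_of_sq_eq_one hE (hle hx) (hF.1.2 x hx)) (hF.2 E hE.1)

theorem AbExpSit.not_mem_of_conj_eq (h : AbExpSit p G) {E : Subgroup G} {g : G}
    (hg : g ∉ normalizer (E : Set G)) : E.map (MulAut.conj g).toMonoidHom ≠ E :=
  fun e => hg (mem_normalizer_iff_map_conj_eq.2 e)

/-- Every involution lies in a conjugate of `E`. -/
theorem AbExpSit.exists_maxTwo_mem (h : AbExpSit p G) {t : G} (ht : t ^ 2 = 1) :
    ∃ F : Subgroup G, IsMaxTwo F ∧ t ∈ F := by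
  obtain ⟨E, hE⟩ := exists_isMaxTwo (G := G)
  obtain ⟨g, hg⟩ := h.exists_conj_mem hE ht
  exact ⟨_, hE.conj g⁻¹, ⟨g * t * g⁻¹, hg, show g⁻¹ * (g * t * g⁻¹) * g⁻¹⁻¹ = t by group⟩⟩

/-- The group `M ∩ Mᵘ` is a `p`-group. -/
theorem AbExpSit.isPGroup_inf_conj (h : AbExpSit p G) {E : Subgroup G} (hE : IsMaxTwo E) {u : G}
    (hu : u ∉ normalizer (E : Set G)) :
    IsPGroup p ↥(normalizer (E : Set G) ⊓ (normalizer (E : Set G)).map (MulAut.conj u).toMonoidHom) := by
  have key : ∀ d ∈ normalizer (E : Set G) ⊓ (normalizer (E : Set G)).map (MulAut.conj u).toMonoidHom,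
      (orderOf d).Coprime p → d = 1 := by
    intro d hd hdp
    by_contra hd1
    have hz : (Nat.card ↥(zpowers d)).Coprime p := by rwa [Nat.card_zpowers]
    have h1 : E ≤ centralizer ({d} : Set G) := fun e he => mem_centralizer_singleton_iff.2
      (mem_centralizer_iff.1 (h.abexp.le_centralizer_of_le_normalizer
        (coprime_of_two_group h.ne_two (elemAb_isPGroup hE.1)) hz (zpowers_le.2 hd.1) (mem_zpowers d)) e he)
    have h2 : E.map (MulAut.conj u).toMonoidHom ≤ centralizer ({d} : Set G) := fun e he =>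
      mem_centralizer_singleton_iff.2 (mem_centralizer_iff.1 (h.abexp.le_centralizer_of_le_normalizer
        (coprime_of_two_group h.ne_two (elemAb_isPGroup (hE.conj u).1)) hz
        (zpowers_le.2 ((le_normalizer_map _) hd.2)) (mem_zpowers d)) e he)
    exact h.not_mem_of_conj_eq hu (h.eq_of_le_normalizer hE (hE.conj u)
      (h2.trans (h.le_normalizer_maxTwo hE h1 (h.centralizer_ne_top hd1))))
  intro d
  obtain ⟨i, r, hr, hord⟩ :=
    Nat.exists_eq_pow_mul_and_not_dvd (orderOf_pos (d : G)).ne' p hp.out.ne_one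
  refine ⟨i, Subtype.ext (key _ (pow_mem d.2 _) ?_)⟩
  show (orderOf ((d : G) ^ p ^ i)).Coprime p
  rw [orderOf_pow' _ (pow_ne_zero _ hp.out.ne_zero), hord, Nat.gcd_mul_right_left,
    Nat.mul_div_cancel_left _ (pow_pos hp.out.pos i)]
  exact (hp.out.coprime_iff_not_dvd.2 hr).symm

/-- An involution outside `N(E)`. -/
theorem AbExpSit.exists_involution_not_mem (h : AbExpSit p G) {E : Subgroup G} (hE : IsMaxTwo E) :
    ∃ u : G, orderOf u = 2 ∧ u ∉ normalizer (E : Set G) := by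
  haveI := h.simple
  haveI : Fact (Nat.Prime 2) := ⟨Nat.prime_two⟩
  by_contra hc
  push Not at hc
  obtain ⟨t, ht⟩ := exists_prime_orderOf_dvd_card' 2 h.even_card
  rcases IsSimpleGroup.eq_bot_or_eq_top_of_normal (normalClosure {t : G | orderOf t = 2})
    normalClosure_normal with hb | htop
  · have hmem : t ∈ normalClosure {t : G | orderOf t = 2} := subset_normalClosure ht
    rw [hb, mem_bot] at hmem
    rw [hmem, orderOf_one] at ht
    omega
  · refine h.normalizer_ne_top (hE.ne_bot h) (fun e => ?_) (eq_top_iff.2 (htop ▸ ?_))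
    · exact h.nsolv (isSolvable_of_comm fun x y => elemAb_comm hE.1 (e.ge (mem_top x)) (e.ge (mem_top y)))
    · refine (closure_le _).2 fun t ht2 => ?_
      obtain ⟨v, hv, hvt⟩ := Group.mem_conjugatesOfSet_iff.1 ht2
      obtain ⟨g, rfl⟩ := isConj_iff.1 hvt
      exact hc _ ((orderOf_injective (MulAut.conj g).toMonoidHom (MulAut.conj g).injective v).trans hv)

/-- `|E| - 1 = p`. -/
theorem AbExpSit.card_maxTwo (h : AbExpSit p G) {E : Subgroup G} (hE : IsMaxTwo E) :
    Nat.card ↥E = p + 1 := by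
  haveI : Fact (Nat.Prime 2) := ⟨Nat.prime_two⟩
  classical
  obtain ⟨u, hu, huM⟩ := h.exists_involution_not_mem hE
  obtain ⟨D, hDdef⟩ : ∃ D, D = normalizer (E : Set G) ⊓
      (normalizer (E : Set G)).map (MulAut.conj u).toMonoidHom := ⟨_, rfl⟩
  have hD : IsPGroup p ↥D := hDdef ▸ h.isPGroup_inf_conj hE huM
  have hDN : D ≤ normalizer (E : Set G) := hDdef ▸ inf_le_left
  letI : MulAction ↥D ↥E := MulAction.compHom ↥E
    ((normalizerMonoidHom E).comp (inclusion hDN))
  obtain ⟨m, hm⟩ := IsPGroup.iff_card.1 (elemAb_isPGroup hE.1)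
  have h8 := h.eight_le hE
  have hm3 : 3 ≤ m := (Nat.pow_le_pow_iff_right (by norm_num)).1 (hm ▸ h8)
  obtain ⟨e, he, he1⟩ := (bot_or_exists_ne_one E).resolve_left (hE.ne_bot h)
  have horb : MulAction.orbit ↥D (⟨e, he⟩ : ↥E) = {x : ↥E | x ≠ 1} := by
    ext x
    constructor
    · rintro ⟨d, rfl⟩ h1
      refine he1 (conj_eq_one_iff.1 (?_ : (d : G) * e * (d : G)⁻¹ = 1))
      exact congrArg Subtype.val h1
    · intro hx
      obtain ⟨d, hd, hde⟩ := (Cfsg.Agent.S1225.result _ (h.stronglyEmbedded_normalizer hE) u hu huM e (x : G)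
        (orderOf_eq_prime (hE.1.2 e he) he1) (le_normalizer he)
        (orderOf_eq_prime (hE.1.2 x x.2) fun h1 => hx (Subtype.ext h1)) (le_normalizer x.2)).1
      exact ⟨⟨d, hDdef ▸ hd⟩, Subtype.ext hde⟩
  obtain ⟨a, ha⟩ := hD.card_orbit (⟨e, he⟩ : ↥E)
  have hcard : Nat.card ↥(MulAction.orbit ↥D (⟨e, he⟩ : ↥E)) + 1 = Nat.card ↥E := by
    rw [Nat.card_coe_set_eq, horb]
    have := Set.ncard_add_ncard_compl ({1} : Set ↥E)
    rw [Set.ncard_singleton] at this
    rw [← this, add_comm]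
    rfl
  rw [ha, hm] at hcard
  rw [hm, ← hcard]
  have ha0 : a ≠ 0 := fun e0 => by
    rw [e0, pow_zero] at hcard
    have := (Nat.pow_le_pow_right two_pos hm3 : 2 ^ 3 ≤ 2 ^ m)
    omega
  have hpodd : Odd p := hp.out.odd_of_ne_two h.ne_two
  suffices ha1 : a = 1 by rw [ha1, pow_one]
  by_contra ha1
  rcases Nat.even_or_odd a with hev | hodd
  · obtain ⟨c, hc⟩ := hev
    have h2 : p ^ a % 4 = 1 := by
      rw [hc, pow_add, ← mul_pow, Nat.pow_mod]
      obtain ⟨r, hr⟩ := hpodd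
      rw [show p * p % 4 = 1 by subst hr; ring_nf; omega, one_pow]; norm_num
    have h4 : 4 ∣ 2 ^ m := ⟨2 ^ (m - 2), by rw [show (4 : ℕ) = 2 ^ 2 from rfl, ← pow_add]; congr 1; omega⟩
    omega
  · obtain ⟨c, hc⟩ := hodd
    have hdvd : (p + 1) ∣ p ^ a + 1 := by
      simpa using Odd.nat_add_dvd_pow_add_pow p 1 (n := a) ⟨c, hc⟩
    obtain ⟨j, hj⟩ := hdvd
    rw [hj] at hcard
    obtain ⟨j', -, hj'⟩ := (Nat.dvd_prime_pow Nat.prime_two).1 ⟨p + 1, hcard ▸ mul_comm _ _⟩
    obtain ⟨i', -, hi'⟩ := (Nat.dvd_prime_pow Nat.prime_two).1 (⟨j, hcard.symm⟩ : p + 1 ∣ 2 ^ m)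
    have hp1 : p ^ a + 1 = (p + 1) * j := hj
    have key : j % 2 = 1 ∨ j = 0 := by
      left
      have hz : ((j : ℤ) : ZMod 2) = ((∑ t ∈ Finset.range a, (-(p : ℤ)) ^ t : ℤ) : ZMod 2) := by
        congr 1
        have hg := geom_sum_mul (-(p : ℤ)) a
        have hodd' : Odd a := ⟨c, hc⟩
        rw [hodd'.neg_pow] at hg
        have hjz : ((p : ℤ) ^ a + 1) = ((p : ℤ) + 1) * j := by exact_mod_cast hp1
        have hne : ((p : ℤ) + 1) ≠ 0 := by positivity
        refine mul_left_cancel₀ hne ?_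
        rw [← hjz]
        linear_combination hg
      have hsum : ((∑ t ∈ Finset.range a, (-(p : ℤ)) ^ t : ℤ) : ZMod 2) = 1 := by
        push_cast
        have hp2 : (p : ZMod 2) = 1 := ZMod.natCast_eq_one_iff_odd.2 hpodd
        have ha2 : (a : ZMod 2) = 1 := ZMod.natCast_eq_one_iff_odd.2 ⟨c, hc⟩
        simp [hp2, ha2, show (-1 : ZMod 2) = 1 from rfl]
      rw [hsum, Int.cast_natCast] at hz
      exact Nat.odd_iff.1 (ZMod.natCast_eq_one_iff_odd.1 hz)
    rcases key with hodd2 | h0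
    · have hj1 : j = 1 := by
        rcases Nat.eq_zero_or_pos j' with e | e
        · rw [hj', e, pow_zero]
        · exfalso
          rw [hj', show j' = (j' - 1) + 1 by omega, pow_succ, Nat.mul_mod_left] at hodd2
          omega
      rw [hj1, mul_one] at hp1
      have : p ^ a = p ^ 1 := by rw [pow_one]; omega
      exact ha1 (Nat.pow_right_injective hp.out.two_le this)
    · rw [h0, mul_zero] at hp1
      omega

/-- An element of `p`-power order of `N(E)` fixing an involution of `E` centralizes `E`. -/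
theorem AbExpSit.mem_centralizer_of_fixes (h : AbExpSit p G) {E : Subgroup G} (hE : IsMaxTwo E) {g : G}
    (hg : g ∈ normalizer (E : Set G)) {i : ℕ} (hi : orderOf g = p ^ i) {t : G} (ht : t ∈ E) (ht1 : t ≠ 1)
    (hfix : g * t = t * g) : g ∈ centralizer (E : Set G) := by
  classical
  refine mem_centralizer_iff.2 fun e he => ?_
  let f : ↥E →* ↥E := (normalizerMonoidHom E ⟨g, hg⟩).toMonoidHom
  have hinj : Function.Injective f := (normalizerMonoidHom E ⟨g, hg⟩).injective
  have hper : Function.IsPeriodicPt f (p ^ i) ⟨e, he⟩ := by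
    have hit : ∀ k : ℕ, ((f^[k] ⟨e, he⟩ : ↥E) : G) = g ^ k * e * (g ^ k)⁻¹ := by
      intro k
      induction k with
      | zero => simp
      | succ k ih =>
        rw [Function.iterate_succ_apply']
        change g * ((f^[k] ⟨e, he⟩ : ↥E) : G) * g⁻¹ = _
        rw [ih, pow_succ']
        group
    refine Subtype.ext ((hit _).trans ?_)
    rw [← hi, pow_orderOf_eq_one, one_mul, inv_one, mul_one]
  obtain ⟨j, -, hj⟩ := (Nat.dvd_prime_pow hp.out).1 hper.minimalPeriod_dvd
  suffices hj0 : j = 0 by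
    subst hj0
    rw [pow_zero, Function.minimalPeriod_eq_one_iff_isFixedPt] at hj
    exact (mul_inv_eq_iff_eq_mul.1 (congrArg Subtype.val hj)).symm
  by_contra hj0
  have hne : ∀ k : ℕ, ∀ x : ↥E, (x = 1 ∨ x = ⟨t, ht⟩) → f^[k] x = x := by
    intro k x hx
    refine Function.iterate_fixed ?_ k
    rcases hx with rfl | rfl
    · exact map_one f
    · exact Subtype.ext (show g * t * g⁻¹ = t by rw [hfix, mul_inv_cancel_right])
  have hle : Function.minimalPeriod f ⟨e, he⟩ ≤ p - 1 := by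
    by_cases hE1 : (⟨e, he⟩ : ↥E) = 1 ∨ (⟨e, he⟩ : ↥E) = ⟨t, ht⟩
    · have h1 : Function.minimalPeriod f ⟨e, he⟩ = 1 :=
        Function.minimalPeriod_eq_one_iff_isFixedPt.2 (hne 1 _ hE1)
      rw [h1]; have := hp.out.two_le; omega
    · have hsub : Nat.card {x : ↥E // x ≠ 1 ∧ x ≠ ⟨t, ht⟩} = p - 1 := by
        have e1 : {x : ↥E | x ≠ 1 ∧ x ≠ ⟨t, ht⟩} = ({1, ⟨t, ht⟩} : Set ↥E)ᶜ := by ext x; simp
        have h2 := Set.ncard_add_ncard_compl ({1, ⟨t, ht⟩} : Set ↥E)
        rw [Set.ncard_pair (fun e0 => ht1 (congrArg Subtype.val e0).symm), ← e1, h.card_maxTwo hE] at h2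
        rw [show Nat.card {x : ↥E // x ≠ 1 ∧ x ≠ ⟨t, ht⟩} = {x : ↥E | x ≠ 1 ∧ x ≠ ⟨t, ht⟩}.ncard from
          Nat.card_coe_set_eq _]
        omega
      rw [← hsub, ← Nat.card_fin (Function.minimalPeriod f ⟨e, he⟩)]
      refine Nat.card_le_card_of_injective (fun k => ⟨f^[(k : ℕ)] ⟨e, he⟩, ?_, ?_⟩) fun a b hab =>
        Fin.ext (Function.iterate_injOn_Iio_minimalPeriod a.2 b.2 (congrArg Subtype.val hab))
      · exact fun hk => hE1 (Or.inl ((hinj.iterate k) (hk.trans (hne k 1 (Or.inl rfl)).symm)))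
      · exact fun hk => hE1 (Or.inr ((hinj.iterate k) (hk.trans (hne k _ (Or.inr rfl)).symm)))
  rw [hj] at hle
  have := Nat.le_self_pow hj0 p
  have := hp.out.two_le
  omega

/-- `C(t) = C(E)` for an involution `t` of `E`. -/
theorem AbExpSit.centralizer_eq (h : AbExpSit p G) {E : Subgroup G} (hE : IsMaxTwo E) {t : G}
    (ht : t ∈ E) (ht1 : t ≠ 1) : centralizer ({t} : Set G) = centralizer (E : Set G) := by
  refine le_antisymm (fun c hc => ?_) (centralizer_le (Set.singleton_subset_iff.2 ht))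
  have hcN : c ∈ normalizer (E : Set G) :=
    h.le_normalizer_maxTwo hE (fun e he => mem_centralizer_singleton_iff.2 (elemAb_comm hE.1 he ht))
      (h.centralizer_ne_top ht1) hc
  by_contra hcE
  obtain ⟨z, hz, hzE, i, hi⟩ := exists_pElement_not_mem (p := p) hcE fun x hx hxp =>
    h.abexp.le_centralizer_of_le_normalizer (coprime_of_two_group h.ne_two (elemAb_isPGroup hE.1))
      (by rwa [Nat.card_zpowers]) (zpowers_le.2 (zpowers_le.2 hcN hx)) (mem_zpowers x)
  exact hzE (h.mem_centralizer_of_fixes hE (zpowers_le.2 hcN hz) hi ht ht1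
    (mem_centralizer_singleton_iff.1 (zpowers_le.2 hc hz)))

theorem eq_one_of_pow_of_sq {y : G} {i : ℕ} (hp2 : p ≠ 2) (hy : y ^ p ^ i = 1) (hy2 : y ^ 2 = 1) :
    y = 1 := by
  rw [← orderOf_eq_one_iff, ← Nat.dvd_one,
    ← ((Nat.coprime_primes Nat.prime_two hp.out).2 (Ne.symm hp2)).pow_right i |>.gcd_eq_one]
  exact Nat.dvd_gcd (orderOf_dvd_of_pow_eq_one hy2) (orderOf_dvd_of_pow_eq_one hy)

/-- The centralizer of a `p`-element inverted by an involution contains no involution. -/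
theorem AbExpSit.no_involution_centralizer (h : AbExpSit p G) {y u : G} (hy1 : y ≠ 1) {i : ℕ}
    (hy : y ^ p ^ i = 1) (hu : u ^ 2 = 1) (huy : u * y * u⁻¹ = y⁻¹) {t : G} (ht : t ^ 2 = 1)
    (hty : t * y = y * t) : t = 1 := by
  by_contra ht1
  obtain ⟨F, hF, htF⟩ := h.exists_maxTwo_mem ht
  have hyF : y ∈ centralizer (F : Set G) :=
    h.centralizer_eq hF htF ht1 ▸ mem_centralizer_singleton_iff.2 hty.symm
  have hFy : F ≤ centralizer ({y} : Set G) := fun f hf =>
    mem_centralizer_singleton_iff.2 (mem_centralizer_iff.1 hyF f hf)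
  have hFu : F.map (MulAut.conj u).toMonoidHom ≤ centralizer ({y} : Set G) := by
    rintro _ ⟨f, hf, rfl⟩
    refine mem_centralizer_singleton_iff.2 ?_
    change u * f * u⁻¹ * y = y * (u * f * u⁻¹)
    have h1 : Commute f y⁻¹ := (show Commute f y from mem_centralizer_singleton_iff.1 (hFy hf)).inv_right
    have h2 : u⁻¹ = u := inv_eq_of_mul_eq_one_right (by rw [← pow_two, hu])
    have h3 : u * y⁻¹ * u⁻¹ = y := by
      have e := congrArg (·⁻¹) huy
      simp only [mul_inv_rev, inv_inv, ← mul_assoc] at e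
      exact e
    calc u * f * u⁻¹ * y = u * f * u⁻¹ * (u * y⁻¹ * u⁻¹) := by rw [h3]
      _ = u * (f * y⁻¹) * u⁻¹ := by group
      _ = u * (y⁻¹ * f) * u⁻¹ := by rw [h1.eq]
      _ = (u * y⁻¹ * u⁻¹) * (u * f * u⁻¹) := by group
      _ = _ := by rw [h3]
  have huF : u ∈ normalizer (F : Set G) := mem_normalizer_iff_map_conj_eq.2
    (h.eq_of_le_normalizer hF (hF.conj u)
      (hFu.trans (h.le_normalizer_maxTwo hF hFy (h.centralizer_ne_top hy1))))
  have huy' := mem_centralizer_iff.1 hyF u (h.mem_of_sq_eq_one hF huF hu)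
  rw [huy', mul_inv_cancel_right] at huy
  exact hy1 (eq_one_of_pow_of_sq h.ne_two hy (by rw [pow_two]; exact eq_inv_iff_mul_eq_one.1 huy))

/-- No nontrivial element centralizes both `y` and `u`. -/
theorem AbExpSit.eq_one_of_centralizes (h : AbExpSit p G) {y u : G} (hy1 : y ≠ 1) {i : ℕ}
    (hy : y ^ p ^ i = 1) (hu : u ^ 2 = 1) (hu1 : u ≠ 1) (huy : u * y * u⁻¹ = y⁻¹) {x : G}
    (hxy : x * y = y * x) (hxu : x * u = u * x) : x = 1 := by
  by_contra hx1
  obtain ⟨F, hF, huF⟩ := h.exists_maxTwo_mem hu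
  have hxF : x ∈ centralizer (F : Set G) :=
    h.centralizer_eq hF huF hu1 ▸ mem_centralizer_singleton_iff.2 hxu
  have hyN : y ∈ normalizer (F : Set G) := h.le_normalizer_maxTwo hF (fun f hf =>
    mem_centralizer_singleton_iff.2 (mem_centralizer_iff.1 hxF f hf)) (h.centralizer_ne_top hx1)
    (mem_centralizer_singleton_iff.2 hxy.symm)
  have hyy : y * y ∈ F := by
    have h2 : y * u * y⁻¹ = y * y * u := by
      rw [← huy, mul_assoc y y u, ← mul_assoc y y u]
      have h2 : u⁻¹ = u := inv_eq_of_mul_eq_one_right (by rw [← pow_two, hu])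
      have h3 : y * u = u * y⁻¹ := by
        rw [← huy]
        calc y * u = (u * u) * y * u := by rw [← pow_two, hu, one_mul]
          _ = _ := by rw [h2]; group
      calc y * u * (u * y * u⁻¹) = y * (u * u) * y * u⁻¹ := by group
        _ = y * y * u := by rw [← pow_two u, hu, mul_one, h2]
    have h1 := F.mul_mem ((mem_normalizer_iff.1 hyN u).1 huF) (F.inv_mem huF)
    rwa [h2, mul_inv_cancel_right] at h1
  have h4 : y ^ 4 = 1 := by
    have := hF.1.2 _ hyy
    rwa [← pow_two, ← pow_mul] at this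
  refine hy1 (eq_one_of_pow_of_sq h.ne_two hy (eq_one_of_pow_of_sq (i := i) h.ne_two ?_ ?_))
  · rw [← pow_mul, mul_comm, pow_mul, hy, one_pow]
  · rw [← pow_mul]; exact h4

/-- The involution inverts the centralizer, which is an abelian `p`-group. -/
theorem AbExpSit.inverts_centralizer (h : AbExpSit p G) {y u : G} (hy1 : y ≠ 1) {i : ℕ}
    (hy : y ^ p ^ i = 1) (hu : u ^ 2 = 1) (hu1 : u ≠ 1) (huy : u * y * u⁻¹ = y⁻¹) :
    (∀ x ∈ centralizer ({y} : Set G), u * x * u⁻¹ = x⁻¹) ∧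
      IsMulCommutative ↥(centralizer ({y} : Set G)) ∧ IsPGroup p ↥(centralizer ({y} : Set G)) := by
  have hucy : ∀ x ∈ centralizer ({y} : Set G), u * x * u⁻¹ ∈ centralizer ({y} : Set G) := by
    intro x hx
    refine mem_centralizer_singleton_iff.2 ?_
    have h1 : Commute x y⁻¹ := (show Commute x y from mem_centralizer_singleton_iff.1 hx).inv_right
    have h3 : u * y⁻¹ * u⁻¹ = y := by
      have e := congrArg (·⁻¹) huy
      simp only [mul_inv_rev, inv_inv, ← mul_assoc] at e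
      exact e
    calc u * x * u⁻¹ * y = u * x * u⁻¹ * (u * y⁻¹ * u⁻¹) := by rw [h3]
      _ = u * (x * y⁻¹) * u⁻¹ := by group
      _ = u * (y⁻¹ * x) * u⁻¹ := by rw [h1.eq]
      _ = (u * y⁻¹ * u⁻¹) * (u * x * u⁻¹) := by group
      _ = _ := by rw [h3]
  let φ : ↥(centralizer ({y} : Set G)) →* ↥(centralizer ({y} : Set G)) :=
    { toFun := fun x => ⟨u * x * u⁻¹, hucy x x.2⟩
      map_one' := Subtype.ext (by simp)
      map_mul' := fun a b => Subtype.ext (by
        show u * ((a : G) * b) * u⁻¹ = u * a * u⁻¹ * (u * b * u⁻¹)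
        group) }
  have hfpf : MonoidHom.FixedPointFree φ := fun x hx => Subtype.ext
    (h.eq_one_of_centralizes hy1 hy hu hu1 huy (mem_centralizer_singleton_iff.1 x.2)
      (mul_inv_eq_iff_eq_mul.1 (congrArg Subtype.val hx)).symm)
  have hinv2 : Function.Involutive φ := fun x => Subtype.ext (by
    show u * (u * (x : G) * u⁻¹) * u⁻¹ = x
    calc u * (u * (x : G) * u⁻¹) * u⁻¹ = (u * u) * x * (u * u)⁻¹ := by group
      _ = x := by rw [← pow_two, hu]; group)
  have hinv : ∀ x ∈ centralizer ({y} : Set G), u * x * u⁻¹ = x⁻¹ := fun x hx =>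
    congrArg Subtype.val (congrFun (hfpf.coe_eq_inv_of_involutive hinv2) ⟨x, hx⟩)
  refine ⟨hinv, ⟨⟨fun a b => Subtype.ext ?_⟩⟩, fun x => ?_⟩
  · have h1 := hinv _ (mul_mem a.2 b.2)
    rw [mul_inv_rev, ← hinv _ a.2, ← hinv _ b.2] at h1
    have h2 : u * ((a : G) * b) * u⁻¹ = u * ((b : G) * a) * u⁻¹ := by
      rw [h1]; group
    exact mul_left_cancel (mul_right_cancel h2)
  · obtain ⟨j, r, hr, hord⟩ :=
      Nat.exists_eq_pow_mul_and_not_dvd (orderOf_pos (x : G)).ne' p hp.out.ne_one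
    refine ⟨j, Subtype.ext ?_⟩
    have hw : ((x : G) ^ p ^ j) ∈ centralizer ({y} : Set G) := pow_mem x.2 _
    have hwp : (orderOf ((x : G) ^ p ^ j)).Coprime p := by
      rw [orderOf_pow' _ (pow_ne_zero _ hp.out.ne_zero), hord, Nat.gcd_mul_right_left,
        Nat.mul_div_cancel_left _ (pow_pos hp.out.pos j)]
      exact (hp.out.coprime_iff_not_dvd.2 hr).symm
    refine h.eq_one_of_centralizes hy1 hy hu hu1 huy (mem_centralizer_singleton_iff.1 hw) ?_
    have hun : u ∈ normalizer (zpowers ((x : G) ^ p ^ j) : Set G) := by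
      rw [mem_normalizer_iff_map_conj_eq, MonoidHom.map_zpowers]
      show zpowers (u * (x : G) ^ p ^ j * u⁻¹) = _
      rw [hinv _ hw, zpowers_inv]
    exact mem_centralizer_iff.1 (h.abexp.le_centralizer_of_le_normalizer (by rwa [Nat.card_zpowers])
      (coprime_of_two_group h.ne_two (elemAb_isPGroup (elemAb_zpowers hu))) (zpowers_le.2 hun)
      (mem_zpowers u)) _ (mem_zpowers _)

end CfsgLib.PLocal
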