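import Mathlib
import Cfsg.Agent.Lib.Solvable.Nilpotent
import Cfsg.Agent.Lib.Transfer.Frobenius

/-!
# Abelian normal sections generated by minimal invariant subgroups
-/

namespace CfsgLib.PLocal

open Subgroup
open scoped commutatorElement

variable {G : Type*} [Group G]

theorem inf_normalizer_le_normalizer_sup' (A B : Subgroup G) :
    normalizer (A : Set G) ⊓ normalizer (B : Set G) ≤ normalizer ((A ⊔ B : Subgroup G) : Set G) := by
  intro x hx
  refine mem_normalizer_iff_map_conj_eq.2 ?_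
  rw [Subgroup.map_sup, mem_normalizer_iff_map_conj_eq.1 hx.1, mem_normalizer_iff_map_conj_eq.1 hx.2]

/-- `Y` is a minimal `X`-invariant subgroup. -/
def IsAtomFor (X Y : Subgroup G) : Prop :=
  Y ≠ ⊥ ∧ X ≤ normalizer (Y : Set G) ∧
    ∀ Y' : Subgroup G, Y' ≤ Y → X ≤ normalizer (Y' : Set G) → Y' = ⊥ ∨ Y' = Y

/-- `U` is generated by minimal `X`-invariant subgroups of itself. -/
def GenByAtoms (X U : Subgroup G) : Prop :=
  U ≤ sSup {Y | Y ≤ U ∧ IsAtomFor X Y}

theorem genByAtoms_top {U : Subgroup G} [hn : U.Normal] (hne : U ≠ ⊥)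
    (hmin : ∀ N : Subgroup G, N.Normal → N ≤ U → N = ⊥ ∨ N = U) : GenByAtoms ⊤ U :=
  le_sSup ⟨le_rfl, hne, (normalizer_eq_top_iff.2 hn).ge,
    fun Y hY hYn => hmin Y (normalizer_eq_top_iff.1 (top_le_iff.1 hYn)) hY⟩

theorem conj_le_normalizer {X X' Y : Subgroup G} (hn : X' ≤ normalizer (X : Set G))
    (hY : X ≤ normalizer (Y : Set G)) {g : G} (hg : g ∈ X') :
    X ≤ normalizer (Y.map (MulAut.conj g).toMonoidHom : Set G) := by
  intro x hx
  have hx' : g⁻¹ * x * g ∈ X := (mem_normalizer_iff''.1 (hn hg) x).1 hx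
  have h := le_normalizer_map (H := Y) (MulAut.conj g).toMonoidHom
    (mem_map_of_mem _ (hY hx'))
  simpa [MulAut.conj_apply, mul_assoc] using h

theorem GenByAtoms.descend [Finite G] {X X' U : Subgroup G} [hU : U.Normal] (h : GenByAtoms X' U)
    (hXX' : X ≤ X') (hn : X' ≤ normalizer (X : Set G)) : GenByAtoms X U := by
  refine h.trans (sSup_le ?_)
  rintro Y ⟨hYU, hYne, hYinv, hYmin⟩
  obtain ⟨Y₀, hY₀Y, hY₀⟩ := exists_minimal_le_of_wellFoundedLT
    (fun Z : Subgroup G => Z ≠ ⊥ ∧ X ≤ normalizer (Z : Set G)) Y ⟨hYne, hXX'.trans hYinv⟩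
  have hatom : ∀ g ∈ X', Y₀.map (MulAut.conj g).toMonoidHom ≤ U ∧
      IsAtomFor X (Y₀.map (MulAut.conj g).toMonoidHom) := by
    intro g hg
    refine ⟨?_, ?_, conj_le_normalizer hn hY₀.prop.2 hg, fun Z hZ hZn => ?_⟩
    · rintro _ ⟨y, hy, rfl⟩
      exact hU.conj_mem y (hYU (hY₀Y hy)) g
    · rw [Ne, map_eq_bot_iff_of_injective _ (MulAut.conj g).injective]
      exact hY₀.prop.1
    · set Z' := Z.map (MulAut.conj g⁻¹).toMonoidHom with hZ'
      have hle : Z' ≤ Y₀ := by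
        rintro _ ⟨z, hz, rfl⟩
        obtain ⟨y, hy, rfl⟩ := hZ hz
        simpa [MulAut.conj_apply, mul_assoc] using hy
      by_cases hbot : Z' = ⊥
      · exact Or.inl ((map_eq_bot_iff_of_injective _ (MulAut.conj g⁻¹).injective).1 hbot)
      refine Or.inr (le_antisymm hZ ?_)
      rintro _ ⟨y, hy, rfl⟩
      obtain ⟨z, hz, rfl⟩ := hY₀.le_of_le
        ⟨hbot, conj_le_normalizer hn hZn (X'.inv_mem hg)⟩ hle hy
      simpa [MulAut.conj_apply, mul_assoc] using hz
  set Y' : Subgroup G := ⨆ g ∈ X', Y₀.map (MulAut.conj g).toMonoidHom with hY'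
  have hY'Y : Y' ≤ Y := iSup₂_le fun g hg => by
    rintro _ ⟨y, hy, rfl⟩
    exact (mem_normalizer_iff.1 (hYinv hg) y).1 (hY₀Y hy)
  have hY'inv : X' ≤ normalizer (Y' : Set G) := by
    intro k hk
    refine mem_normalizer_iff_map_conj_eq.2 ?_
    have hstep : ∀ k ∈ X', Y'.map (MulAut.conj k).toMonoidHom ≤ Y' := by
      intro k hk
      simp only [hY', Subgroup.map_iSup]
      refine iSup₂_le fun g hg => le_iSup₂_of_le (k * g) (X'.mul_mem hk hg) ?_
      rw [Subgroup.map_map]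
      rintro _ ⟨y, hy, rfl⟩
      exact ⟨y, hy, by simp [MulAut.conj_apply, mul_assoc]⟩
    refine le_antisymm (hstep k hk) fun y hy => ?_
    exact ⟨k⁻¹ * y * k, by simpa using hstep k⁻¹ (X'.inv_mem hk) (mem_map_of_mem _ hy),
      by simp [MulAut.conj_apply, mul_assoc]⟩
  have hY'ne : Y' ≠ ⊥ := fun h0 => hY₀.prop.1 (le_bot_iff.1 (h0 ▸ by
    refine le_iSup₂_of_le 1 X'.one_mem ?_
    intro y hy
    exact ⟨y, hy, by simp⟩))
  rw [← (hYmin Y' hY'Y hY'inv).resolve_left hY'ne]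
  exact iSup₂_le fun g hg => le_sSup (hatom g hg)

theorem GenByAtoms.exists_complement [Finite G] {X U : Subgroup G} (h : GenByAtoms X U)
    (hab : ∀ a ∈ U, ∀ b ∈ U, a * b = b * a) {M : Subgroup G} (hMU : M ≤ U)
    (hM : X ≤ normalizer (M : Set G)) :
    ∃ N : Subgroup G, N ≤ U ∧ X ≤ normalizer (N : Set G) ∧ M ⊓ N = ⊥ ∧ M ⊔ N = U := by
  obtain ⟨N, -, hN⟩ := Finite.exists_le_maximal
    (p := fun N : Subgroup G => N ≤ U ∧ X ≤ normalizer (N : Set G) ∧ M ⊓ N = ⊥) (a := ⊥)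
    ⟨bot_le, (normalizer_eq_top_iff.2 (inferInstance : (⊥ : Subgroup G).Normal)).symm ▸ le_top, inf_bot_eq M⟩
  obtain ⟨hNU, hNinv, hMN⟩ := hN.prop
  refine ⟨N, hNU, hNinv, hMN, le_antisymm (sup_le hMU hNU) (h.trans (sSup_le ?_))⟩
  rintro Y ⟨hYU, hYne, hYinv, hYmin⟩
  by_contra hY
  have hMNinv : X ≤ normalizer ((M ⊔ N : Subgroup G) : Set G) :=
    (le_inf hM hNinv).trans (inf_normalizer_le_normalizer_sup' _ _)
  have hbot : (M ⊔ N) ⊓ Y = ⊥ := by
    rcases hYmin ((M ⊔ N) ⊓ Y) inf_le_right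
      ((le_inf hMNinv hYinv).trans inf_normalizer_le_normalizer_inf) with h1 | h1
    · exact h1
    · exact absurd (inf_eq_right.1 h1) hY
  have hsupmem : ∀ {A B : Subgroup G}, A ≤ U → B ≤ U → ∀ x ∈ A ⊔ B, ∃ a ∈ A, ∃ b ∈ B, a * b = x := by
    intro A B hA hB x hx
    have hAB : A ≤ normalizer (B : Set G) := fun a ha => mem_normalizer_iff.2 fun b => by
      constructor
      · intro hb; rw [hab a (hA ha) b (hB hb), mul_inv_cancel_right]; exact hb
      · intro hb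
        have hbU : b ∈ U := by
          have := U.mul_mem (U.mul_mem (U.inv_mem (hA ha)) (hB hb)) (hA ha)
          simpa [mul_assoc] using this
        rwa [hab a (hA ha) b hbU, mul_inv_cancel_right] at hb
    rw [← SetLike.mem_coe, coe_mul_of_left_le_normalizer_right A B hAB] at hx
    exact hx
  have hMN' : M ⊓ (N ⊔ Y) = ⊥ := by
    refine eq_bot_iff.2 fun x hx => ?_
    obtain ⟨n, hn, y, hy, rfl⟩ := hsupmem hNU hYU x hx.2
    have hy' : y ∈ (M ⊔ N) ⊓ Y := ⟨by
      have := mul_mem (mem_sup_right (S := M) (inv_mem hn)) (mem_sup_left (T := N) hx.1)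
      rwa [inv_mul_cancel_left] at this, hy⟩
    rw [hbot, mem_bot] at hy'
    subst hy'
    rw [mul_one] at hx ⊢
    rw [← hMN]
    exact ⟨hx.1, hn⟩
  have hle : N ⊔ Y ≤ N := hN.le_of_ge ⟨sup_le hNU hYU,
    (le_inf hNinv hYinv).trans (inf_normalizer_le_normalizer_sup' _ _), hMN'⟩ le_sup_left
  exact hY ((le_sup_right.trans hle).trans le_sup_right)

theorem commutator_sup_le_of_abelian {U M N K : Subgroup G} [U.Normal]
    (hab : ∀ a ∈ U, ∀ b ∈ U, a * b = b * a) (hM : M ≤ U) (hN : N ≤ U) :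
    ⁅M ⊔ N, K⁆ ≤ ⁅M, K⁆ ⊔ ⁅N, K⁆ := by
  refine commutator_le.2 fun x hx k hk => ?_
  let D : Subgroup G :=
    { carrier := {x | x ∈ U ∧ ⁅x, k⁆ ∈ ⁅M, K⁆ ⊔ ⁅N, K⁆}
      one_mem' := ⟨U.one_mem, by simp⟩
      mul_mem' := fun {a b} ha hb => ⟨U.mul_mem ha.1 hb.1, by
        rw [show ⁅a * b, k⁆ = a * ⁅b, k⁆ * a⁻¹ * ⁅a, k⁆ by simp only [commutatorElement_def]; group,
          hab a ha.1 ⁅b, k⁆ (commutator_le_left U ⊤ (commutator_mem_commutator hb.1 (mem_top k))),
          mul_inv_cancel_right]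
        exact mul_mem hb.2 ha.2⟩
      inv_mem' := fun {a} ha => ⟨U.inv_mem ha.1, by
        rw [show ⁅a⁻¹, k⁆ = a⁻¹ * ⁅a, k⁆⁻¹ * a⁻¹⁻¹ by simp only [commutatorElement_def]; group,
          hab a⁻¹ (U.inv_mem ha.1) ⁅a, k⁆⁻¹
            (U.inv_mem (commutator_le_left U ⊤ (commutator_mem_commutator ha.1 (mem_top k)))),
          mul_inv_cancel_right]
        exact inv_mem ha.2⟩ }
  exact ((sup_le (fun m hm => ⟨hM hm, mem_sup_left (commutator_mem_commutator hm hk)⟩)
    (fun n hn => ⟨hN hn, mem_sup_right (commutator_mem_commutator hn hk)⟩) : M ⊔ N ≤ D) hx).2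

/-- Downward induction along normalizers inside a normal section of `p`-power index. -/
theorem GenByAtoms.of_pGroup_quotient [Finite G] {p : ℕ} [Fact p.Prime] {U K L : Subgroup G}
    [U.Normal] [K.Normal] [L.Normal] (h : GenByAtoms ⊤ U) (hLK : L ≤ K)
    (hp : IsPGroup p (K.map (QuotientGroup.mk' L))) :
    ∀ X : Subgroup G, L ≤ X → X ≤ K → GenByAtoms X U := by
  intro X
  induction X using WellFoundedGT.induction with
  | _ X ih =>
    intro hLX hXK
    by_cases hX : X = K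
    · subst hX
      exact h.descend le_top (normalizer_eq_top_iff.2 inferInstance).ge
    set π := QuotientGroup.mk' L with hπ
    have hπs : Function.Surjective π := QuotientGroup.mk'_surjective L
    have hXc : (X.map π).comap π = X := by
      rw [comap_map_eq, hπ, QuotientGroup.ker_mk', sup_eq_left.2 hLX]
    have hlt : X.map π < K.map π := lt_of_le_of_ne (map_mono hXK) fun e => hX (by
      rw [← hXc, e, comap_map_eq, hπ, QuotientGroup.ker_mk', sup_eq_left.2 hLK])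
    obtain ⟨y, hyK, hyn, hyX⟩ := CfsgLib.Transfer.exists_mem_normalizer_not_mem hp hlt
    obtain ⟨x, hxK, rfl⟩ := hyK
    have hxn : x ∈ normalizer (X : Set G) := by
      rw [← hXc, ← comap_normalizer_eq_of_surjective _ hπs]
      exact hyn
    have hlt' : X < K ⊓ normalizer (X : Set G) :=
      lt_of_le_of_ne (le_inf hXK le_normalizer) fun e =>
        hyX (mem_map_of_mem π (e ▸ ⟨hxK, hxn⟩ : x ∈ X))
    exact (ih _ hlt' (hLX.trans hlt'.le) inf_le_left).descend hlt'.le inf_le_right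

end CfsgLib.PLocal
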