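import Mathlib
import Cfsg.Agent.Lib.PLocal.KControl
import Cfsg.Agent.Lib.PLocal.QdFusion
import Cfsg.Agent.Lib.PLocal.QdFree

/-!
# The model of a `Qd(p)`-free group: the least centric radical subgroup
-/

set_option autoImplicit false

namespace CfsgLib.PLocal

open Subgroup
open scoped MatrixGroups Pointwise

universe u

variable {p : ℕ} [hp : Fact p.Prime]

/-- If no `N_G(Q)/C_G(Q)` has a section `SL₂(p)`, then `G` has no section `Qd(p)`. -/
theorem no_qd_of_no_sl_induced {G : Type u} [Group G] [Finite G]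
    (hfree : ∀ Q : Subgroup G, IsPGroup p Q → ¬ ∃ (H K : Subgroup G) (_ : (K.subgroupOf H).Normal),
      centralizer (Q : Set G) ≤ K ∧ K ≤ H ∧ H ≤ normalizer (Q : Set G) ∧
      Nonempty ((↥H ⧸ K.subgroupOf H) ≃* Matrix.SpecialLinearGroup (Fin 2) (ZMod p)))
    (K : Subgroup G) (f : K →* ↥(Cfsg.qd p)) : ¬ Function.Surjective f := by
  intro hf
  obtain ⟨π, τ, hπ⟩ := exists_qdProj (p := p)
  have hπs : Function.Surjective π := fun M => by
    refine ⟨⟨affMat 0 M, affMat_mem_qd 0 M⟩, ?_⟩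
    have h1 := hπ ⟨affMat 0 M, affMat_mem_qd 0 M⟩
    refine Matrix.SpecialLinearGroup.ext _ _ fun i j => ?_
    have h2 := congrArg (fun X : Matrix.SpecialLinearGroup (Fin 3) (ZMod p) =>
      (X : Matrix (Fin 3) (Fin 3) (ZMod p))) h1
    simp only [affMat_coe] at h2
    have e := congrFun (congrFun h2 i.castSucc) j.castSucc
    fin_cases i <;> fin_cases j <;> simpa using e.symm
  set T := π.ker with hT
  have hTp : IsPGroup p T := fun g => ⟨1, Subtype.ext (Subtype.ext (by
    show ((g : ↥(Cfsg.qd p)) : SL(3, ZMod p)) ^ p ^ 1 = 1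
    rw [pow_one, hπ, show π g = 1 from g.2]
    exact affMat_one_pow _))⟩
  set M := T.comap f with hM
  haveI : T.Normal := inferInstance
  haveI : M.Normal := Normal.comap inferInstance f
  obtain ⟨R⟩ : Nonempty (Sylow p M) := inferInstance
  set RK := (R : Subgroup M).map M.subtype with hRK
  have hRM : RK.map f = T := by
    have hs : Function.Surjective (f.subgroupComap T) :=
      MonoidHom.subgroupComap_surjective_of_surjective _ _ hf
    have h1 : (R.mapSurjective hs : Subgroup T) = ⊤ := by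
      rw [← (R.mapSurjective hs).is_maximal' (hTp.to_subgroup ⊤) le_top]
    rw [Sylow.coe_mapSurjective] at h1
    rw [hRK, map_map, show f.comp M.subtype = T.subtype.comp (f.subgroupComap T) from
      rfl, ← map_map, h1, ← MonoidHom.range_eq_map, range_subtype]
  set Q := RK.map K.subtype with hQ
  set H₀ := normalizer (RK : Set K) with hH₀
  have hcov : ∀ x : K, ∃ y ∈ H₀, π (f y) = π (f x) := by
    intro x
    have h1 : x ∈ H₀ ⊔ M := by
      rw [hH₀, hRK, Sylow.normalizer_sup_eq_top R]; trivial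
    obtain ⟨y, hy, m, hm, rfl⟩ := mem_sup_of_normal_right.1 h1
    refine ⟨y, hy, ?_⟩
    rw [map_mul, map_mul, show π (f m) = 1 from hm, mul_one]
  have hcent : ∀ x : K, (x : G) ∈ centralizer (Q : Set G) → π (f x) = 1 := by
    intro x hx
    have hfix : ∀ t ∈ T, f x * t = t * f x := by
      intro t ht
      obtain ⟨r, hr, rfl⟩ := hRM.ge ht
      have h1 := mem_centralizer_iff.1 hx (r : G) ⟨r, hr, rfl⟩
      rw [← map_mul, ← map_mul, show x * r = r * x from Subtype.ext h1.symm]
    refine Matrix.SpecialLinearGroup.ext _ _ fun i j => ?_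
    have key : ∀ s : Fin 2 → ZMod p, ((π (f x) : Matrix (Fin 2) (Fin 2) (ZMod p))).mulVec s = s := by
      intro s
      have hs : (⟨affMat s 1, affMat_mem_qd s 1⟩ : ↥(Cfsg.qd p)) ∈ T := by
        have h1 := hπ ⟨affMat s 1, affMat_mem_qd s 1⟩
        refine Matrix.SpecialLinearGroup.ext _ _ fun i j => ?_
        have h2 := congrArg (fun X : Matrix.SpecialLinearGroup (Fin 3) (ZMod p) =>
          (X : Matrix (Fin 3) (Fin 3) (ZMod p))) h1
        simp only [affMat_coe] at h2
        have e := congrFun (congrFun h2 i.castSucc) j.castSucc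
        fin_cases i <;> fin_cases j <;> simpa using e.symm
      have h2 := congrArg (fun y : ↥(Cfsg.qd p) => (y : SL(3, ZMod p))) (hfix _ hs)
      simp only [Subgroup.coe_mul] at h2
      rw [hπ (f x), affMat_mul, affMat_mul] at h2
      simp only [mul_one, one_mul, Matrix.SpecialLinearGroup.coe_one, Matrix.one_mulVec] at h2
      have h3 := congrArg (fun X : Matrix.SpecialLinearGroup (Fin 3) (ZMod p) =>
        (X : Matrix (Fin 3) (Fin 3) (ZMod p))) h2
      simp only [affMat_coe] at h3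
      funext i
      have e := congrFun (congrFun h3 i.castSucc) 2
      fin_cases i <;> simp at e <;> simpa [add_comm, add_left_inj, add_right_inj] using e
    have := congrFun (key (Pi.single j 1)) i
    rwa [Matrix.mulVec_single_one, Matrix.col_apply, Pi.single_apply] at this
  -- the section
  set C := centralizer (Q : Set G) with hC
  set H' := H₀.map K.subtype with hH'
  have hH'N : H' ≤ normalizer (Q : Set G) := le_normalizer_map K.subtype
  haveI hCn : (C.subgroupOf (normalizer (Q : Set G))).Normal := inferInstance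
  set H := H' ⊔ C with hH
  set ψ : ↥H₀ →* SL(2, ZMod p) := π.comp (f.comp H₀.subtype) with hψ
  have hψs : Function.Surjective ψ := fun M' => by
    obtain ⟨z, rfl⟩ := hπs M'
    obtain ⟨x, rfl⟩ := hf z
    obtain ⟨y, hy, hye⟩ := hcov x
    exact ⟨⟨y, hy⟩, hye⟩
  set K₀ := ψ.ker.map (K.subtype.comp H₀.subtype) with hK₀
  set K' := K₀ ⊔ C with hK'
  have hHN : H ≤ normalizer (Q : Set G) := sup_le hH'N (centralizer_le_normalizer _)
  have hK₀H' : K₀ ≤ H' := by
    rintro _ ⟨y, -, rfl⟩
    exact ⟨(y : K), y.2, rfl⟩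
  have hK'H : K' ≤ H := sup_le_sup_right hK₀H' C
  let ι : ↥H₀ →* ↥H :=
    (K.subtype.comp H₀.subtype).codRestrict H fun y => mem_sup_left ⟨(y : K), y.2, rfl⟩
  have hK'n : ∀ h ∈ H, ∀ k ∈ K', h * k * h⁻¹ ∈ K' := by
    have hle : H ≤ normalizer (K' : Set G) := by
      refine sup_le ?_ (le_sup_right.trans le_normalizer)
      rintro _ ⟨y, hy, rfl⟩
      have e1 : ∀ z : ↥H₀, K₀.map (MulAut.conj (K.subtype (z : K))).toMonoidHom ≤ K₀ := by
        rintro z _ ⟨_, ⟨w, hw, rfl⟩, rfl⟩
        exact ⟨z * w * z⁻¹, MonoidHom.normal_ker ψ |>.conj_mem w hw z, rfl⟩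
      have e2 : ∀ z : ↥H₀, C.map (MulAut.conj (K.subtype (z : K))).toMonoidHom ≤ C := by
        rintro z _ ⟨c, hc, rfl⟩
        exact (hCn.conj_mem ⟨c, (centralizer_le_normalizer _) hc⟩ hc
          ⟨_, hH'N ⟨(z : K), z.2, rfl⟩⟩ :)
      refine mem_normalizer_iff_map_conj_eq.2 (eq_of_le_of_card_ge ?_
        (le_of_eq (card_map_of_injective (MulAut.conj _).injective).symm))
      rw [hK', Subgroup.map_sup]
      exact sup_le_sup (e1 ⟨y, hy⟩) (e2 ⟨y, hy⟩)
    exact fun h hh k hk => (mem_normalizer_iff.1 (hle hh) k).1 hk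
  haveI : (K'.subgroupOf H).Normal := ⟨fun k hk h => hK'n h h.2 k hk⟩
  have hint : ∀ y : ↥H₀, (ι y : G) ∈ K' → ψ y = 1 := by
    intro y hy
    have hmem : (ι y : G) ∈ (K₀ : Set G) * (C : Set G) := by
      rw [← Subgroup.coe_mul_of_left_le_normalizer_right K₀ C
        ((hK₀H'.trans hH'N).trans (normal_subgroupOf_iff_le_normalizer (centralizer_le_normalizer _) |>.1 hCn))]
      exact hy
    obtain ⟨_, ⟨w, hw, rfl⟩, c, hc, he⟩ := hmem
    have hc' : c = ((w⁻¹ * y : ↥H₀) : K) := by
      have : c = (((w : K) : G))⁻¹ * (ι y : G) := by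
        rw [← he]; simp
      rw [this]; rfl
    have h1 := hcent ((w⁻¹ * y : ↥H₀) : K) (hc' ▸ hc)
    have h2 : ψ (w⁻¹ * y) = 1 := h1
    rwa [map_mul, map_inv, show ψ w = 1 from hw, inv_one, one_mul] at h2
  refine hfree Q ((R.2.map _).map _) ⟨H, K', inferInstance, le_sup_right, hK'H, hHN, ⟨?_⟩⟩
  let φ : ↥H₀ ⧸ ψ.ker →* ↥H ⧸ K'.subgroupOf H :=
    QuotientGroup.map ψ.ker (K'.subgroupOf H) ι fun y hy => mem_sup_left ⟨y, hy, rfl⟩
  have hφ : Function.Bijective φ := by
    refine ⟨(injective_iff_map_eq_one φ).2 fun y hy => ?_, fun y => ?_⟩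
    · obtain ⟨y, rfl⟩ := QuotientGroup.mk_surjective y
      exact (QuotientGroup.eq_one_iff y).2 (hint y ((QuotientGroup.eq_one_iff (ι y)).1 hy))
    · obtain ⟨⟨h, hh⟩, rfl⟩ := QuotientGroup.mk_surjective y
      have hmem : h ∈ (H' : Set G) * (C : Set G) := by
        rw [← Subgroup.coe_mul_of_left_le_normalizer_right H' C
          (hH'N.trans (normal_subgroupOf_iff_le_normalizer (centralizer_le_normalizer _) |>.1 hCn))]
        exact hh
      obtain ⟨_, ⟨x, hx, rfl⟩, c, hc, rfl⟩ := hmem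
      refine ⟨QuotientGroup.mk ⟨x, hx⟩, QuotientGroup.eq.2 (mem_subgroupOf.2 ?_)⟩
      show ((x : G))⁻¹ * ((x : G) * c) ∈ K'
      rw [inv_mul_cancel_left]
      exact mem_sup_right hc
  exact (MulEquiv.ofBijective φ hφ).symm.trans (QuotientGroup.quotientKerEquivOfSurjective ψ hψs)

end CfsgLib.PLocal
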