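import Mathlib
import Cfsg.Agent.Lib.PLocal.CentricRadical
import Cfsg.Agent.Lib.PLocal.KControl
import Cfsg.Agent.Lib.Comp.Local
import Cfsg.Agent.Lib.PLocal.ZJControl

/-!
# A least centric radical subgroup from a controlling centric functor
-/

set_option autoImplicit false

namespace CfsgLib.PLocal

open Subgroup
open scoped Pointwise

universe u

variable {p : ℕ} [hp : Fact p.Prime]

theorem controlsOf_of_ctrl {G : Type u} [Group G] [Finite G] {W : ∀ (Q : Type u) [Group Q], Subgroup Q}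
    (hW : Cfsg.IsCharPFunctor.{u} p W) (hc : Ctrl p ({W} : Set _) G) (S : Sylow p G) :
    ∀ A : Set G, A ⊆ (S : Subgroup G) → Cfsg.ControlsStrongFusionOf
      (normalizer (Cfsg.inducedFunctor (G := G) W (S : Subgroup G) : Set G)) (S : Subgroup G) A := by
  intro A hA
  refine ⟨hA, fun g hg => ?_⟩
  have h1 := familyControls_at (indSet_functor (fun W' h => by
    rw [Set.mem_singleton_iff] at h; subst h; exact hW)) hc (sylowIn_top S) A g (mem_top g) hA hg
  have h2 := h1.map_mono (Q := fun x => x ∈ normalizer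
    ((Cfsg.inducedFunctor (G := G) W (S : Subgroup G) : Subgroup G) : Set G)) ?_
  · obtain ⟨x, hx, he⟩ := h2.exists_single
    exact ⟨x, hx, fun a ha => (he a ha).symm⟩
  · rintro x ⟨_, ⟨W', rfl, rfl⟩, hx⟩
    exact hx.2

theorem normalizer_inf_normalizer_le_sup {G : Type u} [Group G] (A B : Subgroup G) :
    normalizer (A : Set G) ⊓ normalizer (B : Set G) ≤ normalizer ((A ⊔ B : Subgroup G) : Set G) :=
  fun g hg => CfsgLib.Comp.map_conj_eq_iff.1 (by
    rw [Subgroup.map_sup, CfsgLib.Comp.map_conj_eq_iff.2 hg.1, CfsgLib.Comp.map_conj_eq_iff.2 hg.2])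

/-- Adjoining a normalizing `p`-group multiplies the order by a power of `p`. -/
theorem exists_relIndex_sup_pow {G : Type u} [Group G] [Finite G] {K Q : Subgroup G}
    (hQK : Q ≤ normalizer (K : Set G)) (hQ : IsPGroup p Q) :
    ∃ k : ℕ, K.relIndex (Q ⊔ K) = p ^ k := by
  set N := normalizer (K : Set G) with hN
  haveI : (K.subgroupOf N).Normal := normal_in_normalizer
  have h1 := relIndex_sup_right (H := Q.subgroupOf N) (K := K.subgroupOf N)
  rw [← subgroupOf_sup hQK le_normalizer, relIndex_subgroupOf (sup_le hQK le_normalizer),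
    relIndex_subgroupOf hQK] at h1
  obtain ⟨k, hk⟩ := hQ.index (K.subgroupOf Q)
  exact ⟨k, h1.trans hk⟩

/-- A normal centric subgroup `W` of `H` forces `C_H(W) ≤ W O_{p'}(H)`. -/
theorem centralizer_le_sup_pPrimeCore {H : Type u} [Group H] [Finite H] (P : Sylow p H)
    {W : Subgroup H} [W.Normal] (hcent : (P : Subgroup H) ⊓ centralizer (W : Set H) ≤ W) :
    centralizer (W : Set H) ≤ W ⊔ Cfsg.pPrimeCore p H := by
  set C := centralizer (W : Set H) with hC
  obtain ⟨SC, hSC⟩ := CfsgLib.Transfer.exists_sylow_eq_subgroupOf P C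
  have hcen : ∀ x ∈ (SC : Subgroup C), ∀ y : C, x * y = y * x := fun x hx y => by
    rw [hSC] at hx
    exact Subtype.ext (mem_centralizer_iff.1 y.2 _ (hcent ⟨hx, x.2⟩))
  have hB := CfsgLib.Transfer.hasNormalPComplement_of_normalizer_le_centralizer SC
    fun y _ => mem_centralizer_iff.2 fun x hx => hcen x hx y
  rw [CfsgLib.Transfer.hasNormalPComplement_iff_coprime_pResidual] at hB
  have hKn : ((Cfsg.pResidual p C).map C.subtype).Normal := by
    haveI := CfsgLib.Transfer.pResidual_characteristic (p := p) (G := C)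
    infer_instance
  have hK : (Cfsg.pResidual p C).map C.subtype ≤ Cfsg.pPrimeCore p H :=
    le_sSup ⟨hKn, by rwa [card_map_of_injective C.subtype_injective]⟩
  haveI := CfsgLib.Transfer.pResidual_normal (p := p) (G := C)
  intro x hx
  set K := Cfsg.pResidual p C with hKdef
  have hKp : IsPGroup p (C ⧸ K) := CfsgLib.Transfer.isPGroup_quotient_of_pResidual_le le_rfl
  have htop : (SC.mapSurjective (QuotientGroup.mk'_surjective K) : Subgroup (C ⧸ K)) = ⊤ := by
    rw [← (SC.mapSurjective (QuotientGroup.mk'_surjective K)).is_maximal' (hKp.to_subgroup ⊤) le_top]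
  rw [Sylow.coe_mapSurjective] at htop
  obtain ⟨s, hs, hse⟩ := htop.ge (mem_top (QuotientGroup.mk' K ⟨x, hx⟩))
  have h1 : s⁻¹ * (⟨x, hx⟩ : C) ∈ K := QuotientGroup.eq.1 hse
  have h2 : x = (s : H) * ((s⁻¹ * ⟨x, hx⟩ : C) : H) := by simp
  rw [h2]
  refine mul_mem (mem_sup_left ?_) (mem_sup_right (hK ⟨_, h1, rfl⟩))
  rw [SetLike.mem_coe, hSC] at hs
  exact hcent ⟨hs, s.2⟩

/-- A normal subgroup `W` of `P` with `C_P(W) ≤ W` whose normalizer controls strong fusion yields a
least centric radical subgroup. -/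
theorem exists_least_centricRadical {G : Type u} [Group G] [Finite G] (P : Sylow p G) {W : Subgroup G}
    (hWP : W ≤ (P : Subgroup G)) (hPW : (P : Subgroup G) ≤ normalizer (W : Set G))
    (hcent : (P : Subgroup G) ⊓ centralizer (W : Set G) ≤ W)
    (hctrl : ∀ A : Set G, A ⊆ (P : Subgroup G) →
      Cfsg.ControlsStrongFusionOf (normalizer (W : Set G)) (P : Subgroup G) A)
    (cr : Subgroup G → Prop)
    (hcr : ∀ Q : Subgroup G, cr Q ↔ (Q ≤ (P : Subgroup G) ∧
      (∃ R : Sylow p ↥(centralizer (Q : Set G)),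
        (R : Subgroup ↥(centralizer (Q : Set G))).map (centralizer (Q : Set G)).subtype = Q ⊓ centralizer (Q : Set G)) ∧
      ∀ X : Subgroup G, X ≤ normalizer (Q : Set G) →
        (∀ n ∈ normalizer (Q : Set G), X.map (MulAut.conj n).toMonoidHom = X) →
        Q ⊔ centralizer (Q : Set G) ≤ X → (∃ k : ℕ, (Q ⊔ centralizer (Q : Set G)).relIndex X = p ^ k) →
        X = Q ⊔ centralizer (Q : Set G))) :
    ∃ Q : Subgroup G, cr Q ∧ (∀ R : Subgroup G, cr R → Q ≤ R) ∧
      (∀ x ∈ (P : Subgroup G), Q.map (MulAut.conj x).toMonoidHom = Q) ∧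
      ∀ A : Subgroup G, A ≤ (P : Subgroup G) → ∀ g : G, A.map (MulAut.conj g).toMonoidHom ≤ (P : Subgroup G) →
        ∃ h ∈ normalizer (Q : Set G), ∃ c ∈ centralizer (A : Set G), g = h * c := by
  set P' : Subgroup G := (P : Subgroup G) with hP'
  set H := normalizer (W : Set G) with hH
  set O := Cfsg.pPrimeCore p H with hO
  haveI hOn : O.Normal := Cfsg.pPrimeCore_normal p H
  have hcop : (Nat.card O).Coprime p := CfsgLib.Comp.coprime_card_pPrimeCore p H
  set π := QuotientGroup.mk' O with hπ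
  obtain ⟨T, hT⟩ := CfsgLib.Fusion.exists_sylow_of P.2 hPW fun hd =>
    P.not_dvd_index (hd.trans (relIndex_dvd_index_of_le hPW))
  have hinj : Set.InjOn π ((T : Subgroup H) : Set H) := injOn_mk'_of_isPGroup hcop T.2
  haveI hQn := Cfsg.pCore_normal p (H ⧸ O)
  set D := (Cfsg.pCore p (H ⧸ O)).comap π with hD
  haveI : D.Normal := Normal.comap inferInstance π
  set QH := (T : Subgroup H) ⊓ D with hQH
  have hQπ : QH.map π = Cfsg.pCore p (H ⧸ O) := by
    refine le_antisymm ((map_mono inf_le_right).trans (map_comap_le _ _)) ?_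
    intro y hy
    have h1 : y ∈ (T.mapSurjective (QuotientGroup.mk'_surjective O) : Subgroup (H ⧸ O)) :=
      CfsgLib.Solvable.pCore_le_sylow _ hy
    rw [Sylow.coe_mapSurjective] at h1
    obtain ⟨t, ht, rfl⟩ := h1
    exact ⟨t, ⟨ht, hy⟩, rfl⟩
  set Q := QH.map H.subtype with hQ
  have hQP : Q ≤ P' := by
    rintro _ ⟨x, hx, rfl⟩
    have h1 : x ∈ (T : Subgroup H) := hx.1
    rwa [hT] at h1
  have hQH' : Q ≤ H := map_subtype_le _
  set WH := W.subgroupOf H with hWH
  haveI : WH.Normal := normal_in_normalizer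
  have hWHp : IsPGroup p WH := (P.2.to_le hWP).comap_subtype
  have hWQH : WH ≤ QH := fun w hw => by
    refine ⟨?_, ?_⟩
    · rw [SetLike.mem_coe, hT]; exact hWP hw
    · exact CfsgLib.Solvable.le_pCore (Normal.map ‹WH.Normal› π (QuotientGroup.mk'_surjective O))
        (hWHp.map π) (mem_map_of_mem π hw)
  have hWQ : W ≤ Q := fun w hw => ⟨⟨w, le_normalizer hw⟩, hWQH hw, rfl⟩
  have hCW : centralizer (WH : Set H) ≤ WH ⊔ O := by
    refine centralizer_le_sup_pPrimeCore T ?_
    rintro x ⟨hxT, hxC⟩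
    rw [SetLike.mem_coe, hT] at hxT
    exact hcent ⟨hxT, mem_centralizer_iff.2 fun w hw =>
      congrArg Subtype.val (mem_centralizer_iff.1 hxC ⟨w, le_normalizer hw⟩ hw)⟩
  have hPQ : P' ≤ normalizer (Q : Set G) := by
    intro x hx
    have h1 : (⟨x, hPW hx⟩ : H) ∈ (T : Subgroup H) := by rw [hT]; exact hx
    have h2 : (⟨x, hPW hx⟩ : H) ∈ normalizer (QH : Set H) :=
      inf_normalizer_le_normalizer_inf ⟨le_normalizer h1, normalizer_eq_top D ▸ mem_top _⟩
    exact le_normalizer_map H.subtype ⟨_, h2, rfl⟩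
  -- control by `N_H(Q)`
  have hmain : ∀ A : Set G, A ⊆ P' → ∀ g : G, (fun a => g * a * g⁻¹) '' A ⊆ P' →
      ∃ x ∈ normalizer (Q : Set G) ⊓ H, ∀ a ∈ A, g * a * g⁻¹ = x * a * x⁻¹ := by
    intro A hA g hg
    obtain ⟨h, hh, hha⟩ := (hctrl A hA).2 g hg
    have hN := CfsgLib.Comp.map_normalizer_eq (O := O) hcop (T.2.to_le (inf_le_left : QH ≤ _))
    rw [← hπ, hQπ, normalizer_eq_top (Cfsg.pCore p (H ⧸ O))] at hN
    obtain ⟨n, hn, hne⟩ := hN.ge (mem_top (π ⟨h, hh⟩))
    set NH := normalizer (QH : Set H) with hNH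
    have hTN : (T : Subgroup H) ≤ NH := fun x hx =>
      inf_normalizer_le_normalizer_inf ⟨le_normalizer hx, normalizer_eq_top D ▸ mem_top _⟩
    set A' : Set H := H.subtype ⁻¹' A with hA'
    have hA'T : A' ⊆ (T : Subgroup H) := fun a ha => by rw [hT]; exact hA ha
    have hnA : lconj n A' ⊆ (((T : Subgroup H) ⊔ O) ⊓ NH : Subgroup H) := by
      rintro _ ⟨a, ha, rfl⟩
      refine ⟨?_, NH.mul_mem (NH.mul_mem hn (hTN (hA'T ha))) (NH.inv_mem hn)⟩
      have h1 : π (n * a * n⁻¹) ∈ (T : Subgroup H).map π := by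
        refine ⟨⟨h, hh⟩ * a * (⟨h, hh⟩ : H)⁻¹, ?_, ?_⟩
        · rw [SetLike.mem_coe, hT]
          show h * (a : G) * h⁻¹ ∈ P'
          rw [← hha (a : G) ha]
          exact hg ⟨_, ha, rfl⟩
        · simp only [map_mul, map_inv, hne]
      rw [← mem_comap, comap_map_eq, hπ, QuotientGroup.ker_mk'] at h1
      exact h1
    have hZp : IsPGroup p (closure (lconj n A')) :=
      (T.2.map (MulAut.conj n).toMonoidHom).to_le <| (closure_le _).2 <| by
        rintro _ ⟨a, ha, rfl⟩
        exact ⟨a, hA'T ha, rfl⟩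
    have hsyl : SylowIn p (T : Subgroup H) (((T : Subgroup H) ⊔ O) ⊓ NH) :=
      ⟨le_inf le_sup_left hTN, T.2, fun hd =>
        T.not_dvd_index (hd.trans (relIndex_dvd_index_of_le (le_inf le_sup_left hTN)))⟩
    obtain ⟨k, hk, hkle⟩ := hsyl.exists_conj_le hZp ((closure_le _).2 hnA)
    obtain ⟨s, hs, o, ho, rfl⟩ := mem_sup_of_normal_right.1 hk.1
    have hoN : o ∈ NH := by
      have := NH.mul_mem (NH.inv_mem (hTN hs)) hk.2
      simpa using this
    refine ⟨((o * n : H) : G), ⟨le_normalizer_map H.subtype ⟨_, NH.mul_mem hoN hn, rfl⟩, (o * n).2⟩,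
      fun a ha => ?_⟩
    have haH : a ∈ H := hPW (hA ha)
    have e : (⟨h, hh⟩ : H) * ⟨a, haH⟩ * (⟨h, hh⟩ : H)⁻¹ = o * n * ⟨a, haH⟩ * (o * n)⁻¹ := by
      refine hinj ?_ ?_ ?_
      · rw [SetLike.mem_coe, hT]
        show h * a * h⁻¹ ∈ P'
        rw [← hha _ ha]
        exact hg ⟨_, ha, rfl⟩
      · have h3 : s * o * (n * ⟨a, haH⟩ * n⁻¹) * (s * o)⁻¹ ∈ (T : Subgroup H) :=
          hkle (conj_mem_conjMap (subset_closure ⟨⟨a, haH⟩, ha, rfl⟩))
        have := mul_mem (mul_mem (inv_mem hs) h3) hs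
        rw [SetLike.mem_coe]
        simpa [mul_assoc] using this
      · have ho1 : π o = 1 := (QuotientGroup.eq_one_iff o).2 ho
        simp only [map_mul, map_inv, ho1, one_mul, hne]
    rw [hha a ha]
    exact congrArg Subtype.val e
  have hA4 : ∀ A : Subgroup G, A ≤ P' → ∀ g : G, A.map (MulAut.conj g).toMonoidHom ≤ P' →
      ∃ h ∈ normalizer (Q : Set G) ⊓ H, ∃ c ∈ centralizer (A : Set G), g = h * c := by
    intro A hA g hg
    obtain ⟨x, hx, hxa⟩ := hmain A hA g (by rintro _ ⟨a, ha, rfl⟩; exact hg ⟨a, ha, rfl⟩)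
    refine ⟨x, hx, x⁻¹ * g, mem_centralizer_iff.2 fun a ha => ?_, (mul_inv_cancel_left _ _).symm⟩
    calc a * (x⁻¹ * g) = x⁻¹ * (x * a * x⁻¹) * g := by group
      _ = x⁻¹ * (g * a * g⁻¹) * g := by rw [hxa a ha]
      _ = _ := by group
  have hCP : P' ⊓ centralizer (Q : Set G) ≤ W :=
    fun x hx => hcent ⟨hx.1, centralizer_le hWQ hx.2⟩
  have hCQ : ∀ x : H, (x : G) ∈ centralizer (Q : Set G) → π x ∈ Cfsg.pCore p (H ⧸ O) := by
    intro x hx
    have h1 : x ∈ WH ⊔ O := hCW (mem_centralizer_iff.2 fun w hw =>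
      Subtype.ext (mem_centralizer_iff.1 hx (w : G) (hWQ hw)))
    have h2 : WH ⊔ O ≤ D := sup_le (hWQH.trans inf_le_right) fun o ho => by
      rw [hD, mem_comap, hπ, QuotientGroup.mk'_apply, (QuotientGroup.eq_one_iff o).2 ho]
      exact one_mem _
    exact h2 h1
  have hcQ : cr Q := by
    refine (hcr Q).2 ⟨hQP, ?_, ?_⟩
    · set C := centralizer (Q : Set G) with hC
      have hidx : ¬ p ∣ P'.relIndex (normalizer (Q : Set G)) := fun hd =>
        P.not_dvd_index (hd.trans (relIndex_dvd_index_of_le hPQ))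
      have h1 := CfsgLib.Fusion.not_dvd_relIndex_inf P.2 hPQ hidx (centralizer_le_normalizer _)
        (fun k hk m hm => (inferInstance : (C.subgroupOf (normalizer (Q : Set G))).Normal).conj_mem
          ⟨m, centralizer_le_normalizer _ hm⟩ hm ⟨k, hk⟩)
      obtain ⟨R, hR⟩ := CfsgLib.Fusion.exists_sylow_of (P.2.to_le inf_le_left) inf_le_right h1
      refine ⟨R, ?_⟩
      rw [hR, map_subgroupOf_eq_of_le inf_le_right]
      exact le_antisymm (le_inf (hCP.trans hWQ) inf_le_right) (le_inf (inf_le_left.trans hQP) inf_le_right)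
    · rintro X hXN hXconj hXle ⟨k, hk⟩
      refine le_antisymm ?_ hXle
      set QC := Q ⊔ centralizer (Q : Set G) with hQC
      set Y := (X.comap H.subtype) with hY
      haveI : (QC.subgroupOf X).Normal := by
        have hle : X ≤ normalizer (QC : Set G) := by
          refine hXN.trans (le_trans ?_ (normalizer_inf_normalizer_le_sup _ _))
          exact le_inf le_rfl ((normal_subgroupOf_iff_le_normalizer (centralizer_le_normalizer _)).1
            inferInstance)
        exact (normal_subgroupOf_iff_le_normalizer hXle).2 hle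
      have hXpow : ∀ y ∈ X, ∃ j : ℕ, y ^ p ^ j ∈ QC := by
        intro y hy
        refine ⟨k, ?_⟩
        have h1 : (QuotientGroup.mk (⟨y, hy⟩ : X) : ↥X ⧸ QC.subgroupOf X) ^ p ^ k = 1 := by
          rw [← hk]; exact pow_card_eq_one'
        rw [← QuotientGroup.mk_pow, QuotientGroup.eq_one_iff] at h1
        exact h1
      set YN := Y ⊓ normalizer (QH : Set H) with hYN
      have hYn : (YN.map π).Normal := by
        constructor
        rintro _ ⟨y, hy, rfl⟩ g
        have hN := CfsgLib.Comp.map_normalizer_eq (O := O) hcop (T.2.to_le (inf_le_left : QH ≤ _))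
        rw [← hπ, hQπ, normalizer_eq_top (Cfsg.pCore p (H ⧸ O))] at hN
        obtain ⟨n, hn, rfl⟩ := hN.ge (mem_top g)
        refine ⟨n * y * n⁻¹, ⟨?_, (normalizer _).mul_mem ((normalizer _).mul_mem hn hy.2)
          ((normalizer _).inv_mem hn)⟩, by simp⟩
        have hnQ : (n : G) ∈ normalizer (Q : Set G) := le_normalizer_map H.subtype ⟨n, hn, rfl⟩
        show (n : G) * y * (n : G)⁻¹ ∈ X
        exact (hXconj _ hnQ).le ⟨(y : G), hy.1, rfl⟩
      have hYp : IsPGroup p ((YN.map π).map (QuotientGroup.mk' (Cfsg.pCore p (H ⧸ O)))) := by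
        rintro ⟨_, _, ⟨y, hy, rfl⟩, rfl⟩
        obtain ⟨j, hj⟩ := hXpow (y : G) hy.1
        refine ⟨j, Subtype.ext ?_⟩
        show QuotientGroup.mk' _ (π y) ^ p ^ j = 1
        rw [← map_pow, ← map_pow]
        refine (QuotientGroup.eq_one_iff _).2 ?_
        have hmem : ((y ^ p ^ j : H) : G) ∈ (Q : Set G) * (centralizer (Q : Set G) : Set G) := by
          rw [← Subgroup.coe_mul_of_right_le_normalizer_left Q _ (centralizer_le_normalizer _)]
          simpa using hj
        obtain ⟨_, ⟨q, hq, rfl⟩, c, hc, he⟩ := hmem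
        have hce : c = ((q⁻¹ * y ^ p ^ j : H) : G) := by
          rw [Subgroup.coe_mul, InvMemClass.coe_inv, ← he]
          simp
        have h2 := hCQ _ (hce ▸ hc)
        rw [map_mul, map_inv] at h2
        have h3 : π q ∈ Cfsg.pCore p (H ⧸ O) := hq.2
        have := mul_mem h3 h2
        rwa [mul_inv_cancel_left] at this
      have hYle : YN.map π ≤ Cfsg.pCore p (H ⧸ O) := by
        have h1 := CfsgLib.Solvable.le_pCore
          (Normal.map hYn (QuotientGroup.mk' (Cfsg.pCore p (H ⧸ O))) (QuotientGroup.mk'_surjective _)) hYp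
        rw [CfsgLib.Solvable.pCore_quotient_eq_bot, le_bot_iff, Subgroup.map_eq_bot_iff,
          QuotientGroup.ker_mk'] at h1
        exact h1
      intro x hx
      obtain ⟨h, hh, c, hc, rfl⟩ := hA4 Q hQP x (by
        rw [CfsgLib.Comp.map_conj_eq_iff.2 (hXN hx)]; exact hQP)
      have hhX : h ∈ X := by
        have := X.mul_mem hx (X.inv_mem (hXle (mem_sup_right hc)))
        rwa [mul_inv_cancel_right] at this
      refine QC.mul_mem ?_ (mem_sup_right hc)
      have hhN : (⟨h, hh.2⟩ : H) ∈ normalizer (QH : Set H) := by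
        rw [← map_subgroupOf_eq_of_le hQH'] at hh
        have : Q.subgroupOf H = QH := comap_map_eq_self_of_injective H.subtype_injective QH
        rw [this] at hh
        refine mem_normalizer_iff.2 fun z => ?_
        have h4 := mem_normalizer_iff.1 hh.1 (z : G)
        constructor
        · intro hz
          obtain ⟨w, hw, hwe⟩ := h4.1 ⟨z, hz, rfl⟩
          rwa [show (⟨h, hh.2⟩ : H) * z * (⟨h, hh.2⟩ : H)⁻¹ = w from Subtype.ext hwe.symm]
        · intro hz
          obtain ⟨w, hw, hwe⟩ := h4.2 ⟨_, hz, rfl⟩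
          rwa [show z = w from Subtype.ext hwe.symm]
      obtain ⟨q, hq, hqe⟩ := hQπ.ge (hYle ⟨⟨h, hh.2⟩, ⟨hhX, hhN⟩, rfl⟩)
      have ho : q⁻¹ * ⟨h, hh.2⟩ ∈ O := QuotientGroup.eq.1 hqe
      set o : H := q⁻¹ * ⟨h, hh.2⟩ with hoe
      have hoN : o ∈ normalizer (QH : Set H) := mul_mem (inv_mem (le_normalizer hq)) hhN
      have hocen : (o : G) ∈ centralizer (Q : Set G) := by
        refine mem_centralizer_iff.2 ?_
        rintro _ ⟨z, hz, rfl⟩
        have h5 : o * z * o⁻¹ = z := hinj ((mem_normalizer_iff.1 hoN z).1 hz).1 hz.1 (by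
          rw [map_mul, map_mul, map_inv, show π o = 1 from (QuotientGroup.eq_one_iff o).2 ho, one_mul,
            inv_one, mul_one])
        exact congrArg Subtype.val (mul_inv_eq_iff_eq_mul.1 h5).symm
      have : h = (q : G) * (o : G) := by rw [hoe]; simp
      rw [this]
      exact mul_mem (mem_sup_left ⟨q, hq, rfl⟩) (mem_sup_right hocen)
  refine ⟨Q, hcQ, fun R hR => ?_, fun x hx => CfsgLib.Comp.map_conj_eq_iff.2 (hPQ hx), fun A hA g hg => ?_⟩
  · obtain ⟨hRP, ⟨S₀, hS₀⟩, hrad⟩ := (hcr R).1 hR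
    have hCR : P' ⊓ centralizer (R : Set G) ≤ R := by
      have hle : (S₀ : Subgroup ↥(centralizer (R : Set G))) ≤ (P' ⊓ centralizer (R : Set G)).subgroupOf (centralizer (R : Set G)) := fun s hs => by
        have : (s : G) ∈ R ⊓ centralizer (R : Set G) := hS₀ ▸ mem_map_of_mem (centralizer (R : Set G)).subtype hs
        exact mem_subgroupOf.2 ⟨hRP this.1, this.2⟩
      have h1 := S₀.is_maximal' ((P.2.to_le inf_le_left).comap_subtype) hle
      intro x hx
      have h2 : (⟨x, hx.2⟩ : ↥(centralizer (R : Set G))) ∈ (S₀ : Subgroup ↥(centralizer (R : Set G))) := h1 ▸ mem_subgroupOf.2 hx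
      have : x ∈ R ⊓ centralizer (R : Set G) := hS₀ ▸ mem_map_of_mem (centralizer (R : Set G)).subtype h2
      exact this.1
    set C := centralizer (R : Set G) with hC
    set NQ := Q ⊓ normalizer (R : Set G) with hNQ
    have hRC : normalizer (R : Set G) ≤ normalizer ((R ⊔ C : Subgroup G) : Set G) :=
      le_trans (le_inf le_rfl ((normal_subgroupOf_iff_le_normalizer (centralizer_le_normalizer _)).1
        inferInstance)) (normalizer_inf_normalizer_le_sup _ _)
    have hXN : NQ ⊔ (R ⊔ C) ≤ normalizer (R : Set G) :=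
      sup_le inf_le_right (sup_le le_normalizer (centralizer_le_normalizer _))
    have hX := hrad (NQ ⊔ (R ⊔ C)) hXN ?_ le_sup_right
      (exists_relIndex_sup_pow (inf_le_right.trans hRC) (P.2.to_le (inf_le_left.trans hQP)))
    · have hNQR : NQ ≤ R := by
        intro x hx
        have h1 : x ∈ (R : Set G) * (C : Set G) := by
          rw [← Subgroup.coe_mul_of_right_le_normalizer_left R C (centralizer_le_normalizer _)]
          exact hX.le (mem_sup_left hx)
        obtain ⟨r, hr, c, hc, rfl⟩ := h1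
        refine R.mul_mem hr (hCR ⟨?_, hc⟩)
        have := P'.mul_mem (P'.inv_mem (hRP hr)) (hQP hx.1)
        rwa [inv_mul_cancel_left] at this
      by_contra hnle
      set S := Q ⊔ R with hS
      have hSP : S ≤ P' := sup_le hQP hRP
      have hRS : R < S := lt_of_le_of_ne le_sup_right fun h => hnle (h ▸ le_sup_left)
      haveI : Group.IsNilpotent S := (P.2.to_le hSP).isNilpotent
      have hlt := Group.normalizerCondition_of_isNilpotent (G := S) (R.subgroupOf S) (lt_top_iff_ne_top.2 fun h =>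
        hRS.not_ge (subgroupOf_eq_top.1 h))
      obtain ⟨x, hxN, hxR⟩ := SetLike.exists_of_lt hlt
      have hxN' : (x : G) ∈ normalizer (R : Set G) := by
        have := le_normalizer_map S.subtype ⟨x, hxN, rfl⟩
        rwa [map_subgroupOf_eq_of_le le_sup_right] at this
      have hx' : (x : G) ∈ (Q : Set G) * (R : Set G) := by
        rw [← Subgroup.coe_mul_of_right_le_normalizer_left Q R (hRP.trans hPQ)]
        exact x.2
      obtain ⟨q, hq, r, hr, he⟩ := hx'
      have hqN : q ∈ normalizer (R : Set G) := by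
        have := mul_mem hxN' (inv_mem (le_normalizer hr))
        rwa [← he, mul_inv_cancel_right] at this
      exact hxR (mem_subgroupOf.2 (he ▸ R.mul_mem (hNQR ⟨hq, hqN⟩) hr))
    · intro n hn
      obtain ⟨h, hh, c, hc, rfl⟩ := hA4 R hRP n (by
        rw [CfsgLib.Comp.map_conj_eq_iff.2 hn]; exact hRP)
      have hhR : h ∈ normalizer (R : Set G) := by
        have := mul_mem hn (inv_mem (centralizer_le_normalizer _ hc))
        rwa [mul_inv_cancel_right] at this
      refine CfsgLib.Comp.map_conj_eq_iff.2 (mul_mem ?_ ?_)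
      · exact (normalizer_inf_normalizer_le_sup _ _) ⟨inf_normalizer_le_normalizer_inf
          ⟨hh.1, le_normalizer hhR⟩, hRC hhR⟩
      · exact le_normalizer (mem_sup_right (mem_sup_right hc))
  · obtain ⟨h, hh, c, hc, rfl⟩ := hA4 A hA g hg
    exact ⟨h, hh.1, c, hc, rfl⟩

/-- No section `SL₂(p)` in any `N_G(Q)/C_G(Q)`: there is a least centric radical subgroup. -/
theorem exists_least_centricRadical_of_no_sl {G : Type u} [Group G] [Finite G] (h2 : p ≠ 2) (P : Sylow p G)
    (hfree : ∀ Q : Subgroup G, IsPGroup p ↥Q → ¬ ∃ (H K : Subgroup G) (_ : (K.subgroupOf H).Normal),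
      centralizer (Q : Set G) ≤ K ∧ K ≤ H ∧ H ≤ normalizer (Q : Set G) ∧
      Nonempty ((↥H ⧸ K.subgroupOf H) ≃* Matrix.SpecialLinearGroup (Fin 2) (ZMod p)))
    (cr : Subgroup G → Prop)
    (hcr : ∀ Q : Subgroup G, cr Q ↔ (Q ≤ (P : Subgroup G) ∧
      (∃ R : Sylow p ↥(centralizer (Q : Set G)),
        (R : Subgroup ↥(centralizer (Q : Set G))).map (centralizer (Q : Set G)).subtype = Q ⊓ centralizer (Q : Set G)) ∧
      ∀ X : Subgroup G, X ≤ normalizer (Q : Set G) →
        (∀ n ∈ normalizer (Q : Set G), X.map (MulAut.conj n).toMonoidHom = X) →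
        Q ⊔ centralizer (Q : Set G) ≤ X → (∃ k : ℕ, (Q ⊔ centralizer (Q : Set G)).relIndex X = p ^ k) →
        X = Q ⊔ centralizer (Q : Set G))) :
    ∃ Q : Subgroup G, cr Q ∧ (∀ R : Subgroup G, cr R → Q ≤ R) ∧
      (∀ x ∈ (P : Subgroup G), Q.map (MulAut.conj x).toMonoidHom = Q) ∧
      ∀ A : Subgroup G, A ≤ (P : Subgroup G) → ∀ g : G, A.map (MulAut.conj g).toMonoidHom ≤ (P : Subgroup G) →
        ∃ h ∈ normalizer (Q : Set G), ∃ c ∈ centralizer (A : Set G), g = h * c := by
  have hc : Ctrl p ({Cfsg.kInfLower} : Set (∀ (Q : Type u) [Group Q], Subgroup Q)) G :=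
    ctrl_kInf_of_pStable (fun L M _ => isNormalizerPStable_of_no_qd h2
      (no_qd_of_isSec (isSec_quotient L M) fun K f hf => no_qd_of_no_sl_induced hfree K f hf))
      _ kInfLower_isCharPFunctor fun _ _ _ _ h => h.1
  have hWc : Cfsg.IsConjugacyFunctor p (Cfsg.inducedFunctor (G := G) Cfsg.kInfLower) :=
    induced_isConjugacyFunctor kInfLower_isCharPFunctor
  refine exists_least_centricRadical P (functor_le hWc P.2)
    (le_normalizer_functor hWc P.2) ?_ (controlsOf_of_ctrl kInfLower_isCharPFunctor hc P) cr hcr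
  rintro x ⟨hx, hxc⟩
  refine ⟨⟨x, hx⟩, centralizer_kInfLower_le P.2 (mem_centralizer_iff.2 fun w hw =>
    Subtype.ext ?_), rfl⟩
  exact mem_centralizer_iff.1 hxc (w : G) ⟨w, hw, rfl⟩

end CfsgLib.PLocal
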