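import Cfsg.Agent.Lib.PLocal.FactorFourInd
import Cfsg.Agent.Lib.Fusion.OffenderGroup
import Cfsg.Agent.Lib.PLocal.Thompson

/-!
Groups without a section `S₄`: the centralizer of a central element of a Sylow `2`-subgroup in a
normal abelian `2`-subgroup and the normalizer of the elementary Thompson subgroup generate.
-/

set_option autoImplicit false
set_option linter.style.haveILetI false
set_option linter.unusedVariables false
set_option linter.unusedSectionVars false

universe u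

namespace CfsgLib.PLocal.FactorFour

open Cfsg Subgroup CfsgLib.Fusion

/-- Subgroups that are of largest order among the `(A ∩ C(U)) U` act as good subgroups. -/
theorem good_of_max {G : Type u} [Group G] [Finite G] {P A : Subgroup G}
    (hP : IsPGroup 2 P) (hAP : A ≤ P) (hAc : ∀ a ∈ A, ∀ b ∈ A, a * b = b * a)
    (V : Subgroup G) [V.Normal] (hVP : V ≤ P)
    (hmax : ∀ U : Subgroup G, U ≤ V →
      Nat.card ↥((A ⊓ centralizer (U : Set G)) ⊔ U) ≤ Nat.card A)
    [CfsgLibComm : IsMulCommutative V] :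
    letI : CommGroup V := { (inferInstance : Group V) with mul_comm := fun a b => CfsgLibComm.is_comm.comm a b }
    Offender.Good (A.map (MulAut.conjNormal (H := V))) := by
  letI : CommGroup V := { (inferInstance : Group V) with mul_comm := fun a b => CfsgLibComm.is_comm.comm a b }
  refine ⟨(hP.to_le hAP).map _, ?_, fun U hU => ?_⟩
  · rintro _ ⟨a, ha, rfl⟩ _ ⟨b, hb, rfl⟩
    rw [← map_mul, ← map_mul, hAc a ha b hb]
  set ρ : G →* MulAut V := MulAut.conjNormal (H := V) with hρ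
  set U₂ := U.map V.subtype with hU₂
  set A₀ := A ⊓ Subgroup.centralizer (U₂ : Set G) with hA₀
  have hU₂c : U₂ ≤ Subgroup.centralizer (U₂ : Set G) := by
    rintro _ ⟨u, hu, rfl⟩ _ ⟨w, hw, rfl⟩
    exact congrArg Subtype.val (mul_comm w u)
  set K := A₀ ⊔ U₂ with hK
  have hKmax : Nat.card K ≤ Nat.card A := hmax U₂ (Subgroup.map_subtype_le _)
  have hprod : Nat.card A₀ * Nat.card U₂ ≤ Nat.card ↥(A₀ ⊓ U₂) * Nat.card K := by
    have h1 := Subgroup.card_mul_index ((A₀ ⊓ U₂).subgroupOf A₀)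
    have h2 := Subgroup.card_mul_index (U₂.subgroupOf K)
    rw [Nat.card_congr (Subgroup.subgroupOfEquivOfLe (inf_le_left : A₀ ⊓ U₂ ≤ A₀)).toEquiv] at h1
    rw [Nat.card_congr (Subgroup.subgroupOfEquivOfLe (le_sup_right : U₂ ≤ K)).toEquiv] at h2
    rw [← h1, ← h2, mul_assoc]
    refine Nat.mul_le_mul le_rfl ?_
    rw [mul_comm (((A₀ ⊓ U₂).subgroupOf A₀).index)]
    refine Nat.mul_le_mul le_rfl ?_
    show (A₀ ⊓ U₂).relIndex A₀ ≤ U₂.relIndex K
    rw [Subgroup.inf_relIndex_left]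
    refine Subgroup.relIndex_le_of_le_right le_sup_left ?_
    intro h0
    exact absurd h2 (by
      rw [show (U₂.subgroupOf K).index = 0 from h0, mul_zero]
      exact Nat.card_pos.ne)
  have hfix : (U₂ ⊓ Subgroup.centralizer (A : Set G)) = (U ⊓ Offender.fixOf (A.map ρ)).map V.subtype := by
    ext g
    constructor
    · rintro ⟨⟨u, hu, rfl⟩, hg⟩
      refine ⟨u, ⟨hu, ?_⟩, rfl⟩
      rintro _ ⟨a, ha, rfl⟩
      refine Subtype.ext ((MulAut.conjNormal_apply a u).trans ?_)
      rw [show a * (u : G) = u * a from hg a ha]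
      exact mul_inv_cancel_right _ _
    · rintro ⟨u, ⟨hu, hf⟩, rfl⟩
      refine ⟨⟨u, hu, rfl⟩, fun a ha => ?_⟩
      have h1 := congrArg Subtype.val (hf (ρ a) ⟨a, ha, rfl⟩)
      rw [MulAut.conjNormal_apply, mul_inv_eq_iff_eq_mul] at h1
      exact h1
  have hsmall : Nat.card ↥(A₀ ⊓ U₂) ≤ Nat.card ↥(U ⊓ Offender.fixOf (A.map ρ)) := by
    rw [← Subgroup.card_map_of_injective V.subtype_injective, ← hfix]
    exact Subgroup.card_le_of_le fun g hg => ⟨hg.2, fun a ha => hAc a ha g hg.1.1⟩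
  have h0 : Nat.card U * Nat.card A₀ ≤ Nat.card A * Nat.card ↥(U ⊓ Offender.fixOf (A.map ρ)) := by
    calc Nat.card U * Nat.card A₀ = Nat.card A₀ * Nat.card U₂ := by
          rw [hU₂, Subgroup.card_map_of_injective V.subtype_injective, mul_comm]
      _ ≤ Nat.card ↥(A₀ ⊓ U₂) * Nat.card K := hprod
      _ ≤ Nat.card ↥(U ⊓ Offender.fixOf (A.map ρ)) * Nat.card A :=
          Nat.mul_le_mul hsmall hKmax
      _ = _ := mul_comm _ _
  let φ : A →* MulAut V := ρ.comp A.subtype
  have hrange : φ.range = A.map ρ := by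
    rw [MonoidHom.range_comp, Subgroup.range_subtype]
  have hker : (A.map ρ ⊓ Offender.kerOn U).comap φ = A₀.subgroupOf A := by
    ext a
    rw [Subgroup.mem_comap, Subgroup.mem_subgroupOf]
    constructor
    · rintro ⟨-, ha⟩
      refine ⟨a.2, ?_⟩
      rintro _ ⟨u, hu, rfl⟩
      have h1 : ((ρ a u : V) : G) = u := congrArg Subtype.val (ha u hu)
      rw [MulAut.conjNormal_apply, mul_inv_eq_iff_eq_mul] at h1
      exact h1.symm
    · rintro ⟨-, ha⟩
      refine ⟨hrange.le ⟨a, rfl⟩, fun u hu => Subtype.ext ?_⟩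
      refine (MulAut.conjNormal_apply (a : G) u).trans ?_
      rw [← ha u ⟨u, hu, rfl⟩, mul_inv_cancel_right]
  have h1 := Subgroup.card_mul_index ((A.map ρ ⊓ Offender.kerOn U).comap φ)
  rw [Subgroup.index_comap, hrange, hker,
    Nat.card_congr (Subgroup.subgroupOfEquivOfLe (inf_le_left : A₀ ≤ A)).toEquiv] at h1
  have h2 := Subgroup.card_mul_index φ.ker
  rw [Subgroup.index_ker, hrange] at h2
  have h3 := Subgroup.card_mul_index ((A.map ρ ⊓ Offender.kerOn U).subgroupOf (A.map ρ))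
  rw [Nat.card_congr (Subgroup.subgroupOfEquivOfLe
    (inf_le_left : A.map ρ ⊓ Offender.kerOn U ≤ A.map ρ)).toEquiv] at h3
  have hX : Nat.card A₀ = Nat.card φ.ker * Nat.card ↥(A.map ρ ⊓ Offender.kerOn U) := by
    have hr : 0 < ((A.map ρ ⊓ Offender.kerOn U).subgroupOf (A.map ρ)).index :=
      Nat.pos_of_ne_zero fun h => by
        rw [h, mul_zero] at h3
        exact Nat.card_pos.ne h3
    refine Nat.eq_of_mul_eq_mul_right hr ?_
    rw [mul_assoc, h3, h2]
    exact h1
  rw [hX, ← h2] at h0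
  refine Nat.le_of_mul_le_mul_left ?_ (Nat.card_pos (α := φ.ker))
  calc Nat.card φ.ker * (Nat.card U * Nat.card ↥(A.map ρ ⊓ Offender.kerOn U))
      = Nat.card U * (Nat.card φ.ker * Nat.card ↥(A.map ρ ⊓ Offender.kerOn U)) := by ring
    _ ≤ _ := h0.trans (le_of_eq (by ring))

theorem elemAb_map_conj {G : Type u} [Group G] (a : G) {A : Subgroup G}
    (hA : Cfsg.IsElementaryAbelian 2 A) : Cfsg.IsElementaryAbelian 2 (conjSub a A) := by
  refine ⟨CfsgLib.Complement.isMulCommutative_map _ hA.1, ?_⟩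
  rintro _ ⟨b, hb, rfl⟩
  rw [← map_pow, hA.2 b hb, map_one]

/-- The elementary Thompson subgroup is weakly closed. -/
theorem thompsonOf_weaklyClosed {G : Type u} [Group G] [Finite G] (P : Subgroup G) {a : G}
    (ha : conjSub a (Cfsg.thompsonSubgroupOf 2 P) ≤ P) :
    conjSub a (Cfsg.thompsonSubgroupOf 2 P) = Cfsg.thompsonSubgroupOf 2 P := by
  refine Subgroup.eq_of_le_of_card_ge ?_ (card_conjSub a _).ge
  rw [conjSub, Subgroup.map_le_iff_le_comap]
  refine le_trans (thompsonOf_eq P).le (sSup_le fun A hA => ?_)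
  rw [← Subgroup.map_le_iff_le_comap]
  refine le_thompsonOf ⟨(conjSub_mono (le_thompsonOf hA)).trans ha, ?_, fun B hB hBc => ?_⟩
  · exact elemAb_map_conj a hA.2.1
  · rw [Subgroup.card_map_of_injective (MulAut.conj a).injective]
    exact hA.2.2 B hB hBc

/-- Elementary abelian subgroups of largest order are good on normal elementary abelian subgroups. -/
theorem good_of_maxElem {G : Type u} [Group G] [Finite G] {P A : Subgroup G}
    (hP : IsPGroup 2 P) (hA : A ∈ maxElemIn 2 P) (V : Subgroup G) [V.Normal]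
    (hVP : V ≤ P) (hV2 : ∀ v ∈ V, v ^ 2 = 1) [CfsgLibComm : IsMulCommutative V] :
    letI : CommGroup V := { (inferInstance : Group V) with mul_comm := fun a b => CfsgLibComm.is_comm.comm a b }
    Offender.Good (A.map (MulAut.conjNormal (H := V))) := by
  have hAc : ∀ a ∈ A, ∀ b ∈ A, a * b = b * a := fun a ha b hb =>
    congrArg Subtype.val (hA.2.1.1.is_comm.comm (⟨a, ha⟩ : A) ⟨b, hb⟩)
  refine good_of_max hP hA.1 hAc V hVP fun U hU => ?_
  refine hA.2.2 _ (sup_le (inf_le_left.trans hA.1) (hU.trans hVP)) ?_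
  have hUc : U ≤ centralizer (U : Set G) := fun u hu w hw =>
    congrArg Subtype.val (CfsgLibComm.is_comm.comm (⟨w, hU hw⟩ : V) ⟨u, hU hu⟩)
  have h1 : (A ⊓ centralizer (U : Set G)) ⊔ U ≤ centralizer ((A ⊓ centralizer (U : Set G) : Subgroup G) : Set G) :=
    sup_le (fun a ha b hb => hAc b hb.1 a ha.1) (fun u hu b hb => (hb.2 u hu).symm)
  have h2 : (A ⊓ centralizer (U : Set G)) ⊔ U ≤ centralizer (U : Set G) := sup_le inf_le_right hUc
  have hc := sup_le (le_centralizer_iff.1 h1) (le_centralizer_iff.1 h2)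
  refine ⟨le_centralizer_iff_isMulCommutative.1 hc, fun k hk => ?_⟩
  rw [sup_eq_closure] at hk hc
  induction hk using closure_induction with
  | mem k hk =>
    rcases hk with hk | hk
    · exact hA.2.1.2 k hk.1
    · exact hV2 k (hU hk)
  | one => exact one_pow _
  | mul a b ha hb iha ihb =>
    rw [(show Commute a b from (hc hb a ha)).mul_pow, iha, ihb, one_mul]
  | inv a _ iha => rw [inv_pow, iha, inv_one]

/-- Without a section `S₄`: a central element of a Sylow `2`-subgroup lying in a normal elementary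
abelian `2`-subgroup. -/
theorem le_centralizer_sup_normalizer {G : Type u} [Group G] [Finite G]
    (hfree : ¬ Cfsg.Involves (Equiv.Perm (Fin 4)) G) (P : Sylow 2 G) {V : Subgroup G}
    (hVn : V.Normal) (hV : IsPGroup 2 V) (hVc : ∀ a ∈ V, ∀ b ∈ V, a * b = b * a) {w : G} (hw : w ∈ V)
    (hwP : ∀ s ∈ (P : Subgroup G), s * w * s⁻¹ = w) (hw2 : ∀ g : G, g * (w * w) * g⁻¹ = w * w)
    (𝒜 : Set (Subgroup G)) (hJw : ∀ a : G, conjSub a (sSup 𝒜) ≤ (P : Subgroup G) → conjSub a (sSup 𝒜) = sSup 𝒜)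
    (h𝒜 : ∀ A ∈ 𝒜, A ≤ (P : Subgroup G))
    (hgood : ∀ (U : Subgroup G) [U.Normal] [CfsgLibComm : IsMulCommutative U], U ≤ normalClosure {w} →
      letI : CommGroup U := { (inferInstance : Group U) with mul_comm := fun a b => CfsgLibComm.is_comm.comm a b }
      ∀ A ∈ 𝒜, Offender.Good (A.map (MulAut.conjNormal (H := U)))) :
    ⊤ ≤ centralizer ({w} : Set G) ⊔ normalizer ((sSup 𝒜 : Subgroup G) : Set G) := by
  haveI : Fact (Nat.Prime 2) := ⟨Nat.prime_two⟩
  set U := normalClosure ({w} : Set G) with hU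
  have hUV : U ≤ V := normalClosure_le_normal (Set.singleton_subset_iff.2 hw)
  haveI hUc : IsMulCommutative U := ⟨⟨fun a b => Subtype.ext (hVc a (hUV a.2) b (hUV b.2))⟩⟩
  letI : CommGroup U := { (inferInstance : Group U) with mul_comm := fun a b => hUc.is_comm.comm a b }
  have hwU : w ∈ U := subset_normalClosure rfl
  set ρ : G →* MulAut U := MulAut.conjNormal (H := U) with hρ
  set J := sSup 𝒜 with hJ
  have hJP : J ≤ (P : Subgroup G) := sSup_le h𝒜
  have hidx : ¬ 2 ∣ (P : Subgroup G).relIndex ⊤ := by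
    rw [relIndex_top_right]
    exact P.not_dvd_index
  have key := genGoal (Nat.card ρ.range + Nat.card U) U ρ.range ((P : Subgroup G).map ρ) (J.map ρ) ⟨w, hwU⟩
    le_rfl (hV.to_le hUV) (by
      rintro _ ⟨a, rfl⟩
      exact Subtype.ext ((MulAut.conjNormal_apply a _).trans (hw2 a)))
    (noThree_conjNormal hfree U) (map_le_range ρ _) (P.isPGroup'.map ρ) (by
      intro h
      have h1 : (P : Subgroup G).map ρ.rangeRestrict = ((P : Subgroup G).map ρ).subgroupOf ρ.range := by
        ext m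
        exact ⟨fun ⟨a, ha, he⟩ => ⟨a, ha, congrArg Subtype.val he⟩,
          fun ⟨a, ha, he⟩ => ⟨a, ha, Subtype.ext he⟩⟩
      rw [relIndex, ← h1] at h
      exact P.not_dvd_index (h.trans (index_map_dvd _ ρ.rangeRestrict_surjective))) (by
      rintro _ ⟨a, ha, rfl⟩
      exact Subtype.ext ((MulAut.conjNormal_apply a _).trans (hwP a ha)))
    (map_mono hJP) (by
      rintro _ ⟨a, rfl⟩ ha
      exact conjSub_map_eq_of_le ρ P.isPGroup' hidx hJP hJw ha)
    ⟨(fun A : Subgroup G => A.map ρ) '' 𝒜, by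
      rw [hJ, (gc_map_comap ρ).l_sSup, sSup_image], by
      rintro _ ⟨A, hA, rfl⟩
      exact hgood U le_rfl A hA⟩
  set M := centralizer ({w} : Set G) ⊔ normalizer (J : Set G) with hM
  have hker : ρ.ker ≤ M := fun k hk => mem_sup_left (mem_centralizer_singleton_iff.2 (by
    have h1 : ((ρ k ⟨w, hwU⟩ : U) : G) = w := by rw [MonoidHom.mem_ker.1 hk]; rfl
    rw [MulAut.conjNormal_apply] at h1
    exact mul_inv_eq_iff_eq_mul.1 h1))
  have hle : genSub ρ.range (J.map ρ) ⟨w, hwU⟩ ≤ M.map ρ := by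
    refine sup_le ?_ ?_
    · rintro _ ⟨⟨a, rfl⟩, ha⟩
      refine ⟨a, mem_sup_left (mem_centralizer_singleton_iff.2 ?_), rfl⟩
      have h1 : ((ρ a ⟨w, hwU⟩ : U) : G) = w := congrArg Subtype.val ha
      rw [MulAut.conjNormal_apply] at h1
      exact mul_inv_eq_iff_eq_mul.1 h1
    · rintro _ ⟨⟨a, rfl⟩, ha⟩
      obtain ⟨j, hj, m, hm, hjm⟩ := exists_normalizer_lift ρ P.isPGroup' hidx hJP hJw
        (a := a) (mem_normalizer_iff_map_conj_eq.1 ha)
      refine ⟨j⁻¹ * m, mem_sup_right (mul_mem (inv_mem (le_normalizer hj))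
        (mem_normalizer_iff_map_conj_eq.2 hm)), ?_⟩
      rw [map_mul, map_inv, ← hjm, inv_mul_cancel_left]
  intro g _
  obtain ⟨h, hh, he⟩ := hle (key ⟨g, rfl⟩)
  have h1 : h⁻¹ * g ∈ ρ.ker := by rw [MonoidHom.mem_ker, map_mul, map_inv, he, inv_mul_cancel]
  have := M.mul_mem hh (hker h1)
  rwa [mul_inv_cancel_left] at this

end CfsgLib.PLocal.FactorFour
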