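import Mathlib
import Cfsg.Agent.Lib.PLocal.FactorFourGroup
import Cfsg.Agent.Lib.PLocal.QuotientStable
import Cfsg.Agent.Lib.PLocal.QuotientCoprime
import Cfsg.Agent.Lib.PLocal.Section
import Cfsg.Agent.Lib.Comp.PConstrained
import Cfsg.Agent.Lib.Solvable.HallHigman

/-!
Groups without a section `S₄` with Sylow `2`-subgroups of class two: `J(S)` is normal modulo `O(G)`.
-/

set_option autoImplicit false

universe u

namespace CfsgLib.PLocal

open Subgroup
open scoped commutatorElement

/-- Elements acting trivially on `Q / (Q ∩ Z(G))` lie in `Q`, when `C_G(Q) ≤ Q`. -/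
theorem mem_pCore_of_commutator_central {p : ℕ} [Fact p.Prime] {G : Type u} [Group G] [Finite G]
    (hc : centralizer (Cfsg.pCore p G : Set G) ≤ Cfsg.pCore p G) {g : G}
    (h : ∀ q ∈ Cfsg.pCore p G, ⁅g, q⁆ ∈ center G) : g ∈ Cfsg.pCore p G := by
  haveI hQn := Cfsg.pCore_normal p G
  set Q := Cfsg.pCore p G with hQ
  set K := (centralizer ((Q.map (QuotientGroup.mk' (center G)) : Subgroup _) : Set (G ⧸ center G))).comap
    (QuotientGroup.mk' (center G)) with hK
  haveI : (Q.map (QuotientGroup.mk' (center G))).Normal := hQn.map _ (QuotientGroup.mk'_surjective _)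
  have hKn : K.Normal := Normal.comap inferInstance _
  have hQp : IsPGroup p Q := CfsgLib.Solvable.pCore_isPGroup p
  have hmem : ∀ k, k ∈ K ↔ ∀ q ∈ Q, ⁅k, q⁆ ∈ center G := by
    intro k
    rw [hK, mem_comap, mem_centralizer_iff]
    constructor
    · intro h q hq
      refine (QuotientGroup.eq_one_iff _).1 ?_
      show QuotientGroup.mk' (center G) ⁅k, q⁆ = 1
      rw [map_commutatorElement]
      exact commutatorElement_eq_one_iff_commute.2 (h _ (mem_map_of_mem _ hq)).symm
    · rintro h _ ⟨q, hq, rfl⟩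
      have h1 : QuotientGroup.mk' (center G) ⁅k, q⁆ = 1 := (QuotientGroup.eq_one_iff _).2 (h q hq)
      rw [map_commutatorElement] at h1
      exact (commutatorElement_eq_one_iff_commute.1 h1).symm
  have hKp : IsPGroup p K := by
    refine isPGroup_of_forall_coprime fun k hk hcop => ?_
    have hkQ : k ∈ centralizer (Q : Set G) := by
      refine centralizes_of_fixes (W := Q) (Z := Q ⊓ center G) hQp inf_le_left hcop
        (mem_centralizer_iff.2 fun z hz => (mem_center_iff.1 hz.2 k).symm) fun q hq => ?_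
      refine ⟨Q.mul_mem (Q.inv_mem hq) (hQn.conj_mem q hq k), ?_⟩
      rw [SetLike.mem_coe]
      have h1 : ⁅k, q⁆ ∈ center G := (hmem k).1 hk q hq
      have e : q⁻¹ * (k * q * k⁻¹) = q⁻¹ * ⁅k, q⁆ * q := by rw [commutatorElement_def]; group
      rw [e, mul_assoc, ← mem_center_iff.1 h1 q, inv_mul_cancel_left]
      exact h1
    obtain ⟨j, hj⟩ := hQp ⟨k, hc hkQ⟩
    exact orderOf_eq_one_iff.1 (Nat.eq_one_of_dvd_coprimes (hcop.pow_right j) dvd_rfl
      (orderOf_dvd_of_pow_eq_one (congrArg Subtype.val hj)))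
  exact CfsgLib.Solvable.le_pCore hKn hKp ((hmem g).2 h)

/-- Class two and no section `S₄`: the elementary Thompson subgroup is normal in a constrained group. -/
theorem thompsonOf_normal_of_class_two_aux :
    ∀ (n : ℕ) (G : Type u) [Group G] [Finite G], Nat.card G = n →
      centralizer (Cfsg.pCore 2 G : Set G) ≤ Cfsg.pCore 2 G →
      ¬ Cfsg.Involves (Equiv.Perm (Fin 4)) G → ∀ S : Sylow 2 G,
      ⁅⁅(S : Subgroup G), (S : Subgroup G)⁆, (S : Subgroup G)⁆ = ⊥ →
      (Cfsg.thompsonSubgroupOf 2 (S : Subgroup G)).Normal := by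
  haveI : Fact (Nat.Prime 2) := ⟨Nat.prime_two⟩
  intro n
  induction n using Nat.strong_induction_on with
  | _ n ih =>
    intro G _ _ hn hc hfree S hcl
    set S' : Subgroup G := (S : Subgroup G) with hS'
    haveI hQn := Cfsg.pCore_normal 2 G
    set Q := Cfsg.pCore 2 G with hQ
    have hQp : IsPGroup 2 Q := CfsgLib.Solvable.pCore_isPGroup 2
    have hQS : Q ≤ S' := CfsgLib.Solvable.pCore_le_sylow S
    set J := Cfsg.thompsonSubgroupOf 2 S' with hJ
    rw [← normalizer_eq_top_iff, ← top_le_iff]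
    by_cases hz : ∀ z ∈ S', z ^ 2 = 1 → z ∈ centralizer (S' : Set G) → z ∈ center G
    swap
    · push Not at hz
      obtain ⟨z, hzS, hz2, hzc, hznc⟩ := hz
      have hzQ : z ∈ centralizer (Q : Set G) := centralizer_le hQS hzc
      have hVc : ∀ a ∈ Q ⊓ centralizer (Q : Set G), ∀ b ∈ Q ⊓ centralizer (Q : Set G), a * b = b * a :=
        fun a ha b hb => mem_centralizer_iff.1 hb.2 a ha.1
      have hgen : ⊤ ≤ centralizer ({z} : Set G) ⊔ normalizer (J : Set G) := by
        rw [hJ, thompsonOf_eq]
        refine FactorFour.le_centralizer_sup_normalizer hfree S (V := Q ⊓ centralizer (Q : Set G))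
          inferInstance (hQp.to_le inf_le_left) hVc ⟨hc hzQ, hzQ⟩
          (fun s hs => by rw [mem_centralizer_iff.1 hzc s hs, mul_inv_cancel_right])
          (fun g => by rw [← sq, hz2]; group) _ ?_ (fun A hA => hA.1) ?_
        · rw [← thompsonOf_eq]
          exact fun a => FactorFour.thompsonOf_weaklyClosed _
        · intro U _ hUc hUle A hA
          have hzle : normalClosure ({z} : Set G) ≤ Q ⊓ centralizer (Q : Set G) :=
            normalClosure_le_normal (Set.singleton_subset_iff.2 ⟨hc hzQ, hzQ⟩)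
          refine FactorFour.good_of_maxElem S.2 hA U ((hUle.trans hzle).trans (inf_le_left.trans hQS)) ?_
          intro v hv
          have hv' := hUle hv
          clear hv
          induction hv' using closure_induction with
          | mem x hx =>
            obtain ⟨b, hb, hbx⟩ := Group.mem_conjugatesOfSet_iff.1 hx
            obtain rfl := Set.mem_singleton_iff.1 hb
            obtain ⟨c, rfl⟩ := isConj_iff.1 hbx
            rw [conj_pow, hz2, mul_one, mul_inv_cancel]
          | one => exact one_pow _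
          | mul a b ha hb iha ihb =>
            rw [(show Commute a b from hVc a (hzle ha) b (hzle hb)).mul_pow, iha, ihb, one_mul]
          | inv a _ iha => rw [inv_pow, iha, inv_one]
      refine hgen.trans (sup_le ?_ le_rfl)
      set M := centralizer ({z} : Set G) with hM
      have hSM : S' ≤ M := fun s hs => mem_centralizer_singleton_iff.2 (mem_centralizer_iff.1 hzc s hs)
      have hMne : M ≠ ⊤ := fun h => hznc (mem_center_iff.2 fun g =>
        (mem_centralizer_singleton_iff.1 (h ▸ mem_top g : g ∈ M)))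
      obtain ⟨T, hT⟩ := CfsgLib.Fusion.exists_sylow_of S.2 hSM fun hd =>
        S.not_dvd_index (hd.trans (relIndex_dvd_index_of_le hSM))
      have hQM : Q.subgroupOf M ≤ Cfsg.pCore 2 M := CfsgLib.Solvable.le_pCore inferInstance
        hQp.comap_subtype
      have hcM : centralizer (Cfsg.pCore 2 M : Set M) ≤ Cfsg.pCore 2 M := fun x hx => hQM (hc
        (mem_centralizer_iff.2 fun q hq => congrArg Subtype.val
          (mem_centralizer_iff.1 hx ⟨q, hSM (hQS hq)⟩ (hQM hq))))
      have hTS : (T : Subgroup M).map M.subtype = S' := by rw [hT, map_subgroupOf_eq_of_le hSM]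
      have hJn := ih _ (hn ▸ lt_of_le_of_ne (card_le_card_group M) fun hc' =>
        hMne (eq_top_of_card_eq _ hc')) M rfl hcM
        (fun h => hfree (CfsgLib.Complement.involves_of_subgroup h)) T (by
          apply map_injective M.subtype_injective
          rw [map_commutator, map_commutator, hTS, Subgroup.map_bot, hcl])
      have h1 := le_normalizer_map M.subtype (H := Cfsg.thompsonSubgroupOf 2 (T : Subgroup M))
      rw [normalizer_eq_top_iff.2 hJn, ← MonoidHom.range_eq_map, range_subtype,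
        thompsonOf_map_of_injOn M.subtype M.subtype_injective.injOn, hTS] at h1
      exact h1
    · have hle : J ≤ Q := by
        rw [hJ, thompsonOf_eq]
        refine sSup_le fun A hA a ha => mem_pCore_of_commutator_central hc fun q hq => ?_
        have ha' := hA.1 ha
        have h1 : ⁅a, q⁆ ∈ ⁅S', S'⁆ := commutator_mem_commutator ha' (hQS hq)
        have h2 : ∀ s ∈ S', Commute ⁅a, q⁆ s := fun s hs =>
          commutatorElement_eq_one_iff_commute.1 (mem_bot.1 (hcl.le (commutator_mem_commutator h1 hs)))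
        refine hz _ (S'.mul_mem (S'.mul_mem (S'.mul_mem ha' (hQS hq)) (S'.inv_mem ha')) (S'.inv_mem (hQS hq))) ?_
          (mem_centralizer_iff.2 fun s hs => (h2 s hs).eq.symm)
        have h3 : ⁅a * a, q⁆ = ⁅a, q⁆ * ⁅a, q⁆ := by
          calc ⁅a * a, q⁆ = a * ⁅a, q⁆ * a⁻¹ * ⁅a, q⁆ := by simp only [commutatorElement_def]; group
            _ = ⁅a, q⁆ * ⁅a, q⁆ := by rw [← (h2 a ha').eq, mul_inv_cancel_right]
        rw [sq, ← h3, show a * a = 1 by rw [← sq]; exact hA.2.1.2 a ha, commutatorElement_one_left]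
      intro g _
      have hJQ : Cfsg.thompsonSubgroupOf 2 Q = J := thompsonOf_eq_of_le hle hQS
      rw [← hJQ]
      exact normalizer_le_normalizer_thompsonOf Q (normalizer_eq_top Q ▸ mem_top g)

/-- No section `S₄`, class two, `2`-constrained: `G = N(J(S)) O(G)`. -/
theorem normalizer_thompsonOf_sup_eq_top {G : Type u} [Group G] [Finite G]
    (hfree : ¬ Cfsg.Involves (Equiv.Perm (Fin 4)) G) (S : Sylow 2 G)
    (hcl : Subgroup.lowerCentralSeries (S : Subgroup G) 2 = ⊥) [(Cfsg.pPrimeCore 2 G).Normal]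
    (hc : centralizer (Cfsg.pCore 2 (G ⧸ Cfsg.pPrimeCore 2 G) : Set (G ⧸ Cfsg.pPrimeCore 2 G)) ≤
      Cfsg.pCore 2 (G ⧸ Cfsg.pPrimeCore 2 G)) :
    normalizer ((Cfsg.thompsonSubgroupOf 2 (S : Subgroup G)) : Set G) ⊔ Cfsg.pPrimeCore 2 G = ⊤ := by
  haveI : Fact (Nat.Prime 2) := ⟨Nat.prime_two⟩
  set q := QuotientGroup.mk' (Cfsg.pPrimeCore 2 G) with hq
  have hcop := CfsgLib.Comp.coprime_card_pPrimeCore 2 G
  have hinj : Set.InjOn q ((S : Subgroup G) : Set G) := injOn_mk'_of_isPGroup hcop S.2
  have hn := thompsonOf_normal_of_class_two_aux _ (G ⧸ Cfsg.pPrimeCore 2 G) rfl hc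
    (fun h => hfree (CfsgLib.Complement.involves_of_quotient h))
    (S.mapSurjective (QuotientGroup.mk'_surjective _)) (by
      rw [Sylow.coe_mapSurjective, ← map_commutator, ← map_commutator,
        show ⁅⁅(S : Subgroup G), (S : Subgroup G)⁆, (S : Subgroup G)⁆ = ⊥ from hcl, Subgroup.map_bot])
  rw [Sylow.coe_mapSurjective, ← thompsonOf_map_of_injOn q hinj] at hn
  set J := Cfsg.thompsonSubgroupOf 2 (S : Subgroup G) with hJ
  have h1 := CfsgLib.Comp.map_normalizer_eq hcop (S.2.to_le (thompsonOf_le (S : Subgroup G)) : IsPGroup 2 J)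
  rw [normalizer_eq_top_iff.2 hn] at h1
  refine eq_top_iff.2 fun g _ => ?_
  obtain ⟨m, hm, hme⟩ : q g ∈ (normalizer (J : Set G)).map q := h1.symm ▸ mem_top _
  have h3 : m⁻¹ * g ∈ Cfsg.pPrimeCore 2 G := QuotientGroup.eq.1 hme
  rw [show g = m * (m⁻¹ * g) by group]
  exact mul_mem (mem_sup_left hm) (mem_sup_right h3)

end CfsgLib.PLocal
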