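import Cfsg.Agent.Lib.PLocal.StrongReduce

/-!
# Reduction of control of fusion to proper overgroups of a Sylow subgroup
-/

namespace CfsgLib.PLocal

open Subgroup
open scoped Pointwise

universe u

variable {p : ℕ} [hp : Fact p.Prime]

/-- Without `C(O_p) ≤ O_p`, fusion is controlled by `M` as soon as it is in all proper overgroups
of the Sylow subgroup and, modulo `O_p`, by one of them. -/
theorem controls_of_overgroups {G : Type u} [Group G] [Finite G] (S : Sylow p G) (M : Subgroup G)
    (hstep : ∀ H : Subgroup G, H ≠ ⊤ → (S : Subgroup G) ≤ H → ∀ (A : Set G) (h : G), h ∈ H →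
      A ⊆ (S : Subgroup G) → lconj h A ⊆ (S : Subgroup G) →
      ∃ x ∈ M, ∀ a ∈ A, x * a * x⁻¹ = h * a * h⁻¹)
    (hO : Cfsg.pPrimeCore p G = ⊥) (hnc : ¬ Constrained p G)
    (hquot : (S : Subgroup G) ⊔ centralizer ((Cfsg.pCore p G : Subgroup G) : Set G) = ⊤ →
      ∃ H : Subgroup G, H ≠ ⊤ ∧ (S : Subgroup G) ≤ H ∧ ∀ (A : Set G) (g : G),
        A ⊆ (S : Subgroup G) → lconj g A ⊆ (S : Subgroup G) →
        ∃ h ∈ H, ∀ a ∈ A, (h * a * h⁻¹) * (g * a * g⁻¹)⁻¹ ∈ Cfsg.pCore p G) :
    ∀ (A : Set G) (g : G), A ⊆ (S : Subgroup G) → lconj g A ⊆ (S : Subgroup G) →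
      ∃ x ∈ M, ∀ a ∈ A, x * a * x⁻¹ = g * a * g⁻¹ := by
  set S' : Subgroup G := (S : Subgroup G) with hS'
  haveI hQn : (Cfsg.pCore p G).Normal := Cfsg.pCore_normal p G
  set Q := Cfsg.pCore p G with hQ
  have hQS : Q ≤ S' := CfsgLib.Solvable.pCore_le_sylow S
  have hQp : IsPGroup p Q := CfsgLib.Solvable.pCore_isPGroup p
  set C := centralizer (Q : Set G) with hC
  set P := fun x : G => x ∈ M with hP
  have hsym : ∀ x, P x → P x⁻¹ := fun x hx => M.inv_mem hx
  have hCQ : ¬ C ≤ Q := hnc
  haveI hQCn : (Q ⊔ C).Normal := inferInstance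
  set N₀ := normalizer ((S' ⊓ (Q ⊔ C) : Subgroup G) : Set G) with hN₀
  have hSN₀ : S' ≤ N₀ := (le_inf S'.le_normalizer (le_normalizer_of_normal S' (Q ⊔ C))).trans
    inf_normalizer_le_normalizer_inf
  have hN₀top : N₀ ≠ ⊤ := by
    intro h
    refine hCQ ?_
    have hn : (S' ⊓ (Q ⊔ C)).Normal := normalizer_eq_top_iff.1 h
    have hle : S' ⊓ (Q ⊔ C) ≤ Q := CfsgLib.Solvable.le_pCore hn (S.2.to_le inf_le_left)
    obtain ⟨SC, hSC⟩ := CfsgLib.Transfer.exists_sylow_eq_subgroupOf S C
    have hcen : ∀ x ∈ (SC : Subgroup C), ∀ y : C, x * y = y * x := fun x hx y => by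
      rw [hSC] at hx
      exact Subtype.ext (mem_centralizer_iff.1 y.2 _ (hle ⟨hx, mem_sup_right x.2⟩))
    have hB := CfsgLib.Transfer.hasNormalPComplement_of_normalizer_le_centralizer SC
      fun y _ => mem_centralizer_iff.2 fun x hx => hcen x hx y
    rw [CfsgLib.Transfer.hasNormalPComplement_iff_coprime_pResidual] at hB
    have hKn : ((Cfsg.pResidual p C).map C.subtype).Normal := by
      haveI := CfsgLib.Transfer.pResidual_characteristic (p := p) (G := C)
      infer_instance
    have hK1 : Cfsg.pResidual p C = ⊥ := by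
      have : (Cfsg.pResidual p C).map C.subtype ≤ Cfsg.pPrimeCore p G :=
        le_sSup ⟨hKn, by rwa [card_map_of_injective C.subtype_injective]⟩
      rwa [hO, le_bot_iff, map_eq_bot_iff_of_injective _ C.subtype_injective] at this
    haveI := CfsgLib.Transfer.pResidual_normal (p := p) (G := C)
    have hCp : IsPGroup p C := by
      have h1 : IsPGroup p (C ⧸ Cfsg.pResidual p C) :=
        CfsgLib.Transfer.isPGroup_quotient_of_pResidual_le le_rfl
      exact h1.of_equiv ((QuotientGroup.quotientMulEquivOfEq hK1).trans QuotientGroup.quotientBot)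
    exact CfsgLib.Solvable.le_pCore inferInstance hCp
  have stepH : ∀ H : Subgroup G, H ≠ ⊤ → S' ≤ H → ∀ (A : Set G) (h : G), h ∈ H → A ⊆ S' →
      lconj h A ⊆ S' → FusRel P S' A h := by
    intro H hH hSH A h hh hA hAh
    obtain ⟨x, hx, he⟩ := hstep H hH hSH A h hh hA hAh
    refine (FusRel.single hA hx ?_).congr fun a ha => (he a ha).symm
    rw [lconj_congr he]
    exact hAh
  suffices key : ∀ (A : Set G) (g : G), A ⊆ S' → lconj g A ⊆ S' → FusRel P S' A g by
    intro A g hA hAg
    obtain ⟨x, hx, he⟩ := (key A g hA hAg).exists_single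
    exact ⟨x, hx, he⟩
  by_cases hM : S' ⊔ C = ⊤
  swap
  · -- two steps: in `S C` and in `N_G(S ∩ Q C)`
    intro A g hA hAg
    obtain ⟨c₀, hc₀, n₀, hn₀, hg⟩ := frattini_mul S (Q ⊔ C) g⁻¹
    obtain ⟨c, hc, n, hn, rfl⟩ : ∃ c ∈ Q ⊔ C, ∃ n ∈ N₀, g = n * c :=
      ⟨c₀⁻¹, inv_mem hc₀, n₀⁻¹, inv_mem hn₀, by rw [← inv_inv g, hg, mul_inv_rev]⟩
    have hcM : c ∈ S' ⊔ C := sup_le_sup_right hQS C hc
    set D := (S' ⊔ C) ⊓ N₀ with hD
    have hcA : lconj c A ⊆ (D : Set G) := by
      rintro _ ⟨a, ha, rfl⟩
      refine ⟨mul_mem (mul_mem hcM (mem_sup_left (hA ha))) ((S' ⊔ C).inv_mem hcM), ?_⟩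
      have := N₀.mul_mem (N₀.mul_mem (N₀.inv_mem hn) (hSN₀ (hAg ⟨a, ha, rfl⟩))) hn
      simpa [mul_assoc] using this
    have hZp : IsPGroup p (closure (lconj c A)) :=
      (S.2.map (MulAut.conj c).toMonoidHom).to_le <| (closure_le _).2 <| by
        rintro _ ⟨a, ha, rfl⟩
        exact ⟨a, hA ha, rfl⟩
    obtain ⟨l, hl, hlle⟩ := (show SylowIn p S' D from ⟨le_inf le_sup_left hSN₀, S.2, fun hd =>
      S.not_dvd_index (hd.trans (relIndex_dvd_index_of_le (le_inf le_sup_left hSN₀)))⟩).exists_conj_le
        hZp ((closure_le _).2 hcA)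
    have h1img : lconj (l * c) A ⊆ S' := by
      rintro _ ⟨a, ha, rfl⟩
      have := hlle (conj_mem_conjMap (subset_closure ⟨a, ha, rfl⟩))
      simpa [mul_assoc] using this
    have e : n * c = n * l⁻¹ * (l * c) := by group
    rw [e] at hAg ⊢
    refine (stepH _ hM le_sup_left A (l * c) (mul_mem hl.1 hcM) hA h1img).trans ?_
    refine stepH N₀ hN₀top hSN₀ _ _ (mul_mem hn (inv_mem hl.2)) h1img ?_
    rwa [lconj_lconj]
  · obtain ⟨H, hHtop, hSH, hquot⟩ := hquot hM
    set π := QuotientGroup.mk' Q with hπ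
    have hker : ∀ z : G, π z = 1 ↔ z ∈ Q := fun z => QuotientGroup.eq_one_iff z
    have main : ∀ k, ∀ T : Subgroup G, Q ≤ T → T ≤ S' → Nat.card S' - Nat.card T = k →
        ∀ g : G, conjMap g T ≤ S' → FusRel P S' (T : Set G) g := by
      intro k
      induction k using Nat.strong_induction_on with
      | _ k ih =>
        intro T hQT hTS hk g hg
        have hgT : lconj g (T : Set G) ⊆ S' := by
          rintro _ ⟨a, ha, rfl⟩
          exact hg (conj_mem_conjMap ha)
        obtain ⟨c, hcH, hcq⟩ := hquot (T : Set G) g (SetLike.coe_subset_coe.2 hTS) hgT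
        have hc2 : ∀ t ∈ T, π (c * t * c⁻¹) = π g * π t * (π g)⁻¹ := fun t ht => by
          have h1 := (hker _).2 (hcq t ht)
          rw [map_mul, map_inv, mul_inv_eq_one] at h1
          rw [h1, map_mul, map_mul, map_inv]
        have hcT : lconj c (T : Set G) ⊆ S' := by
          rintro _ ⟨a, ha, rfl⟩
          have h1 := S'.mul_mem (hQS (hcq a ha)) (hgT ⟨a, ha, rfl⟩)
          rwa [inv_mul_cancel_right] at h1
        have hc1 : FusRel P S' (T : Set G) c :=
          stepH H hHtop hSH _ c hcH (SetLike.coe_subset_coe.2 hTS) hcT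
        set T₁ := conjMap c T with hT₁
        have hQT₁ : Q ≤ T₁ := fun z hz => mem_conjMap.2 (hQT (by
          simpa using hQn.conj_mem z hz c⁻¹))
        have hT₁S : T₁ ≤ S' := fun z hz => by
          obtain ⟨t, ht, rfl⟩ := hz
          exact hc1.image_subset ⟨t, ht, rfl⟩
        set e := g * c⁻¹ with he
        have hfix : ∀ z ∈ T₁, π (e * z * e⁻¹) = π z := by
          rintro _ ⟨t, ht, rfl⟩
          show π (e * (c * t * c⁻¹) * e⁻¹) = π (c * t * c⁻¹)
          rw [show e * (c * t * c⁻¹) * e⁻¹ = g * t * g⁻¹ by rw [he]; group, hc2 t ht,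
            map_mul, map_mul, map_inv]
        have heN : e ∈ normalizer (T₁ : Set G) := by
          rw [← conjMap_eq_self_iff]
          refine Subgroup.eq_of_le_of_card_ge ?_ (card_conjMap _ _).ge
          rintro _ ⟨z, hz, rfl⟩
          have h1 : (e * z * e⁻¹) * z⁻¹ ∈ Q := by
            rw [← hker, map_mul, map_inv, hfix z hz, mul_inv_cancel]
          have h2 := T₁.mul_mem (hQT₁ h1) hz
          rw [inv_mul_cancel_right] at h2
          exact h2
        have hge : g = e * c := by rw [he, inv_mul_cancel_right]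
        rw [hge]
        refine hc1.trans ?_
        have eT : lconj c (T : Set G) = (T₁ : Set G) := rfl
        rw [eT]
        rcases eq_or_lt_of_le hT₁S with hTe | hTlt
        · refine stepH N₀ hN₀top hSN₀ _ _ ?_ (SetLike.coe_subset_coe.2 hT₁S) ?_
          · refine (le_inf le_rfl (le_normalizer_of_normal _ (Q ⊔ C))).trans
              inf_normalizer_le_normalizer_inf ?_
            rw [← hTe]; exact heN
          · rintro _ ⟨z, hz, rfl⟩
            exact hT₁S ((mem_normalizer_iff.1 heN z).1 hz)
        obtain ⟨U, -, ⟨a, ha⟩, hidx⟩ := exists_fullNormalized S hT₁S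
        obtain ⟨b, rfl, hb⟩ := exists_conj_carry S.2 ha hidx
        have hlt : Nat.card T < Nat.card (S' ⊓ normalizer (T₁ : Set G) : Subgroup G) := by
          rw [← card_conjMap c T]
          exact card_lt_card_inf_normalizer S.2 hTlt
        have hle2 : Nat.card (S' ⊓ normalizer (T₁ : Set G) : Subgroup G) ≤ Nat.card S' :=
          card_le_of_le inf_le_left
        have hb' : FusRel P S' (T₁ : Set G) b :=
          (ih _ (by omega) (S' ⊓ normalizer (T₁ : Set G))
            (le_inf hQS (hQT₁.trans le_normalizer)) inf_le_left rfl b (hb.trans inf_le_left)).mono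
            (SetLike.coe_subset_coe.2 (le_inf hT₁S le_normalizer))
        set U := conjMap b T₁ with hU
        set NU := normalizer (U : Set G) with hNU
        have hUS : U ≤ S' := (conjMap_mono (le_inf hT₁S le_normalizer)).trans (hb.trans inf_le_left)
        let E : Subgroup G := NU ⊓ (centralizer ((U.map π : Subgroup _) : Set (G ⧸ Q))).comap π
        have hEn : ∀ k ∈ NU, ∀ m ∈ E, k * m * k⁻¹ ∈ E := by
          intro k hk m hm
          obtain ⟨hm1, hm2⟩ := mem_inf.1 hm
          refine ⟨NU.mul_mem (NU.mul_mem hk hm1) (NU.inv_mem hk), mem_centralizer_iff.2 ?_⟩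
          rintro _ ⟨z, hz, rfl⟩
          have h1 : π (k⁻¹ * z * k) * π m = π m * π (k⁻¹ * z * k) :=
            mem_centralizer_iff.1 hm2 _ (mem_map_of_mem π ((mem_normalizer_iff''.1 hk z).1 hz))
          simp only [map_mul, map_inv] at h1 ⊢
          calc π z * (π k * π m * (π k)⁻¹) = π k * ((π k)⁻¹ * π z * π k * π m) * (π k)⁻¹ := by group
            _ = π k * (π m * ((π k)⁻¹ * π z * π k)) * (π k)⁻¹ := by rw [h1]
            _ = _ := by group
        have hSE : SylowIn p (S' ⊓ NU ⊓ E) E := ⟨inf_le_right,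
          S.2.to_le (inf_le_left.trans inf_le_left),
          CfsgLib.Fusion.not_dvd_relIndex_inf (S.2.to_le inf_le_left) inf_le_right hidx inf_le_left hEn⟩
        set e' := b * e * b⁻¹ with he'
        have he'E : e' ∈ E := by
          refine ⟨?_, mem_centralizer_iff.2 ?_⟩
          · rw [hNU, hU, ← conjMap_normalizer]; exact conj_mem_conjMap heN
          · rintro _ ⟨_, ⟨z, hz, rfl⟩, rfl⟩
            show π (b * z * b⁻¹) * π e' = π e' * π (b * z * b⁻¹)
            have h1 := hfix z hz
            simp only [he', map_mul, map_inv] at h1 ⊢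
            calc π b * π z * (π b)⁻¹ * (π b * π e * (π b)⁻¹) =
                π b * (π z * π e) * (π b)⁻¹ := by group
              _ = π b * ((π e * π z * (π e)⁻¹) * π e) * (π b)⁻¹ := by rw [h1]
              _ = _ := by group
        have hcop : ∀ x ∈ E, (orderOf x).Coprime p → x ∈ centralizer (U : Set G) := by
          intro x hx hxo
          have hxC : x ∈ C := by
            obtain ⟨j, hj⟩ := S.2.exists_card_eq
            have h1 : orderOf (QuotientGroup.mk' C x) ∣ p ^ j := by
              have hsC : QuotientGroup.mk' C x ∈ S'.map (QuotientGroup.mk' C) := by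
                have hxS : x ∈ S' ⊔ C := hM ▸ mem_top x
                rw [sup_comm] at hxS
                obtain ⟨cc, hcc, s, hs, rfl⟩ := mem_sup_of_normal_left.1 hxS
                refine ⟨s, hs, ?_⟩
                rw [map_mul, QuotientGroup.mk'_apply C cc, (QuotientGroup.eq_one_iff cc).2 hcc, one_mul]
              exact hj ▸ (orderOf_dvd_natCard _ hsC).trans (card_map_dvd _ _)
            exact (QuotientGroup.eq_one_iff x).1 (orderOf_eq_one_iff.1
              (Nat.eq_one_of_dvd_coprimes (hxo.pow_right j) (orderOf_map_dvd (QuotientGroup.mk' C) x) h1))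
          refine mem_centralizer_iff.2 fun z hz => ?_
          set q := x * z * x⁻¹ * z⁻¹ with hq
          have hqQ : q ∈ Q := by
            rw [← hker]
            have := mem_centralizer_iff.1 hx.2 _ (mem_map_of_mem π hz)
            rw [hq]; simp only [map_mul, map_inv]
            rw [← this]; group
          have hxq : x * q * x⁻¹ = q := by
            rw [← mem_centralizer_iff.1 hxC q hqQ, mul_inv_cancel_right]
          have hpow : ∀ m : ℕ, x ^ m * z * (x ^ m)⁻¹ = q ^ m * z := by
            intro m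
            induction m with
            | zero => simp
            | succ m ihm =>
              calc x ^ (m + 1) * z * (x ^ (m + 1))⁻¹ = x * (x ^ m * z * (x ^ m)⁻¹) * x⁻¹ := by
                    rw [pow_succ']; group
                _ = (x * q * x⁻¹) ^ m * (x * z * x⁻¹) := by rw [ihm, conj_pow]; group
                _ = q ^ m * (q * z) := by rw [hxq, hq]; group
                _ = _ := by rw [pow_succ]; group
          have h1 := hpow (orderOf x)
          rw [pow_orderOf_eq_one, inv_one, one_mul, mul_one, right_eq_mul] at h1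
          obtain ⟨j, hj⟩ := hQp ⟨q, hqQ⟩
          have h2 : q = 1 := orderOf_eq_one_iff.1 (Nat.eq_one_of_dvd_coprimes (hxo.pow_right j)
            (orderOf_dvd_of_pow_eq_one h1) (orderOf_dvd_of_pow_eq_one (congrArg Subtype.val hj)))
          rw [hq, mul_inv_eq_one, mul_inv_eq_iff_eq_mul] at h2
          exact h2.symm
        obtain ⟨WE, hWE⟩ := CfsgLib.Fusion.exists_sylow_of hSE.2.1 hSE.1 hSE.2.2
        haveI : ((centralizer (U : Set G)).subgroupOf E).Normal := by
          refine ⟨fun m hm k => mem_subgroupOf.2 (mem_centralizer_iff.2 fun z hz => ?_)⟩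
          have h1 := mem_centralizer_iff.1 (mem_subgroupOf.1 hm) _
            ((mem_normalizer_iff''.1 (mem_inf.1 k.2).1 z).1 hz)
          simp only [Subgroup.coe_mul, InvMemClass.coe_inv]
          calc z * ((k : G) * m * (k : G)⁻¹) = k * ((k : G)⁻¹ * z * k * m) * (k : G)⁻¹ := by group
            _ = k * ((m : G) * ((k : G)⁻¹ * z * k)) * (k : G)⁻¹ := by rw [h1]
            _ = _ := by group
        obtain ⟨u, hu, cc, hcc, hucc⟩ := CfsgLib.Transfer.exists_mem_sylow_mul WE
          (C := (centralizer (U : Set G)).subgroupOf E)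
          (fun x hx => mem_subgroupOf.2 (hcop _ x.2 (by rwa [Subgroup.orderOf_coe]))) ⟨e', he'E⟩
        have hu' : (u : G) ∈ S' ⊓ NU ⊓ E := by
          have : u ∈ (WE : Subgroup E) := hu
          rw [hWE] at this; exact this
        have he'eq : e' = (u : G) * (cc : G) := congrArg Subtype.val hucc
        have hfe : FusRel P S' (U : Set G) e' := by
          refine (stepH N₀ hN₀top hSN₀ _ (u : G) (hSN₀ hu'.1.1) (SetLike.coe_subset_coe.2 hUS) ?_).congr ?_
          · rintro _ ⟨z, hz, rfl⟩
            exact hUS ((mem_normalizer_iff.1 hu'.1.2 z).1 hz)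
          · intro z hz
            have h1 := mem_centralizer_iff.1 (mem_subgroupOf.1 hcc) z hz
            rw [he'eq]
            calc (u : G) * cc * z * ((u : G) * cc)⁻¹ = u * ((cc : G) * z) * (cc : G)⁻¹ * (u : G)⁻¹ := by group
              _ = u * (z * (cc : G)) * (cc : G)⁻¹ * (u : G)⁻¹ := by rw [← h1]
              _ = _ := by group
        have heU : lconj b (T₁ : Set G) = (U : Set G) := rfl
        have c12 := hb'.trans (heU ▸ hfe)
        have c3 := hb'.symm hsym
        rw [heU] at c3
        have eU : lconj (e' * b) (T₁ : Set G) = (U : Set G) := by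
          rw [← lconj_lconj, heU]
          have : e' ∈ NU := he'E.1
          show ((conjMap e' U : Subgroup G) : Set G) = (U : Set G)
          rw [conjMap_eq_self_iff.2 this]
        have := c12.trans (eU.symm ▸ c3)
        rw [he', inv_mul_cancel_right, inv_mul_cancel_left] at this
        exact this
    intro A g hA hAg
    refine (main _ (closure A ⊔ Q) le_sup_right (sup_le ((closure_le _).2 hA) hQS) rfl g ?_).mono
      (subset_closure.trans (SetLike.coe_subset_coe.2 le_sup_left))
    rw [conjMap, Subgroup.map_sup, MonoidHom.map_closure, sup_le_iff, closure_le]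
    refine ⟨by rintro _ ⟨a, ha, rfl⟩; exact hAg ⟨a, ha, rfl⟩, ?_⟩
    rintro _ ⟨z, hz, rfl⟩
    exact hQS (hQn.conj_mem z hz g)

end CfsgLib.PLocal
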