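import Mathlib
import Cfsg.Agent.Lib.PLocal.FusionReduce
import Cfsg.Agent.Lib.PLocal.ZJClosedElem
import Cfsg.Agent.Lib.PLocal.ZJControl

/-!
# Functors of strongly closed subgroups controlling fusion
-/

set_option autoImplicit false

namespace CfsgLib.PLocal

open Subgroup

universe u

variable {p : ℕ} [hp : Fact p.Prime]

theorem stronglyClosed_map_coprime {G : Type u} [Group G] [Finite G] {O : Subgroup G} [O.Normal]
    (P : Sylow p G) {D : Subgroup G}
    (hD : Cfsg.IsStronglyClosed D (P : Subgroup G)) :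
    Cfsg.IsStronglyClosed (D.map (QuotientGroup.mk' O))
      ((P : Subgroup G).map (QuotientGroup.mk' O)) := by
  refine ⟨map_mono hD.1, ?_⟩
  rintro _ ⟨y, hy, rfl⟩ g' hg
  obtain ⟨g, rfl⟩ := QuotientGroup.mk'_surjective O g'
  rw [← map_inv, ← map_mul, ← map_mul] at hg ⊢
  have h1 : g * y * g⁻¹ ∈ (P : Subgroup G) ⊔ O := by
    rw [← mem_comap, comap_map_eq, QuotientGroup.ker_mk'] at hg
    exact hg
  have hPM : SylowIn p (P : Subgroup G) ((P : Subgroup G) ⊔ O) := ⟨le_sup_left, P.2, fun hd =>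
    P.not_dvd_index (hd.trans (relIndex_dvd_index_of_le le_sup_left))⟩
  obtain ⟨k, hk, hkle⟩ := hPM.exists_conj_le
    ((P.2.to_le (zpowers_le.2 (hD.1 hy))).map (MulAut.conj g).toMonoidHom)
    (show (zpowers y).map (MulAut.conj g).toMonoidHom ≤ _ by
      rw [MonoidHom.map_zpowers]; exact zpowers_le.2 h1)
  obtain ⟨s, hs, o, ho, rfl⟩ := mem_sup_of_normal_right.1 hk
  have h2 : s * o * (g * y * g⁻¹) * (s * o)⁻¹ ∈ (P : Subgroup G) :=
    hkle (conj_mem_conjMap ⟨y, mem_zpowers y, rfl⟩)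
  have h3 : (o * g) * y * (o * g)⁻¹ ∈ (P : Subgroup G) := by
    have := (P : Subgroup G).mul_mem ((P : Subgroup G).mul_mem ((P : Subgroup G).inv_mem hs) h2) hs
    simpa [mul_assoc] using this
  refine ⟨_, hD.2 y hy (o * g) h3, ?_⟩
  simp only [map_mul, map_inv]
  rw [show QuotientGroup.mk' O o = 1 from (QuotientGroup.eq_one_iff o).2 ho, one_mul]

omit hp in
theorem stronglyClosed_map_le {G : Type u} [Group G] {Q P : Subgroup G} [Q.Normal] (hQ : Q ≤ P)
    {D : Subgroup G} (hD : Cfsg.IsStronglyClosed D P) :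
    Cfsg.IsStronglyClosed (D.map (QuotientGroup.mk' Q)) (P.map (QuotientGroup.mk' Q)) := by
  refine ⟨map_mono hD.1, ?_⟩
  rintro _ ⟨y, hy, rfl⟩ g' hg
  obtain ⟨g, rfl⟩ := QuotientGroup.mk'_surjective Q g'
  rw [← map_inv, ← map_mul, ← map_mul] at hg ⊢
  rw [← mem_comap, comap_map_eq, QuotientGroup.ker_mk', sup_eq_left.2 hQ] at hg
  exact mem_map_of_mem _ (hD.2 y hy g hg)

theorem controls_closed_aux (h2 : p ≠ 2) {W : ∀ (Q : Type u) [Group Q], Subgroup Q}
    (hW : Cfsg.IsCharPFunctor.{u} p W)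
    (hnorm : ∀ (G : Type u) [Group G] [Finite G] (P : Sylow p G) (D : Subgroup G),
      Cfsg.IsStronglyClosed D (P : Subgroup G) →
      (∀ (K : Subgroup G) (f : K →* ↥(Cfsg.qd p)), ¬ Function.Surjective f) →
      centralizer (Cfsg.pCore p G : Set G) ≤ Cfsg.pCore p G →
      (Cfsg.inducedFunctor (G := G) W D).Normal) :
    ∀ (n : ℕ) (G : Type u) [Group G] [Finite G], Nat.card G = n →
      (∀ (K : Subgroup G) (f : K →* ↥(Cfsg.qd p)), ¬ Function.Surjective f) →
      ∀ (P : Sylow p G) (D : Subgroup G), Cfsg.IsStronglyClosed D (P : Subgroup G) →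
      ∀ (A : Set G) (g : G), A ⊆ (P : Subgroup G) → lconj g A ⊆ (P : Subgroup G) →
        ∃ x ∈ normalizer (Cfsg.inducedFunctor (G := G) W D : Set G),
          ∀ a ∈ A, x * a * x⁻¹ = g * a * g⁻¹ := by
  intro n
  induction n using Nat.strong_induction_on with
  | _ n ih =>
    intro G _ _ hn hno P D hD A g hA hAg
    set P' : Subgroup G := (P : Subgroup G) with hP'
    have hWc : Cfsg.IsConjugacyFunctor p (Cfsg.inducedFunctor (G := G) W) :=
      induced_isConjugacyFunctor hW
    have hDp : IsPGroup p D := P.2.to_le hD.1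
    set U := Cfsg.inducedFunctor (G := G) W D with hU
    set N := normalizer (U : Set G) with hN
    have hPN : P' ≤ N := fun z hz =>
      normalizer_le_normalizer_functor hWc hDp (stronglyClosed_normalized hD hz)
    have hstep : ∀ H : Subgroup G, H ≠ ⊤ → P' ≤ H → ∀ (A : Set G) (h : G), h ∈ H → A ⊆ P' →
        lconj h A ⊆ P' → ∃ x ∈ N, ∀ a ∈ A, x * a * x⁻¹ = h * a * h⁻¹ := by
      intro H hH hPH A h hh hA hAh
      obtain ⟨T, hT⟩ := CfsgLib.Fusion.exists_sylow_of P.2 hPH fun hd =>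
        P.not_dvd_index (hd.trans (relIndex_dvd_index_of_le hPH))
      have hDH : D ≤ H := hD.1.trans hPH
      have hDT : Cfsg.IsStronglyClosed (D.subgroupOf H) (T : Subgroup H) := by
        rw [hT]
        exact ⟨comap_mono hD.1, fun y hy k hk => hD.2 _ hy (k : G) hk⟩
      obtain ⟨x, hx, hxa⟩ := ih _ (hn ▸ lt_of_le_of_ne (card_le_card_group H)
        fun hc => hH (eq_top_of_card_eq _ hc)) H rfl
        (fun K f hf => by
          obtain ⟨K', f', -, hf'⟩ := sec_of_subgroup H f hf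
          exact hno K' f' hf') T (D.subgroupOf H) hDT (H.subtype ⁻¹' A) ⟨h, hh⟩
        (fun a ha => by rw [hT]; exact hA ha)
        (by rintro _ ⟨a, ha, rfl⟩; rw [hT]; exact hAh ⟨a, ha, rfl⟩)
      refine ⟨x, ?_, fun a ha => congrArg Subtype.val (hxa ⟨a, hPH (hA ha)⟩ ha)⟩
      have h1 := induced_map_of_injOn hW H.subtype (P := D.subgroupOf H) hDp.comap_subtype
        H.subtype_injective.injOn
      rw [map_subgroupOf_eq_of_le hDH] at h1
      rw [hN, hU, ← h1]
      exact le_normalizer_map _ ⟨x, hx, rfl⟩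
    set X := Cfsg.centerThompsonAOf P' with hX
    obtain ⟨-, hctrl⟩ := controls_centerThompsonAOf h2 hno P A hA
    obtain ⟨m, hm, hma⟩ := hctrl g hAg
    by_cases hM : normalizer (X : Set G) = ⊤
    swap
    · obtain ⟨x, hx, hxa⟩ := hstep _ hM
        (le_normalizer.trans (normalizer_le_normalizer_centerThompsonAOf P')) A m hm hA
        (by rintro _ ⟨a, ha, rfl⟩; show m * a * m⁻¹ ∈ P'; rw [← hma a ha]; exact hAg ⟨a, ha, rfl⟩)
      exact ⟨x, hx, fun a ha => (hxa a ha).trans (hma a ha).symm⟩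
    by_cases hP1 : P' = ⊥
    · refine ⟨1, one_mem _, fun a ha => ?_⟩
      have := hA ha
      rw [SetLike.mem_coe, hP1, mem_bot] at this
      subst this; group
    haveI hXn : X.Normal := normalizer_eq_top_iff.1 hM
    have hXne : X ≠ ⊥ := by
      have := functor_ne_bot (induced_isConjugacyFunctor (G := G) (zjFunctor_isCharPFunctor (p := p)))
        P.2 hP1
      rwa [inducedFunctor_zj] at this
    haveI hQn := Cfsg.pCore_normal p G
    set Q := Cfsg.pCore p G with hQ
    have hQ1 : Q ≠ ⊥ := fun h0 => hXne (le_bot_iff.1 (h0 ▸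
      CfsgLib.Solvable.le_pCore hXn (P.2.to_le (centerThompsonAOf_le _))))
    haveI := Cfsg.pPrimeCore_normal p G
    by_cases hO : Cfsg.pPrimeCore p G = ⊥
    swap
    · set O := Cfsg.pPrimeCore p G with hOdef
      have hcop := CfsgLib.Comp.coprime_card_pPrimeCore p G
      set π := QuotientGroup.mk' O with hπ
      have hinj : Set.InjOn π (P' : Set G) := injOn_mk'_of_isPGroup hcop P.2
      obtain ⟨x', hx', hxa⟩ := ih _ (by
          rw [← hn, card_eq_card_quotient_mul_card_subgroup O]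
          exact lt_mul_of_one_lt_right Nat.card_pos ((one_lt_card_iff_ne_bot _).2 hO)) (G ⧸ O) rfl
        (fun K f hf => by
          obtain ⟨K', f', -, hf'⟩ := sec_of_quotient O f hf
          exact hno K' f' hf')
        (P.mapSurjective (QuotientGroup.mk'_surjective O)) (D.map π)
        (by rw [Sylow.coe_mapSurjective]; exact stronglyClosed_map_coprime P hD)
        (π '' A) (π g) (by
          rw [Sylow.coe_mapSurjective]
          rintro _ ⟨a, ha, rfl⟩; exact mem_map_of_mem _ (hA ha))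
        (by
          rw [Sylow.coe_mapSurjective]
          rintro _ ⟨_, ⟨a, ha, rfl⟩, rfl⟩; exact ⟨_, hAg ⟨a, ha, rfl⟩, by simp [hπ]⟩)
      rw [← induced_map_of_injOn hW π hDp (hinj.mono hD.1), ← CfsgLib.Comp.map_normalizer_eq hcop
        (P.2.to_le ((functor_le hWc hDp).trans hD.1))] at hx'
      obtain ⟨x, hx, rfl⟩ := hx'
      have hxP : lconj x A ⊆ ((P' ⊔ O) ⊓ N : Subgroup G) := by
        rintro _ ⟨a, ha, rfl⟩
        refine ⟨?_, N.mul_mem (N.mul_mem hx (hPN (hA ha))) (N.inv_mem hx)⟩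
        have h1 : π (x * a * x⁻¹) ∈ P'.map π :=
          ⟨g * a * g⁻¹, hAg ⟨a, ha, rfl⟩, by
            rw [map_mul, map_mul, map_inv, map_mul, map_mul, map_inv]
            exact (hxa _ ⟨a, ha, rfl⟩).symm⟩
        rw [← mem_comap, comap_map_eq, hπ, QuotientGroup.ker_mk'] at h1
        exact h1
      have hZp : IsPGroup p (closure (lconj x A)) :=
        (P.2.map (MulAut.conj x).toMonoidHom).to_le <| (closure_le _).2 <| by
          rintro _ ⟨a, ha, rfl⟩
          exact ⟨a, hA ha, rfl⟩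
      have hsyl : SylowIn p P' ((P' ⊔ O) ⊓ N) := ⟨le_inf le_sup_left hPN, P.2, fun hd =>
        P.not_dvd_index (hd.trans (relIndex_dvd_index_of_le (le_inf le_sup_left hPN)))⟩
      obtain ⟨k, hk, hkle⟩ := hsyl.exists_conj_le hZp ((closure_le _).2 hxP)
      obtain ⟨s, hs, o, ho, rfl⟩ := mem_sup_of_normal_right.1 hk.1
      have hoN : o ∈ N := by
        have := N.mul_mem (N.inv_mem (hPN hs)) hk.2
        simpa using this
      refine ⟨o * x, N.mul_mem hoN hx, fun a ha => hinj ?_ (hAg ⟨a, ha, rfl⟩) ?_⟩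
      · have h3 : s * o * (x * a * x⁻¹) * (s * o)⁻¹ ∈ P' :=
          hkle (conj_mem_conjMap (subset_closure ⟨a, ha, rfl⟩))
        have := P'.mul_mem (P'.mul_mem (P'.inv_mem hs) h3) hs
        simpa [mul_assoc] using this
      · have ho1 : π o = 1 := (QuotientGroup.eq_one_iff o).2 ho
        simp only [map_mul, map_inv, ho1, one_mul]
        exact hxa _ ⟨a, ha, rfl⟩
    by_cases hc : Constrained p G
    · haveI := hnorm G P D hD hno hc
      refine ⟨g, ?_, fun _ _ => rfl⟩
      rw [hN, hU, normalizer_eq_top_iff.2 this]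
      exact mem_top g
    have hQP : Q ≤ P' := CfsgLib.Solvable.pCore_le_sylow P
    by_cases hDQ : D ≤ Q
    · have hDn : D.Normal := ⟨fun y hy z => hD.2 y hy z (hQP (hQn.conj_mem y (hDQ hy) z))⟩
      refine ⟨g, normalizer_le_normalizer_functor hWc hDp ?_, fun _ _ => rfl⟩
      rw [normalizer_eq_top_iff.2 hDn]
      exact mem_top g
    refine controls_of_overgroups P N hstep hO hc (fun _ => ?_) A g hA hAg
    set π := QuotientGroup.mk' Q with hπ
    have hWq : Cfsg.IsConjugacyFunctor p (Cfsg.inducedFunctor (G := G ⧸ Q) W) :=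
      induced_isConjugacyFunctor hW
    have hDne : D.map π ≠ ⊥ := fun h0 => hDQ fun y hy =>
      (QuotientGroup.eq_one_iff y).1 (mem_bot.1 (h0 ▸ mem_map_of_mem π hy))
    set U' := Cfsg.inducedFunctor (G := G ⧸ Q) W (D.map π) with hU'
    have hU'ne : U' ≠ ⊥ := functor_ne_bot hWq (hDp.map π) hDne
    refine ⟨(normalizer (U' : Set (G ⧸ Q))).comap π, fun htop => hU'ne ?_, ?_, ?_⟩
    · have h1 : normalizer (U' : Set (G ⧸ Q)) = ⊤ := by
        rw [← map_comap_eq_self_of_surjective (QuotientGroup.mk'_surjective Q)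
          (normalizer (U' : Set (G ⧸ Q))), htop]
        exact map_top_of_surjective _ (QuotientGroup.mk'_surjective Q)
      exact le_bot_iff.1 (CfsgLib.Solvable.pCore_quotient_eq_bot (G := G) p ▸
        CfsgLib.Solvable.le_pCore (normalizer_eq_top_iff.1 h1)
          ((hDp.map π).to_le (functor_le hWq (hDp.map π))))
    · intro z hz
      exact normalizer_le_normalizer_functor hWq (hDp.map π)
        (le_normalizer_map π ⟨z, stronglyClosed_normalized hD hz, rfl⟩)
    · intro B b hB hBb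
      obtain ⟨x', hx', hxa⟩ := ih _ (by
          rw [← hn, card_eq_card_quotient_mul_card_subgroup Q]
          exact lt_mul_of_one_lt_right Nat.card_pos ((one_lt_card_iff_ne_bot _).2 hQ1)) (G ⧸ Q) rfl
        (fun K f hf => by
          obtain ⟨K', f', -, hf'⟩ := sec_of_quotient Q f hf
          exact hno K' f' hf')
        (P.mapSurjective (QuotientGroup.mk'_surjective Q)) (D.map π)
        (by rw [Sylow.coe_mapSurjective]; exact stronglyClosed_map_le hQP hD)
        (π '' B) (π b) (by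
          rw [Sylow.coe_mapSurjective]
          rintro _ ⟨a, ha, rfl⟩; exact mem_map_of_mem _ (hB ha))
        (by
          rw [Sylow.coe_mapSurjective]
          rintro _ ⟨_, ⟨a, ha, rfl⟩, rfl⟩; exact ⟨_, hBb ⟨a, ha, rfl⟩, by simp [hπ]⟩)
      obtain ⟨x, rfl⟩ := QuotientGroup.mk'_surjective Q x'
      refine ⟨x, hx', fun a ha => (QuotientGroup.eq_one_iff _).1 ?_⟩
      show π (x * a * x⁻¹ * (b * a * b⁻¹)⁻¹) = 1
      rw [map_mul, map_mul, map_mul, map_inv, map_inv, map_mul, map_mul, map_inv]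
      exact mul_inv_eq_one.2 (hxa _ ⟨a, ha, rfl⟩)

/-- In a `Qd(p)`-free group `W(D)` controls strong fusion for `D` strongly closed. -/
theorem controls_closed {G : Type u} [Group G] [Finite G] (h2 : p ≠ 2)
    (hno : ∀ (K : Subgroup G) (f : K →* ↥(Cfsg.qd p)), ¬ Function.Surjective f)
    {W : ∀ (Q : Type u) [Group Q], Subgroup Q} (hW : Cfsg.IsCharPFunctor.{u} p W)
    (hnorm : ∀ (G : Type u) [Group G] [Finite G] (P : Sylow p G) (D : Subgroup G),
      Cfsg.IsStronglyClosed D (P : Subgroup G) →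
      (∀ (K : Subgroup G) (f : K →* ↥(Cfsg.qd p)), ¬ Function.Surjective f) →
      centralizer (Cfsg.pCore p G : Set G) ≤ Cfsg.pCore p G →
      (Cfsg.inducedFunctor (G := G) W D).Normal)
    (P : Sylow p G) {D : Subgroup G} (hD : Cfsg.IsStronglyClosed D (P : Subgroup G)) :
    ∀ A : Set G, A ⊆ (P : Subgroup G) → Cfsg.ControlsStrongFusionOf
      (normalizer (Cfsg.inducedFunctor (G := G) W D : Set G)) (P : Subgroup G) A := by
  intro A hA
  refine ⟨hA, fun g hg => ?_⟩
  obtain ⟨x, hx, hxa⟩ := controls_closed_aux h2 hW hnorm _ G rfl hno P D hD A g hA hg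
  exact ⟨x, hx, fun a ha => (hxa a ha).symm⟩

theorem omegaCenterThompson_isCharPFunctor :
    Cfsg.IsCharPFunctor.{u} p (fun (Q : Type u) [Group Q] => Cfsg.omegaCenterThompson p Q) := by
  refine ⟨fun Q _ _ hQ _ h0 => ?_, fun Q R _ _ _ _ φ => omegaCenterThompson_map_equiv φ⟩
  haveI := hQ.center_nontrivial
  have hd : p ∣ Nat.card (center Q) := by
    obtain ⟨k, hk0, hk⟩ := (hQ.to_subgroup (center Q)).nontrivial_iff_card.1 inferInstance
    exact hk ▸ dvd_pow_self p hk0.ne'
  obtain ⟨⟨x, hx⟩, hxo⟩ := exists_prime_orderOf_dvd_card' p hd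
  rw [Subgroup.orderOf_mk] at hxo
  have h1 : x ∈ Cfsg.omegaCenterThompson p Q :=
    omegaCenter_le_omegaCenterThompson (subset_closure ⟨hx, hxo ▸ pow_orderOf_eq_one x⟩)
  rw [show Cfsg.omegaCenterThompson p Q = ⊥ from h0, mem_bot] at h1
  rw [h1, orderOf_one] at hxo
  exact hp.out.one_lt.ne hxo

end CfsgLib.PLocal
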