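import Cfsg.Agent.Lib.PLocal.SylowIn

/-!
# Conjugation families and well placed subgroups
-/

namespace CfsgLib.PLocal

open Subgroup

variable {G : Type*} [Group G]

/-- Right conjugation of a set. -/
abbrev rconj (g : G) (A : Set G) : Set G := (fun a => g⁻¹ * a * g) '' A

theorem rconj_rconj (g h : G) (A : Set G) : rconj h (rconj g A) = rconj (g * h) A := by
  rw [rconj, rconj, Set.image_image]
  exact Set.image_congr fun a _ => by group

theorem rconj_one (A : Set G) : rconj 1 A = A := by simp [rconj]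

/-- A conjugation performed step by step inside normalizers of members of `𝓕`. -/
inductive RChain (𝓕 : Set (Subgroup G)) : Set G → G → Prop
  | nil (A : Set G) : RChain 𝓕 A 1
  | step {A : Set G} {T : Subgroup G} {x g : G} : T ∈ 𝓕 → x ∈ normalizer (T : Set G) →
      A ⊆ T → RChain 𝓕 (rconj x A) g → RChain 𝓕 A (x * g)

theorem RChain.single {𝓕 : Set (Subgroup G)} {A : Set G} {T : Subgroup G} {x : G} (hT : T ∈ 𝓕)
    (hx : x ∈ normalizer (T : Set G)) (hA : A ⊆ T) : RChain 𝓕 A x := by
  simpa using RChain.step hT hx hA (RChain.nil _)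

theorem RChain.trans {𝓕 : Set (Subgroup G)} {A : Set G} {g g' : G} (h : RChain 𝓕 A g)
    (h' : RChain 𝓕 (rconj g A) g') : RChain 𝓕 A (g * g') := by
  induction h with
  | nil A => rw [one_mul]; rwa [rconj_one] at h'
  | step hT hx hA _ ih =>
    rw [mul_assoc]
    refine RChain.step hT hx hA (ih ?_)
    rwa [rconj_rconj]

theorem RChain.mono {𝓕 : Set (Subgroup G)} {A B : Set G} {g : G} (h : RChain 𝓕 A g)
    (hB : B ⊆ A) : RChain 𝓕 B g := by
  induction h generalizing B with
  | nil A => exact RChain.nil B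
  | step hT hx hA _ ih => exact RChain.step hT hx (hB.trans hA) (ih (Set.image_mono hB))

theorem RChain.exists_data {𝓕 : Set (Subgroup G)} {A : Set G} {g : G} (h : RChain 𝓕 A g) :
    ∃ (n : ℕ) (T : Fin n → Subgroup G) (x : Fin n → G), (List.ofFn x).prod = g ∧
      (∀ i, T i ∈ 𝓕) ∧ (∀ i, x i ∈ normalizer ((T i : Subgroup G) : Set G)) ∧
      (∀ h : 0 < n, A ⊆ T ⟨0, h⟩) ∧
      ∀ (i : Fin n) (h : i.val + 1 < n),
        rconj ((List.ofFn x).take (i.val + 1)).prod A ⊆ T ⟨i.val + 1, h⟩ := by
  induction h with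
  | nil A =>
    exact ⟨0, Fin.elim0, Fin.elim0, by simp, fun i => i.elim0, fun i => i.elim0,
      fun h => absurd h (lt_irrefl 0), fun i => i.elim0⟩
  | @step A T x g hT hx hA _ ih =>
    obtain ⟨n, U, y, hy, hU, hn, h0, hs⟩ := ih
    refine ⟨n + 1, Fin.cons T U, Fin.cons x y, by simp [List.ofFn_succ, hy], ?_, ?_, ?_, ?_⟩
    · exact fun i => Fin.cases (by simpa using hT) (fun j => by simpa using hU j) i
    · exact fun i => Fin.cases (by simpa using hx) (fun j => by simpa using hn j) i
    · intro _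
      simpa using hA
    · intro i hi
      have e : (List.ofFn (Fin.cons x y : Fin (n + 1) → G)).take (i.val + 1) =
          x :: (List.ofFn y).take i.val := by simp [List.ofFn_succ]
      rw [e, List.prod_cons, ← rconj_rconj]
      have hi' : i.val < n := by omega
      have hT' : (Fin.cons T U : Fin (n + 1) → Subgroup G) ⟨i.val + 1, hi⟩ = U ⟨i.val, hi'⟩ :=
        Fin.cons_succ (α := fun _ => Subgroup G) T U ⟨i.val, hi'⟩
      rw [hT']
      rcases Nat.eq_zero_or_pos i.val with h | h
      · simp only [h, List.take_zero, List.prod_nil, rconj_one]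
        exact h0 (by omega)
      · obtain ⟨j, hj⟩ : ∃ j, i.val = j + 1 := ⟨i.val - 1, by omega⟩
        have hj' : j + 1 < n := by omega
        have := hs ⟨j, by omega⟩ hj'
        simpa [hj] using this

theorem isConjugationFamily_of_rchain {𝓕 : Set (Subgroup G)} {S : Subgroup G}
    (hle : ∀ T ∈ 𝓕, T ≤ S)
    (h : ∀ (A : Set G) (g : G), A ⊆ S → rconj g A ⊆ S → RChain 𝓕 A g) :
    Cfsg.IsConjugationFamily 𝓕 S :=
  ⟨hle, fun A g _ hA hAg => (h A g hA hAg).exists_data⟩

variable [Finite G] {p : ℕ} [Fact p.Prime]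

/-- Refine a conjugation `U = a T a⁻¹` onto a fully normalized `U` so that it carries `N_S(T)`
into `N_S(U)`. -/
theorem exists_conj_carry {S T U : Subgroup G} (hS : IsPGroup p S) {a : G}
    (ha : conjMap a T = U)
    (hidx : ¬ p ∣ (S ⊓ normalizer (U : Set G)).relIndex (normalizer (U : Set G))) :
    ∃ b, conjMap b T = U ∧
      conjMap b (S ⊓ normalizer (T : Set G)) ≤ S ⊓ normalizer (U : Set G) := by
  have hle : conjMap a (S ⊓ normalizer (T : Set G)) ≤ normalizer (U : Set G) :=
    (conjMap_mono inf_le_right).trans (by rw [conjMap_normalizer, ha])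
  obtain ⟨k, hk, hk'⟩ := ((sylowIn_inf_normalizer_iff hS).2 hidx).exists_conj_le
    ((hS.to_le inf_le_left).map _) hle
  refine ⟨k * a, by rw [← conjMap_conjMap, ha, conjMap_eq_self_iff.2 hk], ?_⟩
  rwa [← conjMap_conjMap]

/-- **Alperin**: a family containing a fully normalized conjugate of each subgroup of `S` is a
conjugation family. -/
theorem rchain_of_exists_good (S : Sylow p G) {𝓕 : Set (Subgroup G)}
    (h𝓕 : ∀ U ∈ 𝓕, U ≤ (S : Subgroup G))
    (h : ∀ T : Subgroup G, T ≤ (S : Subgroup G) → ∃ U ∈ 𝓕, (∃ g : G, conjMap g T = U) ∧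
      ¬ p ∣ ((S : Subgroup G) ⊓ normalizer (U : Set G)).relIndex (normalizer (U : Set G)))
    (A : Set G) (g : G) (hA : A ⊆ (S : Subgroup G)) (hAg : rconj g A ⊆ (S : Subgroup G)) :
    RChain 𝓕 A g := by
  suffices H : ∀ n, ∀ (T : Subgroup G) (g : G), T ≤ (S : Subgroup G) →
      conjMap g⁻¹ T ≤ (S : Subgroup G) → Nat.card (S : Subgroup G) - Nat.card T = n →
      RChain 𝓕 (T : Set G) g by
    refine (H _ (closure A) g ((closure_le _).2 hA) ?_ rfl).mono subset_closure
    rw [conjMap, MonoidHom.map_closure, closure_le]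
    rintro _ ⟨a, ha, rfl⟩
    simpa using hAg ⟨a, ha, rfl⟩
  intro n
  induction n using Nat.strong_induction_on with
  | _ n ih =>
    intro T g hT hTg hn
    obtain ⟨U, hU, ⟨a, ha⟩, hidx⟩ := h T hT
    rcases eq_or_lt_of_le hT with rfl | hlt
    · have hUS : U = (S : Subgroup G) :=
        Subgroup.eq_of_le_of_card_ge (h𝓕 U hU) (by rw [← ha, card_conjMap])
      subst hUS
      refine RChain.single hU (inv_mem_iff.1 (conjMap_eq_self_iff.1 ?_)) le_rfl
      exact Subgroup.eq_of_le_of_card_ge hTg (by rw [card_conjMap])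
    set T' := conjMap g⁻¹ T with hT'
    have hT'lt : T' < (S : Subgroup G) := lt_of_le_of_ne hTg fun he =>
      hlt.ne (Subgroup.eq_of_le_of_card_ge hT (by rw [← he, card_conjMap]))
    obtain ⟨a₁, ha₁, hc₁⟩ := exists_conj_carry S.2 ha hidx
    obtain ⟨b₁, hb₁, hd₁⟩ := exists_conj_carry S.2 (T := T') (U := U) (a := a * g)
      (by rw [hT', conjMap_conjMap, mul_inv_cancel_right, ha]) hidx
    have hN : Nat.card T < Nat.card ((S : Subgroup G) ⊓ normalizer (T : Set G) : Subgroup G) :=
      card_lt_card_inf_normalizer S.2 hlt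
    have hN' : Nat.card T <
        Nat.card ((S : Subgroup G) ⊓ normalizer (T' : Set G) : Subgroup G) := by
      have := card_lt_card_inf_normalizer S.2 hT'lt
      rwa [hT', card_conjMap] at this
    have hle := Subgroup.card_le_of_le (H := (S : Subgroup G) ⊓ normalizer (T : Set G))
      (K := (S : Subgroup G)) inf_le_left
    have hle' := Subgroup.card_le_of_le (H := (S : Subgroup G) ⊓ normalizer (T' : Set G))
      (K := (S : Subgroup G)) inf_le_left
    have c1 : RChain 𝓕 (T : Set G) a₁⁻¹ :=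
      (ih _ (by omega) _ a₁⁻¹ inf_le_left (by rw [inv_inv]; exact hc₁.trans inf_le_left) rfl).mono
        (fun x hx => ⟨hT hx, le_normalizer hx⟩)
    set D := conjMap b₁ ((S : Subgroup G) ⊓ normalizer (T' : Set G)) with hD
    have hDc : Nat.card D = Nat.card ((S : Subgroup G) ⊓ normalizer (T' : Set G) : Subgroup G) :=
      card_conjMap _ _
    have c3 : RChain 𝓕 (U : Set G) b₁ := by
      refine (ih _ (by omega) D b₁ (hd₁.trans inf_le_left) ?_ rfl).mono ?_
      · rw [hD, conjMap_inv_conjMap]; exact inf_le_left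
      · rw [← hb₁]
        exact conjMap_mono (le_inf hTg le_normalizer)
    have hm : a₁ * g * b₁⁻¹ ∈ normalizer (U : Set G) := by
      rw [← conjMap_eq_self_iff]
      calc conjMap (a₁ * g * b₁⁻¹) U = conjMap (a₁ * g * b₁⁻¹) (conjMap b₁ T') := by rw [hb₁]
        _ = conjMap a₁ T := by rw [hT', conjMap_conjMap, conjMap_conjMap]; congr 1; group
        _ = U := ha₁
    have e1 : rconj a₁⁻¹ (T : Set G) = (U : Set G) := by
      ext x
      rw [← ha₁, SetLike.mem_coe, mem_conjMap]
      constructor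
      · rintro ⟨y, hy, rfl⟩; simpa [mul_assoc] using hy
      · intro hx; exact ⟨_, hx, by group⟩
    have e2 : rconj (a₁ * g * b₁⁻¹) (U : Set G) = (U : Set G) := by
      ext x
      constructor
      · rintro ⟨y, hy, rfl⟩; exact (mem_normalizer_iff''.1 hm y).1 hy
      · intro hx
        refine ⟨(a₁ * g * b₁⁻¹) * x * (a₁ * g * b₁⁻¹)⁻¹, (mem_normalizer_iff.1 hm x).1 hx, by group⟩
    have hg : g = a₁⁻¹ * ((a₁ * g * b₁⁻¹) * b₁) := by group
    rw [hg]
    refine c1.trans ?_
    rw [e1]
    refine (RChain.single hU hm le_rfl).trans ?_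
    rw [e2]
    exact c3

end CfsgLib.PLocal
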