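import Mathlib

/-!
# The limit of an additive subgroup of a ring under conjugation by `1 + tY`, `Y² = 0`

`limConj y L` consists of the leading coefficients of the polynomials `(1 + tY) q(t) (1 - tY)`,
`q ∈ L[t]`.
-/

set_option autoImplicit false

namespace CfsgLib.PLocal

open Polynomial

variable {E : Type*} [Ring E]

/-- Conjugation of a polynomial by `1 + tY`. -/
noncomputable def curveConj (y : E) (q : E[X]) : E[X] := (1 + C y * X) * q * (1 - C y * X)

theorem curveConj_add (y : E) (q r : E[X]) :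
    curveConj y (q + r) = curveConj y q + curveConj y r := by
  simp [curveConj, mul_add, add_mul]

theorem curveConj_neg (y : E) (q : E[X]) : curveConj y (-q) = -curveConj y q := by
  simp [curveConj]

theorem curveConj_zero (y : E) : curveConj y 0 = 0 := by simp [curveConj]

theorem curveConj_mul_X_pow (y : E) (q : E[X]) (m : ℕ) :
    curveConj y (q * X ^ m) = curveConj y q * X ^ m := by
  simp only [curveConj, mul_assoc]
  congr 2
  exact (commute_X_pow _ m).eq

theorem curve_inv {y : E} (hy : y * y = 0) :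
    (1 + C y * X) * (1 - C y * X) = 1 ∧ (1 - C y * X) * (1 + C y * X) = (1 : E[X]) := by
  have h : (C y * X) * (C y * X) = (0 : E[X]) := by
    rw [mul_assoc, ← mul_assoc X, (commute_X (C y)).eq, mul_assoc, ← mul_assoc, ← C_mul, hy, map_zero,
      zero_mul]
  constructor
  · rw [add_mul, mul_sub, mul_sub, one_mul, one_mul, mul_one, h]; abel
  · rw [sub_mul, mul_add, mul_add, one_mul, one_mul, mul_one, h]; abel

theorem curveConj_mul {y : E} (hy : y * y = 0) (q r : E[X]) :
    curveConj y (q * r) = curveConj y q * curveConj y r := by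
  simp only [curveConj]
  calc (1 + C y * X) * (q * r) * (1 - C y * X)
      = (1 + C y * X) * q * ((1 - C y * X) * (1 + C y * X)) * r * (1 - C y * X) := by
        rw [(curve_inv hy).2, mul_one, mul_assoc _ q r]
    _ = _ := by simp only [mul_assoc]

theorem neg_sq_eq {y : E} (hy : y * y = 0) : (-y) * (-y) = 0 := by rw [neg_mul_neg, hy]

theorem curveConj_neg_curveConj {y : E} (hy : y * y = 0) (q : E[X]) :
    curveConj y (curveConj (-y) q) = q := by
  simp only [curveConj, map_neg, neg_mul, sub_neg_eq_add, ← sub_eq_add_neg]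
  calc (1 + C y * X) * ((1 - C y * X) * q * (1 + C y * X)) * (1 - C y * X)
      = ((1 + C y * X) * (1 - C y * X)) * q * ((1 + C y * X) * (1 - C y * X)) := by
        simp only [mul_assoc]
    _ = q := by rw [(curve_inv hy).1, one_mul, mul_one]

theorem curveConj_injective {y : E} (hy : y * y = 0) : Function.Injective (curveConj y) := by
  intro q r h
  have h' := congrArg (curveConj (-y)) h
  have e := fun s => curveConj_neg_curveConj (neg_sq_eq hy) s
  simp only [neg_neg] at e
  rwa [e, e] at h'

theorem curveConj_eq (y : E) (q : E[X]) :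
    curveConj y q = q + (C y * q - q * C y) * X - (C y * q * C y) * X ^ 2 := by
  have e1 : ∀ z : E[X], X * (C y * z) = C y * (X * z) := fun z => by
    rw [← mul_assoc, (commute_X (C y)).eq, mul_assoc]
  have e2 : ∀ z : E[X], X * (q * z) = q * (X * z) := fun z => by
    rw [← mul_assoc, (commute_X q).eq, mul_assoc]
  have e3 : X * q = q * X := (commute_X q).eq
  have e4 : X * C y = C y * X := (commute_X (C y)).eq
  simp only [curveConj, add_mul, mul_sub, sub_mul, one_mul, mul_one, pow_two, mul_assoc, e1, e2,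
    e3, e4]
  abel

theorem curveConj_coeff (y : E) (q : E[X]) (k : ℕ) :
    (curveConj y q).coeff k = q.coeff k +
      (if 1 ≤ k then y * q.coeff (k - 1) - q.coeff (k - 1) * y else 0) -
      (if 2 ≤ k then y * q.coeff (k - 2) * y else 0) := by
  rw [curveConj_eq, coeff_sub, coeff_add, coeff_mul_X_pow']
  congr 1
  · congr 1
    rw [← pow_one X, coeff_mul_X_pow']
    simp only [coeff_sub, coeff_C_mul, coeff_mul_C]
  · simp only [coeff_C_mul, coeff_mul_C]

theorem curveConj_C_coeff (y a : E) :
    (curveConj y (C a)).natDegree ≤ 2 ∧ (curveConj y (C a)).coeff 0 = a ∧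
      (curveConj y (C a)).coeff 1 = y * a - a * y ∧ (curveConj y (C a)).coeff 2 = -(y * a * y) := by
  refine ⟨natDegree_le_iff_coeff_eq_zero.2 fun k hk => ?_, ?_, ?_, ?_⟩
  · rw [curveConj_coeff, coeff_C, coeff_C, coeff_C, if_neg (by omega : k ≠ 0),
      if_neg (by omega : k - 1 ≠ 0), if_neg (by omega : k - 2 ≠ 0)]
    simp
  all_goals simp [curveConj_coeff]

/-- Polynomials with coefficients in `L`. -/
def coeffIn (L : AddSubgroup E) : AddSubgroup E[X] where
  carrier := {q | ∀ k, q.coeff k ∈ L}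
  zero_mem' := fun k => by simp
  add_mem' := fun {q r} hq hr k => by rw [coeff_add]; exact L.add_mem (hq k) (hr k)
  neg_mem' := fun {q} hq k => by rw [coeff_neg]; exact L.neg_mem (hq k)

theorem C_mem_coeffIn {L : AddSubgroup E} {a : E} (ha : a ∈ L) : C a ∈ coeffIn L := fun k => by
  rw [coeff_C]; split_ifs
  · exact ha
  · exact L.zero_mem

theorem mul_X_pow_mem_coeffIn {L : AddSubgroup E} {q : E[X]} (hq : q ∈ coeffIn L) (m : ℕ) :
    q * X ^ m ∈ coeffIn L := fun k => by
  rw [coeff_mul_X_pow']; split_ifs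
  · exact hq _
  · exact L.zero_mem

/-- The leading coefficients of the curve `t ↦ (1 + tY) L (1 - tY)`. -/
noncomputable def limConj (y : E) (L : AddSubgroup E) : AddSubgroup E where
  carrier := {e | ∃ q ∈ coeffIn L, ∃ n, (curveConj y q).natDegree ≤ n ∧ (curveConj y q).coeff n = e}
  zero_mem' := ⟨0, (coeffIn L).zero_mem, 0, by simp [curveConj_zero]⟩
  add_mem' := by
    rintro _ _ ⟨q, hq, n, hn, rfl⟩ ⟨r, hr, m, hm, rfl⟩
    refine ⟨q * X ^ m + r * X ^ n,
      add_mem (mul_X_pow_mem_coeffIn hq m) (mul_X_pow_mem_coeffIn hr n), n + m, ?_, ?_⟩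
    · rw [curveConj_add, curveConj_mul_X_pow, curveConj_mul_X_pow]
      refine natDegree_add_le_of_degree_le (natDegree_mul_le.trans ?_) (natDegree_mul_le.trans ?_)
      · exact Nat.add_le_add hn (natDegree_X_pow_le m)
      · exact (Nat.add_le_add hm (natDegree_X_pow_le n)).trans (Nat.add_comm m n).le
    · rw [curveConj_add, curveConj_mul_X_pow, curveConj_mul_X_pow, coeff_add, coeff_mul_X_pow,
        Nat.add_comm n m, coeff_mul_X_pow]
  neg_mem' := by
    rintro _ ⟨q, hq, n, hn, rfl⟩
    exact ⟨-q, neg_mem hq, n, by rw [curveConj_neg, natDegree_neg]; exact hn,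
      by rw [curveConj_neg, coeff_neg]⟩

theorem limConj_mono {y : E} {L M : AddSubgroup E} (h : L ≤ M) : limConj y L ≤ limConj y M := by
  rintro _ ⟨q, hq, n, hn, rfl⟩
  exact ⟨q, fun k => h (hq k), n, hn, rfl⟩

theorem limConj_le {y : E} {L K : AddSubgroup E}
    (h : ∀ a ∈ L, a ∈ K ∧ y * a - a * y ∈ K ∧ y * a * y ∈ K) : limConj y L ≤ K := by
  rintro _ ⟨q, hq, n, -, rfl⟩
  rw [curveConj_coeff]
  refine K.sub_mem (K.add_mem (h _ (hq n)).1 ?_) ?_
  · split_ifs
    · exact (h _ (hq _)).2.1
    · exact K.zero_mem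
  · split_ifs
    · exact (h _ (hq _)).2.2
    · exact K.zero_mem

theorem limConj_mul_eq_zero {y : E} (hy : y * y = 0) {L M : AddSubgroup E}
    (h : ∀ a ∈ L, ∀ b ∈ M, a * b = 0) :
    ∀ a ∈ limConj y L, ∀ b ∈ limConj y M, a * b = 0 := by
  rintro _ ⟨q, hq, n, hn, rfl⟩ _ ⟨r, hr, m, hm, rfl⟩
  have hqr : q * r = 0 := by
    ext k
    rw [coeff_mul, coeff_zero]
    exact Finset.sum_eq_zero fun x _ => h _ (hq _) _ (hr _)
  rw [← coeff_mul_add_eq_of_natDegree_le hn hm, ← curveConj_mul hy, hqr, curveConj_zero, coeff_zero]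

/-- An element of an invariant subgroup is its own limit. -/
theorem le_limConj_of_invariant {y : E} (hy : y * y = 0) {L : AddSubgroup E}
    (h : ∀ a ∈ L, y * a - a * y ∈ L ∧ y * a * y ∈ L) : L ≤ limConj y L := by
  intro a ha
  refine ⟨curveConj (-y) (C a), fun k => ?_, 0, ?_, ?_⟩
  · rw [curveConj_coeff]
    simp only [neg_mul, mul_neg, neg_neg, sub_neg_eq_add, coeff_C]
    refine L.sub_mem (L.add_mem ?_ ?_) ?_
    · split_ifs
      · exact ha
      · exact L.zero_mem
    · split_ifs
      · have := L.neg_mem (h a ha).1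
        convert this using 1
        abel
      all_goals simp
    · split_ifs
      · exact (h a ha).2
      all_goals simp
  · rw [curveConj_neg_curveConj hy, natDegree_C]
  · rw [curveConj_neg_curveConj hy, coeff_C_zero]

/-- If `L ⊓ K` is invariant and `L` is not, the limit meets `K` outside `L`. -/
theorem exists_limConj_not_mem {y : E} (hy : y * y = 0) {L K : AddSubgroup E}
    (hLK : ∀ a ∈ L, y * a - a * y ∈ K ∧ y * a * y ∈ K)
    (hinv : ∀ a ∈ L ⊓ K, y * a - a * y ∈ L ⊓ K ∧ y * a * y ∈ L ⊓ K)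
    (hnot : ¬ ∀ a ∈ L, y * a - a * y ∈ L ∧ y * a * y ∈ L) :
    ∃ e ∈ limConj y L, e ∈ K ∧ e ∉ L := by
  push Not at hnot
  obtain ⟨a, ha, hane⟩ := hnot
  obtain ⟨hd, h0, h1, h2⟩ := curveConj_C_coeff y a
  by_cases hc2 : y * a * y ∈ L
  · have hc1 : y * a - a * y ∉ L := fun h => hane h hc2
    set c := -(y * a * y) with hc
    have hcm : c ∈ L ⊓ K := neg_mem ⟨hc2, (hLK a ha).2⟩
    refine ⟨y * a - a * y, ⟨C a - curveConj (-y) (C c * X ^ 2), ?_, 1, ?_, ?_⟩, (hLK a ha).1, hc1⟩
    · refine sub_mem (C_mem_coeffIn ha) ?_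
      rw [curveConj_mul_X_pow]
      refine mul_X_pow_mem_coeffIn (fun k => ?_) 2
      rw [curveConj_coeff]
      simp only [neg_mul, mul_neg, neg_neg, sub_neg_eq_add, coeff_C]
      have hi := hinv c hcm
      refine L.sub_mem (L.add_mem ?_ ?_) ?_
      · split_ifs
        · exact hcm.1
        · exact L.zero_mem
      · split_ifs
        · have := L.neg_mem hi.1.1
          convert this using 1
          abel
        all_goals simp
      · split_ifs
        · exact hi.2.1
        all_goals simp
    all_goals rw [sub_eq_add_neg, curveConj_add, curveConj_neg, curveConj_neg_curveConj hy,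
      ← sub_eq_add_neg]
    · refine natDegree_le_iff_coeff_eq_zero.2 fun k hk => ?_
      rw [coeff_sub, coeff_C_mul, coeff_X_pow]
      rcases eq_or_ne k 2 with rfl | hk2
      · rw [h2, if_pos rfl, mul_one, sub_self]
      · rw [if_neg hk2, mul_zero, sub_zero]
        exact natDegree_le_iff_coeff_eq_zero.1 hd k (by omega)
    · rw [coeff_sub, coeff_C_mul, coeff_X_pow, if_neg (by norm_num), mul_zero, sub_zero, h1]
  · exact ⟨-(y * a * y), ⟨C a, C_mem_coeffIn ha, 2, hd, h2⟩, K.neg_mem (hLK a ha).2,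
      fun h => hc2 (by simpa using L.neg_mem h)⟩

variable [Finite E]

omit [Finite E] in
theorem exists_curve_embedding {y : E} (hy : y * y = 0) (L : AddSubgroup E) : ∀ m : ℕ,
    ∃ f : {q : E[X] // q ∈ coeffIn L ∧ ∀ k, m ≤ k → (curveConj y q).coeff k = 0} →
      (Fin m → limConj y L), Function.Injective f
  | 0 => ⟨fun _ => Fin.elim0, fun q r _ => by
      have hz : ∀ s : {q : E[X] // q ∈ coeffIn L ∧ ∀ k, 0 ≤ k → (curveConj y q).coeff k = 0},
          s.1 = 0 := fun s => curveConj_injective hy (by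
        rw [curveConj_zero]; exact Polynomial.ext fun k => (s.2.2 k k.zero_le).trans (coeff_zero k).symm)
      exact Subtype.ext ((hz q).trans (hz r).symm)⟩
  | m + 1 => by
    classical
    obtain ⟨f, hf⟩ := exists_curve_embedding hy L m
    set T := {q : E[X] // q ∈ coeffIn L ∧ ∀ k, m + 1 ≤ k → (curveConj y q).coeff k = 0}
    let top : T → limConj y L := fun q => ⟨(curveConj y q.1).coeff m, q.1, q.2.1, m,
      natDegree_le_iff_coeff_eq_zero.2 fun k hk => q.2.2 k hk, rfl⟩
    let rep : limConj y L → E[X] := fun e => if h : ∃ q : T, top q = e then h.choose.1 else 0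
    have hrep : ∀ q : T, rep (top q) ∈ coeffIn L ∧
        (∀ k, m + 1 ≤ k → (curveConj y (rep (top q))).coeff k = 0) ∧
        (curveConj y (rep (top q))).coeff m = (curveConj y q.1).coeff m := fun q => by
      have h : ∃ r : T, top r = top q := ⟨q, rfl⟩
      simp only [rep, dif_pos h]
      exact ⟨h.choose.2.1, h.choose.2.2, congrArg Subtype.val h.choose_spec⟩
    refine ⟨fun q => Fin.snoc (f ⟨q.1 - rep (top q), sub_mem q.2.1 (hrep q).1, fun k hk => ?_⟩) (top q),
      fun q r h => ?_⟩
    · rw [sub_eq_add_neg, curveConj_add, curveConj_neg, coeff_add, coeff_neg]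
      rcases eq_or_lt_of_le hk with rfl | hlt
      · rw [(hrep q).2.2, add_neg_cancel]
      · rw [q.2.2 k hlt, (hrep q).2.1 k hlt, neg_zero, add_zero]
    · obtain ⟨h1, h2⟩ := Fin.snoc_injective2 h
      have h3 : q.1 - rep (top q) = r.1 - rep (top r) := congrArg Subtype.val (hf h1)
      rw [h2] at h3
      exact Subtype.ext (sub_left_inj.1 h3)

theorem card_le_card_limConj {y : E} (hy : y * y = 0) (L : AddSubgroup E) :
    Nat.card L ≤ Nat.card (limConj y L) := by
  classical
  have hb : ∀ N : ℕ, Nat.card L ^ N ≤ Nat.card (limConj y L) ^ (N + 2) := by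
    intro N
    obtain ⟨f, hf⟩ := exists_curve_embedding hy L (N + 2)
    have hfin := Finite.of_injective f hf
    calc Nat.card L ^ N = Nat.card (Fin N → L) := by rw [Nat.card_fun, Nat.card_fin]
      _ ≤ Nat.card (Fin (N + 2) → limConj y L) := ?_
      _ = _ := by rw [Nat.card_fun, Nat.card_fin]
    have hc : ∀ (v : Fin N → L) (k : ℕ), (∑ i : Fin N, monomial (i : ℕ) (v i : E)).coeff k =
        if h : k < N then (v ⟨k, h⟩ : E) else 0 := by
      intro v k
      rw [finsetSum_coeff]
      split_ifs with h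
      · rw [Finset.sum_eq_single ⟨k, h⟩]
        · rw [coeff_monomial, if_pos rfl]
        · intro i _ hi
          rw [coeff_monomial, if_neg fun e => hi (Fin.ext e)]
        · simp
      · exact Finset.sum_eq_zero fun i _ => by
          rw [coeff_monomial, if_neg]
          intro e
          exact h (e ▸ i.2)
    let g : (Fin N → L) →
        {q : E[X] // q ∈ coeffIn L ∧ ∀ k, N + 2 ≤ k → (curveConj y q).coeff k = 0} := fun v =>
      ⟨∑ i : Fin N, monomial (i : ℕ) (v i : E), fun k => by
        rw [hc]; split_ifs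
        · exact (v _).2
        · exact L.zero_mem, fun k hk => by
        rw [curveConj_coeff, hc, hc, hc, dif_neg (by omega), dif_neg (by omega : ¬ k - 1 < N),
          dif_neg (by omega : ¬ k - 2 < N)]
        simp⟩
    refine Nat.card_le_card_of_injective (f ∘ g) (hf.comp fun v w h => ?_)
    funext i
    have h1 := congrArg (fun q : E[X] => q.coeff i) (congrArg Subtype.val h)
    simp only [g, hc, dif_pos i.2] at h1
    exact Subtype.ext h1
  by_contra hlt
  push Not at hlt
  set l := Nat.card L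
  set m := Nat.card (limConj y L)
  have hm : 1 ≤ m := Nat.card_pos
  have hber : ∀ N : ℕ, m ^ N * (m + N) ≤ m * (m + 1) ^ N := by
    intro N
    induction N with
    | zero => simp
    | succ j ih =>
      calc m ^ (j + 1) * (m + (j + 1)) = m ^ j * (m * (m + j + 1)) := by ring
        _ ≤ m ^ j * ((m + j) * (m + 1)) := Nat.mul_le_mul_left _ (by nlinarith)
        _ = m ^ j * (m + j) * (m + 1) := by ring
        _ ≤ m * (m + 1) ^ j * (m + 1) := Nat.mul_le_mul_right _ ih
        _ = m * (m + 1) ^ (j + 1) := by ring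
  have h1 : m ^ (m ^ 3) * (m + m ^ 3) ≤ m ^ (m ^ 3) * m ^ 3 :=
    calc m ^ (m ^ 3) * (m + m ^ 3) ≤ m * (m + 1) ^ (m ^ 3) := hber _
      _ ≤ m * l ^ (m ^ 3) := Nat.mul_le_mul_left _ (Nat.pow_le_pow_left hlt _)
      _ ≤ m * m ^ (m ^ 3 + 2) := Nat.mul_le_mul_left _ (hb _)
      _ = _ := by ring
  have h2 := Nat.le_of_mul_le_mul_left h1 (pow_pos hm _)
  omega

end CfsgLib.PLocal
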