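import Cfsg.Agent.Lib.PLocal.Induced
import Cfsg.Agent.Lib.PLocal.QuotientCoprime

/-!
# Control of strong fusion is unaffected by normal `p'`-subgroups
-/

namespace CfsgLib.PLocal

open Subgroup

universe u

variable {p : ℕ} [Fact p.Prime]

/-- Two conjugates inside `S` that agree modulo a `p'`-group agree. -/
theorem ctrl_of_quotient_coprime {G : Type u} [Group G] [Finite G]
    {𝓦 : Set (∀ (Q : Type u) [Group Q], Subgroup Q)}
    (h𝓦 : ∀ W ∈ 𝓦, Cfsg.IsCharPFunctor.{u} p W) {L : Subgroup G} [L.Normal]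
    (hL : (Nat.card L).Coprime p) (hc : Ctrl p 𝓦 (G ⧸ L)) : Ctrl p 𝓦 G := by
  obtain ⟨S⟩ : Nonempty (Sylow p G) := inferInstance
  set S' : Subgroup G := (S : Subgroup G) with hS'
  set π := QuotientGroup.mk' L with hπ
  have hπs : Function.Surjective π := QuotientGroup.mk'_surjective L
  have hinj : Set.InjOn π (S' : Set G) := injOn_mk'_of_isPGroup hL S.2
  have hsylT : SylowIn p (S'.map π) ⊤ := by
    have := sylowIn_top (S.mapSurjective hπs)
    rwa [Sylow.coe_mapSurjective] at this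
  refine familyControls_iff.2 ⟨S', sylowIn_top S, fun A g _ hA hAg => ?_⟩
  have hAg' : lconj (π g) (π '' A) ⊆ (S'.map π : Subgroup _) := by
    rintro _ ⟨_, ⟨a, ha, rfl⟩, rfl⟩
    exact ⟨_, hAg ⟨a, ha, rfl⟩, by simp⟩
  have hr := familyControls_at (indSet_functor h𝓦) hc hsylT (π '' A) (π g) (mem_top _)
    (by rintro _ ⟨a, ha, rfl⟩; exact ⟨a, hA ha, rfl⟩) hAg'
  suffices H : ∀ (B : Set (G ⧸ L)) (h : G ⧸ L),
      FusRel (FamStep (indSet 𝓦 (G ⧸ L)) ⊤ (S'.map π)) (S'.map π : Subgroup _) B h →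
      ∀ A : Set G, A ⊆ S' → π '' A = B →
      ∃ c, FusRel (FamStep (indSet 𝓦 G) ⊤ S') S' A c ∧
        ∀ a ∈ A, π (c * a * c⁻¹) = h * π a * h⁻¹ by
    obtain ⟨c, hc1, hc2⟩ := H _ _ hr A hA rfl
    refine hc1.congr fun a ha => (hinj (hc1.image_subset ⟨a, ha, rfl⟩) (hAg ⟨a, ha, rfl⟩) ?_).symm
    rw [hc2 a ha, map_mul, map_mul, map_inv]
  intro B h hr'
  induction hr' with
  | @refl B h hB hfix =>
    intro A hA hAB
    refine ⟨1, FusRel.refl hA (by simp), fun a ha => ?_⟩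
    rw [hfix _ (hAB ▸ ⟨a, ha, rfl⟩)]
    simp
  | @step B x h hB hx hr'' ih =>
    intro A hA hAB
    obtain ⟨_, ⟨W, hW, rfl⟩, -, hxW⟩ := hx
    set U := Cfsg.inducedFunctor (G := G) W S' with hU
    have hUp : IsPGroup p U := S.2.to_le (map_subtype_le _)
    have hN : normalizer (Cfsg.inducedFunctor (G := G ⧸ L) W (S'.map π) : Set (G ⧸ L)) =
        (normalizer (U : Set G)).map π := by
      rw [← induced_map_of_injOn (h𝓦 W hW) π S.2 hinj]
      exact (CfsgLib.Comp.map_normalizer_eq hL hUp).symm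
    rw [hN] at hxW
    obtain ⟨y, hy, rfl⟩ := hxW
    set N := normalizer (U : Set G) with hNdef
    have hSN : S' ≤ N := le_normalizer_functor (induced_isConjugacyFunctor (h𝓦 W hW)) S.2
    have hyA : lconj y A ⊆ ((S' ⊔ L) ⊓ N : Subgroup G) := by
      rintro _ ⟨a, ha, rfl⟩
      refine ⟨?_, N.mul_mem (N.mul_mem hy (hSN (hA ha))) (N.inv_mem hy)⟩
      have h1 : π (y * a * y⁻¹) ∈ S'.map π :=
        hr''.subset ⟨π a, hAB ▸ ⟨a, ha, rfl⟩, by simp⟩
      rw [← mem_comap, comap_map_eq, hπ, QuotientGroup.ker_mk'] at h1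
      exact h1
    set Z := closure (lconj y A) with hZ
    have hZle : Z ≤ (S' ⊔ L) ⊓ N := (closure_le _).2 hyA
    have hZp : IsPGroup p Z := (S.2.map (MulAut.conj y).toMonoidHom).to_le <| (closure_le _).2 <| by
      rintro _ ⟨a, ha, rfl⟩
      exact ⟨a, hA ha, rfl⟩
    have hsyl : SylowIn p S' ((S' ⊔ L) ⊓ N) := ⟨le_inf le_sup_left hSN, S.2, fun hd =>
      S.not_dvd_index (hd.trans (relIndex_dvd_index_of_le (le_inf le_sup_left hSN)))⟩
    obtain ⟨k, hk, hkle⟩ := hsyl.exists_conj_le hZp hZle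
    obtain ⟨hk1, hk2⟩ := mem_inf.1 hk
    obtain ⟨l, hl, s, hs, rfl⟩ := mem_sup_of_normal_left.1 (sup_comm S' L ▸ hk1)
    set l' := s⁻¹ * l * s with hl'
    have hl'L : l' ∈ L := by
      simpa [hl'] using Normal.conj_mem (inferInstance : L.Normal) l hl s⁻¹
    have hl'N : l' ∈ N := by
      have : l' = s⁻¹ * (l * s) := by rw [hl']; group
      rw [this]; exact N.mul_mem (N.inv_mem (hSN hs)) hk2
    have hy' : l' * y ∈ N := N.mul_mem hl'N hy
    have himg : lconj (l' * y) A ⊆ S' := by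
      rintro _ ⟨a, ha, rfl⟩
      have h1 := hkle (conj_mem_conjMap (subset_closure ⟨a, ha, rfl⟩))
      have h2 := S'.mul_mem (S'.mul_mem (S'.inv_mem hs) h1) hs
      have e : l' * y * a * (l' * y)⁻¹ = s⁻¹ * (l * s * (y * a * y⁻¹) * (l * s)⁻¹) * s := by
        rw [hl']; group
      show l' * y * a * (l' * y)⁻¹ ∈ S'
      rw [e]; exact h2
    have hπl : π (l' * y) = π y := by
      rw [map_mul, hπ, QuotientGroup.mk'_apply, (QuotientGroup.eq_one_iff l').2 hl'L, one_mul]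
    obtain ⟨c, hc1, hc2⟩ := ih (lconj (l' * y) A) himg (by
      rw [lconj, lconj, Set.image_image, ← hAB, Set.image_image]
      exact Set.image_congr fun a _ => by rw [map_mul π _ (l' * y)⁻¹, map_mul π (l' * y) a, map_inv, hπl])
    refine ⟨c * (l' * y), FusRel.step hA ⟨_, ⟨W, hW, rfl⟩, mem_top _, hy'⟩ hc1, fun a ha => ?_⟩
    have h3 := hc2 _ ⟨a, ha, rfl⟩
    have e1 : c * (l' * y) * a * (c * (l' * y))⁻¹ = c * ((l' * y) * a * (l' * y)⁻¹) * c⁻¹ := by group
    have e2 : π ((l' * y) * a * (l' * y)⁻¹) = π y * π a * (π y)⁻¹ := by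
      rw [map_mul π _ (l' * y)⁻¹, map_mul π (l' * y) a, map_inv, hπl]
    rw [e1, h3, e2]
    group

end CfsgLib.PLocal
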