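import Cfsg.Agent.Lib.PLocal.Control
import Cfsg.Agent.Lib.PLocal.FullNormalized
import Cfsg.Agent.Lib.PLocal.CoprimeLift
import Cfsg.Agent.Lib.PLocal.StrongReduce

/-!
# Control of fusion from the normalizers of the subgroups containing the centre of a Sylow subgroup
-/

namespace CfsgLib.PLocal

open Subgroup

variable {G : Type*} [Group G] [Finite G] {p : ℕ} [Fact p.Prime]

/-- For a fully normalized `T`, automorphisms of `T` come from `N(T C_S(T))`. -/
theorem exists_normalizer_join_centralizer (S : Sylow p G) {T : Subgroup G}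
    (hT : T ∈ fullNormSet p (S : Subgroup G)) {y : G} (hy : y ∈ normalizer (T : Set G)) :
    ∃ n ∈ normalizer ((T ⊔ (S : Subgroup G) ⊓ centralizer (T : Set G) : Subgroup G) : Set G),
      ∀ t ∈ T, n * t * n⁻¹ = y * t * y⁻¹ := by
  set C := centralizer (T : Set G) with hC
  set R := (S : Subgroup G) ⊓ C with hR
  have hCN : C ≤ normalizer (T : Set G) := centralizer_le_normalizer _
  have hconjC : ∀ k ∈ normalizer (T : Set G), ∀ m ∈ C, k * m * k⁻¹ ∈ C := by
    intro k hk m hm
    refine mem_centralizer_iff.2 fun t ht => ?_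
    have h1 := mem_centralizer_iff.1 hm _ ((mem_normalizer_iff''.1 hk t).1 ht)
    calc t * (k * m * k⁻¹) = k * (k⁻¹ * t * k * m) * k⁻¹ := by group
      _ = k * (m * (k⁻¹ * t * k)) * k⁻¹ := by rw [h1]
      _ = _ := by group
  have hRs : SylowIn p R C := by
    refine ⟨inf_le_right, S.2.to_le inf_le_left, ?_⟩
    have h := CfsgLib.Fusion.not_dvd_relIndex_inf
      (S.2.to_le (inf_le_left : (S : Subgroup G) ⊓ normalizer (T : Set G) ≤ _)) inf_le_right hT.2 hCN
      hconjC
    rwa [inf_assoc, inf_eq_right.2 hCN] at h
  have hCy : conjMap y C = C := conjMap_eq_self_iff.2 (mem_normalizer_iff.2 fun m => ⟨hconjC y hy m,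
    fun h => by
      have := hconjC y⁻¹ (inv_mem hy) _ h
      simpa [mul_assoc] using this⟩)
  have hRy := hRs.conj y
  rw [hCy] at hRy
  obtain ⟨k, hk, hkR⟩ := hRy.exists_conj_eq hRs
  refine ⟨k⁻¹ * y, ?_, fun t ht => ?_⟩
  · have hR' : conjMap (k⁻¹ * y) R = R := by
      ext z
      constructor
      · rintro ⟨w, hw, rfl⟩
        have h1 : y * w * y⁻¹ ∈ conjMap k R := hkR.symm ▸ conj_mem_conjMap hw
        simpa [mul_assoc] using mem_conjMap.1 h1
      · intro hz
        have h1 : k * z * k⁻¹ ∈ conjMap y R := hkR ▸ conj_mem_conjMap hz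
        exact ⟨_, mem_conjMap.1 h1, by simp [mul_assoc]⟩
    have hT' : conjMap (k⁻¹ * y) T = T :=
      conjMap_eq_self_iff.2 (mul_mem (inv_mem (hCN hk)) hy)
    rw [← conjMap_eq_self_iff]
    show Subgroup.map _ (T ⊔ R) = T ⊔ R
    rw [Subgroup.map_sup]
    exact congrArg₂ (· ⊔ ·) hT' hR'
  · have h1 := mem_centralizer_iff.1 hk _ ((mem_normalizer_iff.1 hy t).1 ht)
    calc k⁻¹ * y * t * (k⁻¹ * y)⁻¹ = k⁻¹ * ((y * t * y⁻¹) * k) := by group
      _ = k⁻¹ * (k * (y * t * y⁻¹)) := by rw [h1]
      _ = _ := by group

/-- Local control above the centre of a Sylow subgroup gives global control of strong fusion. -/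
theorem familyControls_top_above (S : Sylow p G) (𝓦 : Set (Subgroup G → Subgroup G))
    (h𝓦 : ∀ W ∈ 𝓦, Cfsg.IsConjugacyFunctor p W)
    (hZ : ∀ W ∈ 𝓦, ∀ R : Subgroup G, R ≤ (S : Subgroup G) →
      (S : Subgroup G) ⊓ centralizer ((S : Subgroup G) : Set G) ≤ R →
      (S : Subgroup G) ⊓ centralizer ((S : Subgroup G) : Set G) ≤ W R)
    (hne : 𝓦.Nonempty)
    (hloc : ∀ U : Subgroup G, U ≠ ⊥ → U ≤ (S : Subgroup G) →
      (S : Subgroup G) ⊓ centralizer ((S : Subgroup G) : Set G) ≤ U →
      ∀ g : G, Cfsg.FamilyControlsStrongFusionIn p 𝓦 (normalizer (conjMap g U : Set G))) :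
    Cfsg.FamilyControlsStrongFusionIn p 𝓦 ⊤ := by
  set S' : Subgroup G := (S : Subgroup G) with hS'
  set P := FamStep 𝓦 ⊤ S' with hP
  have hsym : ∀ x, P x → P x⁻¹ := fun x hx => hx.inv
  set Z := S' ⊓ centralizer (S' : Set G) with hZdef
  by_cases hS0 : S' = ⊥
  · refine familyControls_iff.2 ⟨S', sylowIn_top S, fun A h _ hA hAh => FusRel.refl hA fun a ha => ?_⟩
    have := hA ha
    rw [hS0, SetLike.mem_coe, mem_bot] at this
    rw [this]; group
  have hS0' : ∀ T : Subgroup G, T ≤ S' → T ⊔ S' ⊓ centralizer (T : Set G) ≠ ⊥ := by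
    intro T hTS h0
    obtain ⟨h1, h2⟩ := sup_eq_bot_iff.1 h0
    rw [h1] at h2
    refine hS0 ?_
    refine eq_bot_iff.2 fun z hz => h2.le ⟨hz, mem_centralizer_iff.2 fun t ht => ?_⟩
    rw [SetLike.mem_coe, mem_bot] at ht; subst ht; simp
  have hSN : ∀ x, x ∈ normalizer (S' : Set G) → ∀ A : Set G, A ⊆ S' → 𝓦.Nonempty → FusRel P S' A x := by
    intro x hx A hA hne
    obtain ⟨W, hW⟩ := hne
    refine FusRel.single hA ⟨W, hW, mem_top x, normalizer_le_normalizer_functor (h𝓦 W hW) S.2 hx⟩ ?_
    rintro _ ⟨a, ha, rfl⟩
    exact (mem_normalizer_iff.1 hx a).1 (hA ha)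
  have main : ∀ n, ∀ U : Subgroup G, U ≠ ⊥ → U ≤ S' → Z ≤ U →
      Nat.card S' - Nat.card (S' ⊓ normalizer (U : Set G) : Subgroup G) = n →
      ∀ (y : G) (A : Set G), y ∈ normalizer (U : Set G) → A ⊆ (S' ⊓ normalizer (U : Set G) : Subgroup G) →
        lconj y A ⊆ (S' ⊓ normalizer (U : Set G) : Subgroup G) → FusRel P S' A y := by
    intro n
    induction n using Nat.strong_induction_on with
    | _ n ih =>
      intro U hU hUS hZU hn
      obtain ⟨V, hV, ⟨a, ha⟩, hidx⟩ := exists_fullNormalized S hUS
      obtain ⟨b, rfl, hb⟩ := exists_conj_carry S.2 ha hidx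
      have hVS : conjMap b U ≤ S' := hV.1
      have hVne : conjMap b U ≠ ⊥ := conjMap_ne_bot hU
      set R := S' ⊓ normalizer (conjMap b U : Set G) with hR
      have hcard : Nat.card (S' ⊓ normalizer (U : Set G) : Subgroup G) ≤ Nat.card R := by
        rw [← card_conjMap b]; exact card_le_of_le hb
      have hUne : Nat.card (S' ⊓ normalizer (U : Set G) : Subgroup G) ≠ 0 := Nat.card_pos.ne'
      have local_ : ∀ (y : G) (A : Set G), y ∈ normalizer (conjMap b U : Set G) → A ⊆ R →
          lconj y A ⊆ R → FusRel P S' A y := by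
        intro y A hy hA hyA
        have hr := familyControls_at h𝓦 (hloc U hU hUS hZU b)
          ((sylowIn_inf_normalizer_iff S.2).2 hidx) A y hy hA hyA
        induction hr with
        | refl hA hfix => exact FusRel.refl (hA.trans (SetLike.coe_subset_coe.2 inf_le_left)) hfix
        | @step A x h hA' hx hr' ih' =>
          obtain ⟨W, hW, hxV, hxW⟩ := hx
          have hxA : lconj x A ⊆ (R : Set G) := hr'.subset
          have hhy : h ∈ normalizer (conjMap b U : Set G) := by
            simpa using mul_mem hy (inv_mem hxV)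
          have h1 : FusRel P S' A x := by
            rcases eq_or_lt_of_le (inf_le_left : R ≤ S') with hRS | hRS
            · refine FusRel.single (hA.trans (SetLike.coe_subset_coe.2 inf_le_left)) ?_
                (hxA.trans (SetLike.coe_subset_coe.2 inf_le_left))
              exact ⟨W, hW, mem_top x, hRS ▸ hxW⟩
            · have hRp : IsPGroup p R := S.2.to_le inf_le_left
              have hRne : R ≠ ⊥ := fun h0 => hVne (eq_bot_iff.2 (h0 ▸ le_inf hVS le_normalizer))
              have hle : R ≤ S' ⊓ normalizer ((W R : Subgroup G) : Set G) :=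
                le_inf inf_le_left (le_normalizer_functor (h𝓦 W hW) hRp)
              have hlt : Nat.card R < Nat.card (S' ⊓ normalizer ((W R : Subgroup G) : Set G) : Subgroup G) :=
                lt_of_lt_of_le (card_lt_card_inf_normalizer S.2 hRS) (card_le_of_le
                  (inf_le_inf_left _ (normalizer_le_normalizer_functor (h𝓦 W hW) hRp)))
              have hle2 : Nat.card (S' ⊓ normalizer ((W R : Subgroup G) : Set G) : Subgroup G) ≤
                  Nat.card S' := card_le_of_le inf_le_left
              have hZR : Z ≤ R := le_inf inf_le_left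
                ((inf_le_right.trans (centralizer_le hVS)).trans (centralizer_le_normalizer _))
              exact ih _ (by omega) (W R) (functor_ne_bot (h𝓦 W hW) hRp hRne)
                ((functor_le (h𝓦 W hW) hRp).trans inf_le_left) (hZ W hW R inf_le_left hZR) rfl x A hxW
                (hA.trans (SetLike.coe_subset_coe.2 hle)) (hxA.trans (SetLike.coe_subset_coe.2 hle))
          refine h1.trans (ih' hhy hxA ?_)
          rwa [lconj_lconj]
      have conjStep : FusRel P S' ((S' ⊓ normalizer (U : Set G) : Subgroup G) : Set G) b := by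
        have hch : RChain (fullNormSet p S') ((S' ⊓ normalizer (U : Set G) : Subgroup G) : Set G) b⁻¹ := by
          refine rchain_of_exists_good S (fun V hV => hV.1) (fun T hT => exists_fullNormalized S hT) _ _
            (SetLike.coe_subset_coe.2 inf_le_left) ?_
          rintro _ ⟨x, hx, rfl⟩
          show _ ∈ S'
          simpa using (hb (conj_mem_conjMap hx)).1
        have key : ∀ (A : Set G) (g : G), RChain (fullNormSet p S') A g → ∀ D : Subgroup G,
            (D : Set G) = A → D ≤ S' → D ≠ ⊥ →
            Nat.card (S' ⊓ normalizer (U : Set G) : Subgroup G) ≤ Nat.card D →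
            FusRel P S' A g⁻¹ := by
          intro A g hg
          induction hg with
          | nil A =>
            intro D hD hDS _ _
            exact FusRel.refl (hD ▸ SetLike.coe_subset_coe.2 hDS) (by simp)
          | @step A T x g hT hx hA _ ih' =>
            intro D hD hDS hD1 hcD
            have hTS := hT.1
            have hTN : T ≤ S' ⊓ normalizer (T : Set G) := le_inf hTS le_normalizer
            have hxA : lconj x⁻¹ A ⊆ T := by
              rintro _ ⟨a, ha, rfl⟩
              simpa using (mem_normalizer_iff''.1 hx a).1 (hA ha)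
            have hDT : D ≤ T := fun z hz => hA (hD ▸ hz)
            have h1 : FusRel P S' A x⁻¹ := by
              obtain ⟨n', hn', hnt⟩ := exists_normalizer_join_centralizer S hT (inv_mem hx)
              set T' := T ⊔ S' ⊓ centralizer (T : Set G) with hT'
              have hT'S : T' ≤ S' := sup_le hTS inf_le_left
              have hAT' : A ⊆ (T' : Set G) := hA.trans (SetLike.coe_subset_coe.2 le_sup_left)
              have hnA : lconj n' A ⊆ (T' : Set G) := by
                rintro _ ⟨a, ha, rfl⟩
                exact (mem_normalizer_iff.1 hn' a).1 (hAT' ha)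
              refine FusRel.congr ?_ (fun a ha => (hnt a (hA ha)).symm)
              rcases eq_or_lt_of_le hT'S with hTe | hTlt
              · exact hSN n' (hTe ▸ hn') A (hAT'.trans (SetLike.coe_subset_coe.2 hT'S)) hne
              · have hlt : Nat.card T' < Nat.card (S' ⊓ normalizer (T' : Set G) : Subgroup G) :=
                  card_lt_card_inf_normalizer S.2 hTlt
                have hle2 : Nat.card (S' ⊓ normalizer (T' : Set G) : Subgroup G) ≤ Nat.card S' :=
                  card_le_of_le inf_le_left
                have hDTc : Nat.card D ≤ Nat.card T' := card_le_of_le (hDT.trans le_sup_left)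
                have hT'N : (T' : Set G) ⊆ (S' ⊓ normalizer (T' : Set G) : Subgroup G) :=
                  SetLike.coe_subset_coe.2 (le_inf hT'S le_normalizer)
                exact ih _ (by omega) T' (fun h0 => hD1 (eq_bot_iff.2 (h0 ▸ hDT.trans le_sup_left)))
                  hT'S ((le_inf inf_le_left (inf_le_right.trans (centralizer_le hTS))).trans le_sup_right)
                  rfl n' A hn' (hAT'.trans hT'N) (hnA.trans hT'N)
            rw [mul_inv_rev]
            refine h1.trans ?_
            have e : lconj x⁻¹ A = rconj x A := by simp [lconj, rconj]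
            rw [e]
            refine ih' (conjMap x⁻¹ D) ?_ ?_ (conjMap_ne_bot hD1) (hcD.trans (card_conjMap _ _).ge)
            · rw [← e, ← hD]
              ext z
              constructor
              · intro hz; exact ⟨_, mem_conjMap.1 hz, by group⟩
              · rintro ⟨w, hw, rfl⟩; exact conj_mem_conjMap hw
            · intro z hz
              have hz' := mem_conjMap.1 hz
              rw [← SetLike.mem_coe, hD] at hz'
              exact hTS (by simpa [mul_assoc] using hxA ⟨_, hz', rfl⟩)
        have := key _ _ hch _ rfl inf_le_left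
          (fun h0 => hU (eq_bot_iff.2 (h0 ▸ le_inf hUS le_normalizer))) le_rfl
        rwa [inv_inv] at this
      intro y A hy hA hyA
      have c1 := conjStep.mono hA
      have c3 := (conjStep.mono hyA).symm hsym
      rw [lconj_lconj] at c3
      have hb' : b * y * b⁻¹ ∈ normalizer (conjMap b U : Set G) := by
        rw [← conjMap_normalizer]; exact conj_mem_conjMap hy
      have c2 := local_ _ (lconj b A) hb'
        ((lconj_subset_conjMap hA).trans (SetLike.coe_subset_coe.2 hb))
        (by rw [lconj_lconj, inv_mul_cancel_right, ← lconj_lconj]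
            exact (lconj_subset_conjMap hyA).trans (SetLike.coe_subset_coe.2 hb))
      have c12 := c1.trans c2
      rw [inv_mul_cancel_right] at c12
      have := c12.trans c3
      rwa [inv_mul_cancel_left] at this
  rw [familyControls_iff]
  refine ⟨S', sylowIn_top S, fun A h _ hA hAh => ?_⟩
  have hch : RChain (fullNormSet p S') A h⁻¹ := by
    refine rchain_of_exists_good S (fun V hV => hV.1) (fun T hT => exists_fullNormalized S hT) A _ hA ?_
    show rconj h⁻¹ A ⊆ S'
    simpa [rconj] using hAh
  suffices H : ∀ (A : Set G) (g : G), RChain (fullNormSet p S') A g → A ⊆ S' → FusRel P S' A g⁻¹ by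
    simpa using H _ _ hch hA
  intro A g hg
  induction hg with
  | nil A => intro hA; exact FusRel.refl hA (by simp)
  | @step A T x g hT hx hA _ ih' =>
    intro hAS
    have hTS := hT.1
    obtain ⟨n', hn', hnt⟩ := exists_normalizer_join_centralizer S hT (inv_mem hx)
    set T' := T ⊔ S' ⊓ centralizer (T : Set G) with hT'
    have hT'S : T' ≤ S' := sup_le hTS inf_le_left
    have hAT' : A ⊆ (T' : Set G) := hA.trans (SetLike.coe_subset_coe.2 le_sup_left)
    have hxA : lconj x⁻¹ A ⊆ T := by
      rintro _ ⟨a, ha, rfl⟩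
      simpa using (mem_normalizer_iff''.1 hx a).1 (hA ha)
    have e : lconj x⁻¹ A = rconj x A := by simp [lconj, rconj]
    have hnext : rconj x A ⊆ S' := e ▸ hxA.trans (SetLike.coe_subset_coe.2 hTS)
    have h1 : FusRel P S' A x⁻¹ := by
      refine FusRel.congr ?_ (fun a ha => (hnt a (hA ha)).symm)
      rcases eq_or_lt_of_le hT'S with hTe | hTlt
      · exact hSN n' (hTe ▸ hn') A hAS hne
      · have hT'N : (T' : Set G) ⊆ (S' ⊓ normalizer (T' : Set G) : Subgroup G) :=
          SetLike.coe_subset_coe.2 (le_inf hT'S le_normalizer)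
        have hnA : lconj n' A ⊆ (T' : Set G) := by
          rintro _ ⟨a, ha, rfl⟩
          exact (mem_normalizer_iff.1 hn' a).1 (hAT' ha)
        exact main _ T' (fun h0 => hS0' T hTS h0) hT'S
          ((le_inf inf_le_left (inf_le_right.trans (centralizer_le hTS))).trans le_sup_right) rfl n' A
          hn' (hAT'.trans hT'N) (hnA.trans hT'N)
    rw [mul_inv_rev]
    refine h1.trans ?_
    rw [e]
    exact ih' hnext

end CfsgLib.PLocal
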