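import Cfsg.Agent.Lib.PLocal.Control

/-!
# Local to global control of transfer by conjugacy functors
-/

namespace CfsgLib.PLocal

open Subgroup
open scoped commutatorElement

variable {G : Type*} [Group G] [Finite G] {p : ℕ} [Fact p.Prime]

theorem familyTransfer_at {𝓦 : Set (Subgroup G → Subgroup G)}
    (h𝓦 : ∀ W ∈ 𝓦, Cfsg.IsConjugacyFunctor p W) {H : Subgroup G}
    (hc : Cfsg.FamilyControlsTransferIn p 𝓦 H) {T : Subgroup G} (hT : SylowIn p T H) :
    T ⊓ ⁅H, H⁆ = ⨆ W ∈ 𝓦, T ⊓ ⁅H ⊓ normalizer ((W T : Subgroup G) : Set G),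
      H ⊓ normalizer ((W T : Subgroup G) : Set G)⁆ := by
  obtain ⟨T₀, h1, h2, h3, h4⟩ := hc
  obtain ⟨k, hk, rfl⟩ := hT.exists_conj_eq (⟨h1, h2, h3⟩ : SylowIn p T₀ H)
  have hH : conjMap k H = H := conjMap_eq_self_iff.2 (le_normalizer hk)
  have h := congrArg (conjMap k) h4
  have e1 : ∀ K : Subgroup G, conjMap k ⁅K, K⁆ = ⁅conjMap k K, conjMap k K⁆ := fun K =>
    Subgroup.map_commutator _ _ _
  have e2 : conjMap k (⨆ W ∈ 𝓦, T₀ ⊓ ⁅H ⊓ normalizer ((W T₀ : Subgroup G) : Set G),
        H ⊓ normalizer ((W T₀ : Subgroup G) : Set G)⁆) =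
      ⨆ W ∈ 𝓦, conjMap k (T₀ ⊓ ⁅H ⊓ normalizer ((W T₀ : Subgroup G) : Set G),
        H ⊓ normalizer ((W T₀ : Subgroup G) : Set G)⁆) := by
    rw [conjMap, Subgroup.map_iSup]
    exact iSup_congr fun W => Subgroup.map_iSup _ _
  rw [conjMap_inf, e1, hH, e2] at h
  rw [h]
  refine biSup_congr fun W hW => ?_
  rw [conjMap_inf, e1, conjMap_inf, conjMap_normalizer, hH, functor_conj (h𝓦 W hW) h2]

omit [Finite G] [Fact p.Prime] in
/-- Conjugations inside chains whose steps act trivially modulo `L` act trivially modulo `L`. -/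
theorem rchain_mod {good : Set (Subgroup G)} {L : Subgroup G} {A : Set G} {g : G}
    (hr : RChain good A g)
    (hstep : ∀ T ∈ good, ∀ (y : G), y ∈ normalizer (T : Set G) → ∀ z ∈ T, T ≠ ⊥ →
      y * z * y⁻¹ * z⁻¹ ∈ L)
    {a : G} (ha : a ∈ A) : g⁻¹ * a * g * a⁻¹ ∈ L := by
  induction hr generalizing a with
  | nil A => simp [L.one_mem]
  | @step A T x g hT hx hA _ ih =>
    have h2 := ih (a := x⁻¹ * a * x) ⟨a, ha, rfl⟩
    by_cases hT0 : T = ⊥
    · have : a = 1 := by
        have := hA ha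
        rwa [hT0, SetLike.mem_coe, mem_bot] at this
      subst this
      simpa using L.one_mem
    have h1 := hstep T hT x⁻¹ (inv_mem hx) a (hA ha) hT0
    have e : (x * g)⁻¹ * a * (x * g) * a⁻¹ =
        (g⁻¹ * (x⁻¹ * a * x) * g * (x⁻¹ * a * x)⁻¹) * (x⁻¹ * a * x⁻¹⁻¹ * a⁻¹) := by group
    rw [e]
    exact L.mul_mem h2 h1

/-- Local control of transfer gives global control. -/
theorem familyTransfer_top (S : Sylow p G) (𝓦 : Set (Subgroup G → Subgroup G))
    (h𝓦 : ∀ W ∈ 𝓦, Cfsg.IsConjugacyFunctor p W) (good : Set (Subgroup G))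
    (hgood : ∀ U ∈ good, U ≤ (S : Subgroup G) ∧
      ¬ p ∣ ((S : Subgroup G) ⊓ normalizer (U : Set G)).relIndex (normalizer (U : Set G)))
    (hex : ∀ T : Subgroup G, T ≤ (S : Subgroup G) → ∃ U ∈ good, (∃ g : G, conjMap g T = U) ∧
      ¬ p ∣ ((S : Subgroup G) ⊓ normalizer (U : Set G)).relIndex (normalizer (U : Set G)))
    (hloc : ∀ U ∈ good, U ≠ ⊥ → Cfsg.FamilyControlsTransferIn p 𝓦 (normalizer (U : Set G))) :
    Cfsg.FamilyControlsTransferIn p 𝓦 ⊤ := by
  set S' : Subgroup G := (S : Subgroup G) with hS'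
  set L : Subgroup G := ⨆ W ∈ 𝓦, S' ⊓ ⁅(⊤ : Subgroup G) ⊓ normalizer ((W S' : Subgroup G) : Set G),
    (⊤ : Subgroup G) ⊓ normalizer ((W S' : Subgroup G) : Set G)⁆ with hL
  have hWL : ∀ W ∈ 𝓦, S' ⊓ ⁅normalizer ((W S' : Subgroup G) : Set G),
      normalizer ((W S' : Subgroup G) : Set G)⁆ ≤ L := fun W hW =>
    le_trans (by rw [top_inf_eq]) (le_iSup₂_of_le W hW le_rfl)
  have hmem : ∀ (T : Subgroup G) (y z : G), y ∈ normalizer (T : Set G) → z ∈ T → T ≤ S' →
      y * z * y⁻¹ * z⁻¹ ∈ S' ⊓ ⁅normalizer (T : Set G), normalizer (T : Set G)⁆ := by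
    intro T y z hy hz hTS
    refine ⟨S'.mul_mem (hTS ((mem_normalizer_iff.1 hy z).1 hz)) (inv_mem (hTS hz)), ?_⟩
    have := commutator_mem_commutator hy (le_normalizer (H := T) hz)
    rwa [commutatorElement_def] at this
  have main : ∀ n, ∀ U : Subgroup G, U ≠ ⊥ → U ≤ S' →
      Nat.card S' - Nat.card (S' ⊓ normalizer (U : Set G) : Subgroup G) = n →
      S' ⊓ ⁅normalizer (U : Set G), normalizer (U : Set G)⁆ ≤ L := by
    intro n
    induction n using Nat.strong_induction_on with
    | _ n ih =>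
      intro U hU hUS hn
      obtain ⟨V, hV, ⟨a, ha⟩, hidx⟩ := hex U hUS
      obtain ⟨b, rfl, hb⟩ := exists_conj_carry S.2 ha hidx
      have hVS := (hgood _ hV).1
      have hVne : conjMap b U ≠ ⊥ := conjMap_ne_bot hU
      set N := normalizer ((conjMap b U : Subgroup G) : Set G) with hN
      set R := S' ⊓ N with hR
      have hcard : Nat.card (S' ⊓ normalizer (U : Set G) : Subgroup G) ≤ Nat.card R := by
        rw [← card_conjMap b]; exact card_le_of_le hb
      have hgoodcase : S' ⊓ ⁅N, N⁆ ≤ L := by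
        have h := familyTransfer_at h𝓦 (hloc _ hV hVne) ((sylowIn_inf_normalizer_iff S.2).2 hidx)
        have hNN : ⁅N, N⁆ ≤ N := commutator_le.2 fun x hx y hy => by
          rw [commutatorElement_def]
          exact N.mul_mem (N.mul_mem (N.mul_mem hx hy) (N.inv_mem hx)) (N.inv_mem hy)
        have e : S' ⊓ ⁅N, N⁆ = R ⊓ ⁅N, N⁆ := by rw [hR, inf_assoc, inf_eq_right.2 hNN]
        rw [e, h]
        refine iSup₂_le fun W hW => ?_
        refine le_trans (inf_le_inf_left _ (commutator_mono inf_le_right inf_le_right)) ?_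
        rcases eq_or_lt_of_le (inf_le_left : R ≤ S') with hRS | hRS
        · rw [hRS]; exact hWL W hW
        · have hRp : IsPGroup p R := S.2.to_le inf_le_left
          have hRne : R ≠ ⊥ := fun h0 => hVne (eq_bot_iff.2 (h0 ▸ le_inf hVS le_normalizer))
          have hlt : Nat.card R < Nat.card (S' ⊓ normalizer ((W R : Subgroup G) : Set G) : Subgroup G) :=
            lt_of_lt_of_le (card_lt_card_inf_normalizer S.2 hRS) (card_le_of_le
              (inf_le_inf_left _ (normalizer_le_normalizer_functor (h𝓦 W hW) hRp)))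
          have hle2 : Nat.card (S' ⊓ normalizer ((W R : Subgroup G) : Set G) : Subgroup G) ≤
              Nat.card S' := card_le_of_le inf_le_left
          exact (inf_le_inf_right _ inf_le_left).trans (ih _ (by omega) (W R)
            (functor_ne_bot (h𝓦 W hW) hRp hRne) ((functor_le (h𝓦 W hW) hRp).trans inf_le_left) rfl)
      intro x hx
      obtain ⟨hxS, hxc⟩ := mem_inf.1 hx
      have hxN : x ∈ S' ⊓ normalizer (U : Set G) := ⟨hxS, by
        refine (commutator_le.2 fun u hu v hv => ?_) hxc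
        rw [commutatorElement_def]
        exact mul_mem (mul_mem (mul_mem hu hv) (inv_mem hu)) (inv_mem hv)⟩
      have h1 : b * x * b⁻¹ ∈ L := by
        refine hgoodcase ⟨(hb (conj_mem_conjMap hxN)).1, ?_⟩
        rw [hN, ← conjMap_normalizer, conjMap, ← Subgroup.map_commutator]
        exact conj_mem_conjMap hxc
      have hch : RChain good ((S' ⊓ normalizer (U : Set G) : Subgroup G) : Set G) b⁻¹ := by
        refine rchain_of_exists_good S (fun V hV => (hgood V hV).1) hex _ _
          (SetLike.coe_subset_coe.2 inf_le_left) ?_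
        rintro _ ⟨z, hz, rfl⟩
        show _ ∈ S'
        simpa using (hb (conj_mem_conjMap hz)).1
      have key : ∀ (A : Set G) (g : G), RChain good A g → ∀ D : Subgroup G,
          (D : Set G) = A → D ≠ ⊥ →
          Nat.card (S' ⊓ normalizer (U : Set G) : Subgroup G) ≤ Nat.card D →
          ∀ a ∈ A, g⁻¹ * a * g * a⁻¹ ∈ L := by
        intro A g hg
        induction hg with
        | nil A => intro D _ _ _ a _; simp [L.one_mem]
        | @step A T y g hT hy hA _ ih' =>
          intro D hD hD1 hcD a ha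
          have hTS := (hgood T hT).1
          have hDT : D ≤ T := fun z hz => hA (hD ▸ hz)
          have hT0 : T ≠ ⊥ := fun h0 => hD1 (eq_bot_iff.2 (h0 ▸ hDT))
          have hTL : S' ⊓ ⁅normalizer (T : Set G), normalizer (T : Set G)⁆ ≤ L := by
            rcases eq_or_lt_of_le hTS with hTe | hTlt
            · subst hTe
              have hsT : SylowIn p S' (normalizer (S' : Set G)) := by
                have := (sylowIn_inf_normalizer_iff S.2).2 (hgood _ hT).2
                rwa [inf_eq_left.2 le_normalizer] at this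
              rw [familyTransfer_at h𝓦 (hloc _ hT hT0) hsT]
              exact iSup₂_le fun W hW =>
                (inf_le_inf_left _ (commutator_mono inf_le_right inf_le_right)).trans (hWL W hW)
            · have hlt : Nat.card T < Nat.card (S' ⊓ normalizer (T : Set G) : Subgroup G) :=
                card_lt_card_inf_normalizer S.2 hTlt
              have hle2 : Nat.card (S' ⊓ normalizer (T : Set G) : Subgroup G) ≤ Nat.card S' :=
                card_le_of_le inf_le_left
              have hDTc := card_le_of_le hDT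
              exact ih _ (by omega) T hT0 hTS rfl
          have h1 := hTL (hmem T y⁻¹ a (inv_mem hy) (hA ha) hTS)
          have h2 := ih' (conjMap y⁻¹ D) (by
              rw [← hD]
              ext z
              constructor
              · intro hz
                have := mem_conjMap.1 hz
                exact ⟨_, this, by group⟩
              · rintro ⟨w, hw, rfl⟩
                exact ⟨w, hw, by simp⟩) (conjMap_ne_bot hD1)
            (hcD.trans (card_conjMap _ _).ge) _ ⟨a, ha, rfl⟩
          have e : (y * g)⁻¹ * a * (y * g) * a⁻¹ =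
              (g⁻¹ * (y⁻¹ * a * y) * g * (y⁻¹ * a * y)⁻¹) * (y⁻¹ * a * y⁻¹⁻¹ * a⁻¹) := by group
          rw [e]
          exact L.mul_mem h2 h1
      have h2 := key _ _ hch _ rfl (fun h0 => hU (eq_bot_iff.2 (h0 ▸ le_inf hUS le_normalizer))) le_rfl x hxN
      have : x = (b⁻¹⁻¹ * x * b⁻¹ * x⁻¹)⁻¹ * (b * x * b⁻¹) := by group
      rw [this]
      exact L.mul_mem (L.inv_mem h2) h1
  refine ⟨S', le_top, S.2, by rw [relIndex_top_right]; exact S.not_dvd_index, le_antisymm ?_ ?_⟩
  · have hfoc : S' ⊓ ⁅(⊤ : Subgroup G), ⊤⁆ = S'.focalSubgroup := by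
      rw [← Subgroup.commutator_inf_eq_focalSubgroup S, inf_comm]
      rfl
    rw [hfoc, focalSubgroup_def, closure_le]
    rintro _ ⟨hcS, x, hx, u, rfl⟩
    have hy : u * x⁻¹ * u⁻¹ ∈ S' := by
      have h := S'.mul_mem (S'.inv_mem hx) hcS
      rw [commutatorElement_def] at h
      simpa [mul_assoc] using h
    have hch : RChain good ({x⁻¹} : Set G) u⁻¹ := by
      refine rchain_of_exists_good S (fun V hV => (hgood V hV).1) hex _ _
        (Set.singleton_subset_iff.2 (S'.inv_mem hx)) ?_
      rintro _ ⟨z, hz, rfl⟩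
      rw [Set.mem_singleton_iff] at hz
      show _ ∈ S'
      simpa [hz] using hy
    have h := rchain_mod hch (L := L) (fun T hT y hy z hz hT0 =>
      main _ T hT0 (hgood T hT).1 rfl (hmem T y z hy hz (hgood T hT).1)) (Set.mem_singleton x⁻¹)
    have hconjL : x * (u⁻¹⁻¹ * x⁻¹ * u⁻¹ * x⁻¹⁻¹) * x⁻¹ ∈ L := by
      have hxL : ∀ z ∈ L, x * z * x⁻¹ ∈ L := by
        intro z hz
        by_cases hS0 : S' = ⊥
        · rw [hS0, mem_bot] at hx
          simpa [hx] using hz
        have hLS : L ≤ S' := iSup₂_le fun W _ => inf_le_left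
        have := main _ S' hS0 le_rfl rfl (hmem S' x z (le_normalizer hx) (hLS hz) le_rfl)
        simpa [mul_assoc] using L.mul_mem this hz
      exact hxL _ h
    show ⁅x, u⁆ ∈ L
    simpa [commutatorElement_def, mul_assoc] using hconjL
  · exact iSup₂_le fun W _ => inf_le_inf_left _ (commutator_mono le_top le_top)

end CfsgLib.PLocal
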