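import Cfsg.Agent.Lib.PLocal.QPairRankOne

/-!
# Quadratic pairs: the grading attached to an inverse pair `z`, `c`

`z c` and `c z` are the projections on the two outer layers; weight one elements are those with
`z x = 0 = x z` and `x = z c x + x c z`.
-/

set_option autoImplicit false

namespace CfsgLib.PLocal.QPair

/-- The hypothesis that `z` and `c` form a square zero inverse pair. -/
structure InvPair {R : Type*} [Ring R] (z c : R) : Prop where
  zz : z * z = 0
  cc : c * c = 0
  zcz : z * c * z = z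
  czc : c * z * c = c

/-- Weight one elements. -/
structure WOne {R : Type*} [Ring R] (z c x : R) : Prop where
  zx : z * x = 0
  xz : x * z = 0
  eq : z * c * x + x * (c * z) = x

section Ring

variable {R : Type*} [Ring R] {z c : R}

theorem InvPair.symm (h : InvPair z c) : InvPair c z := ⟨h.cc, h.zz, h.czc, h.zcz⟩

theorem WOne.mul (hp : InvPair z c) {x y : R} (hx : WOne z c x) (hy : WOne z c y) :
    z * c * (x * y) = x * y ∧ x * y * (c * z) = x * y := by
  constructor
  · conv_rhs => rw [← hx.eq]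
    rw [add_mul, mul_assoc x (c * z) y, mul_assoc c z y, hy.zx, mul_zero, mul_zero, add_zero, mul_assoc (z * c)]
  · conv_rhs => rw [← hy.eq]
    rw [mul_add, mul_assoc z c y, ← mul_assoc x z (c * y), hx.xz, zero_mul, zero_add, mul_assoc]

theorem WOne.triple (hp : InvPair z c) {x y w : R} (hx : WOne z c x) (hy : WOne z c y)
    (hw : WOne z c w) : x * y * w = 0 := by
  rw [← (hx.mul hp hy).2, mul_assoc (x * y) (c * z) w, mul_assoc c z w, hw.zx, mul_zero, mul_zero]

theorem WOne.cxc (hp : InvPair z c) {x : R} (hx : WOne z c x) : c * x * c = 0 := by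
  have h : c * x * c = c * x * c + c * x * c := by
    conv_lhs => rw [← hx.eq]
    rw [mul_add, add_mul]
    congr 1
    · rw [← mul_assoc c (z * c) x, ← mul_assoc c z c, hp.czc]
    · rw [mul_assoc c (x * (c * z)) c, mul_assoc x (c * z) c, hp.czc, ← mul_assoc]
  exact left_eq_add.1 h

theorem WOne.zero : WOne z c (0 : R) := ⟨by simp, by simp, by simp⟩

/-- The three parts of an element annihilated on both sides by `z` without middle part. -/
theorem woneSplit (hp : InvPair z c) {x : R} (hzx : z * x = 0) (hxz : x * z = 0)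
    (h0 : (1 - z * c) * x * (1 - c * z) = 0) :
    x = z * c * x + x * (c * z) - z * c * x * (c * z) ∧
      WOne z c (x - z * c * x * (c * z)) := by
  have e : x = z * c * x + x * (c * z) - z * c * x * (c * z) := by
    simp only [sub_mul, mul_sub, one_mul, mul_one] at h0
    rw [← sub_eq_zero, ← h0]
    abel
  refine ⟨e, ?_, ?_, ?_⟩
  · simp only [mul_sub, hzx, ← mul_assoc, hp.zz, zero_mul, sub_zero]
  · simp only [sub_mul, hxz, mul_assoc, hp.zz, mul_zero, sub_zero]
  · have e1 : z * c * (z * c * x * (c * z)) = z * c * x * (c * z) := by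
      simp only [← mul_assoc, hp.zcz]
    have e2 : z * c * x * (c * z) * (c * z) = z * c * x * (c * z) := by
      rw [mul_assoc (z * c * x), ← mul_assoc (c * z) c z, hp.czc]
    simp only [mul_sub, sub_mul, e1, e2]
    rw [show z * c * x - z * c * x * (c * z) + (x * (c * z) - z * c * x * (c * z)) =
      (z * c * x + x * (c * z) - z * c * x * (c * z)) - z * c * x * (c * z) by abel, ← e]

/-- Conjugation by the central involution of an inverse pair. -/
theorem conj_invol (hp : InvPair z c) {x : R} (hzx : z * x = 0) (hxz : x * z = 0) :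
    (1 - 2 * (z * c + c * z)) * x * (1 - 2 * (z * c + c * z)) =
      x - 2 * (z * c * x) - 2 * (x * (c * z)) + 2 * 2 * (z * c * x * (c * z)) := by
  have h1 : c * z * x = 0 := by rw [mul_assoc, hzx, mul_zero]
  have h2 : x * (z * c) = 0 := by rw [← mul_assoc, hxz, zero_mul]
  simp only [two_mul, sub_mul, mul_sub, add_mul, mul_add, one_mul, mul_one, h1, h2, zero_mul,
    mul_zero, add_zero, mul_assoc (z * c) x (z * c)]
  abel

/-- Conjugation of a weight one element by the product of two Weyl elements. -/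
theorem conj_two (hp : InvPair z c) {w d x : R} (hx : WOne z c x) (hw1 : z * c * w = w)
    (hw2 : w * (c * z) = w) (hd1 : d * (z * c) = d) (hd2 : c * z * d = d) :
    ((1 - z * c - c * z + w - d) * (1 - z * c - c * z + z - c)) * x *
      ((1 - z * c - c * z - z + c) * (1 - z * c - c * z - w + d)) =
    -(x * c * w + w * c * x) := by
  have hcxc := hx.cxc hp
  set P := 1 - z * c - c * z with hP
  have zP : z * P = 0 := by
    rw [hP, mul_sub, mul_sub, mul_one, ← mul_assoc, hp.zz, zero_mul, ← mul_assoc, hp.zcz]; simp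
  have Pz : P * z = 0 := by
    rw [hP, sub_mul, sub_mul, one_mul, hp.zcz, mul_assoc c z z, hp.zz, mul_zero]; simp
  have cP : c * P = 0 := by
    rw [hP, mul_sub, mul_sub, mul_one, ← mul_assoc c c z, hp.cc, zero_mul, ← mul_assoc, hp.czc]; simp
  have Pc : P * c = 0 := by
    rw [hP, sub_mul, sub_mul, one_mul, hp.czc, mul_assoc z c c, hp.cc, mul_zero]; simp
  have PP : P * P = P := by
    nth_rewrite 1 [hP]
    rw [sub_mul, sub_mul, one_mul, mul_assoc z c P, cP, mul_zero, mul_assoc c z P, zP, mul_zero]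
    simp
  have wP : w * P = 0 := by rw [← hw2, mul_assoc, mul_assoc, zP, mul_zero, mul_zero]
  have Pw : P * w = 0 := by rw [← hw1, ← mul_assoc, ← mul_assoc, Pz, zero_mul, zero_mul]
  have dP : d * P = 0 := by rw [← hd1, mul_assoc, mul_assoc, cP, mul_zero, mul_zero]
  have Pd : P * d = 0 := by rw [← hd2, ← mul_assoc, ← mul_assoc, Pc, zero_mul, zero_mul]
  have wz : w * z = 0 := by
    rw [← hw2, mul_assoc, mul_assoc, hp.zz, mul_zero, mul_zero]
  have zw : z * w = 0 := by rw [← hw1, ← mul_assoc, ← mul_assoc, hp.zz, zero_mul, zero_mul]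
  have dc : d * c = 0 := by rw [← hd1, mul_assoc, mul_assoc, hp.cc, mul_zero, mul_zero]
  have cd : c * d = 0 := by rw [← hd2, ← mul_assoc, ← mul_assoc, hp.cc, zero_mul, zero_mul]
  have n1 : (P + w - d) * (P + z - c) = P - w * c - d * z := by
    simp only [sub_mul, add_mul, mul_sub, mul_add, PP, Pz, Pc, wP, wz, dP, dc]
    abel
  have n2 : (P - z + c) * (P - w + d) = P - z * d - c * w := by
    simp only [sub_mul, add_mul, mul_sub, mul_add, PP, zP, cP, Pw, zw, Pd, cd]
    abel
  rw [n1, n2]
  have e1 : (P - w * c - d * z) * x = P * x - w * c * x := by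
    rw [sub_mul, sub_mul, mul_assoc d z x, hx.zx, mul_zero, sub_zero]
  have Pxc : P * (x * c) = x * c := by
    rw [hP, sub_mul, sub_mul, one_mul, mul_assoc z c, ← mul_assoc c x c, hcxc, mul_zero,
      mul_assoc c z, ← mul_assoc z x c, hx.zx, zero_mul, mul_zero]
    simp
  have hxP : x * P = x - x * (c * z) := by
    rw [hP, mul_sub, mul_sub, mul_one, ← mul_assoc x z c, hx.xz, zero_mul, sub_zero]
  have PxP : P * (x * P) = 0 := by
    rw [hxP, hP, sub_mul, sub_mul, one_mul, mul_assoc c z, mul_sub z, hx.zx, ← mul_assoc z x, hx.zx,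
      zero_mul, sub_zero, mul_zero, sub_zero, mul_sub (z * c), mul_assoc z c (x * (c * z)),
      ← mul_assoc c x (c * z), ← mul_assoc (c * x) c z, hcxc, zero_mul, mul_zero, sub_zero]
    rw [show x - x * (c * z) - z * c * x = x - (z * c * x + x * (c * z)) by abel, hx.eq, sub_self]
  have e2 : x * (P - z * d - c * w) = x * P - x * c * w := by
    rw [mul_sub, mul_sub, ← mul_assoc x z d, hx.xz, zero_mul, sub_zero, mul_assoc x c w]
  have wcxP : w * c * (x * P) = w * c * x := by
    rw [hxP, mul_sub, mul_assoc w c (x * (c * z)), ← mul_assoc c x (c * z), ← mul_assoc (c * x) c z,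
      hcxc, zero_mul, mul_zero, sub_zero]
  rw [e1, sub_mul, mul_assoc P x, mul_assoc (w * c) x, e2, mul_sub P (x * P),
    mul_sub (w * c) (x * P), PxP,
    ← mul_assoc P (x * c) w, Pxc, wcxP, ← mul_assoc (w * c) (x * c) w, mul_assoc w c (x * c),
    ← mul_assoc c x c, hcxc, mul_zero, zero_mul]
  abel

end Ring

variable {k : Type*} [Field k] {M : Type*} [AddCommGroup M] [Module k M] [FiniteDimensional k M]

local notation "GLk" => LinearMap.GeneralLinearGroup k M
local notation "𝔈" => M →ₗ[k] M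

variable {G : Subgroup (LinearMap.GeneralLinearGroup k M)} {z c : M →ₗ[k] M}

/-- The fixed grading data. -/
structure Graded (G : Subgroup (LinearMap.GeneralLinearGroup k M)) (z c : M →ₗ[k] M) : Prop where
  hz : IsMin G z
  hc : IsMin G c
  opp : Opp z c
  inv : InvPair z c

theorem exists_graded (h2 : (2 : k) ≠ 0) (hk : Nat.card k ≠ 3) {b : 𝔈} (hz : IsMin G z)
    (hb : IsMin G b) (h : Opp z b) : ∃ c, Graded G z c := by
  obtain ⟨c, hc, hc0, h1, h1'⟩ := h.exists_inverse h2 hk hz hb
  exact ⟨c, hz, hb.of_mem hc hc0, h.mono hz hb (self_mem_rootSet hz.1) hc hz.2.1 hc0,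
    ⟨hz.1.1, hc.1.1, h1, h1'⟩⟩

theorem Graded.inv_mem_layer (hg : Graded G z c) {w : 𝔈} (hw : w ∈ rootSet G z) :
    z * c * w = w ∧ w * (c * z) = w := by
  constructor
  · ext m
    obtain ⟨v, hv⟩ := hw.2.1 (LinearMap.mem_range_self w m)
    rw [Module.End.mul_apply, ← hv]
    exact LinearMap.congr_fun hg.inv.zcz v
  · ext m
    have : (c * z) m - m ∈ LinearMap.ker w := hw.2.2 (by
      rw [LinearMap.mem_ker, map_sub, sub_eq_zero]
      exact LinearMap.congr_fun hg.inv.zcz m)
    rw [LinearMap.mem_ker, map_sub, sub_eq_zero] at this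
    exact this

theorem Graded.symm (hg : Graded G z c) : Graded G c z := ⟨hg.hc, hg.hz, hg.opp.symm, hg.inv.symm⟩

theorem Graded.layer_mem (hg : Graded G z c) {w : 𝔈} (hw : IsRoot G w) (h1 : z * c * w = w)
    (h2 : w * (c * z) = w) : w ∈ rootSet G z := by
  refine ⟨hw, ?_, fun m hm => ?_⟩
  · rw [← h1, mul_assoc]; exact LinearMap.range_comp_le_range _ _
  · rw [LinearMap.mem_ker, ← h2]
    simp [LinearMap.mem_ker.1 hm]

/-- The element `1 - 2 (z c + c z)` of `G`. -/
theorem Graded.exists_invol (hg : Graded G z c) :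
    ∃ g ∈ G, (g : 𝔈) = 1 - 2 * (z * c + c * z) ∧ ((g⁻¹ : GLk) : 𝔈) = 1 - 2 * (z * c + c * z) := by
  set w := uEnd z hg.inv.zz * (uEnd c hg.inv.cc)⁻¹ * uEnd z hg.inv.zz
  have hwG : w ∈ G := mul_mem (mul_mem hg.hz.1.uEnd_mem (inv_mem hg.hc.1.uEnd_mem)) hg.hz.1.uEnd_mem
  have e : ((w * w : GLk) : 𝔈) = 1 - 2 * (z * c + c * z) := by
    simp only [w, Units.val_mul, uEnd_coe, uEnd_inv_coe]
    exact weyl_sq z c hg.inv.zz hg.inv.cc hg.inv.zcz hg.inv.czc
  refine ⟨w * w, mul_mem hwG hwG, e, ?_⟩
  have hsq : (1 - 2 * (z * c + c * z)) * (1 - 2 * (z * c + c * z)) = (1 : 𝔈) := by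
    have h1 : z * c * (z * c) = z * c := by rw [← mul_assoc, hg.inv.zcz]
    have h2 : c * z * (c * z) = c * z := by rw [← mul_assoc, hg.inv.czc]
    have h3 : z * c * (c * z) = 0 := by rw [mul_assoc, ← mul_assoc c c, hg.inv.cc, zero_mul, mul_zero]
    have h4 : c * z * (z * c) = 0 := by rw [mul_assoc, ← mul_assoc z z, hg.inv.zz, zero_mul, mul_zero]
    simp only [two_mul, sub_mul, mul_sub, add_mul, mul_add, one_mul, mul_one, h1, h2, h3, h4]
    abel
  calc (((w * w)⁻¹ : GLk) : 𝔈) = ((((w * w)⁻¹ : GLk)) : 𝔈) * (((w * w : GLk) : 𝔈) * ((w * w : GLk) : 𝔈)) := by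
        rw [e, hsq, mul_one]
    _ = ((w * w : GLk) : 𝔈) := by rw [← mul_assoc, Units.inv_mul, one_mul]
    _ = _ := e

/-- The weight one and weight two parts of a root endomorphism are root endomorphisms. -/
theorem Graded.split_root (h2 : (2 : k) ≠ 0) (hg : Graded G z c) {x : 𝔈} (hx : IsMin G x)
    (hzx : z * x = 0) (hxz : x * z = 0) (h0 : (1 - z * c) * x * (1 - c * z) = 0) :
    z * c * x * (c * z) ∈ rootSet G z ∧ WOne z c (x - z * c * x * (c * z)) ∧
      IsRoot G (x - z * c * x * (c * z)) ∧ rk (x - z * c * x * (c * z)) ≤ rk x := by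
  obtain ⟨e, hw⟩ := woneSplit hg.inv hzx hxz h0
  set r := z * c * x * (c * z) with hr
  obtain ⟨g, hgG, ge, gi⟩ := hg.exists_invol
  have hcj := hx.1.conj hgG
  rw [ge, gi, conj_invol hg.inv hzx hxz, ← hr] at hcj
  have hxr : x * r = 0 := by
    rw [hr]; simp only [← mul_assoc, hxz, zero_mul]
  have hrx : r * x = 0 := by
    rw [hr, mul_assoc, mul_assoc c z x, hzx, mul_zero, mul_zero]
  have hrr : r * r = 0 := by
    rw [hr]; simp only [← mul_assoc]
    rw [show z * c * x * c * z * z = z * c * x * c * (z * z) by simp only [mul_assoc], hg.inv.zz]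
    simp
  have hcj' : IsRoot G (-x + (2 : k) • r) := by
    convert hcj using 1
    have e' : z * c * x + x * (c * z) = x + r := by
      nth_rewrite 3 [e]
      rw [hr]; abel
    rw [two_smul, show x - 2 * (z * c * x) - 2 * (x * (c * z)) =
      x - 2 * (z * c * x + x * (c * z)) by rw [mul_add]; abel, e']
    simp only [two_mul, add_mul]
    abel
  have hrootr : IsRoot G r := by
    have := (hcj'.add hx.1
      (by rw [add_mul, neg_mul, hx.1.1, smul_mul_assoc, hrx, smul_zero, neg_zero, add_zero])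
      (by rw [mul_add, mul_neg, hx.1.1, mul_smul_comm, hxr, smul_zero, neg_zero, add_zero])).smul
      (2 : k)⁻¹
    convert this using 1
    rw [neg_add_eq_sub, sub_add_cancel, smul_smul, inv_mul_cancel₀ h2, one_smul]
  have l1 : z * c * r = r := by rw [hr]; simp only [← mul_assoc, hg.inv.zcz]
  have l2 : r * (c * z) = r := by
    rw [hr, mul_assoc (z * c * x), ← mul_assoc (c * z) c z, hg.inv.czc]
  refine ⟨hg.layer_mem hrootr l1 l2, hw, hx.1.sub hrootr hxr hrx, ?_⟩
  -- rank bound
  have hp : z * c * x * (1 - c * z) = x * (1 - c * z) := by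
    rw [eq_comm, ← sub_eq_zero, ← h0]
    simp only [sub_mul, one_mul]
  have hle : LinearMap.range (x - r) ≤
      LinearMap.range (z * c * x * (1 - c * z)) ⊔ LinearMap.range ((1 - z * c) * x) := by
    rintro _ ⟨m, rfl⟩
    have : x - r = z * c * x * (1 - c * z) + (1 - z * c) * x := by
      rw [hr]; simp only [mul_sub, mul_one, sub_mul, one_mul]; abel
    rw [this, LinearMap.add_apply]
    exact Submodule.add_mem_sup (LinearMap.mem_range_self _ m) (LinearMap.mem_range_self _ m)
  have hker : LinearMap.range (z * c * x * (1 - c * z)) ≤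
      LinearMap.range x ⊓ LinearMap.ker (1 - z * c) := by
    refine le_inf ?_ ?_
    · rw [hp]; exact LinearMap.range_comp_le_range _ _
    · refine mul_eq_zero_iff.1 ?_
      simp only [← mul_assoc, sub_mul, one_mul, hg.inv.zcz, sub_self, zero_mul]
  have hmap := finrank_map_add (1 - z * c) (LinearMap.range x)
  have h3 : Module.finrank k (LinearMap.range ((1 - z * c) * x)) =
      Module.finrank k ((LinearMap.range x).map (1 - z * c)) := by
    rw [Module.End.mul_eq_comp, LinearMap.range_comp]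
  have h4 := Submodule.finrank_mono hker
  have h5 := Submodule.finrank_mono hle
  have h6 := Submodule.finrank_add_le_finrank_add_finrank
    (LinearMap.range (z * c * x * (1 - c * z))) (LinearMap.range ((1 - z * c) * x))
  simp only [rk]
  omega

/-- The image of a weight one element under the product of the Weyl elements of `w` and `z`. -/
theorem Graded.move (h2 : (2 : k) ≠ 0) (hk : Nat.card k ≠ 3) (hg : Graded G z c) {x w : 𝔈}
    (hx : IsMin G x) (hwx : WOne z c x) (hw : w ∈ rootSet G z) (hw0 : w ≠ 0) :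
    IsMin G (x * c * w + w * c * x) := by
  have hmw := hg.hz.of_mem hw hw0
  obtain ⟨d, hd, -, h1, h1'⟩ :=
    (hg.opp.mono hg.hz hg.hc hw (self_mem_rootSet hg.hc.1) hw0 hg.hc.2.1).exists_inverse h2 hk hmw hg.hc
  obtain ⟨w1, w2⟩ := hg.inv_mem_layer hw
  obtain ⟨d1, d2⟩ := hg.symm.inv_mem_layer hd
  have hrange := (hg.hz.sameAct hw hw0).1
  have hwd : w * d = z * c := by
    have h : w * d * z = z := by
      ext m
      obtain ⟨v, hv⟩ : z m ∈ LinearMap.range w := hrange.symm ▸ LinearMap.mem_range_self z m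
      rw [Module.End.mul_apply, ← hv]
      exact LinearMap.congr_fun h1 v
    conv_lhs => rw [← d2, ← mul_assoc, ← mul_assoc (w * d) z c, h]
  have hdw : d * w = c * z := by
    have h : z * (d * w) = z := by
      ext m
      have hker := (hg.hz.sameAct hw hw0).2
      have hm : (d * w) m - m ∈ LinearMap.ker w := by
        rw [LinearMap.mem_ker, map_sub, sub_eq_zero]
        show (w * (d * w)) m = w m
        rw [← mul_assoc, h1]
      rw [hker, LinearMap.mem_ker, map_sub, sub_eq_zero] at hm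
      exact hm
    conv_lhs => rw [← d1, mul_assoc (c * z) d w,
      mul_assoc c z, h]
  set nw := uEnd w hw.1.1 * (uEnd d hd.1.1)⁻¹ * uEnd w hw.1.1 with hnw
  set nz := uEnd z hg.inv.zz * (uEnd c hg.inv.cc)⁻¹ * uEnd z hg.inv.zz with hnz
  have form : ∀ {a b : 𝔈}, a * a = 0 → b * b = 0 → a * b * a = a →
      (1 + a) * (1 - b) * (1 + a) = 1 - a * b - b * a + a - b ∧
      (1 - a) * (1 + b) * (1 - a) = 1 - a * b - b * a - a + b := by
    intro a b ha hb hab
    constructor <;>
      · simp only [mul_add, add_mul, mul_sub, sub_mul, one_mul, mul_one, ha, hab]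
        abel
  have hn : nw * nz ∈ G := mul_mem
    (mul_mem (mul_mem hw.1.uEnd_mem (inv_mem hd.1.uEnd_mem)) hw.1.uEnd_mem)
    (mul_mem (mul_mem hg.hz.1.uEnd_mem (inv_mem hg.hc.1.uEnd_mem)) hg.hz.1.uEnd_mem)
  have e1 : ((nw * nz : GLk) : 𝔈) =
      (1 - z * c - c * z + w - d) * (1 - z * c - c * z + z - c) := by
    simp only [hnw, hnz, Units.val_mul, uEnd_coe, uEnd_inv_coe]
    rw [(form hw.1.1 hd.1.1 h1).1, (form hg.inv.zz hg.inv.cc hg.inv.zcz).1, hwd, hdw]
  have e2 : (((nw * nz)⁻¹ : GLk) : 𝔈) =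
      (1 - z * c - c * z - z + c) * (1 - z * c - c * z - w + d) := by
    simp only [hnw, hnz, mul_inv_rev, inv_inv, Units.val_mul, uEnd_coe, uEnd_inv_coe]
    simp only [← mul_assoc]
    rw [(form hg.inv.zz hg.inv.cc hg.inv.zcz).2, mul_assoc (1 - z * c - c * z - z + c),
      mul_assoc (1 - z * c - c * z - z + c), (form hw.1.1 hd.1.1 h1).2, hwd, hdw]
  have := hx.conj hn
  rw [e1, e2, conj_two hg.inv hwx w1 w2 d2 d1] at this
  exact ⟨by simpa using this.1.neg, neg_ne_zero.1 this.2.1, fun y hy hy0 =>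
    le_of_eq_of_le (by rw [rk, rk, LinearMap.range_neg]) (this.2.2 y hy hy0)⟩

end CfsgLib.PLocal.QPair
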