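import Cfsg.Agent.Lib.PLocal.DihMain
import Mathlib.GroupTheory.GroupAction.Primitive
import Mathlib.GroupTheory.GroupAction.MultipleTransitivity
import Mathlib.Tactic.Group

/-!
The Schur ring of a primitive group containing a regular generalised dihedral subgroup with cyclic
base, and Wielandt's theorem.
-/

set_option autoImplicit false
set_option linter.unusedSectionVars false

namespace CfsgLib.PLocal.Dih.Action

open MulAction Finset MonoidAlgebra

universe u v w x

variable {G : Type u} {Ω : Type v} {E : Type w} [Group G] [MulAction G Ω] [Group E]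
  (φ : E →* G) (a : Ω)

/-- The points labelled `c`, `c'` are in one orbit of the stabiliser. -/
def Rel (c c' : E) : Prop := ∃ h ∈ stabilizer G a, h • (φ c • a) = φ c' • a

theorem rel_refl (c : E) : Rel φ a c c := ⟨1, one_mem _, one_smul _ _⟩

theorem rel_symm {c d : E} (h : Rel φ a c d) : Rel φ a d c := by
  obtain ⟨g, hg, e⟩ := h
  exact ⟨g⁻¹, inv_mem hg, inv_smul_eq_iff.2 e.symm⟩

theorem rel_trans {c d e : E} (h : Rel φ a c d) (h' : Rel φ a d e) : Rel φ a c e := by
  obtain ⟨g, hg, e1⟩ := h
  obtain ⟨g', hg', e2⟩ := h'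
  exact ⟨g' * g, mul_mem hg' hg, by rw [mul_smul, e1, e2]⟩

variable (hbij : Function.Bijective fun c : E => φ c • a)
include hbij

theorem rel_one {c : E} (h : Rel φ a 1 c) : c = 1 := by
  obtain ⟨g, hg, e⟩ := h
  refine hbij.1 ?_
  simp only [map_one, one_smul] at e ⊢
  rw [← e, mem_stabilizer_iff.1 hg]

theorem translate {h : G} {d d' c c' : E} (hd : h • (φ d • a) = φ d' • a) (hc : h • (φ c • a) = φ c' • a) :
    Rel φ a (d⁻¹ * c) (d'⁻¹ * c') := by
  refine ⟨φ d'⁻¹ * h * φ d, ?_, ?_⟩
  · rw [mem_stabilizer_iff, mul_smul, mul_smul, hd, ← mul_smul, ← map_mul, inv_mul_cancel, map_one, one_smul]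
  · have e : φ d • φ (d⁻¹ * c) • a = φ c • a := by rw [← mul_smul, ← map_mul, mul_inv_cancel_left]
    rw [mul_smul, mul_smul, e, hc, ← mul_smul, ← map_mul]

theorem rel_inv {c c' : E} (h : Rel φ a c c') : Rel φ a c⁻¹ c'⁻¹ := by
  obtain ⟨g, hg, e⟩ := h
  have h1 : g • (φ 1 • a) = φ 1 • a := by simpa using mem_stabilizer_iff.1 hg
  simpa using translate φ a hbij e h1

theorem exists_moved (h : G) (c : E) : ∃ c' : E, h • (φ c • a) = φ c' • a :=
  (hbij.2 (h • (φ c • a))).imp fun _ e => e.symm

theorem conv_inv [Fintype E] {R : Type*} [CommRing R] (f g : E → R)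
    (hf : ∀ c c', Rel φ a c c' → f c = f c') (hg : ∀ c c', Rel φ a c c' → g c = g c') :
    ∀ c c', Rel φ a c c' → (∑ d, f d * g (d⁻¹ * c)) = ∑ d, f d * g (d⁻¹ * c') := by
  rintro c c' ⟨h, hh, hc⟩
  choose σ hσ using exists_moved φ a hbij h
  have hinj : Function.Injective σ := fun d e he => hbij.1 (smul_left_cancel h (by rw [hσ, hσ, he]))
  rw [← (Finite.injective_iff_bijective.1 hinj).sum_comp (fun d => f d * g (d⁻¹ * c'))]
  refine sum_congr rfl fun d _ => ?_
  exact congrArg₂ (· * ·) (hf d (σ d) ⟨h, hh, hσ d⟩) (hg _ _ (translate φ a hbij (hσ d) hc))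

/-- The block of a subgroup that is a union of orbits of the stabiliser is trivial or everything. -/
theorem subgroup_trivial (hco : IsCoatom (stabilizer G a)) (R : Subgroup E)
    (hR : ∀ c c', Rel φ a c c' → c ∈ R → c' ∈ R) : R = ⊥ ∨ R = ⊤ := by
  let U : Subgroup G :=
    { carrier := {g | ∃ r ∈ R, g • a = φ r • a}
      one_mem' := ⟨1, one_mem R, by rw [map_one]⟩
      mul_mem' := by
        rintro g g' ⟨r, hr, hg⟩ ⟨r', hr', hg'⟩
        obtain ⟨s, hs⟩ := exists_moved φ a hbij (φ r⁻¹ * g) r'
        have hst : φ r⁻¹ * g ∈ stabilizer G a := by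
          rw [mem_stabilizer_iff, mul_smul, hg, ← mul_smul, ← map_mul, inv_mul_cancel, map_one, one_smul]
        refine ⟨r * s, mul_mem hr (hR _ _ ⟨_, hst, hs⟩ hr'), ?_⟩
        rw [mul_smul, hg', map_mul, mul_smul (φ r), ← hs, mul_smul, map_inv, smul_inv_smul]
      inv_mem' := by
        rintro g ⟨r, hr, hg⟩
        have hst : φ r⁻¹ * g ∈ stabilizer G a := by
          rw [mem_stabilizer_iff, mul_smul, hg, ← mul_smul, ← map_mul, inv_mul_cancel, map_one, one_smul]
        obtain ⟨s, hs⟩ := exists_moved φ a hbij (φ r⁻¹ * g)⁻¹ r⁻¹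
        refine ⟨s, hR _ _ ⟨_, inv_mem hst, hs⟩ (inv_mem hr), ?_⟩
        rw [← hs, ← mul_smul, map_inv]
        group }
  have hle : stabilizer G a ≤ U := fun g hg => ⟨1, one_mem R, by rw [map_one, one_smul]; exact hg⟩
  rcases hco.le_iff.1 hle with h | h
  · right
    refine eq_top_iff.2 fun c _ => ?_
    obtain ⟨r, hr, e⟩ : φ c ∈ U := h ▸ Subgroup.mem_top _
    exact hbij.1 e ▸ hr
  · left
    refine (Subgroup.eq_bot_iff_forall R).2 fun r hr => hbij.1 ?_
    have h1 : φ r ∈ stabilizer G a := h ▸ ⟨r, hr, rfl⟩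
    simpa using h1

theorem invariant_set [Finite E] (hco : IsCoatom (stabilizer G a)) (S : Set E)
    (hS : ∀ c c', Rel φ a c c' → c ∈ S → c' ∈ S) : S ⊆ {1} ∨ Subgroup.closure S = ⊤ := by
  refine (subgroup_trivial φ a hbij hco (Subgroup.closure S) ?_).imp (fun h s hs => ?_) id
  · intro c c' hrel hc
    obtain ⟨h, hh, hcc⟩ := hrel
    have key : ∀ x ∈ Submonoid.closure S, ∀ h ∈ stabilizer G a, ∀ x', h • (φ x • a) = φ x' • a →
        x' ∈ Submonoid.closure S := by
      intro x hx
      induction hx using Submonoid.closure_induction_right with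
      | one =>
        intro h hh x' e
        rw [rel_one φ a hbij ⟨h, hh, e⟩]; exact one_mem _
      | mul_right x hx s hs ih =>
        intro h hh x' e
        obtain ⟨y, hy⟩ := exists_moved φ a hbij h x
        have h1 := translate φ a hbij hy e
        rw [inv_mul_cancel_left] at h1
        have := mul_mem (ih h hh y hy) (Submonoid.subset_closure (hS _ _ h1 hs))
        rwa [mul_inv_cancel_left] at this
    rw [← Subgroup.mem_toSubmonoid, Subgroup.closure_toSubmonoid_of_finite] at hc ⊢
    exact key c hc h hh c' hcc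
  · have := Subgroup.subset_closure (k := S) hs
    rw [h] at this
    exact this

/-- An invariant function fixed by a non-trivial left translation is constant. -/
theorem stab_const [Finite E] {R : Type*} (hco : IsCoatom (stabilizer G a)) (f : E → R)
    (hf : ∀ c c', Rel φ a c c' → f c = f c') {z : E} (hz1 : z ≠ 1) (hz : ∀ c, f (z * c) = f c) :
    ∀ c c', f c = f c' := by
  let T : Subgroup E :=
    { carrier := {r | ∀ c, f (r⁻¹ * c) = f c}
      one_mem' := fun c => by rw [inv_one, one_mul]
      mul_mem' := fun {r s} hr hs c => by rw [mul_inv_rev, mul_assoc, hs, hr]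
      inv_mem' := fun {r} hr c => by rw [inv_inv, ← hr (r * c), inv_mul_cancel_left] }
  have hT : ∀ r r', Rel φ a r r' → r ∈ T → r' ∈ T := by
    rintro r r' ⟨h, hh, hr⟩ hmem c
    choose σ hσ using exists_moved φ a hbij h
    have hinj : Function.Injective σ := fun d e he => hbij.1 (smul_left_cancel h (by rw [hσ, hσ, he]))
    obtain ⟨d, rfl⟩ := (Finite.injective_iff_bijective.1 hinj).2 c
    rw [← hf _ _ (translate φ a hbij hr (hσ d)), hmem d]
    exact hf _ _ ⟨h, hh, hσ d⟩
  have hzT : z ∈ T := fun c => by rw [← hz (z⁻¹ * c), mul_inv_cancel_left]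
  rcases subgroup_trivial φ a hbij hco T hT with h | h
  · exact absurd (Subgroup.mem_bot.1 (h ▸ hzT)) hz1
  · intro c c'
    have hr : c * c'⁻¹ ∈ T := h ▸ Subgroup.mem_top _
    have := hr c
    rw [mul_inv_rev, inv_inv, mul_assoc, inv_mul_cancel, mul_one] at this
    exact this.symm

variable {C : Type x} [CommGroup C] [Fintype C] [DecidableEq C] (ι : C →* E) (b : E)

omit hbij in
/-- The labelling of `E` by two copies of `C`. -/
def lab (w : C ⊕ C) : E := w.elim (fun c => ι c) fun c => ι c * b

variable (hι : Function.Injective ι) (hb2 : b * b = 1) (hconj : ∀ c, b * ι c * b = ι c⁻¹)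
  (hcov : ∀ e : E, ∃ c, e = ι c ∨ e = ι c * b) (hbC : ∀ c, ι c ≠ b)
include hι hb2 hconj hcov hbC

omit hbij hb2 hconj in
theorem lab_bijective : Function.Bijective (lab ι b) := by
  refine ⟨?_, fun e => ?_⟩
  · rintro (c | c) (d | d) h <;> simp only [lab, Sum.elim_inl, Sum.elim_inr] at h
    · rw [hι h]
    · exact absurd (by rw [map_mul, map_inv, h, inv_mul_cancel_left]) (hbC (d⁻¹ * c))
    · exact absurd (by rw [map_mul, map_inv, ← h, inv_mul_cancel_left]) (hbC (c⁻¹ * d))
    · rw [hι (mul_right_cancel h)]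
  · obtain ⟨c, rfl | rfl⟩ := hcov e
    · exact ⟨Sum.inl c, rfl⟩
    · exact ⟨Sum.inr c, rfl⟩

omit hbij hι hcov hbC in
theorem b_mul (c : C) : b * ι c = ι c⁻¹ * b := by
  rw [← hconj, mul_assoc (b * ι c) b b, hb2, mul_one]

omit hbij hι hcov hbC in
theorem inv_eq (c : C) : (ι c * b)⁻¹ = ι c * b := by
  refine inv_eq_of_mul_eq_one_right ?_
  rw [mul_assoc, ← mul_assoc b, hconj, ← map_mul, mul_inv_cancel, map_one]

omit hbij hι hcov hbC in
theorem inv_mul_eq (d c : C) :
    (ι d * b)⁻¹ * ι c = ι (d * c⁻¹) * b ∧ (ι d * b)⁻¹ * (ι c * b) = ι (d * c⁻¹) := by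
  rw [inv_eq ι b hb2 hconj]
  refine ⟨?_, ?_⟩
  · rw [mul_assoc, b_mul ι b hb2 hconj, ← mul_assoc, ← map_mul]
  · rw [mul_assoc, ← mul_assoc b, hconj, ← map_mul]

/-- The Schur ring of the action. -/
noncomputable def toSR (hco : IsCoatom (stabilizer G a)) (hC : Nontrivial C) : DihSR C where
  r x y := Rel φ a (lab ι b x) (lab ι b y)
  refl x := rel_refl φ a _
  symm h := rel_symm φ a h
  trans h h' := rel_trans φ a h h'
  one {x} h := (lab_bijective ι b hι hcov hbC).1 (by
    have h' : Rel φ a 1 (lab ι b x) := by simpa [lab] using h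
    rw [rel_one φ a hbij h']; simp [lab])
  mul {R} _ a1 b1 a2 b2 h1 h2 := by
    have hl := lab_bijective ι b hι hcov hbC
    letI : Fintype E := Fintype.ofBijective _ hl
    let e := Equiv.ofBijective _ hl
    let f : E → R := fun x => pairFn a1 b1 (e.symm x)
    let g : E → R := fun x => pairFn a2 b2 (e.symm x)
    have hef : ∀ w, e.symm (lab ι b w) = w := e.symm_apply_apply
    have hf : ∀ c c', Rel φ a c c' → f c = f c' := fun c c' h => by
      refine h1 _ _ ?_
      show Rel φ a (lab ι b (e.symm c)) (lab ι b (e.symm c'))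
      rwa [show lab ι b (e.symm c) = c from e.apply_symm_apply c,
        show lab ι b (e.symm c') = c' from e.apply_symm_apply c']
    have hg : ∀ c c', Rel φ a c c' → g c = g c' := fun c c' h => by
      refine h2 _ _ ?_
      show Rel φ a (lab ι b (e.symm c)) (lab ι b (e.symm c'))
      rwa [show lab ι b (e.symm c) = c from e.apply_symm_apply c,
        show lab ι b (e.symm c') = c' from e.apply_symm_apply c']
    have key : ∀ w, pairFn (a1 * a2 + b1 * Dih.st b2) (a1 * b2 + b1 * Dih.st a2) w =
        ∑ d, f d * g (d⁻¹ * lab ι b w) := by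
      intro w
      rw [← hl.sum_comp, Fintype.sum_sum_type]
      rcases w with c | c <;>
        simp only [pairFn, Sum.elim_inl, Sum.elim_inr, coeff_add, Finsupp.add_apply, coeff_mul] <;>
        congr 1 <;> refine sum_congr rfl fun d _ => ?_ <;> simp only [f, g, hef]
      · rw [show (lab ι b (Sum.inl d))⁻¹ * lab ι b (Sum.inl c) = lab ι b (Sum.inl (d⁻¹ * c)) by
          simp [lab], hef]
        rfl
      · rw [show (lab ι b (Sum.inr d))⁻¹ * lab ι b (Sum.inl c) = lab ι b (Sum.inr (d * c⁻¹)) from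
          (inv_mul_eq ι b hb2 hconj d c).1, hef, coeff_st, mul_inv_rev, inv_inv, mul_comm d]
        rfl
      · rw [show (lab ι b (Sum.inl d))⁻¹ * lab ι b (Sum.inr c) = lab ι b (Sum.inr (d⁻¹ * c)) by
          simp [lab, mul_assoc], hef]
        rfl
      · rw [show (lab ι b (Sum.inr d))⁻¹ * lab ι b (Sum.inr c) = lab ι b (Sum.inl (d * c⁻¹)) from
          (inv_mul_eq ι b hb2 hconj d c).2, hef, coeff_st, mul_inv_rev, inv_inv, mul_comm d]
        rfl
    intro x y hxy
    rw [key, key]
    exact conv_inv φ a hbij f g hf hg _ _ hxy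
  symmC c := by
    -- a class and its inverse share an involution
    by_cases hc : c = 1
    · subst hc; rw [inv_one]; exact rel_refl φ a _
    show Rel φ a (ι c) (ι c⁻¹)
    rw [map_inv]
    by_contra hn
    haveI := Finite.of_surjective _ (lab_bijective ι b hι hcov hbC).2
    rcases invariant_set φ a hbij hco {e | Rel φ a (ι c) e}
      (fun _ _ h he => rel_trans φ a he h) with h | h
    · exact hc (hι ((h (rel_refl φ a (ι c))).trans (map_one ι).symm))
    · have hsub : {e | Rel φ a (ι c) e} ⊆ (ι.range : Set E) := fun e he => by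
        obtain ⟨d, rfl | rfl⟩ := hcov e
        · exact ⟨d, rfl⟩
        · refine absurd ?_ hn
          have := rel_inv φ a hbij he
          rw [inv_eq ι b hb2 hconj] at this
          exact rel_trans φ a he (rel_symm φ a this)
      have htop : b ∈ ι.range := (Subgroup.closure_le _).2 hsub (h ▸ Subgroup.mem_top b)
      obtain ⟨d, hd⟩ := htop
      exact hbC d hd
  toR c hc := by
    by_contra hn
    push Not at hn
    haveI := Finite.of_surjective _ (lab_bijective ι b hι hcov hbC).2
    rcases invariant_set φ a hbij hco {e | Rel φ a (ι c) e}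
      (fun _ _ h he => rel_trans φ a he h) with h | h
    · exact hc (hι ((h (rel_refl φ a (ι c))).trans (map_one ι).symm))
    · have hsub : {e | Rel φ a (ι c) e} ⊆ (ι.range : Set E) := fun e he => by
        obtain ⟨d, rfl | rfl⟩ := hcov e
        · exact ⟨d, rfl⟩
        · exact absurd he (hn d)
      obtain ⟨d, hd⟩ := (Subgroup.closure_le _).2 hsub (h ▸ Subgroup.mem_top b)
      exact hbC d hd
  toL c := by
    by_contra hn
    push Not at hn
    have hl := lab_bijective ι b hι hcov hbC
    letI : Fintype E := Fintype.ofBijective _ hl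
    classical
    let f : E → ℤ := fun x => if Rel φ a (ι c * b) x then 1 else 0
    have hf : ∀ x x', Rel φ a x x' → f x = f x' := fun x x' h =>
      if_congr ⟨fun e => rel_trans φ a e h, fun e => rel_trans φ a e (rel_symm φ a h)⟩ rfl rfl
    let T : Set E := {x | Rel φ a (ι c * b) x}
    have hT : ∀ x ∈ T, ∃ d, x = ι d * b := fun x hx => by
      obtain ⟨d, rfl | rfl⟩ := hcov x
      · exact absurd hx (hn d)
      · exact ⟨d, rfl⟩
    -- a product of two members lies in `C`, so its class is trivial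
    have hprod : ∀ x ∈ T, ∀ y ∈ T, x * y = 1 := by
      intro x hx y hy
      by_contra hne
      obtain ⟨w, hw1, hw2⟩ : ∃ d, Rel φ a (x * y) (ι d * b) ∧ True := by
        by_contra hno
        push Not at hno
        rcases invariant_set φ a hbij hco {e | Rel φ a (x * y) e}
          (fun _ _ h he => rel_trans φ a he h) with h | h
        · exact hne (h (rel_refl φ a (x * y)))
        · have hsub : {e | Rel φ a (x * y) e} ⊆ (ι.range : Set E) := fun e he => by
            obtain ⟨d, rfl | rfl⟩ := hcov e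
            · exact ⟨d, rfl⟩
            · exact absurd he (fun h' => hno d h')
          obtain ⟨d, hd⟩ := (Subgroup.closure_le _).2 hsub (h ▸ Subgroup.mem_top b)
          exact hbC d hd
      have h0 := conv_inv φ a hbij f f hf hf _ _ hw1
      have hz : ∑ d, f d * f (d⁻¹ * (ι w * b)) = 0 := sum_eq_zero fun d _ => by
        simp only [f]
        split_ifs with h1 h2 <;> simp
        obtain ⟨d1, rfl⟩ := hT d h1
        obtain ⟨d2, hd2⟩ := hT _ h2
        rw [(inv_mul_eq ι b hb2 hconj d1 w).2] at hd2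
        have := hl.1 (a₁ := Sum.inl (d1 * w⁻¹)) (a₂ := Sum.inr d2) (by simpa [lab] using hd2)
        simp at this
      rw [hz] at h0
      have hpos : (1 : ℤ) ≤ ∑ d, f d * f (d⁻¹ * (x * y)) := by
        refine le_trans (le_of_eq ?_) (single_le_sum (fun d _ => mul_nonneg ?_ ?_) (mem_univ x))
        · have hx' : Rel φ a (ι c * b) x := hx
          have hy' : Rel φ a (ι c * b) y := hy
          simp [f, inv_mul_cancel_left, hx', hy']
        all_goals simp only [f]; split_ifs <;> simp
      omega
    have hT1 : ∀ x ∈ T, x = ι c * b := fun x hx => by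
      have h1 := hprod x hx _ (rel_refl φ a (ι c * b))
      rw [← inv_eq ι b hb2 hconj c, mul_inv_eq_one] at h1
      exact h1
    rcases invariant_set φ a hbij hco T (fun _ _ h he => rel_trans φ a he h) with h | h
    · have := hl.1 (a₁ := Sum.inr c) (a₂ := Sum.inl (1 : C))
        (by simpa [lab] using (h (rel_refl φ a (ι c * b)) : ι c * b = 1))
      simp at this
    · have hle : Subgroup.closure T ≤ Subgroup.zpowers (ι c * b) :=
        (Subgroup.closure_le _).2 fun x hx => by rw [hT1 x hx]; exact Subgroup.mem_zpowers _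
      rw [h] at hle
      obtain ⟨d, hd⟩ := exists_ne (1 : C)
      obtain ⟨k, hk⟩ := Subgroup.mem_zpowers_iff.1 (hle (Subgroup.mem_top (ι d)))
      rcases Int.even_or_odd' k with ⟨r, rfl | rfl⟩
      · have h2 : (ι c * b) ^ (2 : ℤ) = 1 := by
          rw [zpow_two]; nth_rewrite 1 [← inv_eq ι b hb2 hconj c]; exact inv_mul_cancel _
        rw [zpow_mul, h2, one_zpow] at hk
        exact hd (hι (hk.symm.trans (map_one ι).symm))
      · have h2 : (ι c * b) ^ (2 : ℤ) = 1 := by
          rw [zpow_two]; nth_rewrite 1 [← inv_eq ι b hb2 hconj c]; exact inv_mul_cancel _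
        rw [zpow_add, zpow_mul, h2, one_zpow, one_mul, zpow_one] at hk
        have := hl.1 (a₁ := Sum.inr c) (a₂ := Sum.inl d) (by simpa [lab] using hk)
        simp at this
  stab {R} _ a1 b1 h1 z hz hza hzb x y := by
    have hl := lab_bijective ι b hι hcov hbC
    haveI : Finite E := Finite.of_surjective _ hl.2
    let e := Equiv.ofBijective _ hl
    let f : E → R := fun x => pairFn a1 b1 (e.symm x)
    have hf : ∀ c c', Rel φ a c c' → f c = f c' := fun c c' h => by
      refine h1 _ _ ?_
      show Rel φ a (lab ι b (e.symm c)) (lab ι b (e.symm c'))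
      rwa [show lab ι b (e.symm c) = c from e.apply_symm_apply c,
        show lab ι b (e.symm c') = c' from e.apply_symm_apply c']
    have hef : ∀ w, e.symm (lab ι b w) = w := e.symm_apply_apply
    have hzf : ∀ c, f (ι z * c) = f c := fun c => by
      obtain ⟨w, rfl⟩ := hl.2 c
      rcases w with d | d
      · simp only [f, show ι z * lab ι b (Sum.inl d) = lab ι b (Sum.inl (z * d)) by simp [lab], hef]
        exact hza d
      · simp only [f, show ι z * lab ι b (Sum.inr d) = lab ι b (Sum.inr (z * d)) by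
          simp [lab, mul_assoc], hef]
        exact hzb d
    have := stab_const φ a hbij hco f hf (z := ι z)
      (fun e => hz (hι (e.trans (map_one ι).symm))) hzf (lab ι b x) (lab ι b y)
    simpa only [f, hef] using this

/-- Wielandt's theorem. -/
theorem two_transitive [IsCyclic C] (hprim : IsPreprimitive G Ω) (hC : Nontrivial C) :
    IsMultiplyPretransitive G Ω 2 := by
  haveI := hprim.toIsPretransitive
  have hl := lab_bijective ι b hι hcov hbC
  haveI : Nontrivial E := hι.nontrivial
  haveI : Nontrivial Ω := hbij.1.nontrivial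
  have hco : IsCoatom (stabilizer G a) := (isCoatom_stabilizer_iff_preprimitive G a).2 hprim
  let S := toSR φ a hbij ι b hι hb2 hconj hcov hbC hco hC
  obtain ⟨z, hz⟩ := exists_ne (1 : C)
  have horb : ∀ e : E, e ≠ 1 → Rel φ a (ι z) e := by
    intro e he
    obtain ⟨w, rfl⟩ := hl.2 e
    rcases w with d | d
    · exact S.related_all hz fun h => he (by simp [lab, h])
    · obtain ⟨d', hd'⟩ := S.toL d
      have hd1 : d' ≠ 1 := fun h => by
        subst h
        exact absurd (S.one (S.symm hd')) Sum.inr_ne_inl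
      exact rel_trans φ a (S.related_all hz hd1) (rel_symm φ a hd')
  rw [is_two_pretransitive_iff]
  intro x₁ y₁ x₂ y₂ hx hy
  obtain ⟨g₁, hg₁⟩ := exists_smul_eq G x₁ a
  obtain ⟨g₂, hg₂⟩ := exists_smul_eq G x₂ a
  obtain ⟨c₁, hc₁⟩ := hbij.2 (g₁ • y₁)
  obtain ⟨c₂, hc₂⟩ := hbij.2 (g₂ • y₂)
  have n1 : c₁ ≠ 1 := fun e => hx (smul_left_cancel g₁ (by rw [hg₁, ← hc₁, e]; simp))
  have n2 : c₂ ≠ 1 := fun e => hy (smul_left_cancel g₂ (by rw [hg₂, ← hc₂, e]; simp))
  obtain ⟨k, hk, ek⟩ := rel_trans φ a (rel_symm φ a (horb c₁ n1)) (horb c₂ n2)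
  refine ⟨g₂⁻¹ * k * g₁, ?_, ?_⟩
  · rw [mul_smul, mul_smul, hg₁, mem_stabilizer_iff.1 hk, ← hg₂, inv_smul_smul]
  · simp only [mul_smul, ← hc₁]
    rw [ek]
    exact inv_smul_eq_iff.2 hc₂

end CfsgLib.PLocal.Dih.Action
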