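import Mathlib.Algebra.MonoidAlgebra.Basic
import Mathlib.Algebra.MonoidAlgebra.MapDomain
import Mathlib.Algebra.CharP.Algebra
import Mathlib.Algebra.CharP.Lemmas
import Mathlib.Data.ZMod.Basic
import Mathlib.FieldTheory.Finite.Basic
import Mathlib.GroupTheory.SpecificGroups.Cyclic

/-!
The group ring of a finite abelian group as used for Schur rings over generalised dihedral groups:
coefficient formulas, the inversion map, augmentation and the Frobenius push-forward.
-/

set_option autoImplicit false
set_option linter.unusedSectionVars false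

namespace CfsgLib.PLocal.Dih

open Finset MonoidAlgebra

universe u

variable {C : Type u} [CommGroup C] [Fintype C] [DecidableEq C]
variable {R : Type} [CommRing R]

/-- The element with the given coefficient function. -/
noncomputable def ofFn (f : C → R) : MonoidAlgebra R C := ∑ c, single c (f c)

theorem coeff_ofFn (f : C → R) (c : C) : (ofFn f).coeff c = f c := by
  simp [ofFn, coeff_sum, Finsupp.single_apply]

theorem ofFn_coeff (a : MonoidAlgebra R C) : ofFn (fun c => a.coeff c) = a := by
  ext c; exact coeff_ofFn _ c

theorem coeff_mul (x y : MonoidAlgebra R C) (c : C) :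
    (x * y).coeff c = ∑ d, x.coeff d * y.coeff (d⁻¹ * c) := by
  classical
  rw [MonoidAlgebra.coeff_mul_antidiag x y c (univ.image fun d : C => (d, d⁻¹ * c)) (fun {p} => by
    simp only [mem_image, mem_univ, true_and]
    exact ⟨by rintro ⟨d, rfl⟩; simp, fun h => ⟨p.1, by rw [← h]; simp⟩⟩),
    Finset.sum_image fun _ _ _ _ e => congrArg Prod.fst e]

/-- The map induced by inversion. -/
noncomputable def st (a : MonoidAlgebra R C) : MonoidAlgebra R C := ofFn fun c => a.coeff c⁻¹

theorem coeff_st (a : MonoidAlgebra R C) (c : C) : (st a).coeff c = a.coeff c⁻¹ := coeff_ofFn _ c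

theorem st_st (a : MonoidAlgebra R C) : st (st a) = a := by
  ext c; simp [coeff_st]

theorem st_add (a b : MonoidAlgebra R C) : st (a + b) = st a + st b := by
  ext c; simp [coeff_st]

theorem st_mul (a b : MonoidAlgebra R C) : st (a * b) = st a * st b := by
  ext c
  rw [coeff_st, coeff_mul, coeff_mul, ← Equiv.sum_comp (Equiv.inv C)]
  refine sum_congr rfl fun d _ => ?_
  simp [coeff_st, mul_comm]

theorem st_one : st (1 : MonoidAlgebra R C) = 1 := by
  ext c; simp [coeff_st, one_def, Finsupp.single_apply, eq_comm]

/-- The augmentation. -/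
noncomputable def aug : MonoidAlgebra R C →+* R where
  toFun a := ∑ c, a.coeff c
  map_one' := by simp [one_def, Finsupp.single_apply]
  map_mul' a b := by
    simp only [coeff_mul]
    rw [Finset.sum_comm, Finset.sum_mul]
    refine sum_congr rfl fun d _ => ?_
    rw [← Finset.mul_sum]
    congr 1
    exact Equiv.sum_comp (Equiv.mulLeft d⁻¹) fun c => b.coeff c
  map_zero' := by simp
  map_add' a b := by simp [Finset.sum_add_distrib]

theorem aug_apply (a : MonoidAlgebra R C) : aug a = ∑ c, a.coeff c := rfl

theorem aug_st (a : MonoidAlgebra R C) : aug (st a) = aug a := by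
  simp only [aug_apply, coeff_st]
  exact Equiv.sum_comp (Equiv.inv C) fun c => a.coeff c

/-- The sum of all group elements. -/
noncomputable def bar : MonoidAlgebra R C := ofFn fun _ => 1

theorem coeff_bar (c : C) : (bar : MonoidAlgebra R C).coeff c = 1 := coeff_ofFn _ c

theorem bar_mul (a : MonoidAlgebra R C) : bar * a = algebraMap R _ (aug a) * bar := by
  ext c
  rw [coeff_mul, coeff_mul]
  simp only [coeff_bar, one_mul, mul_one, aug_apply]
  simp only [MonoidAlgebra.coe_algebraMap, Function.comp_apply, Algebra.algebraMap_self,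
    RingHom.id_apply, coeff_single, Finsupp.single_apply]
  rw [Finset.sum_ite_eq univ (1 : C), if_pos (mem_univ _)]
  exact Equiv.sum_comp ((Equiv.inv C).trans (Equiv.mulRight c)) fun e => a.coeff e

theorem coeff_smul_apply (r : R) (a : MonoidAlgebra R C) (c : C) :
    (algebraMap R (MonoidAlgebra R C) r * a).coeff c = r * a.coeff c := by
  rw [coeff_mul]
  simp [Finsupp.single_apply]

theorem coeff_algebraMap (r : R) (c : C) :
    (algebraMap R (MonoidAlgebra R C) r).coeff c = if c = 1 then r else 0 := by
  simp [Finsupp.single_apply, eq_comm]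

/-- Push-forward along `c ↦ c ^ n` of the coefficients. -/
theorem coeff_pow_char (q : ℕ) [Fact q.Prime] (a : MonoidAlgebra (ZMod q) C) (g : C) :
    (a ^ q).coeff g = ∑ d with d ^ q = g, a.coeff d := by
  haveI : CharP (MonoidAlgebra (ZMod q) C) q :=
    charP_of_injective_ringHom (f := MonoidAlgebra.singleOneRingHom) (fun x y h => by
      simpa [MonoidAlgebra.singleOneRingHom] using congrArg (fun z => z.coeff 1) h) q
  conv_lhs => rw [← ofFn_coeff a, ofFn, sum_pow_char q]
  simp [MonoidAlgebra.single_pow, coeff_sum, Finsupp.single_apply, Finset.sum_filter,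
    ZMod.pow_card]

end CfsgLib.PLocal.Dih
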