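import Cfsg.Agent.Lib.PLocal.DihRat

/-!
Rational elements of a cyclic group ring at a prime dividing the order: translation invariance by
the subgroup of order `q` and the Frobenius map.
-/

set_option autoImplicit false
set_option linter.unusedSectionVars false

namespace CfsgLib.PLocal.Dih

open Finset MonoidAlgebra

universe u

variable {C : Type u} [CommGroup C] [Fintype C] [DecidableEq C] [IsCyclic C]
variable {R : Type} [CommRing R] {q : ℕ} [hp : Fact q.Prime] {z : C}

theorem orderOf_mul_of_not_dvd (hz : orderOf z = q) {g : C} (hg : ¬ q ∣ orderOf g) :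
    orderOf (g * z) = orderOf g * q := by
  rw [(Commute.all g z).orderOf_mul_eq_mul_orderOf_of_coprime, hz]
  rw [hz, Nat.coprime_comm]
  exact hp.out.coprime_iff_not_dvd.2 hg

/-- Translation by an element of order `q` preserves orders divisible by `q ^ 2`. -/
theorem orderOf_mul_eq (hz : orderOf z = q) {g : C} {o : ℕ} (ho : orderOf g = q * o)
    (hqo : q ∣ o) (i : ℕ) : orderOf (g * z ^ i) = orderOf g := by
  have hgo : orderOf (g ^ o) = q := by
    have h0 : o ≠ 0 := fun h => (orderOf_pos g).ne' (by rw [ho, h, mul_zero])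
    rw [orderOf_pow_of_dvd h0 ⟨q, by rw [ho, mul_comm]⟩, ho,
      Nat.mul_div_cancel _ (Nat.pos_of_ne_zero h0)]
  obtain ⟨k, hk⟩ := exists_pow_eq (c := g ^ o) (x := z ^ i) (by
    rw [hgo, ← pow_mul, mul_comm, pow_mul, ← hz, pow_orderOf_eq_one, one_pow])
  rw [← hk, ← pow_mul, ← pow_succ']
  refine Nat.Coprime.orderOf_pow (Nat.coprime_of_dvd fun r hr h1 h2 => ?_)
  rw [ho] at h1
  have hro : r ∣ o := (hr.dvd_mul.1 h1).elim (fun h => ((Nat.prime_dvd_prime_iff_eq hr hp.out).1 h).symm ▸ hqo) id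
  exact hr.not_dvd_one ((Nat.dvd_add_right (dvd_mul_of_dvd_left hro k)).1 h2)

/-- Either translation by powers of `z` preserves the order, or the coset has a `q'`-element. -/
theorem coset_cases (hz : orderOf z = q) (g : C) :
    (∀ i : ℕ, orderOf (g * z ^ i) = orderOf g) ∨
      ∃ g0 : C, ¬ q ∣ orderOf g0 ∧ ∃ i : ℕ, g = g0 * z ^ i := by
  by_cases hg : q ∣ orderOf g
  swap
  · exact Or.inr ⟨g, hg, 0, by simp⟩
  obtain ⟨o, ho⟩ := hg
  by_cases hqo : q ∣ o
  · exact Or.inl (orderOf_mul_eq hz ho hqo)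
  right
  have hgo : orderOf (g ^ q) = o := by
    rw [orderOf_pow_of_dvd hp.out.ne_zero ⟨o, ho⟩, ho, Nat.mul_div_cancel_left _ hp.out.pos]
  obtain ⟨v, hv⟩ := exists_pow_eq_self_of_coprime (x := g ^ q) (n := q)
    (by rw [hgo]; exact hp.out.coprime_iff_not_dvd.2 hqo)
  have hg0 : ((g ^ q) ^ v) ^ q = g ^ q := by rwa [← pow_mul, mul_comm, pow_mul]
  refine ⟨(g ^ q) ^ v, fun h => hqo (h.trans (hgo ▸ orderOf_pow_dvd v)), ?_⟩
  obtain ⟨i, hi⟩ := exists_pow_eq (c := z) (x := g * ((g ^ q) ^ v)⁻¹)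
    (by rw [hz, mul_pow, inv_pow, hg0, mul_inv_cancel])
  exact ⟨i, by rw [hi, mul_comm g, mul_inv_cancel_left]⟩

theorem orderOf_mul_pow_eq (hz : orderOf z = q) {g : C} (hg : ¬ q ∣ orderOf g) {i : ℕ}
    (hi : ¬ q ∣ i) : orderOf (g * z ^ i) = orderOf (g * z) := by
  have h1 : orderOf (z ^ i) = q := by
    rw [Nat.Coprime.orderOf_pow (hz.symm ▸ hp.out.coprime_iff_not_dvd.2 hi), hz]
  rw [orderOf_mul_of_not_dvd h1 hg, orderOf_mul_of_not_dvd hz hg]

/-- Invariance under translation by `z`. -/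
def PInv (z : C) (a : MonoidAlgebra R C) : Prop := ∀ c, a.coeff (z * c) = a.coeff c

theorem PInv.pow {a : MonoidAlgebra R C} (h : PInv z a) (i : ℕ) (c : C) :
    a.coeff (z ^ i * c) = a.coeff c := by
  induction i with
  | zero => simp
  | succ i ih => rw [pow_succ', mul_assoc, h, ih]

theorem pInv_of_isRat (hz : orderOf z = q) {a : MonoidAlgebra R C} (ha : IsRat a)
    (h : ∀ g, ¬ q ∣ orderOf g → a.coeff (g * z) = a.coeff g) : PInv z a := by
  intro c
  rcases coset_cases hz c with hc | ⟨g, hg, i, rfl⟩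
  · exact ha _ _ (by rw [mul_comm]; simpa using hc 1)
  · have key : ∀ j : ℕ, a.coeff (g * z ^ j) = a.coeff g := by
      intro j
      by_cases hj : q ∣ j
      · obtain ⟨k, rfl⟩ := hj
        rw [pow_mul, ← hz, pow_orderOf_eq_one, one_pow, mul_one]
      · rw [← h g hg]
        exact ha _ _ (orderOf_mul_pow_eq hz hg hj)
    rw [show z * (g * z ^ i) = g * z ^ (i + 1) by rw [pow_succ']; exact mul_left_comm _ _ _, key, key]

/-- The `q`-th roots of `d ^ q`. -/
theorem roots_eq (hz : orderOf z = q) (d : C) :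
    (univ.filter fun x : C => x ^ q = d ^ q) = (range q).image fun i => d * z ^ i := by
  ext x
  simp only [mem_filter, mem_univ, true_and, mem_image, mem_range]
  constructor
  · intro h
    obtain ⟨i, hi⟩ := exists_pow_eq (c := z) (x := d⁻¹ * x) (by
      rw [hz, mul_pow, inv_pow, h, inv_mul_cancel])
    refine ⟨i % q, Nat.mod_lt _ hp.out.pos, ?_⟩
    rw [← hz, pow_mod_orderOf, hi, mul_inv_cancel_left]
  · rintro ⟨i, -, rfl⟩
    rw [mul_pow, ← pow_mul, mul_comm i, pow_mul, ← hz, pow_orderOf_eq_one, one_pow, mul_one]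

theorem sum_roots (hz : orderOf z = q) (d : C) (f : C → R) :
    ∑ x with x ^ q = d ^ q, f x = ∑ i ∈ range q, f (d * z ^ i) := by
  rw [roots_eq hz, sum_image]
  intro i hi j hj he
  have := pow_injOn_Iio_orderOf (x := z) (by simpa [hz] using hi) (by simpa [hz] using hj)
    (mul_left_cancel he)
  exact this

/-- The Frobenius image of a rational element. -/
theorem coeff_frob (hz : orderOf z = q) {a : MonoidAlgebra (ZMod q) C} (ha : IsRat a) (g : C) :
    (a ^ q).coeff g = if q ∣ orderOf g then 0 else a.coeff g - a.coeff (g * z) := by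
  rw [coeff_pow_char]
  split_ifs with hg
  · by_cases hd : ∃ d : C, d ^ q = g
    swap
    · exact sum_eq_zero fun d hd' => (hd ⟨d, (mem_filter.1 hd').2⟩).elim
    obtain ⟨d, rfl⟩ := hd
    have hdq : q ∣ orderOf d := hg.trans (orderOf_pow_dvd q)
    obtain ⟨o, ho⟩ := hdq
    have hqo : q ∣ o := by
      rwa [orderOf_pow_of_dvd hp.out.ne_zero ⟨o, ho⟩, ho, Nat.mul_div_cancel_left _ hp.out.pos] at hg
    rw [sum_roots hz, sum_congr rfl (g := fun _ => a.coeff d) fun i _ =>
      ha _ _ (orderOf_mul_eq hz ho hqo i)]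
    rw [sum_const, card_range, nsmul_eq_mul, ZMod.natCast_self, zero_mul]
  · obtain ⟨v, hv⟩ := exists_pow_eq_self_of_coprime (x := g) (n := q)
      (hp.out.coprime_iff_not_dvd.2 hg)
    have h0 : (g ^ v) ^ q = g := by rwa [← pow_mul, mul_comm, pow_mul]
    have hord : orderOf (g ^ v) = orderOf g := by
      refine Nat.dvd_antisymm (orderOf_pow_dvd v) ?_
      conv_lhs => rw [← h0]
      exact orderOf_pow_dvd q
    have hv' : ¬ q ∣ orderOf (g ^ v) := hord.symm ▸ hg
    conv_lhs => rw [← h0]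
    rw [sum_roots hz, ← sum_erase_add _ _ (mem_range.2 hp.out.pos), pow_zero, mul_one,
      ha _ _ hord, sum_congr rfl (g := fun _ => a.coeff (g * z)) fun i hi => ?_]
    · rw [sum_const, card_erase_of_mem (mem_range.2 hp.out.pos), card_range, nsmul_eq_mul,
        Nat.cast_sub hp.out.one_le, ZMod.natCast_self]
      ring
    · obtain ⟨h1, h2⟩ := mem_erase.1 hi
      have hi' : ¬ q ∣ i := fun h => absurd (Nat.le_of_dvd (Nat.pos_of_ne_zero h1) h)
        (by simpa using h2)
      refine ha _ _ ?_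
      rw [orderOf_mul_pow_eq hz hv' hi', orderOf_mul_of_not_dvd hz hv',
        orderOf_mul_of_not_dvd hz hg, hord]

/-- The part of a rational element supported on elements of order prime to `q`. -/
noncomputable def spart (q : ℕ) (z : C) (a : MonoidAlgebra R C) : MonoidAlgebra R C :=
  ofFn fun c => if q ∣ orderOf c then 0 else a.coeff c - a.coeff (c * z)

theorem coeff_spart (a : MonoidAlgebra R C) (c : C) :
    (spart q z a).coeff c = if q ∣ orderOf c then 0 else a.coeff c - a.coeff (c * z) :=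
  coeff_ofFn _ c

theorem pInv_sub_spart (hz : orderOf z = q) {a : MonoidAlgebra R C} (ha : IsRat a) :
    PInv z (a - spart q z a) := by
  refine pInv_of_isRat hz (fun c d h => ?_) fun g hg => ?_
  · have h1 : orderOf c = orderOf d := h
    by_cases hc : q ∣ orderOf c
    · simp [coeff_spart, hc, h1 ▸ hc, ha c d h1]
    · have hd : ¬ q ∣ orderOf d := h1 ▸ hc
      simp [coeff_spart, hc, hd, ha c d h1,
        ha (c * z) (d * z) (by rw [orderOf_mul_of_not_dvd hz hc, orderOf_mul_of_not_dvd hz hd, h1])]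
  · simp [coeff_spart, hg, orderOf_mul_of_not_dvd hz hg]

end CfsgLib.PLocal.Dih
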