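import Cfsg.Agent.Lib.PLocal.DihPInv

/-!
The group ring of a cyclic `q`-group over `ZMod q`: every element is a power of `g - 1` times a unit.
-/

set_option autoImplicit false
set_option linter.unusedSectionVars false

namespace CfsgLib.PLocal.Dih

open Finset MonoidAlgebra

universe u

variable {C : Type u} [CommGroup C] [Fintype C] [DecidableEq C] [IsCyclic C]
variable {q l : ℕ} [hp : Fact q.Prime] {z : C}

theorem pow_card_eq (hl : Fintype.card C = q ^ l) (x : MonoidAlgebra (ZMod q) C) :
    x ^ q ^ l = algebraMap (ZMod q) _ (aug x) := by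
  haveI := charP_algebra (C := C) q
  conv_lhs => rw [← ofFn_coeff x, ofFn, sum_pow_char_pow]
  rw [aug_apply, map_sum]
  refine sum_congr rfl fun c _ => ?_
  rw [MonoidAlgebra.single_pow, ZMod.pow_card_pow, ← hl, pow_card_eq_one]
  rfl

theorem isUnit_of_aug (hl : Fintype.card C = q ^ l) {x : MonoidAlgebra (ZMod q) C}
    (h : aug x ≠ 0) : IsUnit x := by
  have h1 : IsUnit (x ^ q ^ l) := by
    rw [pow_card_eq hl]; exact (isUnit_iff_ne_zero.2 h).map _
  exact (isUnit_pow_iff (pow_ne_zero l hp.out.ne_zero)).1 h1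

/-- The inverse map as a ring homomorphism. -/
noncomputable def stHom {R : Type} [CommRing R] : MonoidAlgebra R C →+* MonoidAlgebra R C where
  toFun := Dih.st
  map_one' := st_one
  map_mul' := st_mul
  map_zero' := by ext c; simp [coeff_st]
  map_add' := st_add

/-- Inversion changes an element only by a unit. -/
theorem exists_unit_st (hl : Fintype.card C = q ^ l) (x : MonoidAlgebra (ZMod q) C) :
    ∃ w : MonoidAlgebra (ZMod q) C, IsUnit w ∧ Dih.st x = x * w := by
  classical
  obtain ⟨g, hg⟩ := IsCyclic.exists_generator (α := C)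
  let π : MonoidAlgebra (ZMod q) C := single g 1 - 1
  have hπ : π ^ q ^ l = 0 := by
    rw [pow_card_eq hl]
    have : aug π = 0 := by simp [π, aug_apply, one_def, Finsupp.single_apply]
    rw [this, map_zero]
  have hdvd : ∀ y : MonoidAlgebra (ZMod q) C, aug y = 0 → π ∣ y := fun y hy => by
    have e : y = ∑ c, algebraMap (ZMod q) _ (y.coeff c) * (single c 1 - 1) := by
      simp only [mul_sub, mul_one, sum_sub_distrib, ← map_sum, ← aug_apply, hy, map_zero, sub_zero]
      conv_lhs => rw [← ofFn_coeff y]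
      refine sum_congr rfl fun c _ => ?_
      simp
    rw [e]
    refine dvd_sum fun c _ => dvd_mul_of_dvd_right ?_ _
    obtain ⟨j, rfl⟩ := mem_powers_iff_mem_zpowers.2 (hg c)
    have : (single (g ^ j) 1 : MonoidAlgebra (ZMod q) C) = single g 1 ^ j := by
      rw [MonoidAlgebra.single_pow, one_pow]
    rw [this]
    exact sub_one_dvd_pow_sub_one _ j
  have hdec : ∀ n, (∃ i u, IsUnit u ∧ x = π ^ i * u) ∨ π ^ n ∣ x := by
    intro n
    induction n with
    | zero => exact Or.inr (by rw [pow_zero]; exact one_dvd _)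
    | succ n ih =>
      rcases ih with h | ⟨y, rfl⟩
      · exact Or.inl h
      by_cases hy : aug y = 0
      · exact Or.inr (by rw [pow_succ]; exact mul_dvd_mul_left _ (hdvd y hy))
      · exact Or.inl ⟨n, y, isUnit_of_aug hl hy, rfl⟩
  rcases hdec (q ^ l) with ⟨i, u, hu, rfl⟩ | h
  swap
  · rw [hπ, zero_dvd_iff] at h
    subst h
    exact ⟨1, isUnit_one, by rw [zero_mul]; exact map_zero stHom⟩
  obtain ⟨v, hv⟩ := hu
  let w0 : MonoidAlgebra (ZMod q) C := single g⁻¹ (-1)
  have hπst : Dih.st π = π * w0 := by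
    have h1 : Dih.st (single g 1 : MonoidAlgebra (ZMod q) C) = single g⁻¹ 1 := by
      ext c; simp [coeff_st, Finsupp.single_apply, inv_eq_iff_eq_inv]
    have h2 : Dih.st π = single g⁻¹ 1 - 1 := by
      show stHom π = _
      rw [map_sub, map_one]; exact congrArg (· - 1) h1
    rw [h2]
    simp only [π, w0, sub_mul, one_mul, single_mul_single, mul_inv_cancel]
    rw [one_def]
    ext c
    simp [Finsupp.single_apply]
    split_ifs <;> ring
  refine ⟨w0 ^ i * (↑v⁻¹ * Dih.st u), ?_, ?_⟩
  · refine (IsUnit.pow i ?_).mul (v⁻¹.isUnit.mul ((hv ▸ v.isUnit : IsUnit u).map stHom))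
    exact isUnit_of_aug hl (by simp [w0, aug_apply, Finsupp.single_apply])
  · have hvu : u * (↑v⁻¹ : MonoidAlgebra (ZMod q) C) = 1 := by rw [← hv]; exact v.mul_inv
    calc Dih.st (π ^ i * u) = Dih.st π ^ i * Dih.st u := by
          show stHom (π ^ i * u) = stHom π ^ i * stHom u
          rw [map_mul, map_pow]
      _ = π ^ i * w0 ^ i * (u * ↑v⁻¹) * Dih.st u := by rw [hπst, mul_pow, hvu, mul_one]
      _ = _ := by ring

theorem pow_eq_zero_of_norm (hl : Fintype.card C = q ^ l) (hq : Odd q)
    {b : MonoidAlgebra (ZMod q) C} (h : (b * Dih.st b) ^ (q / 2) * b = 0) : b ^ q = 0 := by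
  obtain ⟨w, hw, he⟩ := exists_unit_st hl b
  rw [he] at h
  have e : b ^ q * w ^ (q / 2) = 0 := by
    have e2 : b ^ q = b ^ (2 * (q / 2) + 1) :=
      congrArg (b ^ ·) (Nat.two_mul_div_two_add_one_of_odd hq).symm
    rw [e2, ← h]; ring
  exact (IsUnit.mul_left_eq_zero (hw.pow _)).1 e

end CfsgLib.PLocal.Dih
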