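import Cfsg.Agent.Lib.PLocal.DihOdd
import Cfsg.Agent.Lib.PLocal.DihLocal

/-!
Wielandt: a primitive Schur ring over a dihedral group has rank two.
-/

set_option autoImplicit false
set_option linter.unusedSectionVars false

namespace CfsgLib.PLocal.Dih

open Finset MonoidAlgebra

universe u

variable {C : Type u} [CommGroup C] [Fintype C] [DecidableEq C] [IsCyclic C]

namespace DihSR

variable (S : DihSR C)

theorem mult_iff {u : ℕ} (hu : (Fintype.card C).Coprime u) {c d : C} :
    S.r (Sum.inl (c ^ u)) (Sum.inl (d ^ u)) ↔ S.r (Sum.inl c) (Sum.inl d) := by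
  refine ⟨fun h => ?_, S.mult hu⟩
  obtain ⟨v, hv, hinv⟩ := exists_inv_exp hu
  have := S.mult hv h
  rwa [hinv, hinv] at this

theorem rc_all {q : ℕ} (hp : q.Prime) (hqd : q ∣ Fintype.card C) :
    ∃ z : C, orderOf z = q ∧ ∀ g, g ≠ 1 → S.RC z g := by
  classical
  haveI := Fact.mk hp
  obtain ⟨z, hz⟩ := exists_prime_orderOf_dvd_card q hqd
  refine ⟨z, hz, fun g hg => ?_⟩
  rcases hp.eq_two_or_odd' with rfl | hodd
  · by_cases h : ∃ p : ℕ, p.Prime ∧ p ∣ Fintype.card C ∧ Odd p
    · obtain ⟨p, hpp, hpd, hpo⟩ := h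
      haveI := Fact.mk hpp
      obtain ⟨y, hy⟩ := exists_prime_orderOf_dvd_card p hpd
      have hz1 : z ≠ 1 := fun e => by rw [e, orderOf_one] at hz; omega
      exact S.rc_trans (S.rc_symm (S.rc_odd hy hpo hz1)) (S.rc_odd hy hpo hg)
    · push Not at h
      exact S.rc_two (Nat.eq_prime_pow_of_unique_prime_dvd Fintype.card_pos.ne' fun {d} hd hdd => by
        rcases hd.eq_two_or_odd' with rfl | ho
        · rfl
        · exact absurd ho (h d hd hdd)) hz hg
  · exact S.rc_odd hz hodd hg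

/-- Multipliers congruent to one modulo a prime divisor fix every class. -/
theorem fix_mult {q : ℕ} {z : C} (hz : orderOf z = q) (hall : ∀ g, g ≠ 1 → S.RC z g) {g : C}
    (hg : g ≠ 1) {u : ℕ} (hu : (Fintype.card C).Coprime u) (huq : u % q = 1 % q) :
    S.r (Sum.inl g) (Sum.inl (g ^ u)) := by
  obtain ⟨w, hw, hr⟩ := hall g hg
  have hzu : z ^ u = z := by rw [← pow_mod_orderOf, hz, huq, ← hz, pow_mod_orderOf, pow_one]
  have := S.mult hu hr
  rw [← pow_mul, mul_comm, pow_mul, hzu] at this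
  exact S.trans (S.symm hr) this

theorem related_two_primes {p q : ℕ} (hp : p.Prime) (hq : q.Prime) (hne : p ≠ q)
    (hpd : p ∣ Fintype.card C) (hqd : q ∣ Fintype.card C) {c d : C} (hc : c ≠ 1) (hd : d ≠ 1) :
    S.r (Sum.inl c) (Sum.inl d) := by
  obtain ⟨y, hy, hyall⟩ := S.rc_all hp hpd
  obtain ⟨z, hz, hzall⟩ := S.rc_all hq hqd
  obtain ⟨u, hu, hr⟩ := S.rc_trans (S.rc_symm (hzall c hc)) (hzall d hd)
  have hm : Fintype.card C ≠ 0 := Fintype.card_pos.ne'
  let A := q ^ (Fintype.card C).factorization q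
  let B := Fintype.card C / A
  have hAB : A * B = Fintype.card C := Nat.mul_div_cancel' (Nat.ordProj_dvd _ _)
  have hcop : A.Coprime B := (Nat.coprime_ordCompl hq hm).pow_left _
  have hqA : q ∣ A := dvd_pow_self q (hq.factorization_pos_of_dvd hm hqd).ne'
  have hpB : p ∣ B := by
    refine (hp.dvd_mul.1 (hAB.symm ▸ hpd)).resolve_left fun h => hne ?_
    exact (Nat.prime_dvd_prime_iff_eq hp hq).1 (hp.dvd_of_dvd_pow h)
  obtain ⟨w1, hw1A, hw1B⟩ := Nat.chineseRemainder hcop 1 u
  obtain ⟨w2, hw2A, hw2B⟩ := Nat.chineseRemainder hcop u 1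
  have hu' := hu
  rw [← hAB, Nat.coprime_mul_iff_left] at hu'
  have cop : ∀ {N w v : ℕ}, N.Coprime v → w ≡ v [MOD N] → N.Coprime w := fun {N w v} h e => by
    rw [Nat.Coprime, Nat.gcd_rec, show w % N = v % N from e, ← Nat.gcd_rec]; exact h
  have c1 : (Fintype.card C).Coprime w1 := hAB ▸
    Nat.Coprime.mul_left (cop (Nat.coprime_one_right _) hw1A) (cop hu'.2 hw1B)
  have c2 : (Fintype.card C).Coprime w2 := hAB ▸
    Nat.Coprime.mul_left (cop hu'.1 hw2A) (cop (Nat.coprime_one_right _) hw2B)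
  have h1 := S.fix_mult hz hzall hc c1 (Nat.ModEq.of_dvd hqA hw1A)
  have hc2 : c ^ w1 ≠ 1 := fun e => hc (by
    have := (pow_bijective c1).1 (show (fun x : C => x ^ w1) c = (fun x : C => x ^ w1) 1 by simp [e])
    exact this)
  have h2 := S.fix_mult hy hyall hc2 c2 (Nat.ModEq.of_dvd hpB hw2B)
  rw [← pow_mul] at h2
  have e : c ^ (w1 * w2) = c ^ u := by
    refine pow_congr_card ?_
    rw [← hAB]
    exact (Nat.modEq_and_modEq_iff_modEq_mul hcop).1
      ⟨by simpa using hw1A.mul hw2A, by simpa using hw1B.mul hw2B⟩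
  rw [e] at h2
  exact S.trans (S.trans h1 h2) hr

variable {q l : ℕ} [hp : Fact q.Prime] {z : C}

/-- The non-trivial elements of the subgroup of order `q`. -/
def p1 (q : ℕ) (C : Type u) [CommGroup C] [Fintype C] [DecidableEq C] : Finset C :=
  univ.filter fun x => x ^ q = 1 ∧ x ≠ 1

open scoped Classical in
/-- Indicator of a class, first half. -/
noncomputable def clA (R : Type) [CommRing R] (c : C) : MonoidAlgebra R C :=
  ofFn fun d => if S.r (Sum.inl c) (Sum.inl d) then 1 else 0

open scoped Classical in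
/-- Indicator of a class, second half. -/
noncomputable def clB (R : Type) [CommRing R] (c : C) : MonoidAlgebra R C :=
  ofFn fun d => if S.r (Sum.inl c) (Sum.inr d) then 1 else 0

theorem inv_cl {R : Type} [CommRing R] (c : C) : Inv S.r (S.clA R c) (S.clB R c) :=
  S.inv_indicator _

theorem cl_pInv (hl : Fintype.card C = q ^ l) (hq : Odd q) (hz : orderOf z = q)
    (hall : ∀ g, g ≠ 1 → S.RC z g) (c : C) :
    (∀ g : C, g ^ q ≠ 1 → (S.clA ℤ c).coeff (z * g) = (S.clA ℤ c).coeff g) ∧
      PInv z (S.clB ℤ c) := by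
  classical
  have hA : ∀ g : C, g ^ q ≠ 1 → S.r (Sum.inl g) (Sum.inl (z * g)) := by
    intro g hg
    have hg1 : g ≠ 1 := fun e => hg (by rw [e, one_pow])
    obtain ⟨i, -, hi⟩ := (Nat.dvd_prime_pow hp.out).1 (hl ▸ orderOf_dvd_card (x := g))
    have hi2 : 2 ≤ i := by
      by_contra h
      have : orderOf g ∣ q := by rw [hi]; exact (pow_dvd_pow q (show i ≤ 1 by omega)).trans (by rw [pow_one])
      exact hg (orderOf_dvd_iff_pow_eq_one.1 this)
    let o := q ^ (i - 1)
    have ho : orderOf g = q * o := by rw [hi, ← pow_succ', Nat.sub_add_cancel (by omega)]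
    have hqo : q ∣ o := dvd_pow_self q (by omega)
    have hgo : orderOf (g ^ o) = q := by
      have h0 : o ≠ 0 := pow_ne_zero _ hp.out.ne_zero
      rw [orderOf_pow_of_dvd h0 ⟨q, by rw [ho, mul_comm]⟩, ho,
        Nat.mul_div_cancel _ (Nat.pos_of_ne_zero h0)]
    obtain ⟨k, hk⟩ := exists_pow_eq (c := g ^ o) (x := z) (by rw [hgo, ← hz, pow_orderOf_eq_one])
    have hu : (Fintype.card C).Coprime (o * k + 1) := by
      rw [hl]
      refine Nat.Coprime.pow_left l (hp.out.coprime_iff_not_dvd.2 fun h => hp.out.not_dvd_one ?_)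
      exact (Nat.dvd_add_right (dvd_mul_of_dvd_left hqo k)).1 h
    have hmod : (o * k + 1) % q = 1 % q := by
      obtain ⟨r, hr⟩ := hqo
      rw [hr, mul_assoc, Nat.mul_add_mod]
    have := S.fix_mult hz hall hg1 hu hmod
    rwa [pow_succ, pow_mul, hk] at this
  refine ⟨fun g hg => ?_, ?_⟩
  · simp only [clA, coeff_ofFn]
    exact if_congr ⟨fun h => S.trans h (S.symm (hA g hg)), fun h => S.trans h (hA g hg)⟩ rfl rfl
  -- the second half, through the Frobenius map
  have hiq := S.inv_pow_odd hq (S.inv_cl (R := ZMod q) c)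
  have hsc : S.clA (ZMod q) c ^ q = algebraMap _ _ ((S.clA (ZMod q) c ^ q).coeff 1) := by
    ext h
    rw [coeff_algebraMap]
    split_ifs with hh
    · rw [hh]
    · rw [coeff_pow_char]
      by_cases hd : ∃ d : C, d ^ q = h
      swap
      · exact sum_eq_zero fun d hd' => (hd ⟨d, (mem_filter.1 hd').2⟩).elim
      obtain ⟨d, rfl⟩ := hd
      rw [sum_roots hz, sum_congr rfl (g := fun _ => (S.clA (ZMod q) c).coeff d) fun i _ => ?_]
      · rw [sum_const, card_range, nsmul_eq_mul, ZMod.natCast_self, zero_mul]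
      · induction i with
        | zero => simp
        | succ i ih =>
          rw [pow_succ', mul_left_comm]
          have hne : (d * z ^ i) ^ q ≠ 1 := by
            rw [mul_pow, ← pow_mul, mul_comm i, pow_mul, ← hz, pow_orderOf_eq_one, one_pow, mul_one,
              hz]
            exact hh
          refine Eq.trans ?_ (ih (mem_range.2 (by have := mem_range.1 (by assumption : i + 1 ∈ range q); omega)))
          simp only [clA, coeff_ofFn]
          exact if_congr ⟨fun h => S.trans h (S.symm (hA _ hne)), fun h => S.trans h (hA _ hne)⟩ rfl rfl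
  rw [hsc] at hiq
  have h0 := S.ext_left hiq (S.inv_const _)
  have hbq := pow_eq_zero_of_norm hl hq h0
  intro g
  have hs := congrArg (fun x => x.coeff (g ^ q)) hbq
  simp only [coeff_zero, Finsupp.coe_zero, Pi.zero_apply, coeff_pow_char, sum_roots hz, clB,
    coeff_ofFn, sum_boole, ZMod.natCast_eq_zero_iff] at hs
  let T : Finset ℕ := (range q).filter fun i => S.r (Sum.inl c) (Sum.inr (g * z ^ i))
  have hT : T.card = 0 ∨ T.card = q := by
    have h1 : T.card ≤ q := (card_filter_le _ _).trans (card_range q).le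
    rcases Nat.eq_zero_or_pos T.card with h | h
    · exact Or.inl h
    · exact Or.inr (le_antisymm h1 (Nat.le_of_dvd h hs))
  have h0' : 0 ∈ range q := mem_range.2 hp.out.pos
  have h1' : 1 ∈ range q := mem_range.2 hp.out.one_lt
  have hiff : (0 ∈ T ↔ 1 ∈ T) := by
    rcases hT with h | h
    · simp [card_eq_zero.1 h]
    · have hTe : T = range q :=
        eq_of_subset_of_card_le (filter_subset _ _) (by rw [h, card_range])
      rw [hTe]
      exact ⟨fun _ => h1', fun _ => h0'⟩
  simp only [T, mem_filter, h0', h1', true_and, pow_zero, pow_one, mul_one] at hiff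
  simp only [clB, coeff_ofFn]
  rw [mul_comm z g]
  exact if_congr hiff.symm rfl rfl

theorem related_prime_pow (hl : Fintype.card C = q ^ l) (hq : Odd q) (hz : orderOf z = q)
    (hall : ∀ g, g ≠ 1 → S.RC z g) {g : C} (hg : g ≠ 1) : S.r (Sum.inl z) (Sum.inl g) := by
  classical
  have hz1 : z ≠ 1 := fun e => hp.out.ne_one (by rw [← hz, e, orderOf_one])
  have hzq : z ^ q = 1 := by rw [← hz]; exact pow_orderOf_eq_one z
  have memP : ∀ {x : C}, x ∈ p1 q C ↔ x ^ q = 1 ∧ x ≠ 1 := fun {x} => by simp [p1]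
  have hzP : z ∈ p1 q C := memP.2 ⟨hzq, hz1⟩
  have hP : ∀ x ∈ p1 q C, ∃ u : ℕ, (Fintype.card C).Coprime u ∧ z ^ u = x := by
    intro x hx
    obtain ⟨h1, h2⟩ := memP.1 hx
    obtain ⟨k, hk⟩ := exists_pow_eq (c := z) (x := x) (by rw [hz, h1])
    refine ⟨k, ?_, hk⟩
    rw [hl]
    refine Nat.Coprime.pow_left l (hp.out.coprime_iff_not_dvd.2 fun h => h2 ?_)
    obtain ⟨r, rfl⟩ := h
    rw [← hk, pow_mul, hzq, one_pow]
  have hPu : ∀ {u : ℕ}, (Fintype.card C).Coprime u → ∀ {M : Type} [AddCommMonoid M] (F : C → M),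
      ∑ x ∈ p1 q C, F (x ^ u) = ∑ x ∈ p1 q C, F x := fun {u} hu {M} _ F => by
    refine sum_bij (fun x _ => x ^ u) (fun x hx => ?_) (fun x _ y _ e => (pow_bijective hu).1 e)
      (fun y hy => ?_) (fun x _ => rfl)
    · obtain ⟨h1, h2⟩ := memP.1 hx
      exact memP.2 ⟨by rw [← pow_mul, mul_comm, pow_mul, h1, one_pow],
        fun e => h2 ((pow_bijective hu).1 (by simpa using e))⟩
    · obtain ⟨x, rfl⟩ := (pow_bijective hu).2 y
      obtain ⟨h1, h2⟩ := memP.1 hy
      refine ⟨x, memP.2 ⟨(pow_bijective hu).1 ?_, fun e => h2 (by simp [e])⟩, rfl⟩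
      simpa [← pow_mul, mul_comm u] using h1
  -- the class of `z` inside the subgroup of order `q`
  let ind : C → C → ℤ := fun c d => if S.r (Sum.inl c) (Sum.inl d) then 1 else 0
  let f : ℤ := ∑ x ∈ p1 q C, ind z x
  have hindu : ∀ {u : ℕ}, (Fintype.card C).Coprime u → ∀ c d, ind (c ^ u) (d ^ u) = ind c d :=
    fun hu c d => if_congr (S.mult_iff hu) rfl rfl
  have hindsymm : ∀ c d, ind c d = ind d c := fun c d => if_congr ⟨S.symm, S.symm⟩ rfl rfl
  have hf : ∀ c ∈ p1 q C, ∑ x ∈ p1 q C, ind c x = f := fun c hc => by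
    obtain ⟨u, hu, rfl⟩ := hP c hc
    rw [← hPu hu]
    exact sum_congr rfl fun x _ => hindu hu _ _
  have hmeet : ∀ d : C, d ≠ 1 → ∃ c ∈ p1 q C, S.r (Sum.inl c) (Sum.inl d) := fun d hd => by
    obtain ⟨u, hu, hr⟩ := hall d hd
    refine ⟨z ^ u, memP.2 ⟨by rw [← pow_mul, mul_comm, pow_mul, hzq, one_pow],
      fun e => hz1 ((pow_bijective hu).1 (by simpa using e))⟩, hr⟩
  -- all classes containing a given element
  let k : C → ℤ := fun c => aug (S.clA ℤ c) + aug (S.clB ℤ c)
  let cnt : C ⊕ C → ℤ := fun w => ∑ c ∈ p1 q C, pairFn (S.clA ℤ c) (S.clB ℤ c) w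
  have hcnt : ∀ w, w ≠ Sum.inl 1 → cnt w = f := by
    intro w hw
    obtain ⟨d, hd1, hd⟩ : ∃ d, d ≠ 1 ∧ S.r (Sum.inl d) w := by
      rcases w with c | c
      · exact ⟨c, fun e => hw (by rw [e]), S.refl _⟩
      · obtain ⟨d, hd⟩ := S.toL c
        refine ⟨d, fun e => ?_, S.symm hd⟩
        subst e
        exact absurd (S.one (S.symm hd)) Sum.inr_ne_inl
    obtain ⟨c0, hc0, hr0⟩ := hmeet d hd1
    rw [← hf c0 hc0]
    refine sum_congr rfl fun c _ => ?_
    rw [← S.inv_cl c _ _ (S.trans hr0 hd)]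
    simp only [pairFn, Sum.elim_inl, clA, coeff_ofFn, ind]
    exact if_congr ⟨S.symm, S.symm⟩ rfl rfl
  have hcnt1 : cnt (Sum.inl 1) = 0 := sum_eq_zero fun c hc => by
    simp only [pairFn, Sum.elim_inl, clA, coeff_ofFn]
    exact if_neg fun h => (memP.1 hc).2 (Sum.inl_injective (S.one (S.symm h)))
  let n1 : ℤ := 2 * (Fintype.card C : ℤ) - 1
  have hK : ∑ c ∈ p1 q C, k c = f * n1 := by
    simp only [k, aug_apply, sum_add_distrib]
    rw [sum_comm, sum_comm (f := fun c d => (S.clB ℤ c).coeff d)]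
    have e1 : ∀ d : C, ∑ c ∈ p1 q C, (S.clA ℤ c).coeff d = f - (if d = 1 then f else 0) := fun d => by
      by_cases hd : d = 1
      · rw [if_pos hd, sub_self, hd]; exact hcnt1
      · rw [if_neg hd, sub_zero]; exact hcnt (Sum.inl d) (by simpa using hd)
    have e2 : ∀ d : C, ∑ c ∈ p1 q C, (S.clB ℤ c).coeff d = f := fun d => hcnt (Sum.inr d) (by simp)
    simp only [e1, e2, sum_sub_distrib, sum_ite_eq', mem_univ, if_true, sum_const, card_univ,
      nsmul_eq_mul, n1]
    ring
  -- the sum of the squares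
  let t : C → MonoidAlgebra ℤ C := fun c => ofFn fun d => if d ^ q = 1 then ind c d else 0
  let Fa : MonoidAlgebra ℤ C :=
    ∑ c ∈ p1 q C, (S.clA ℤ c * S.clA ℤ c + S.clB ℤ c * Dih.st (S.clB ℤ c))
  let Fb : MonoidAlgebra ℤ C :=
    ∑ c ∈ p1 q C, (S.clA ℤ c * S.clB ℤ c + S.clA ℤ c * S.clB ℤ c)
  have hFi : Inv S.r Fa Fb := by
    refine Finset.induction_on (p1 q C) ?_ (fun c s hc ih => ?_) (motive := fun s =>
      Inv S.r (∑ c ∈ s, (S.clA ℤ c * S.clA ℤ c + S.clB ℤ c * Dih.st (S.clB ℤ c)))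
        (∑ c ∈ s, (S.clA ℤ c * S.clB ℤ c + S.clA ℤ c * S.clB ℤ c)))
    · intro x y _
      cases x <;> cases y <;> simp [pairFn]
    · rw [sum_insert hc, sum_insert hc]
      exact S.inv_add (S.inv_mul (S.inv_cl c) (S.inv_cl c)) ih
  have hdiff : ∀ x ∈ p1 q C, Fa.coeff x - Fa.coeff 1 =
      ∑ c ∈ p1 q C, ((t c * t c).coeff x - (t c * t c).coeff 1) := by
    intro x hx
    simp only [Fa, coeff_sum, Finsupp.coe_finset_sum, Finset.sum_apply, ← sum_sub_distrib]
    refine sum_congr rfl fun c _ => ?_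
    obtain ⟨u, hu, hxu⟩ := hP x hx
    obtain ⟨hA, hB⟩ := S.cl_pInv hl hq hz hall c
    let w := S.clA ℤ c - t c
    have hwz : ∀ d : C, (z * d) ^ q = d ^ q := fun d => by rw [mul_pow, hzq, one_mul]
    have hw : PInv z w := fun d => by
      simp only [w, t, coeff_sub, Finsupp.sub_apply, coeff_ofFn, hwz]
      split_ifs with hd
      · simp [clA, coeff_ofFn, ind]
      · rw [hA d hd]
    have e : S.clA ℤ c * S.clA ℤ c + S.clB ℤ c * Dih.st (S.clB ℤ c) =
        t c * t c + (w * (2 * t c + w) + S.clB ℤ c * Dih.st (S.clB ℤ c)) := by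
      simp only [w]; ring
    have hP' : PInv z (w * (2 * t c + w) + S.clB ℤ c * Dih.st (S.clB ℤ c)) :=
      (hw.mul_right _).add (hB.mul_right _)
    have := hP'.pow u 1
    rw [mul_one, hxu] at this
    rw [e]
    simp only [coeff_add, Finsupp.add_apply] at this ⊢
    linarith
  have htt : ∀ c x : C, x ^ q = 1 →
      (t c * t c).coeff x = ∑ d with d ^ q = 1, ind c d * ind c (d⁻¹ * x) := by
    intro c x hx
    rw [coeff_mul, sum_filter]
    refine sum_congr rfl fun d _ => ?_
    simp only [t, coeff_ofFn]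
    by_cases hd : d ^ q = 1
    · rw [if_pos hd, if_pos hd, if_pos (show (d⁻¹ * x) ^ q = 1 by rw [mul_pow, _root_.inv_pow, hd, hx]; simp)]
    · rw [if_neg hd, if_neg hd, zero_mul]
  have hind1 : ∀ c ∈ p1 q C, ind c 1 = 0 := fun c hc => by
    simp only [ind]
    exact if_neg fun h => (memP.1 hc).2 (Sum.inl_injective (S.one (S.symm h)))
  have hsplit : ∀ F : C → ℤ, ∑ d with d ^ q = 1, F d = F 1 + ∑ d ∈ p1 q C, F d := fun F => by
    rw [← sum_erase_add (univ.filter fun d : C => d ^ q = 1) F (a := 1) (by simp), add_comm]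
    congr 1
    refine sum_congr ?_ fun _ _ => rfl
    ext d; simp [p1, and_comm]
  have hind_inv : ∀ c d, ind c d⁻¹ = ind c d := fun c d => by
    simp only [ind]
    exact if_congr ⟨fun h => S.trans h (S.symm (S.symmC d)), fun h => S.trans h (S.symmC d)⟩ rfl rfl
  have ht1 : ∀ c ∈ p1 q C, (t c * t c).coeff 1 = f := fun c hc => by
    rw [htt c 1 (one_pow q), hsplit]
    simp only [mul_one, hind_inv, hind1 c hc, mul_zero, zero_add]
    rw [← hf c hc]
    exact sum_congr rfl fun d _ => by simp only [ind]; split_ifs <;> simp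
  let N : C → ℤ := fun x => ∑ c ∈ p1 q C, (t c * t c).coeff x
  have hNu : ∀ x ∈ p1 q C, N x = N z := fun x hx => by
    obtain ⟨u, hu, rfl⟩ := hP x hx
    simp only [N]
    rw [← hPu hu fun c => (t c * t c).coeff (z ^ u)]
    refine sum_congr rfl fun c _ => ?_
    rw [htt _ _ (memP.1 hx).1, htt _ _ hzq, hsplit, hsplit]
    congr 1
    · have h1 : ∀ c' d' : C, ind (c' ^ u) (d' ^ u) = ind c' d' := hindu hu
      conv_lhs => rw [show (1 : C) = 1 ^ u from (one_pow u).symm]
      rw [← _root_.inv_pow, ← mul_pow, h1, h1]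
    · rw [← hPu hu]
      exact sum_congr rfl fun d _ => by rw [← _root_.inv_pow, ← mul_pow, hindu hu, hindu hu]
  have hcardP : ((p1 q C).card : ℤ) = (q : ℤ) - 1 := by
    have h1 := hsplit fun _ => (1 : ℤ)
    have h2 : (univ.filter fun d : C => d ^ q = 1).card = q := by
      have h3 := sum_roots (R := ℤ) hz (1 : C) (fun _ => 1)
      simp only [one_pow, sum_const, card_range, nsmul_eq_mul, mul_one] at h3
      exact_mod_cast h3
    simp only [sum_const, h2, nsmul_eq_mul, mul_one] at h1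
    linarith
  have hNz : N z = f * f - f := by
    have htot : ∑ x ∈ p1 q C, N x = ((p1 q C).card : ℤ) * (f * f - f) := by
      simp only [N]
      rw [sum_comm, sum_congr rfl (g := fun _ => f * f - f) fun c hc => ?_, sum_const, nsmul_eq_mul]
      have hall' : ∑ x with x ^ q = 1, (t c * t c).coeff x = f * f := by
        have h1 : ∑ x, (t c * t c).coeff x = f * f := by
          rw [← aug_apply, map_mul]
          have : aug (t c) = f := by
            rw [aug_apply]
            simp only [t, coeff_ofFn]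
            rw [← sum_filter, hsplit, hind1 c hc, zero_add, hf c hc]
          rw [this]
        rw [← h1]
        refine sum_subset (filter_subset _ _) fun x _ hx => ?_
        rw [coeff_mul]
        refine sum_eq_zero fun d _ => ?_
        simp only [t, coeff_ofFn]
        by_cases hd : d ^ q = 1
        · rw [if_neg (show ¬(d⁻¹ * x) ^ q = 1 by
            rw [mul_pow, _root_.inv_pow, hd]; simpa using hx), mul_zero]
        · rw [if_neg hd, zero_mul]
      rw [hsplit, ht1 c hc] at hall'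
      linarith
    rw [sum_congr rfl (g := fun _ => N z) hNu, sum_const, nsmul_eq_mul] at htot
    refine mul_left_cancel₀ ?_ htot
    rw [hcardP]; have := hp.out.two_le; omega
  have hF1 : Fa.coeff 1 = f * n1 := by
    rw [← hK]
    simp only [Fa, coeff_sum, Finsupp.coe_finset_sum, Finset.sum_apply]
    refine sum_congr rfl fun c _ => ?_
    rw [coeff_add, Finsupp.add_apply, coeff_mul_self_one (S.st_eq (S.inv_cl c)), coeff_mul_st_one]
    simp only [k]
    rw [sum_sq_of_zero_one (fun d => by simp only [clA, coeff_ofFn]; split_ifs <;> simp),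
      sum_sq_of_zero_one (fun d => by simp only [clB, coeff_ofFn]; split_ifs <;> simp)]
  let lam : ℤ := f * n1 + (f * f - f) - ((q : ℤ) - 1) * f
  have hlamP : ∀ x ∈ p1 q C, Fa.coeff x = lam := fun x hx => by
    have h := hdiff x hx
    rw [sum_sub_distrib, sum_congr rfl (g := fun _ => f) ht1, sum_const, nsmul_eq_mul, hcardP, hF1,
      show ∑ c ∈ p1 q C, (t c * t c).coeff x = N x from rfl, hNu x hx, hNz] at h
    simp only [lam]; linarith
  have hlamA : ∀ d : C, d ≠ 1 → Fa.coeff d = lam := fun d hd => by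
    obtain ⟨c, hc, hr⟩ := hmeet d hd
    rw [← S.inv_coeff_l hFi hr, hlamP c hc]
  have hlamB : ∀ d : C, Fb.coeff d = lam := fun d => by
    obtain ⟨d', hd'⟩ := S.toL d
    rw [← S.inv_coeff_lr hFi (S.symm hd')]
    refine hlamA d' fun e => ?_
    subst e
    exact absurd (S.one (S.symm hd')) Sum.inr_ne_inl
  have hsq : ∑ c ∈ p1 q C, k c ^ 2 = f * n1 + lam * n1 := by
    have h1 : ∑ c ∈ p1 q C, k c ^ 2 = aug Fa + aug Fb := by
      simp only [Fa, Fb, map_sum, ← sum_add_distrib]
      exact sum_congr rfl fun c _ => by simp only [map_add, map_mul, aug_st, k]; ring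
    have h2 : aug Fa = f * n1 + lam * ((Fintype.card C : ℤ) - 1) := by
      rw [aug_apply, ← sum_erase_add univ _ (mem_univ (1 : C)), hF1,
        sum_congr rfl (g := fun _ => lam) fun d hd => hlamA d (mem_erase.1 hd).1, sum_const,
        card_erase_of_mem (mem_univ _), card_univ, nsmul_eq_mul,
        Nat.cast_sub (Nat.one_le_iff_ne_zero.2 Fintype.card_pos.ne')]
      push_cast; ring
    have h3 : aug Fb = lam * (Fintype.card C : ℤ) := by
      simp only [aug_apply, hlamB, sum_const, card_univ, nsmul_eq_mul]; ring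
    rw [h1, h2, h3]; simp only [n1]; ring
  -- each class is small
  have hkpos : ∀ c ∈ p1 q C, f + 1 ≤ k c := fun c hc => by
    have hA : f ≤ aug (S.clA ℤ c) := by
      rw [← hf c hc, aug_apply]
      refine le_trans (le_of_eq (sum_congr rfl fun d _ => ?_))
        (sum_le_univ_sum_of_nonneg (fun d => by simp only [clA, coeff_ofFn]; split_ifs <;> simp))
      simp only [ind, clA, coeff_ofFn]
    have hB : 1 ≤ aug (S.clB ℤ c) := by
      obtain ⟨d, hd⟩ := S.toR c (memP.1 hc).2
      rw [aug_apply]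
      refine le_trans (le_of_eq ?_) (single_le_sum (fun d _ => by
        simp only [clB, coeff_ofFn]; split_ifs <;> simp) (mem_univ d))
      simp only [clB, coeff_ofFn]; exact (if_pos hd).symm
    simp only [k]; linarith
  have hbound : ∀ c ∈ p1 q C, f * k c + ((q : ℤ) - 1 - f) * (f + 1) ≤ f * n1 := fun c hc => by
    have e1 : ∑ d ∈ p1 q C, (ind c d * k c + (1 - ind c d) * (f + 1)) ≤ ∑ d ∈ p1 q C, k d := by
      refine sum_le_sum fun d hd => ?_
      simp only [ind]
      split_ifs with h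
      · have : k d = k c := by
          have e : ∀ x, pairFn (S.clA ℤ d) (S.clB ℤ d) x = pairFn (S.clA ℤ c) (S.clB ℤ c) x := by
            rintro (x | x) <;> simp only [pairFn, Sum.elim_inl, Sum.elim_inr, clA, clB, coeff_ofFn] <;>
              exact if_congr ⟨S.trans h, S.trans (S.symm h)⟩ rfl rfl
          simp only [k, aug_apply]
          exact congrArg₂ (· + ·) (sum_congr rfl fun x _ => e (Sum.inl x))
            (sum_congr rfl fun x _ => e (Sum.inr x))
        linarith
      · linarith [hkpos d hd]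
    simp only [sum_add_distrib, ← sum_mul, sum_sub_distrib, hf c hc, sum_const, nsmul_eq_mul,
      mul_one, hcardP, hK] at e1
    exact e1
  have hn1 : 0 < n1 := by simp only [n1]; have := Fintype.card_pos (α := C); omega
  have hf1 : 1 ≤ f := le_trans (le_of_eq (by simp only [ind]; rw [if_pos (S.refl _)]))
    (single_le_sum (fun d _ => by simp only [ind]; split_ifs <;> simp) hzP)
  have key : f * (f * n1 + lam * n1) + ((q : ℤ) - 1 - f) * (f + 1) * (f * n1) ≤
      f * n1 * (f * n1) := by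
    have h := sum_le_sum fun c hc => mul_le_mul_of_nonneg_right (hbound c hc)
      (show 0 ≤ k c by linarith [hkpos c hc])
    simp only [add_mul, sum_add_distrib, mul_assoc, ← mul_sum, ← pow_two] at h
    rw [hsq, hK] at h
    linarith
  have hfull : (q : ℤ) - 1 ≤ f := by
    simp only [lam] at key
    have : ((q : ℤ) - 1 - f) * (f * n1) ≤ 0 := by linarith
    by_contra hlt
    nlinarith [mul_pos (show (0 : ℤ) < q - 1 - f by omega) (mul_pos hf1 hn1)]
  obtain ⟨c, hc, hr⟩ := hmeet g hg
  refine S.trans ?_ hr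
  by_contra hn
  have : f < (q : ℤ) - 1 := by
    rw [← hcardP, Finset.card_eq_sum_ones, Nat.cast_sum]
    refine sum_lt_sum (fun d _ => by simp only [ind]; split_ifs <;> simp) ⟨c, hc, ?_⟩
    simp [ind, hn]
  linarith

/-- A primitive Schur ring over a dihedral group has rank two. -/
theorem related_all {c d : C} (hc : c ≠ 1) (hd : d ≠ 1) : S.r (Sum.inl c) (Sum.inl d) := by
  have hm : Fintype.card C ≠ 1 := fun h => hc ((Fintype.card_le_one_iff).1 h.le c 1)
  obtain ⟨q, hp, hqd⟩ := Nat.exists_prime_and_dvd hm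
  by_cases h : ∃ p : ℕ, p.Prime ∧ p ∣ Fintype.card C ∧ p ≠ q
  · obtain ⟨p, hpp, hpd, hne⟩ := h
    exact S.related_two_primes hpp hp hne hpd hqd hc hd
  push Not at h
  have hl := Nat.eq_prime_pow_of_unique_prime_dvd Fintype.card_pos.ne' fun {d} hd hdd => h d hd hdd
  haveI := Fact.mk hp
  obtain ⟨z, hz, hall⟩ := S.rc_all hp hqd
  rcases hp.eq_two_or_odd' with rfl | hodd
  · have hrel : ∀ g, g ≠ 1 → S.r (Sum.inl z) (Sum.inl g) := fun g hg => by
      obtain ⟨u, hu, hr⟩ := hall g hg
      have hz1 : z ≠ 1 := fun e => by rw [e, orderOf_one] at hz; omega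
      refine S.trans (S.fix_mult hz hall hz1 hu ?_) hr
      have h2 : Nat.Coprime 2 u := hu.coprime_dvd_left hqd
      rw [Nat.coprime_two_left, Nat.odd_iff] at h2
      rw [h2]
    exact S.trans (S.symm (hrel c hc)) (hrel d hd)
  · exact S.trans (S.symm (S.related_prime_pow hl hodd hz hall hc))
      (S.related_prime_pow hl hodd hz hall hd)

end DihSR

end CfsgLib.PLocal.Dih
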