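import Cfsg.Agent.Lib.PLocal.DihPairPow
import Mathlib.Algebra.Ring.GeomSum
import Mathlib.NumberTheory.Multiplicity

/-!
For an odd prime divisor of the order all non-identity elements are rationally conjugate.
-/

set_option autoImplicit false
set_option linter.unusedSectionVars false

namespace CfsgLib.PLocal.Dih

open Finset MonoidAlgebra

universe u

variable {C : Type u} [CommGroup C] [Fintype C] [DecidableEq C] [IsCyclic C]
variable {q : ℕ} [hp : Fact q.Prime] {z : C}

/-- The elements of order prime to `q`. -/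
noncomputable def sbar (q : ℕ) (C : Type u) [CommGroup C] [Fintype C] [DecidableEq C] :
    MonoidAlgebra ℤ C := ofFn fun c => if q ∣ orderOf c then 0 else 1

theorem QSupp.mul_sbar {x : MonoidAlgebra ℤ C} (hx : QSupp q x) :
    x * sbar q C = algebraMap ℤ _ (aug x) * sbar q C := by
  ext c
  rw [coeff_mul, coeff_smul_apply, aug_apply, sum_mul]
  refine sum_congr rfl fun d _ => ?_
  by_cases hd : q ∣ orderOf d
  · rw [hx d hd, zero_mul, zero_mul]
  · congr 1
    simp only [sbar, coeff_ofFn]
    have key : ∀ a b : C, ¬ q ∣ orderOf a → ¬ q ∣ orderOf b → ¬ q ∣ orderOf (a * b) :=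
      fun a b ha hb h => (hp.out.dvd_mul.1 (h.trans (Commute.all a b).orderOf_mul_dvd_mul_orderOf)).elim ha hb
    refine if_congr ⟨fun h => ?_, fun h => ?_⟩ rfl rfl <;> by_contra hn
    · exact key d⁻¹ c (by rwa [orderOf_inv]) hn h
    · have := key d (d⁻¹ * c) hd hn
      rw [mul_inv_cancel_left] at this
      exact this h

theorem aug_spart_eq_zero (hz : orderOf z = q) {x : MonoidAlgebra ℤ C} {v : ℤ}
    (h : x * sbar q C = algebraMap ℤ _ v * bar) : aug (spart q z x) = 0 := by
  have h1 := congrArg (fun w => w.coeff 1) h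
  have h2 := congrArg (fun w => w.coeff z) h
  simp only [coeff_smul_apply, coeff_bar, mul_one, coeff_mul, sbar, coeff_ofFn, orderOf_inv] at h1 h2
  rw [← Equiv.sum_comp (Equiv.mulRight z)] at h2
  simp only [Equiv.coe_mulRight, mul_inv_rev] at h2
  have e : aug (spart q z x) = (∑ d, x.coeff d * if q ∣ orderOf d then 0 else 1) -
      ∑ d, x.coeff (d * z) * if q ∣ orderOf d then 0 else 1 := by
    rw [aug_apply, ← sum_sub_distrib]
    refine sum_congr rfl fun d _ => ?_
    rw [coeff_spart]
    split_ifs <;> ring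
  have e2 : ∀ d : C, z⁻¹ * d⁻¹ * z = d⁻¹ := fun d => by rw [mul_comm, mul_inv_cancel_left]
  simp only [e2, orderOf_inv] at h2
  rw [e, h1, h2, sub_self]

theorem not_dvd_aug_sbar : ¬ (q : ℤ) ∣ aug (sbar q C) := by
  classical
  let H : Subgroup C :=
    { carrier := {c | ¬ q ∣ orderOf c}
      one_mem' := by simp only [Set.mem_setOf_eq, orderOf_one]; exact hp.out.not_dvd_one
      mul_mem' := fun {a b} ha hb h =>
        (hp.out.dvd_mul.1 (h.trans (Commute.all a b).orderOf_mul_dvd_mul_orderOf)).elim ha hb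
      inv_mem' := fun {a} ha => by simpa [orderOf_inv] using ha }
  have hH : aug (sbar q C) = (Nat.card H : ℤ) := by
    rw [aug_apply, Nat.card_eq_fintype_card, Fintype.card_subtype]
    simp only [sbar, coeff_ofFn]
    rw [card_filter, Nat.cast_sum]
    refine sum_congr rfl fun c _ => ?_
    by_cases hc : q ∣ orderOf c
    · have hH : c ∉ H := fun h => h hc
      simp [hc, hH]
    · have hH : c ∈ H := hc
      simp [hc, hH]
  rw [hH, Int.natCast_dvd_natCast]
  intro h
  obtain ⟨x, hx⟩ := exists_prime_orderOf_dvd_card' q h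
  exact x.2 (by rw [Subgroup.orderOf_coe, hx])

namespace DihSR

variable (S : DihSR C)

/-- Invariant rational functions with invariant first half are constant, if there is no `XSet`. -/
theorem const_of_noX (hX : S.XSet z → False) {a b : MonoidAlgebra (ZMod q) C} (h : Inv S.r a b)
    (ha : IsRat a) (hP : PInv z a) : ∀ w, pairFn a b w = a.coeff 1 := by
  have hl : ∀ c, a.coeff c = a.coeff 1 := by
    intro c0
    by_contra hne
    let f : ZMod q → ℤ := fun v => if v = a.coeff c0 then 1 else 0
    refine hX ⟨ofFn fun c => f (a.coeff c), ofFn fun c => f (b.coeff c), S.inv_map f h,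
      fun c d e => by simp only [coeff_ofFn, ha c d e], fun c => by simp only [coeff_ofFn, hP c],
      fun c => ?_, fun c => ?_, ?_, ⟨c0, ?_⟩⟩
    · simp only [coeff_ofFn, f]; split_ifs <;> simp
    · simp only [coeff_ofFn, f]; split_ifs <;> simp
    · simp only [coeff_ofFn, f]; exact if_neg fun e => hne e.symm
    · simp [coeff_ofFn, f]
  rintro (c | c)
  · exact hl c
  · obtain ⟨d, hd⟩ := S.toL c
    show b.coeff c = _
    rw [← S.inv_coeff_lr h (S.symm hd), hl]

theorem rc_dvd (hz : orderOf z = q) (hq : Odd q) (hX : S.XSet z → False) {c d : C}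
    (hc : q ∣ orderOf c) (hd : q ∣ orderOf d) : S.RC c d := by
  classical
  have hi := S.inv_rc (R := ZMod q) c
  have hr := S.isRat_rc (R := ZMod q) c
  have hy := S.inv_pow_odd hq hi
  rw [frob_eq_spart hz hr] at hy
  have h := S.const_of_noX hX (S.inv_sub hi hy)
    (fun x y e => by simp only [coeff_sub, Finsupp.sub_apply, hr x y e, isRat_spart hz hr x y e])
    (pInv_sub_spart hz hr)
  have := (h (Sum.inl d)).trans (h (Sum.inl c)).symm
  simp only [pairFn, Sum.elim_inl, coeff_sub, Finsupp.sub_apply, coeff_spart, hc, hd, if_true,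
    sub_zero, rcA, coeff_ofFn, S.rc_refl] at this
  by_contra hn
  rw [if_neg hn] at this
  exact zero_ne_one this

theorem eq_spart_add_bar (hz : orderOf z = q) (hq : Odd q) (hX : S.XSet z → False)
    {a b : MonoidAlgebra ℤ C} (h : Inv S.r a b) (ha : IsRat a) :
    a = spart q z a + algebraMap ℤ _ (a.coeff z) * bar := by
  ext c
  simp only [coeff_add, Finsupp.add_apply, coeff_spart, coeff_smul_apply, coeff_bar, mul_one]
  split_ifs with hc
  · rw [zero_add]; exact S.coeff_eq_of_rc h ha (S.rc_dvd hz hq hX hc hz.symm.dvd)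
  · rw [S.coeff_eq_of_rc h ha (S.rc_dvd hz hq hX
      (show q ∣ orderOf (c * z) by rw [orderOf_mul_of_not_dvd hz hc]; exact dvd_mul_left _ _)
      hz.symm.dvd)]
    ring

/-- Pairs whose second half has constant coset sums. -/
def I' (q : ℕ) (a b : MonoidAlgebra ℤ C) : Prop :=
  Inv S.r a b ∧ IsRat a ∧ ∃ v : ℤ, b * sbar q C = algebraMap ℤ _ v * bar

theorem aug_ppow (a b : MonoidAlgebra ℤ C) (n : ℕ) :
    aug (ppow a b n).1 - aug (ppow a b n).2 = (aug a - aug b) ^ n := by
  induction n with
  | zero => simp [ppow]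
  | succ n ih =>
    rw [pow_succ, ← ih]
    simp only [ppow, map_add, map_mul, aug_st]; ring

theorem spart_scalar_bar (hz : orderOf z = q) (r : ℤ) :
    spart q z (algebraMap ℤ _ r * bar : MonoidAlgebra ℤ C) = 0 :=
  spart_pInv hz (pInv_bar.mul_left _)

theorem t_ppow (hz : orderOf z = q) (hq : Odd q) (hX : S.XSet z → False) {a b : MonoidAlgebra ℤ C}
    (h : S.I' q a b) : ∀ n : ℕ, S.I' q (ppow a b n).1 (ppow a b n).2 ∧
      aug (spart q z (ppow a b n).1) = aug (spart q z a) ^ n := by
  intro n
  induction n with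
  | zero =>
    refine ⟨⟨S.inv_ppow h.1 0, fun c d e => ?_, 0, by simp [ppow]⟩, ?_⟩
    · have h1 : c = 1 ↔ d = 1 := by rw [← orderOf_eq_one_iff, e, orderOf_eq_one_iff]
      simp [ppow, one_def, Finsupp.single_apply, eq_comm, h1]
    · show aug (spart q z (1 : MonoidAlgebra ℤ C)) = _
      rw [spart_of_qSupp hz qSupp_one, map_one, pow_zero]
  | succ n ih =>
    obtain ⟨⟨hi, hr, v, hv⟩, ht⟩ := ih
    obtain ⟨hi0, hr0, v0, hv0⟩ := h
    let A := (ppow a b n).1
    let B := (ppow a b n).2
    refine ⟨⟨S.inv_ppow hi0 (n + 1), ?_, aug A * v0 + aug a * v, ?_⟩, ?_⟩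
    · show IsRat (A * a + B * st b)
      exact S.isRat_mul hi hi0 hr hr0
    · show (A * b + a * B) * sbar q C = _
      rw [add_mul, mul_assoc, hv0, mul_assoc, hv, mul_bar_eq, mul_bar_eq, map_add, add_mul,
        mul_comm v0, mul_comm v]
    · show aug (spart q z (A * a + B * st b)) = _
      have hBb : aug (spart q z (B * st b)) = 0 := by
        refine aug_spart_eq_zero hz (v := v * aug b) ?_
        rw [mul_comm B, mul_assoc, hv, mul_bar_eq, aug_st]
      have eA := S.eq_spart_add_bar hz hq hX hi hr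
      have ea := S.eq_spart_add_bar hz hq hX hi0 hr0
      let s := spart q z A
      let s0 := spart q z a
      have hAa : ∃ r : ℤ, A * a = s * s0 + algebraMap ℤ _ r * bar := by
        refine ⟨a.coeff z * aug s + A.coeff z * aug a, ?_⟩
        calc A * a = s * s0 + (s * (algebraMap ℤ _ (a.coeff z) * bar) +
            a * (algebraMap ℤ _ (A.coeff z) * bar)) := by
              conv_lhs => rw [show A = _ from eA]
              conv_lhs => arg 2; rw [ea]
              conv_rhs => arg 2; arg 2; arg 1; rw [ea]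
              simp only [s, s0, A]
              ring
          _ = _ := by rw [mul_bar_eq, mul_bar_eq, map_add]; ring
      obtain ⟨r, hr'⟩ := hAa
      rw [spart_add, map_add, hBb, add_zero, hr', spart_add, spart_scalar_bar hz,
        spart_of_qSupp hz ((qSupp_spart _).mul (qSupp_spart _)), add_zero, map_mul, pow_succ, ← ht]

/-- The two linear characters agree. -/
theorem aug_sub_eq (hz : orderOf z = q) (hq : Odd q) (hX : S.XSet z → False)
    {a b : MonoidAlgebra ℤ C} (h : S.I' q a b) :
    aug a - aug b = aug (spart q z a) := by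
  let φ : ℤ →+* ZMod q := Int.castRingHom _
  have hq0 : (q : ℤ) ≠ 0 := by exact_mod_cast hp.out.ne_zero
  have hqm : (q : ℤ) ∣ (Fintype.card C : ℤ) :=
    Int.natCast_dvd_natCast.2 (hz ▸ orderOf_dvd_card)
  have hqP : Prime (q : ℤ) := Nat.prime_iff_prime_int.1 hp.out
  suffices H : ∀ v : ℕ, 1 ≤ v → ∀ a b, S.I' q a b →
      (q : ℤ) ^ v ∣ aug a - aug b - aug (spart q z a) by
    obtain ⟨V, hV⟩ : ∃ V : ℕ, (aug a - aug b - aug (spart q z a)).natAbs < q ^ V :=
      ⟨_, Nat.lt_pow_self hp.out.one_lt⟩
    have hd : ((q ^ (V + 1) : ℕ) : ℤ) ∣ aug a - aug b - aug (spart q z a) := by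
      push_cast; exact H (V + 1) (by omega) a b h
    have hlt : q ^ V ≤ q ^ (V + 1) := Nat.pow_le_pow_right hp.out.pos (by omega)
    have := Int.eq_zero_of_dvd_of_natAbs_lt_natAbs hd (by rw [Int.natAbs_natCast]; omega)
    linarith
  intro v hv
  induction v, hv using Nat.le_induction with
  | base =>
    intro a b h
    obtain ⟨hi, hr, v0, hv0⟩ := h
    have e := congrArg aug hv0
    rw [map_mul, map_mul, aug_algebraMap, aug_bar] at e
    have hB : (q : ℤ) ∣ aug b := by
      refine (hqP.dvd_or_dvd (e ▸ dvd_mul_of_dvd_right hqm v0)).resolve_right ?_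
      exact not_dvd_aug_sbar
    have ha := congrArg aug (S.eq_spart_add_bar hz hq hX hi hr)
    rw [map_add, map_mul, aug_algebraMap, aug_bar] at ha
    rw [pow_one, show aug a - aug b - aug (spart q z a) =
      a.coeff z * (Fintype.card C : ℤ) - aug b by linarith]
    exact dvd_sub (dvd_mul_of_dvd_right hqm _) hB
  | succ v hv ih =>
    intro a b h
    obtain ⟨⟨hi, hr, v0, hv0⟩, ht⟩ := S.t_ppow hz hq hX h q
    obtain ⟨hi0, hr0, v1, hv1⟩ := h
    let A := (ppow a b q).1
    let B := (ppow a b q).2
    -- the power is congruent to the element modulo `q` and constants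
    have hmod : ∃ k : ℤ, ∀ w, (q : ℤ) ∣ pairFn (A - a) (B - b) w - k := by
      have hia : Inv S.r (mapC φ (A - a)) (mapC φ (B - b)) := S.inv_map φ (S.inv_sub hi hi0)
      have hra : IsRat (mapC φ a) := fun c d e => by simp only [coeff_mapC, hr0 c d e]
      have e : mapC φ (A - a) = 0 - (mapC φ a - spart q z (mapC φ a)) := by
        have := congrArg Prod.fst (mapC_ppow φ a b q)
        rw [ppow_frob_fst hq, frob_eq_spart hz hra] at this
        rw [map_sub, show mapC φ A = _ from this.symm]; ring
      have hc := S.const_of_noX hX hia (fun c d e => by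
          simp only [coeff_mapC, coeff_sub, Finsupp.sub_apply, hr c d e, hr0 c d e, A])
        (e ▸ pInv_zero.sub (pInv_sub_spart hz hra))
      obtain ⟨k, hk⟩ := ZMod.intCast_surjective ((mapC φ (A - a)).coeff 1)
      refine ⟨k, fun w => (ZMod.intCast_eq_intCast_iff_dvd_sub _ _ q).1 ?_⟩
      rw [hk, ← hc w]
      cases w <;> simp only [pairFn, Sum.elim_inl, Sum.elim_inr, coeff_mapC] <;> rfl
    obtain ⟨k, hk⟩ := hmod
    choose f hf using hk
    let a' := ofFn fun c => f (Sum.inl c)
    let b' := ofFn fun c => f (Sum.inr c)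
    let Q : MonoidAlgebra ℤ C := algebraMap ℤ _ (q : ℤ)
    have ea : Q * a' = A - a - algebraMap ℤ _ k * bar := by
      ext c
      have := hf (Sum.inl c)
      simp only [pairFn, Sum.elim_inl] at this
      simp only [Q, a', coeff_sub, Finsupp.sub_apply, coeff_smul_apply, coeff_ofFn, coeff_bar,
        mul_one] at this ⊢
      linarith
    have eb : Q * b' = B - b - algebraMap ℤ _ k * bar := by
      ext c
      have := hf (Sum.inr c)
      simp only [pairFn, Sum.elim_inr] at this
      simp only [Q, b', coeff_sub, Finsupp.sub_apply, coeff_smul_apply, coeff_ofFn, coeff_bar,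
        mul_one] at this ⊢
      linarith
    have hI : S.I' q a' b' := by
      have hiq : Inv S.r (Q * a') (Q * b') := by
        rw [ea, eb]; exact S.inv_sub (S.inv_sub hi hi0) (S.inv_smul _ S.inv_bar)
      refine ⟨fun x y hxy => ?_, fun c d e => ?_, (b' * sbar q C).coeff 1, ?_⟩
      · have h0 := hiq x y hxy
        cases x <;> cases y <;> simp only [pairFn, Sum.elim_inl, Sum.elim_inr, Q, coeff_smul_apply]
          at h0 ⊢ <;> exact mul_left_cancel₀ hq0 h0
      · refine mul_left_cancel₀ hq0 ?_
        rw [← coeff_smul_apply, ← coeff_smul_apply, show algebraMap ℤ _ (q : ℤ) * a' = _ from ea]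
        simp only [coeff_sub, Finsupp.sub_apply, coeff_smul_apply, coeff_bar, hr c d e, hr0 c d e, A]
      · have e : Q * (b' * sbar q C) = algebraMap ℤ _ (v0 - v1 - k * aug (sbar q C)) * bar := by
          rw [← mul_assoc, eb, sub_mul, sub_mul, show B * sbar q C = _ from hv0, hv1,
            mul_comm (algebraMap ℤ _ k * bar), mul_bar_eq]
          simp only [map_sub, map_mul]; ring
        ext c
        rw [coeff_smul_apply, coeff_bar, mul_one]
        refine mul_left_cancel₀ hq0 ?_
        rw [← coeff_smul_apply, ← coeff_smul_apply, show algebraMap ℤ _ (q : ℤ) * (b' * sbar q C) = _ from e,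
          coeff_smul_apply, coeff_smul_apply, coeff_bar, coeff_bar]
    obtain ⟨w', hw'⟩ := ih a' b' hI
    obtain ⟨w, hw⟩ := ih a b ⟨hi0, hr0, v1, hv1⟩
    have e1 := congrArg aug ea
    have e2 := congrArg aug eb
    have e3 := congrArg (fun x => aug (spart q z x)) ea
    have hsub : ∀ x y : MonoidAlgebra ℤ C, spart q z (x - y) = spart q z x - spart q z y := fun x y =>
      eq_sub_of_add_eq (by rw [← spart_add, sub_add_cancel])
    have hQs : spart q z (Q * a') = Q * spart q z a' := by
      ext c
      simp only [Q, coeff_spart, coeff_smul_apply]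
      split_ifs <;> ring
    simp only [hsub, spart_scalar_bar hz, sub_zero, hQs, map_sub, map_mul, Q, aug_algebraMap,
      aug_bar] at e1 e2 e3
    have e4 := aug_ppow a b q
    obtain ⟨g, hg⟩ : (q : ℤ) ^ (v + 1) ∣ (aug a - aug b) ^ q - aug (spart q z a) ^ q := by
      rw [← geom_sum₂_mul (aug a - aug b) (aug (spart q z a)) q, pow_succ']
      refine mul_dvd_mul ?_ ⟨w, hw⟩
      refine dvd_geom_sum₂_self ?_
      exact (dvd_pow_self _ (by omega)).trans ⟨w, hw⟩
    refine ⟨g - w', ?_⟩
    simp only [A, B] at e1 e2 e3 ht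
    rw [ht] at e3
    linear_combination hg + e1 - e2 - e3 + e4 - (q : ℤ) * hw'

theorem rc_odd (hz : orderOf z = q) (hq : Odd q) {g : C} (hg : g ≠ 1) : S.RC z g := by
  classical
  have hX : S.XSet z → False := fun X => X.false_of_odd hz hq
  by_contra hn
  have hz1 : z ≠ 1 := fun e => hp.out.ne_one (by rw [← hz, e, orderOf_one])
  let aV : MonoidAlgebra ℤ C := bar - 1 - S.rcA ℤ z
  let bV : MonoidAlgebra ℤ C := bar - S.rcB ℤ z
  have h01 := S.rc_zero_one z
  have h1' : ∀ c, (1 : MonoidAlgebra ℤ C).coeff c = if c = 1 then 1 else 0 := fun c => by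
    rw [← map_one (algebraMap ℤ (MonoidAlgebra ℤ C)), coeff_algebraMap]
  have hz0 : (S.rcA ℤ z).coeff 1 = 0 := by
    simp only [rcA, coeff_ofFn]; exact if_neg fun h => hz1 (S.rc_eq_one h)
  have haV : ∀ c, aV.coeff c = if c = 1 then 0 else 1 - (S.rcA ℤ z).coeff c := fun c => by
    simp only [aV, coeff_sub, Finsupp.sub_apply, coeff_bar, h1']
    split_ifs with h <;> simp [h, hz0]
  have hbV : ∀ c, bV.coeff c = 1 - (S.rcB ℤ z).coeff c := fun c => by
    simp only [bV, coeff_sub, Finsupp.sub_apply, coeff_bar]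
  have iV : Inv S.r aV bV := by
    have h1 := S.inv_const (1 : ℤ)
    rw [map_one] at h1
    have := S.inv_sub (S.inv_sub S.inv_bar h1) (S.inv_rc z)
    rwa [sub_zero] at this
  have rV : IsRat aV := fun c d e => by
    have h1 : c = 1 ↔ d = 1 := by rw [← orderOf_eq_one_iff, e, orderOf_eq_one_iff]
    rw [haV, haV, S.isRat_rc z c d e]
    exact if_congr h1 rfl rfl
  have hsupp : QSupp q aV := fun c hc => by
    rw [haV]
    split_ifs with h
    · rfl
    · simp only [rcA, coeff_ofFn, if_pos (S.rc_dvd hz hq hX hz.symm.dvd hc), sub_self]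
  -- the square of the centred element
  let aW := aV - algebraMap ℤ _ (aug aV)
  have iW : Inv S.r aW bV := by
    have := S.inv_sub iV (S.inv_const (aug aV))
    rwa [sub_zero] at this
  have rW : IsRat aW := fun c d e => by
    have h1 : c = 1 ↔ d = 1 := by rw [← orderOf_eq_one_iff, e, orderOf_eq_one_iff]
    simp only [aW, coeff_sub, Finsupp.sub_apply, rV c d e, coeff_algebraMap, h1]
  have hWs : QSupp q aW := fun c hc => by
    have : c ≠ 1 := fun e => hp.out.not_dvd_one (by rwa [e, orderOf_one] at hc)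
    simp only [aW, coeff_sub, Finsupp.sub_apply, hsupp c hc, coeff_algebraMap, if_neg this, sub_self]
  have hW0 : aug aW = 0 := by simp only [aW, map_sub, aug_algebraMap, sub_self]
  have hWS : aW * sbar q C = 0 := by rw [hWs.mul_sbar, hW0, map_zero, zero_mul]
  have hI : S.I' q (aW * aW + bV * st bV) (aW * bV + aW * bV) :=
    ⟨S.inv_mul iW iW, S.isRat_mul iW iW rW rW, 0, by
      rw [show (aW * bV + aW * bV) * sbar q C = (bV + bV) * (aW * sbar q C) by ring, hWS,
        mul_zero, map_zero, zero_mul]⟩
  have key := S.aug_sub_eq hz hq hX hI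
  have hdec := congrArg aug (S.eq_spart_add_bar hz hq hX hI.1 hI.2.1)
  simp only [map_add, map_mul, hW0, aug_algebraMap, aug_bar, aug_st, mul_zero, zero_mul, zero_add,
    add_zero, sub_zero] at key hdec
  have hμ : (aW * aW + bV * st bV).coeff z = 0 := by
    have hm : (Fintype.card C : ℤ) ≠ 0 := by exact_mod_cast Fintype.card_pos.ne'
    have e : (aW * aW + bV * st bV).coeff z * (Fintype.card C : ℤ) = 0 := by linarith
    exact (mul_eq_zero.1 e).resolve_right hm
  have hμ' : (bV * st bV).coeff z = 0 := by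
    rwa [coeff_add, Finsupp.add_apply, (hWs.mul hWs) z hz.symm.dvd, zero_add] at hμ
  -- the union together with the identity is closed
  let aK := aV + 1
  have h1i := S.inv_const (1 : ℤ)
  rw [map_one] at h1i
  have iK : Inv S.r aK bV := by
    have := S.inv_add iV h1i
    rwa [add_zero] at this
  have hz2 : (aV * aV + bV * st bV).coeff z = 0 := by
    rw [coeff_add, Finsupp.add_apply, (hsupp.mul hsupp) z hz.symm.dvd, hμ', zero_add]
  have iV2 := S.inv_mul iV iV
  have rV2 := S.isRat_mul iV iV rV rV
  have hoff : ∀ c, S.RC z c → (aV * aV + bV * st bV).coeff c = 0 := fun c hc => by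
    rw [← S.coeff_eq_of_rc iV2 rV2 hc, hz2]
  have hoffb : ∀ c, bV.coeff c = 0 → (aV * bV + aV * bV).coeff c = 0 := fun c hc => by
    rw [hbV] at hc
    simp only [rcB, coeff_ofFn] at hc
    split_ifs at hc with hu
    swap
    · simp at hc
    obtain ⟨u, hu, hr⟩ := hu
    rw [← S.inv_coeff_lr iV2 hr]
    exact hoff _ ⟨u, hu, S.refl _⟩
  obtain ⟨v, hv1, hv⟩ : ∃ v, v ≠ 1 ∧ aV.coeff v = 1 :=
    ⟨g, hg, by rw [haV, if_neg hg]; simp only [rcA, coeff_ofFn, if_neg hn, sub_zero]⟩
  have hzo : ∀ c, (aK.coeff c = 0 ∨ aK.coeff c = 1) ∧ (bV.coeff c = 0 ∨ bV.coeff c = 1) ∧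
      (aK.coeff c = 0 → S.RC z c) := fun c => by
    simp only [aK, coeff_add, Finsupp.add_apply, haV, hbV, h1']
    refine ⟨?_, ?_, ?_⟩
    · split_ifs
      · simp
      · rcases h01.1 c with h | h <;> simp [h]
    · rcases h01.2 c with h | h <;> simp [h]
    · intro h
      by_contra hc
      split_ifs at h with h'
      · omega
      · simp [rcA, coeff_ofFn, hc] at h
  have hnn : ∀ c, 0 ≤ aK.coeff c ∧ 0 ≤ bV.coeff c := fun c =>
    ⟨by rcases (hzo c).1 with h | h <;> simp [h], by rcases (hzo c).2.1 with h | h <;> simp [h]⟩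
  have hvK : aK.coeff v = 1 := by
    simp only [aK, coeff_add, Finsupp.add_apply, hv, h1', if_neg hv1, add_zero]
  have hge : ∀ c, aK.coeff c ≤ aK.coeff (v * c) ∧ bV.coeff c ≤ bV.coeff (v * c) := fun c => by
    have hterm : ∀ x : MonoidAlgebra ℤ C, (∀ d, 0 ≤ x.coeff d) →
        x.coeff c ≤ (aK * x).coeff (v * c) := fun x hx => by
      rw [coeff_mul]
      refine le_trans (le_of_eq ?_) (single_le_sum
        (fun d _ => mul_nonneg (hnn d).1 (hx _)) (mem_univ v))
      rw [hvK, inv_mul_cancel_left, one_mul]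
    constructor
    · rcases (hzo (v * c)).1 with h | h
      · have h1 := hterm aK fun d => (hnn d).1
        have h2 : (aK * aK).coeff (v * c) + (bV * st bV).coeff (v * c) = 0 := by
          have e : aK * aK = aV * aV + (aK + aV) := by simp only [aK]; ring
          have hc := hoff _ ((hzo _).2.2 h)
          simp only [coeff_add, Finsupp.add_apply] at hc
          rw [e]
          simp only [coeff_add, Finsupp.add_apply, h]
          have : aV.coeff (v * c) = 0 := by
            have h' := h
            simp only [aK, coeff_add, Finsupp.add_apply, haV, h1'] at h'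
            rw [haV]; split_ifs at h' ⊢ with h'' <;> linarith
          linarith
        have h3 : 0 ≤ (bV * st bV).coeff (v * c) := by
          rw [coeff_mul]
          exact sum_nonneg fun d _ => mul_nonneg (hnn d).2 (by rw [coeff_st]; exact (hnn _).2)
        linarith
      · rw [h]; rcases (hzo c).1 with h' | h' <;> simp [h']
    · rcases (hzo (v * c)).2.1 with h | h
      · have h1 := hterm bV fun d => (hnn d).2
        have e : aK * bV = aV * bV + bV := by simp only [aK]; ring
        have hc := hoffb _ h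
        rw [e] at h1
        simp only [coeff_add, Finsupp.add_apply] at h1 hc
        linarith
      · rw [h]; rcases (hzo c).2.1 with h' | h' <;> simp [h']
  have heq : ∀ x : MonoidAlgebra ℤ C, (∀ c, x.coeff c ≤ x.coeff (v * c)) →
      ∀ c, x.coeff (v * c) = x.coeff c := fun x hx c =>
    ((sum_eq_sum_iff_of_le fun c _ => hx c).1
      (Equiv.sum_comp (Equiv.mulLeft v) fun c => x.coeff c).symm c (mem_univ c)).symm
  have hconst := S.stab _ _ iK v hv1 (heq _ fun c => (hge c).1) (heq _ fun c => (hge c).2)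
    (Sum.inl 1) (Sum.inl z)
  have e1 : aK.coeff 1 = 1 := by simp only [aK, coeff_add, Finsupp.add_apply, haV, h1', if_true, zero_add]
  have e2 : aK.coeff z = 0 := by
    simp only [aK, coeff_add, Finsupp.add_apply, haV, h1', if_neg hz1, rcA, coeff_ofFn,
      if_pos (S.rc_refl z), sub_self, add_zero]
  simp only [pairFn, Sum.elim_inl, e1, e2] at hconst
  exact one_ne_zero hconst

end DihSR

end CfsgLib.PLocal.Dih
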