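import Cfsg.Agent.Lib.PLocal.DihFrob
import Mathlib.GroupTheory.Coset.Card

/-!
The ideal of `z`-invariant elements of a cyclic group ring.
-/

set_option autoImplicit false
set_option linter.unusedSectionVars false

namespace CfsgLib.PLocal.Dih

open Finset MonoidAlgebra

universe u

variable {C : Type u} [CommGroup C] [Fintype C] [DecidableEq C] [IsCyclic C]
variable {R : Type} [CommRing R] {q : ℕ} [hp : Fact q.Prime] {z : C}

theorem PInv.add {a b : MonoidAlgebra R C} (ha : PInv z a) (hb : PInv z b) : PInv z (a + b) :=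
  fun c => by simp [ha c, hb c]

theorem PInv.sub {a b : MonoidAlgebra R C} (ha : PInv z a) (hb : PInv z b) : PInv z (a - b) :=
  fun c => by simp [ha c, hb c]

theorem pInv_bar : PInv z (bar : MonoidAlgebra R C) := fun c => by simp [coeff_bar]

theorem pInv_zero : PInv z (0 : MonoidAlgebra R C) := fun c => by simp

theorem PInv.mul_left {b : MonoidAlgebra R C} (hb : PInv z b) (a : MonoidAlgebra R C) :
    PInv z (a * b) := fun c => by
  rw [coeff_mul, coeff_mul]
  exact sum_congr rfl fun d _ => by rw [mul_left_comm d⁻¹ z c, hb]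

theorem PInv.mul_right {b : MonoidAlgebra R C} (hb : PInv z b) (a : MonoidAlgebra R C) :
    PInv z (b * a) := mul_comm a b ▸ hb.mul_left a

theorem PInv.st {b : MonoidAlgebra R C} (hb : PInv z b) : PInv z (Dih.st b) := fun c => by
  rw [coeff_st, coeff_st, mul_inv_rev, mul_comm]
  have := hb (z⁻¹ * c⁻¹)
  rwa [mul_inv_cancel_left, eq_comm] at this

theorem PInv.map {R' : Type} [CommRing R'] (f : R →+* R') {b : MonoidAlgebra R C} (hb : PInv z b) :
    PInv z (mapC f b) := fun c => by simp only [coeff_mapC, hb c]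

/-- Sums of `z`-invariant functions are multiples of the order of `z`. -/
theorem exists_sum_eq (hz : orderOf z = q) (f : C → R) (hf : ∀ c, f (z * c) = f c) :
    ∃ T : R, ∑ c, f c = (q : R) * T := by
  classical
  rw [← sum_fiberwise univ (QuotientGroup.mk : C → C ⧸ Subgroup.zpowers z) f]
  refine ⟨∑ x : C ⧸ Subgroup.zpowers z, f x.out, ?_⟩
  rw [mul_sum]
  refine sum_congr rfl fun x _ => ?_
  have hpow : ∀ i : ℕ, ∀ c, f (z ^ i * c) = f c := fun i c => by
    induction i with
    | zero => simp
    | succ i ih => rw [pow_succ', mul_assoc, hf, ih]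
  have hset : (univ.filter fun c : C => (c : C ⧸ Subgroup.zpowers z) = x) =
      (range q).image fun i => z ^ i * x.out := by
    ext c
    simp only [mem_filter, mem_univ, true_and, mem_image, mem_range]
    constructor
    · intro h
      have hm : x.out⁻¹ * c ∈ Subgroup.zpowers z := by
        rw [← QuotientGroup.eq, QuotientGroup.out_eq', h]
      obtain ⟨i, hi⟩ := mem_powers_iff_mem_zpowers.2 hm
      refine ⟨i % q, Nat.mod_lt _ hp.out.pos, ?_⟩
      simp only at hi
      rw [← hz, pow_mod_orderOf, hi, mul_comm x.out⁻¹, inv_mul_cancel_right]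
    · rintro ⟨i, -, rfl⟩
      conv_rhs => rw [← QuotientGroup.out_eq' x]
      rw [eq_comm, QuotientGroup.eq, mul_comm (z ^ i), inv_mul_cancel_left]
      exact Subgroup.npow_mem_zpowers z i
  rw [hset, sum_image fun i hi j hj he => pow_injOn_Iio_orderOf (x := z)
    (by simpa [hz] using hi) (by simpa [hz] using hj) (mul_right_cancel he)]
  rw [sum_congr rfl (g := fun _ => f x.out) fun i _ => hpow i _, sum_const, card_range, nsmul_eq_mul]

theorem PInv.exists_mul_eq (hz : orderOf z = q) {a b : MonoidAlgebra R C} (ha : PInv z a)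
    (hb : PInv z b) : ∃ w, a * b = algebraMap R _ (q : R) * w := by
  have h : ∀ c, ∃ T : R, (a * b).coeff c = (q : R) * T := fun c => by
    rw [coeff_mul]
    refine exists_sum_eq hz _ fun d => ?_
    have h1 : b.coeff (z⁻¹ * (d⁻¹ * c)) = b.coeff (d⁻¹ * c) := by
      rw [← hb (z⁻¹ * (d⁻¹ * c)), mul_inv_cancel_left]
    rw [ha, mul_inv_rev, mul_comm d⁻¹ z⁻¹, mul_assoc, h1]
  choose T hT using h
  exact ⟨ofFn T, MonoidAlgebra.ext <| Finsupp.ext fun c => by rw [coeff_smul_apply, coeff_ofFn, hT]⟩

theorem PInv.mul_eq_zero (hz : orderOf z = q) {a b : MonoidAlgebra (ZMod q) C} (ha : PInv z a)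
    (hb : PInv z b) : a * b = 0 := by
  obtain ⟨w, hw⟩ := ha.exists_mul_eq hz hb
  rw [hw, ZMod.natCast_self, map_zero, zero_mul]

theorem spart_pInv (hz : orderOf z = q) {a : MonoidAlgebra R C} (ha : PInv z a) :
    spart q z a = 0 := by
  ext c
  rw [coeff_spart]
  split_ifs
  · rfl
  · rw [mul_comm c, ha]; simp

/-- Supported on the elements of order prime to `q`. -/
def QSupp (q : ℕ) (a : MonoidAlgebra R C) : Prop := ∀ c, q ∣ orderOf c → a.coeff c = 0

theorem qSupp_spart (a : MonoidAlgebra R C) : QSupp q (spart q z a) := fun c hc => by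
  rw [coeff_spart, if_pos hc]

theorem spart_of_qSupp (hz : orderOf z = q) {a : MonoidAlgebra R C} (ha : QSupp q a) :
    spart q z a = a := by
  ext c
  rw [coeff_spart]
  split_ifs with h
  · rw [ha c h]
  · rw [ha (c * z) (orderOf_mul_of_not_dvd hz h ▸ dvd_mul_left q _), sub_zero]

theorem QSupp.mul {a b : MonoidAlgebra R C} (ha : QSupp q a) (hb : QSupp q b) :
    QSupp q (a * b) := fun c hc => by
  rw [coeff_mul]
  refine sum_eq_zero fun d _ => ?_
  by_cases h1 : q ∣ orderOf d
  · rw [ha d h1, zero_mul]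
  · have h2 : q ∣ orderOf (d⁻¹ * c) := by
      by_contra h2
      have h3 := (Commute.all d (d⁻¹ * c)).orderOf_mul_dvd_mul_orderOf
      rw [mul_inv_cancel_left] at h3
      exact (hp.out.dvd_mul.1 (hc.trans h3)).elim h1 h2
    rw [hb _ h2, mul_zero]

theorem qSupp_one : QSupp q (1 : MonoidAlgebra R C) := fun c hc => by
  have : c ≠ 1 := fun h => hp.out.not_dvd_one (by rwa [h, orderOf_one] at hc)
  simp [one_def, Ne.symm this]

theorem QSupp.pow {a : MonoidAlgebra R C} (ha : QSupp q a) (n : ℕ) : QSupp q (a ^ n) := by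
  induction n with
  | zero => rw [pow_zero]; exact qSupp_one
  | succ n ih => rw [pow_succ]; exact ih.mul ha

end CfsgLib.PLocal.Dih
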