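import Cfsg.Agent.Lib.PLocal.DihRank

/-!
Integral powers of invariant pairs and their reduction modulo a prime.
-/

set_option autoImplicit false
set_option linter.unusedSectionVars false

namespace CfsgLib.PLocal.Dih

open Finset MonoidAlgebra

universe u

variable {C : Type u} [CommGroup C] [Fintype C] [DecidableEq C] [IsCyclic C]
variable {R R' : Type} [CommRing R] [CommRing R']

/-- The pair of the `n`-th power of `a + b B`. -/
noncomputable def ppow (a b : MonoidAlgebra R C) : ℕ → MonoidAlgebra R C × MonoidAlgebra R C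
  | 0 => (1, 0)
  | n + 1 => ((ppow a b n).1 * a + (ppow a b n).2 * st b, (ppow a b n).1 * b + a * (ppow a b n).2)

theorem mapC_ppow (f : R →+* R') (a b : MonoidAlgebra R C) (n : ℕ) :
    ppow (mapC f a) (mapC f b) n = (mapC f (ppow a b n).1, mapC f (ppow a b n).2) := by
  induction n with
  | zero => simp [ppow]
  | succ n ih => simp only [ppow, ih, map_add, map_mul, mapC_st]

theorem ppow_matrix (a b : MonoidAlgebra R C) : ∀ n : ℕ,
    ∃ o, (ppow a b n).2 = o * b ∧
      !![a, b; st b, a] ^ n = !![(ppow a b n).1, o * b; o * st b, (ppow a b n).1] := by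
  intro n
  induction n with
  | zero =>
    refine ⟨0, by simp [ppow], ?_⟩
    rw [pow_zero]
    ext i j : 2
    fin_cases i <;> fin_cases j <;> simp [ppow]
  | succ n ih =>
    obtain ⟨o, ho, hm⟩ := ih
    refine ⟨(ppow a b n).1 + o * a, by simp only [ppow, ho]; ring, ?_⟩
    simp only [ppow, ho]
    rw [pow_succ, hm, Matrix.mul_fin_two]
    congr 1
    funext i j
    fin_cases i <;> fin_cases j <;> simp only [Matrix.of_apply, Matrix.cons_val', Matrix.cons_val_zero,
      Matrix.cons_val_one, Matrix.cons_val_fin_one, Fin.zero_eta, Fin.mk_one] <;> ring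

theorem ppow_frob_fst {q : ℕ} [Fact q.Prime] (hq : Odd q) (a b : MonoidAlgebra (ZMod q) C) :
    (ppow a b q).1 = a ^ q := by
  haveI := charP_algebra (C := C) q
  haveI : CharP (Matrix (Fin 2) (Fin 2) (MonoidAlgebra (ZMod q) C)) q := inferInstance
  obtain ⟨o, -, hm⟩ := ppow_matrix a b q
  let N : Matrix (Fin 2) (Fin 2) (MonoidAlgebra (ZMod q) C) := !![0, b; st b, 0]
  let A : Matrix (Fin 2) (Fin 2) (MonoidAlgebra (ZMod q) C) := Matrix.scalar (Fin 2) a
  have hAN : !![a, b; st b, a] = A + N := by
    ext i j : 1; fin_cases i <;> fin_cases j <;> simp [A, N, Matrix.scalar_apply]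
  have hN2 : N * N = Matrix.scalar (Fin 2) (b * st b) := by
    ext i j : 1
    fin_cases i <;> fin_cases j <;> simp [N, Matrix.mul_apply, Fin.sum_univ_two, Matrix.scalar_apply, mul_comm]
  have hN : N ^ q = Matrix.scalar (Fin 2) ((b * st b) ^ (q / 2)) * N := by
    have e2 : N ^ q = N ^ (2 * (q / 2) + 1) :=
      congrArg (N ^ ·) (Nat.two_mul_div_two_add_one_of_odd hq).symm
    rw [e2, pow_succ, pow_mul, pow_two, hN2, map_pow]
  rw [hAN, add_pow_char_of_commute _ (Matrix.scalar_commute a (fun r => mul_comm a r) N), hN,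
    ← map_pow] at hm
  have h00 := congrFun (congrFun hm 0) 0
  simp [A, N, Matrix.scalar_apply, Matrix.mul_apply, Fin.sum_univ_two] at h00
  exact h00.symm

theorem DihSR.inv_ppow (S : DihSR C) {a b : MonoidAlgebra R C} (h : Inv S.r a b) (n : ℕ) :
    Inv S.r (ppow a b n).1 (ppow a b n).2 := by
  induction n with
  | zero =>
    have := S.inv_const (1 : R)
    rwa [map_one] at this
  | succ n ih => exact S.inv_mul ih h

end CfsgLib.PLocal.Dih
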