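import Cfsg.Agent.Lib.PLocal.DihRing
import Mathlib.Algebra.CharP.Two
import Mathlib.Data.Matrix.Basic
import Mathlib.LinearAlgebra.Matrix.Notation
import Mathlib.LinearAlgebra.Matrix.CharP

/-!
`q`-th powers of invariant pairs in characteristic `q`.
-/

set_option autoImplicit false
set_option linter.unusedSectionVars false

namespace CfsgLib.PLocal.Dih

open Finset MonoidAlgebra

universe u

variable {C : Type u} [CommGroup C] [Fintype C] [DecidableEq C]

theorem charP_algebra (q : ℕ) [Fact q.Prime] : CharP (MonoidAlgebra (ZMod q) C) q :=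
  charP_of_injective_ringHom (f := MonoidAlgebra.singleOneRingHom) (fun x y h => by
    simpa [MonoidAlgebra.singleOneRingHom] using congrArg (fun z => z.coeff 1) h) q

namespace DihSR

variable (S : DihSR C)

theorem inv_pow_odd {q : ℕ} [hp : Fact q.Prime] (hq : Odd q) {a b : MonoidAlgebra (ZMod q) C}
    (h : Inv S.r a b) : Inv S.r (a ^ q) ((b * st b) ^ (q / 2) * b) := by
  haveI := charP_algebra (C := C) q
  haveI : CharP (Matrix (Fin 2) (Fin 2) (MonoidAlgebra (ZMod q) C)) q := inferInstance
  obtain ⟨e, o, hi, hm⟩ := S.inv_pow h q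
  let N : Matrix (Fin 2) (Fin 2) (MonoidAlgebra (ZMod q) C) := !![0, b; st b, 0]
  let A : Matrix (Fin 2) (Fin 2) (MonoidAlgebra (ZMod q) C) := Matrix.scalar (Fin 2) a
  have hAN : !![a, b; st b, a] = A + N := by
    ext i j : 1; fin_cases i <;> fin_cases j <;> simp [A, N, Matrix.scalar_apply]
  have hN2 : N * N = Matrix.scalar (Fin 2) (b * st b) := by
    ext i j : 1
    fin_cases i <;> fin_cases j <;> simp [N, Matrix.mul_apply, Fin.sum_univ_two, Matrix.scalar_apply, mul_comm]
  have hN : N ^ q = Matrix.scalar (Fin 2) ((b * st b) ^ (q / 2)) * N := by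
    have e2 : N ^ q = N ^ (2 * (q / 2) + 1) :=
      congrArg (N ^ ·) (Nat.two_mul_div_two_add_one_of_odd hq).symm
    rw [e2, pow_succ, pow_mul, pow_two, hN2, map_pow]
  rw [hAN, add_pow_char_of_commute _ (Matrix.scalar_commute a (fun r => mul_comm a r) N), hN,
    ← map_pow] at hm
  have h00 := congrFun (congrFun hm 0) 0
  have h01 := congrFun (congrFun hm 0) 1
  simp [A, N, Matrix.scalar_apply, Matrix.mul_apply, Fin.sum_univ_two] at h00 h01
  rwa [h00, h01]

theorem inv_pow_two {a b : MonoidAlgebra (ZMod 2) C} (h : Inv S.r a b) :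
    Inv S.r (a ^ 2 + b * st b) 0 := by
  haveI : Fact (Nat.Prime 2) := ⟨Nat.prime_two⟩
  haveI := charP_algebra (C := C) 2
  have := S.inv_mul h h
  rwa [← pow_two, CharTwo.add_self_eq_zero] at this

end DihSR

end CfsgLib.PLocal.Dih
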