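import Cfsg.Prelude.Def_Solvable
import Mathlib.GroupTheory.Sylow
import Mathlib.Tactic.Group

/-!
Pushing up with a dihedral quotient: a subgroup `H` with normal `2`-subgroup `Q` of index two in
`P`, and an automorphism of `P` moving `Q` and fixing no nontrivial normal subgroup of `H`.
-/

set_option autoImplicit false
set_option linter.unusedSectionVars false

namespace CfsgLib.PLocal.DihPush

open Subgroup

variable {G : Type*} [Group G]

/-- The conjugate of a subgroup. -/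
def cj (g : G) (X : Subgroup G) : Subgroup G := X.map (MulAut.conj g).toMonoidHom

theorem mem_cj {g x : G} {X : Subgroup G} : x ∈ cj g X ↔ g⁻¹ * x * g ∈ X := by
  constructor
  · rintro ⟨w, hw, rfl⟩
    simpa [mul_assoc] using hw
  · intro h
    exact ⟨_, h, by simp [mul_assoc]⟩

theorem conj_mem_cj {g x : G} {X : Subgroup G} (h : x ∈ X) : g * x * g⁻¹ ∈ cj g X :=
  mem_cj.2 (by simpa [mul_assoc] using h)

theorem cj_one (X : Subgroup G) : cj 1 X = X := by ext x; simp [mem_cj]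

theorem cj_mul (a b : G) (X : Subgroup G) : cj (a * b) X = cj a (cj b X) := by
  ext x; simp [mem_cj, mul_assoc]

theorem cj_mono {g : G} {X Y : Subgroup G} (h : X ≤ Y) : cj g X ≤ cj g Y := map_mono h

theorem cj_le_iff {g : G} {X Y : Subgroup G} : cj g X ≤ cj g Y ↔ X ≤ Y :=
  map_le_map_iff_of_injective (MulAut.conj g).injective

theorem cj_sup (g : G) (X Y : Subgroup G) : cj g (X ⊔ Y) = cj g X ⊔ cj g Y := map_sup X Y _

theorem cj_inf (g : G) (X Y : Subgroup G) : cj g (X ⊓ Y) = cj g X ⊓ cj g Y :=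
  map_inf X Y _ (MulAut.conj g).injective

theorem cj_eq_of_mem {g : G} {X : Subgroup G} (h : g ∈ normalizer (X : Set G)) : cj g X = X := by
  ext x
  rw [mem_cj]
  exact ((mem_normalizer_iff'.1 h) (g⁻¹ * x)).trans (by rw [mul_inv_cancel_left])

theorem le_normalizer_cj {g : G} {X Y : Subgroup G} (h : Y ≤ normalizer (X : Set G)) :
    cj g Y ≤ normalizer (cj g X : Set G) := by
  intro y hy
  have h1 := mem_normalizer_iff.1 (h (mem_cj.1 hy))
  refine mem_normalizer_iff.2 fun x => ?_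
  rw [mem_cj, mem_cj]
  refine (h1 _).trans ?_
  rw [show g⁻¹ * y * g * (g⁻¹ * x * g) * (g⁻¹ * y * g)⁻¹ = g⁻¹ * (y * x * y⁻¹) * g by group]

theorem le_normalizer_sup {X Y S : Subgroup G} (hX : S ≤ normalizer (X : Set G))
    (hY : S ≤ normalizer (Y : Set G)) : S ≤ normalizer ((X ⊔ Y : Subgroup G) : Set G) := by
  intro s hs
  refine mem_normalizer_iff.2 fun x => ?_
  have h1 : cj s (X ⊔ Y) = X ⊔ Y := by rw [cj_sup, cj_eq_of_mem (hX hs), cj_eq_of_mem (hY hs)]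
  exact ⟨fun hx => h1.le (conj_mem_cj hx), fun hx => by
    have := mem_cj.1 (h1.ge hx)
    simpa [mul_assoc] using this⟩

theorem le_normalizer_inf {X Y S : Subgroup G} (hX : S ≤ normalizer (X : Set G))
    (hY : S ≤ normalizer (Y : Set G)) : S ≤ normalizer ((X ⊓ Y : Subgroup G) : Set G) := by
  intro s hs
  refine mem_normalizer_iff.2 fun x => ?_
  simp only [mem_inf]
  exact and_congr (mem_normalizer_iff.1 (hX hs) x) (mem_normalizer_iff.1 (hY hs) x)

/-- The setting. -/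
structure Setup (G : Type*) [Group G] (H P Q : Subgroup G) (y c : G) : Prop where
  QP : Q ≤ P
  PH : P ≤ H
  Qn : H ≤ normalizer (Q : Set G)
  P2 : IsPGroup 2 P
  Qne : Q ≠ ⊥
  two : ∀ a ∈ P, ∀ b ∈ P, a ∉ Q → b ∉ Q → a * b ∈ Q
  Py : cj y P = P
  y2 : y * y ∈ P ⊔ centralizer (P : Set G)
  cH : c ∈ H
  gen : H ≤ P ⊔ cj c P
  gen2 : ∀ t ∈ P, t ∉ Q → H ≤ cj c P ⊔ cj (t * c * t⁻¹) P
  bad : ∀ X : Subgroup G, X ≤ P → H ≤ normalizer (X : Set G) → cj y X = X → X = ⊥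

/-- The involutions in the centre of `P`. -/
def Zs (P : Subgroup G) : Subgroup G where
  carrier := {x | x ∈ P ∧ x * x = 1 ∧ ∀ p ∈ P, x * p = p * x}
  one_mem' := ⟨one_mem P, one_mul 1, fun p _ => by simp⟩
  mul_mem' := fun {a b} ha hb => ⟨mul_mem ha.1 hb.1, by
      rw [mul_assoc, ← mul_assoc b a b, ← ha.2.2 b hb.1, mul_assoc, hb.2.1, mul_one, ha.2.1],
    fun p hp => by rw [mul_assoc, hb.2.2 p hp, ← mul_assoc, ha.2.2 p hp, mul_assoc]⟩
  inv_mem' := fun {a} ha => by rw [inv_eq_of_mul_eq_one_left ha.2.1]; exact ha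

theorem mem_Zs {P : Subgroup G} {x : G} :
    x ∈ Zs P ↔ x ∈ P ∧ x * x = 1 ∧ ∀ p ∈ P, x * p = p * x := Iff.rfl

variable {H P Q : Subgroup G} {y c : G}

/-- The normal closure in `H` of the central involutions of `P`. -/
def Vs (H P : Subgroup G) : Subgroup G := closure {x | ∃ h ∈ H, ∃ w ∈ Zs P, x = h * w * h⁻¹}

variable (S : Setup G H P Q y c)
include S

namespace Setup

theorem P_norm : P ≤ normalizer (Q : Set G) := S.PH.trans S.Qn

theorem cj_H_Q {h : G} (h' : h ∈ H) : cj h Q = Q := cj_eq_of_mem (S.Qn h')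

theorem y2_norm {X : Subgroup G} (hX : X ≤ P) (hn : P ≤ normalizer (X : Set G)) :
    cj y (cj y X) = X := by
  have h : P ⊔ centralizer (P : Set G) ≤ normalizer (X : Set G) :=
    sup_le hn ((centralizer_le hX).trans (centralizer_le_normalizer _))
  rw [← cj_mul, cj_eq_of_mem (h S.y2)]

theorem y2_comm {x : G} (hxP : x ∈ P) (hx : ∀ p ∈ P, x * p = p * x) :
    y * (y * x * y⁻¹) * y⁻¹ = x := by
  have h : P ⊔ centralizer (P : Set G) ≤ centralizer ({x} : Set G) :=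
    sup_le (fun p hp => mem_centralizer_singleton_iff.2 (hx p hp).symm)
      (fun p hp => mem_centralizer_singleton_iff.2 (hp x hxP).symm)
  have h' := mem_centralizer_singleton_iff.1 (h S.y2)
  calc y * (y * x * y⁻¹) * y⁻¹ = (y * y) * x * (y * y)⁻¹ := by group
    _ = x := by rw [h', mul_inv_cancel_right]

theorem P_norm_cj {X : Subgroup G} (hn : P ≤ normalizer (X : Set G)) :
    P ≤ normalizer (cj y X : Set G) := by
  have := le_normalizer_cj (g := y) hn
  rwa [S.Py] at this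

theorem cj_y_le {X : Subgroup G} (hX : X ≤ P) : cj y X ≤ P := (cj_mono hX).trans S.Py.le

theorem inv_y {X : Subgroup G} (hX : X ≤ P) (hn : P ≤ normalizer (X : Set G)) :
    cj y⁻¹ X = cj y X := by
  conv_lhs => rw [← S.y2_norm hX hn]
  rw [← cj_mul, inv_mul_cancel, cj_one]

theorem inv_y_comm {x : G} (hxP : x ∈ P) (hx : ∀ p ∈ P, x * p = p * x) :
    y⁻¹ * x * y = y * x * y⁻¹ := by
  conv_lhs => rw [← S.y2_comm hxP hx]
  group

theorem norm_of_gen {X : Subgroup G} (h1 : P ≤ normalizer (X : Set G))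
    (h2 : cj c P ≤ normalizer (X : Set G)) : H ≤ normalizer (X : Set G) :=
  S.gen.trans (sup_le h1 h2)

theorem Qy_ne : cj y Q ≠ Q := fun h => S.Qne (S.bad Q S.QP S.Qn h)

theorem Qy_le : cj y Q ≤ P := S.cj_y_le S.QP

theorem exists_not_mem_Qy : ∃ q ∈ Q, q ∉ cj y Q := by
  by_contra h
  push_neg at h
  have h1 : Q ≤ cj y Q := h
  have h2 : cj y Q ≤ Q := by
    conv_rhs => rw [← S.y2_norm S.QP S.P_norm]
    exact cj_mono h1
  exact S.Qy_ne (le_antisymm h2 h1)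

theorem exists_outer : ∃ t ∈ cj y Q, t ∉ Q := by
  obtain ⟨q, hq, hq'⟩ := S.exists_not_mem_Qy
  refine ⟨y * q * y⁻¹, conj_mem_cj hq, fun h => hq' ?_⟩
  rw [← S.inv_y S.QP S.P_norm]
  exact mem_cj.2 (by simpa using h)

theorem two' {a b : G} (ha : a ∈ P) (hb : b ∈ P) (ha' : a ∉ cj y Q) (hb' : b ∉ cj y Q) :
    a * b ∈ cj y Q := by
  have hP : ∀ {a}, a ∈ P → y⁻¹ * a * y ∈ P := fun {a} h => mem_cj.1 (S.Py.ge h)
  have := S.two _ (hP ha) _ (hP hb) (fun h => ha' (mem_cj.2 h)) (fun h => hb' (mem_cj.2 h))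
  exact mem_cj.2 (by rwa [show y⁻¹ * a * y * (y⁻¹ * b * y) = y⁻¹ * (a * b) * y by group] at this)

/-- `P` is generated by `Q` and any element outside it. -/
theorem le_of_outer {X : Subgroup G} (hQ : Q ≤ X) {t : G} (ht : t ∈ P) (htQ : t ∉ Q)
    (htX : t ∈ X) : P ≤ X := by
  intro p hp
  by_cases hpQ : p ∈ Q
  · exact hQ hpQ
  · exact (mul_mem_cancel_right htX).1 (hQ (S.two p hp t ht hpQ htQ))

theorem cjc_le_of_outer {X : Subgroup G} (hQ : Q ≤ X) {t : G} (ht : t ∈ P) (htQ : t ∉ Q)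
    (htX : c * t * c⁻¹ ∈ X) : cj c P ≤ X := by
  intro p hp
  rw [mem_cj] at hp
  by_cases hpQ : c⁻¹ * p * c ∈ Q
  · have := hQ ((cj_eq_of_mem (S.Qn S.cH)).le (conj_mem_cj (g := c) hpQ))
    simpa [mul_assoc] using this
  · have := hQ ((cj_eq_of_mem (S.Qn S.cH)).le (conj_mem_cj (g := c) (S.two _ hp t ht hpQ htQ)))
    exact (mul_mem_cancel_right htX).1 (by
      rwa [show c * (c⁻¹ * p * c * t) * c⁻¹ = p * (c * t * c⁻¹) by group] at this)

theorem Zs_y {x : G} (hx : x ∈ Zs P) : y * x * y⁻¹ ∈ Zs P := by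
  refine ⟨S.Py.le (conj_mem_cj hx.1), ?_, fun p hp => ?_⟩
  · rw [show y * x * y⁻¹ * (y * x * y⁻¹) = y * (x * x) * y⁻¹ by group, hx.2.1]
    group
  · have := hx.2.2 _ (mem_cj.1 (S.Py.ge hp))
    calc y * x * y⁻¹ * p = y * (x * (y⁻¹ * p * y)) * y⁻¹ := by group
      _ = y * ((y⁻¹ * p * y) * x) * y⁻¹ := by rw [this]
      _ = p * (y * x * y⁻¹) := by group

theorem Vs_mem {h w : G} (hh : h ∈ H) (hw : w ∈ Zs P) : h * w * h⁻¹ ∈ Vs H P :=
  subset_closure ⟨h, hh, w, hw, rfl⟩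

theorem Zs_le_Vs : Zs P ≤ Vs H P := fun w hw => by
  simpa using S.Vs_mem (one_mem H) hw

theorem Vs_norm : H ≤ normalizer (Vs H P : Set G) := by
  have h : ∀ g ∈ H, ∀ x ∈ Vs H P, g * x * g⁻¹ ∈ Vs H P := by
    intro g hg x hx
    induction hx using closure_induction with
    | mem x hx =>
      obtain ⟨h, hh, w, hw, rfl⟩ := hx
      rw [show g * (h * w * h⁻¹) * g⁻¹ = g * h * w * (g * h)⁻¹ by group]
      exact S.Vs_mem (mul_mem hg hh) hw
    | one => simpa using one_mem _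
    | mul a b _ _ ha hb =>
      rw [show g * (a * b) * g⁻¹ = (g * a * g⁻¹) * (g * b * g⁻¹) by group]
      exact mul_mem ha hb
    | inv a _ ha =>
      rw [show g * a⁻¹ * g⁻¹ = (g * a * g⁻¹)⁻¹ by group]
      exact inv_mem ha
  intro g hg
  refine mem_normalizer_iff.2 fun x => ⟨h g hg x, fun hx => ?_⟩
  have := h g⁻¹ (inv_mem hg) _ hx
  rwa [inv_inv, show g⁻¹ * (g * x * g⁻¹) * g = x by group] at this

theorem Vs_le_Q (hZ : Zs P ≤ Q) : Vs H P ≤ Q := by
  refine (closure_le _).2 ?_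
  rintro _ ⟨h, hh, w, hw, rfl⟩
  exact (S.cj_H_Q hh).le (conj_mem_cj (hZ hw))

theorem Vs_central {v : G} (hv : v ∈ Vs H P) {q : G} (hq : q ∈ Q) : v * q = q * v := by
  have h : Vs H P ≤ centralizer (Q : Set G) := by
    refine (closure_le _).2 ?_
    rintro _ ⟨h, hh, w, hw, rfl⟩ q hq
    have h1 := hw.2.2 _ (S.QP (mem_cj.1 ((S.cj_H_Q hh).ge hq)))
    calc q * (h * w * h⁻¹) = h * ((h⁻¹ * q * h) * w) * h⁻¹ := by group
      _ = h * (w * (h⁻¹ * q * h)) * h⁻¹ := by rw [h1]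
      _ = h * w * h⁻¹ * q := by group
  exact (h hv q hq).symm

theorem Vs_comm (hZ : Zs P ≤ Q) {v w : G} (hv : v ∈ Vs H P) (hw : w ∈ Vs H P) :
    v * w = w * v := S.Vs_central hv (S.Vs_le_Q hZ hw)

theorem Vs_sq (hZ : Zs P ≤ Q) {v : G} (hv : v ∈ Vs H P) : v * v = 1 := by
  induction hv using closure_induction with
  | mem x hx =>
    obtain ⟨h, hh, w, hw, rfl⟩ := hx
    rw [show h * w * h⁻¹ * (h * w * h⁻¹) = h * (w * w) * h⁻¹ by group, hw.2.1]
    group
  | one => exact one_mul 1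
  | mul a b ha hb ha' hb' =>
    rw [mul_assoc, ← mul_assoc b a b, ← S.Vs_comm hZ ha hb, mul_assoc, hb', mul_one, ha']
  | inv a _ ha' => rw [← mul_inv_rev, ha', inv_one]

theorem Zs_ne [Finite G] : Zs P ≠ ⊥ := by
  obtain ⟨q, hq, hq1⟩ : ∃ q ∈ Q, q ≠ 1 := by
    by_contra h
    push_neg at h
    exact S.Qne ((eq_bot_iff_forall Q).2 h)
  haveI : Nontrivial P := ⟨⟨⟨q, S.QP hq⟩, 1, fun e => hq1 (congrArg Subtype.val e)⟩⟩
  haveI := S.P2.center_nontrivial
  obtain ⟨k, hk0, hk⟩ := (S.P2.to_subgroup (center P)).nontrivial_iff_card.1 inferInstance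
  obtain ⟨x, hx⟩ := exists_prime_orderOf_dvd_card' (G := center P) 2
    (by rw [hk]; exact dvd_pow_self 2 (by omega))
  have h1 := pow_orderOf_eq_one x
  rw [hx] at h1
  have h2 : ((x : P) : G) * ((x : P) : G) = 1 := by
    rw [← sq]
    exact congrArg (fun z : center P => ((z : P) : G)) h1
  intro e
  have h3 : ((x : P) : G) ∈ Zs P := ⟨(x : P).2, h2, fun p hp =>
    (congrArg Subtype.val (mem_center_iff.1 x.2 ⟨p, hp⟩)).symm⟩
  rw [e, mem_bot] at h3
  have : x = 1 := Subtype.ext (Subtype.ext h3)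
  rw [this, orderOf_one] at hx
  norm_num at hx

/-- If some central involution of `P` lies outside `Q`, then `|Q| = 2`. -/
theorem inf_eq_bot_of_central {z : G} (hz : z ∈ Zs P) (hzQ : z ∉ Q) : Q ⊓ cj y Q = ⊥ := by
  have hn1 : P ≤ normalizer ((Q ⊓ cj y Q : Subgroup G) : Set G) :=
    le_normalizer_inf S.P_norm (S.P_norm_cj S.P_norm)
  refine S.bad _ (inf_le_left.trans S.QP) (S.norm_of_gen hn1 ?_) ?_
  · refine S.cjc_le_of_outer (S.QP.trans hn1) hz.1 hzQ ?_
    refine centralizer_le_normalizer _ fun q hq => ?_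
    have hq' : c⁻¹ * q * c ∈ P := S.QP (mem_cj.1 ((S.cj_H_Q S.cH).ge hq.1))
    calc q * (c * z * c⁻¹) = c * ((c⁻¹ * q * c) * z) * c⁻¹ := by group
      _ = c * (z * (c⁻¹ * q * c)) * c⁻¹ := by rw [hz.2.2 _ hq']
      _ = c * z * c⁻¹ * q := by group
  · rw [cj_inf, S.y2_norm S.QP S.P_norm, inf_comm]

end Setup

end CfsgLib.PLocal.DihPush
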