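import Cfsg.Agent.Lib.PLocal.DihPushOne

/-!
The structure of the kernel `Q` in a dihedral pushing-up pair: order at most eight.
-/

set_option autoImplicit false
set_option linter.unusedSectionVars false

namespace CfsgLib.PLocal.DihPush

open Subgroup
open scoped commutatorElement

variable {G : Type*} [Group G]

theorem card_le_two_mul [Finite G] {A B : Subgroup G} (hAB : A ≤ B)
    (h : ∀ a ∈ B, ∀ b ∈ B, a ∉ A → b ∉ A → a * b ∈ A) : Nat.card B ≤ 2 * Nat.card A := by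
  classical
  by_cases hBA : B ≤ A
  · rw [le_antisymm hBA hAB]; omega
  obtain ⟨b, hb, hbA⟩ := SetLike.not_le_iff_exists.1 hBA
  let f : B → Bool × A := fun a =>
    if ha : (a : G) ∈ A then (false, ⟨a, ha⟩) else (true, ⟨a * b, h a a.2 b hb ha hbA⟩)
  have hf : Function.Injective f := by
    intro x x' hxx
    simp only [f] at hxx
    split at hxx <;> split at hxx <;>
      simp only [Prod.mk.injEq, Subtype.mk.injEq, Bool.false_eq_true, Bool.true_eq_false,
        false_and, true_and, mul_left_inj] at hxx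
    · exact Subtype.ext hxx
    · exact Subtype.ext hxx
  have := Nat.card_le_card_of_injective f hf
  rwa [Nat.card_prod, Nat.card_eq_fintype_card (α := Bool), Fintype.card_bool] at this

theorem card_le_two [Finite G] {A : Subgroup G}
    (h : ∀ a ∈ A, ∀ b ∈ A, a ≠ 1 → b ≠ 1 → a * b = 1) : Nat.card A ≤ 2 := by
  have := card_le_two_mul (A := (⊥ : Subgroup G)) (B := A) bot_le fun a ha b hb ha' hb' =>
    mem_bot.2 (h a ha b hb (fun e => ha' (mem_bot.2 e)) (fun e => hb' (mem_bot.2 e)))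
  rwa [card_bot, mul_one] at this

variable {H P Q : Subgroup G} {y c : G}
variable (S : Setup G H P Q y c)
include S

namespace Setup

theorem card_Q_central [Finite G] {z : G} (hz : z ∈ Zs P) (hzQ : z ∉ Q) : Nat.card Q = 2 := by
  have h0 := S.inf_eq_bot_of_central hz hzQ
  have h1 : Nat.card Q ≤ 2 := card_le_two fun a ha b hb ha' hb' => by
    have : a * b ∈ Q ⊓ cj y Q := mem_inf.2 ⟨mul_mem ha hb,
      S.two' (S.QP ha) (S.QP hb) (fun h => ha' (mem_bot.1 (h0.le (mem_inf.2 ⟨ha, h⟩))))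
        fun h => hb' (mem_bot.1 (h0.le (mem_inf.2 ⟨hb, h⟩)))⟩
    exact mem_bot.1 (h0.le this)
  have h2 : Nat.card Q ≠ 1 := fun h => S.Qne (Subgroup.eq_bot_of_card_eq _ h)
  have h3 : 0 < Nat.card Q := Nat.card_pos
  omega

theorem Qy_norm : P ≤ normalizer (cj y Q : Set G) := S.P_norm_cj S.P_norm

/-- What remains when every central involution lies in `Q`. -/
theorem bound [Finite G] (hZ : Zs P ≤ Q) :
    ∃ (t k k' : G) (W Q₁ : Subgroup G),
      t ∈ P ∧ t ∉ Q ∧ t * t = 1 ∧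
      (∀ a ∈ Q, ∀ b ∈ Q, a * b = b * a) ∧ (∀ a ∈ Q, a * a = 1) ∧
      W ⊔ Q₁ = Q ∧ Disjoint W Q₁ ∧ H ≤ normalizer (W : Set G) ∧
      Nat.card W = 4 ∧ Nat.card Q₁ ≤ 2 ∧ (∀ a ∈ Q₁, ∀ h ∈ H, h * a = a * h) ∧
      W = closure {k, k'} ∧ (∀ w ∈ W, w = 1 ∨ w = k ∨ w = k' ∨ w = k * k') ∧
      k ≠ 1 ∧ k' ≠ 1 ∧ k ≠ k' ∧
      t * k * t⁻¹ = k ∧ t * k' * t⁻¹ = k * k' ∧
      c * t * c⁻¹ * k * (c * t * c⁻¹)⁻¹ = k * k' ∧
      c * t * c⁻¹ * k' * (c * t * c⁻¹)⁻¹ = k' := by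
  obtain ⟨k, hkZ, hk1, hk⟩ := S.exists_k hZ
  have hkS : KSpec H P Q k := ⟨hkZ, hk1, hk⟩
  obtain ⟨b, hb1, hb, p₀, hp₀⟩ := S.exists_crit hZ
  have hbe := S.b_eq_one hZ hkS hb1 hb ⟨p₀, hp₀⟩
  subst hbe
  obtain ⟨p, hp, h0, he⟩ := S.exists_norm_crit hZ le_rfl hp₀
  have hnle : ¬ Vs H P ≤ cj y Q := by
    have := hp.2
    rwa [h0, cj_one, S.Qv_right he, cj_one] at this
  obtain ⟨v, hv, hvy⟩ := SetLike.not_le_iff_exists.1 hnle
  have hvQ := S.Vs_le_Q hZ hv
  obtain ⟨t, rfl⟩ : ∃ t, t = y * v * y⁻¹ := ⟨_, rfl⟩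
  have htP : y * v * y⁻¹ ∈ P := S.Py.le (conj_mem_cj (S.QP hvQ))
  have htQ : y * v * y⁻¹ ∉ Q := by
    intro h
    refine hvy ?_
    rw [← S.inv_y S.QP S.P_norm]
    exact mem_cj.2 (by rwa [inv_inv])
  have htt : y * v * y⁻¹ * (y * v * y⁻¹) = 1 := by
    rw [show y * v * y⁻¹ * (y * v * y⁻¹) = y * (v * v) * y⁻¹ by group, S.Vs_sq hZ hv]
    group
  have htc : ∀ q ∈ cj y Q, y * v * y⁻¹ * q = q * (y * v * y⁻¹) := fun q hq => by
    have := S.Vs_central hv (mem_cj.1 hq)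
    calc y * v * y⁻¹ * q = y * (v * (y⁻¹ * q * y)) * y⁻¹ := by group
      _ = y * (y⁻¹ * q * y * v) * y⁻¹ := by rw [this]
      _ = q * (y * v * y⁻¹) := by group
  let Q₀ : Subgroup G := Q ⊓ cj y Q
  have hQ₀y : cj y Q₀ = Q₀ := by
    rw [cj_inf, S.y2_norm S.QP S.P_norm, inf_comm]
  have hdec : ∀ a ∈ Q, a ∈ Q₀ ∨ a * v ∈ Q₀ := fun a ha => by
    by_cases h : a ∈ cj y Q
    · exact Or.inl (mem_inf.2 ⟨ha, h⟩)
    · exact Or.inr (mem_inf.2 ⟨mul_mem ha hvQ, S.two' (S.QP ha) (S.QP hvQ) h hvy⟩)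
  -- `Q` is abelian
  have habel : ∀ a ∈ Q, ∀ b ∈ Q, a * b = b * a := by
    have hshift : ∀ a ∈ Q, ∀ b ∈ Q, ⁅a * v, b⁆ = ⁅a, b⁆ := fun a ha b hb => by
      have := S.Vs_central hv hb
      rw [commutatorElement_def, commutatorElement_def, mul_assoc a v b, this, ← mul_assoc,
        mul_inv_rev, mul_assoc (a * b) v, mul_inv_cancel_left]
    have hshift' : ∀ a ∈ Q, ∀ b ∈ Q, ⁅a, b * v⁆ = ⁅a, b⁆ := fun a ha b hb => by
      rw [← commutatorElement_inv, hshift b hb a ha, commutatorElement_inv]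
    have hle : ⁅Q, Q⁆ ≤ ⁅Q₀, Q₀⁆ := by
      refine commutator_le.2 fun a ha b hb => ?_
      obtain ⟨a', ha', e1⟩ : ∃ a' ∈ Q₀, ⁅a, b⁆ = ⁅a', b⁆ :=
        (hdec a ha).elim (fun h => ⟨a, h, rfl⟩) fun h => ⟨_, h, (hshift a ha b hb).symm⟩
      obtain ⟨b', hb', e2⟩ : ∃ b' ∈ Q₀, ⁅a', b⁆ = ⁅a', b'⁆ :=
        (hdec b hb).elim (fun h => ⟨b, h, rfl⟩)
          fun h => ⟨_, h, (hshift' a' ha'.1 b hb).symm⟩
      rw [e1, e2]
      exact commutator_mem_commutator ha' hb'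
    have heq : ⁅Q, Q⁆ = ⁅Q₀, Q₀⁆ :=
      le_antisymm hle (commutator_mono inf_le_left inf_le_left)
    have hX : ⁅Q₀, Q₀⁆ = ⊥ := by
      refine S.bad _ (((commutator_mono inf_le_left inf_le_left).trans
        (commutator_le_self Q)).trans S.QP) ?_ ?_
      · rw [← heq]
        intro h hh
        refine mem_normalizer_iff.2 fun x => ?_
        have h1 : cj h ⁅Q, Q⁆ = ⁅Q, Q⁆ := by
          rw [cj, map_commutator]
          change ⁅cj h Q, cj h Q⁆ = _
          rw [S.cj_H_Q hh]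
        exact ⟨fun hx => h1.le (conj_mem_cj hx), fun hx => by
          simpa [mul_assoc] using mem_cj.1 (h1.ge hx)⟩
      · rw [cj, map_commutator]
        change ⁅cj y Q₀, cj y Q₀⁆ = _
        rw [hQ₀y]
    intro a ha b hb
    exact commutatorElement_eq_one_iff_mul_comm.1
      (mem_bot.1 ((heq.le.trans hX.le) (commutator_mem_commutator ha hb)))
  let Q₁ : Subgroup G := Q₀ ⊓ cj c Q₀
  have hQ₁c : ∀ a ∈ Q₁, ∀ h ∈ H, h * a = a * h := by
    intro a ha h hh
    obtain ⟨ha0, hac⟩ := mem_inf.1 ha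
    have h1 : P ≤ centralizer ({a} : Set G) :=
      S.le_of_outer (fun q hq => mem_centralizer_singleton_iff.2 (habel q hq a ha0.1)) htP htQ
        (mem_centralizer_singleton_iff.2 (htc a ha0.2))
    have h2 : cj c P ≤ centralizer ({a} : Set G) := by
      refine S.cjc_le_of_outer
        (fun q hq => mem_centralizer_singleton_iff.2 (habel q hq a ha0.1)) htP htQ
        (mem_centralizer_singleton_iff.2 ?_)
      have := htc _ (mem_cj.1 hac).2
      generalize y * v * y⁻¹ = s at this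
      calc c * s * c⁻¹ * a = c * (s * (c⁻¹ * a * c)) * c⁻¹ := by group
        _ = c * (c⁻¹ * a * c * s) * c⁻¹ := by rw [this]
        _ = a * (c * s * c⁻¹) := by group
    exact mem_centralizer_singleton_iff.1 (S.gen.trans (sup_le h1 h2) hh)
  have hQ₁P : Q₁ ≤ P := (inf_le_left.trans inf_le_left).trans S.QP
  have hQ₁b : Q₁ ⊓ cj y Q₁ = ⊥ := by
    refine S.bad _ (inf_le_left.trans hQ₁P) ?_ ?_
    · intro h hh
      exact centralizer_le_normalizer _ fun a ha => (hQ₁c a (mem_inf.1 ha).1 h hh).symm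
    · rw [cj_inf, S.y2_norm hQ₁P (fun p hp => centralizer_le_normalizer _ fun a ha =>
        (hQ₁c a ha p (S.PH hp)).symm), inf_comm]
  have hidx : ∀ a ∈ Q₀, ∀ b ∈ Q₀, a ∉ Q₁ → b ∉ Q₁ → a * b ∈ Q₁ := by
    intro a ha b hb ha' hb'
    refine mem_inf.2 ⟨mul_mem ha hb, mem_cj.2 ?_⟩
    have hm : ∀ {a}, a ∈ Q₀ → c⁻¹ * a * c ∈ Q := fun {a} h => mem_cj.1 ((S.cj_H_Q S.cH).ge h.1)
    have hn : ∀ {a}, a ∈ Q₀ → a ∉ Q₁ → c⁻¹ * a * c ∉ cj y Q := fun {a} h h' e =>
      h' (mem_inf.2 ⟨h, mem_cj.2 (mem_inf.2 ⟨hm h, e⟩)⟩)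
    rw [show c⁻¹ * (a * b) * c = c⁻¹ * a * c * (c⁻¹ * b * c) by group]
    exact mem_inf.2 ⟨mul_mem (hm ha) (hm hb),
      S.two' (S.QP (hm ha)) (S.QP (hm hb)) (hn ha ha') (hn hb hb')⟩
  have hQ₁2 : Nat.card Q₁ ≤ 2 := by
    refine card_le_two fun a ha b hb ha' hb' => ?_
    have hm : ∀ {a}, a ∈ Q₁ → a ≠ 1 → y * a * y⁻¹ ∈ Q₀ ∧ y * a * y⁻¹ ∉ Q₁ := fun {a} h h' =>
      ⟨hQ₀y.le (conj_mem_cj (mem_inf.1 h).1), fun e => h' (by
        have h3 := hQ₁b.le (mem_inf.2 ⟨e, conj_mem_cj h⟩)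
        rw [mem_bot] at h3
        calc a = y⁻¹ * (y * a * y⁻¹) * y := by group
          _ = 1 := by rw [h3]; group)⟩
    have h3 := hidx _ (hm ha ha').1 _ (hm hb hb').1 (hm ha ha').2 (hm hb hb').2
    rw [show y * a * y⁻¹ * (y * b * y⁻¹) = y * (a * b) * y⁻¹ by group] at h3
    have h4 := hQ₁b.le (mem_inf.2 ⟨h3, conj_mem_cj (mul_mem ha hb)⟩)
    rw [mem_bot] at h4
    calc a * b = y⁻¹ * (y * (a * b) * y⁻¹) * y := by group
      _ = 1 := by rw [h4]; group
  have hcard : Nat.card Q ≤ 4 * Nat.card Q₁ := by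
    have h1 : Nat.card Q ≤ 2 * Nat.card Q₀ := card_le_two_mul inf_le_left
      fun a ha b hb ha' hb' => mem_inf.2 ⟨mul_mem ha hb, S.two' (S.QP ha) (S.QP hb)
        (fun e => ha' (mem_inf.2 ⟨ha, e⟩)) (fun e => hb' (mem_inf.2 ⟨hb, e⟩))⟩
    have h2 : Nat.card Q₀ ≤ 2 * Nat.card Q₁ := card_le_two_mul inf_le_left hidx
    omega
  -- the commutator is not centralized by `H`
  have hkF : k ∉ Zs P ⊓ cj c (Zs P) := by
    intro hF
    have hck : c * k * c⁻¹ = k := S.F_conj hF S.cH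
    have hconj : ∀ p ∈ cj c P, ∀ a ∈ Zs P, p * a * p⁻¹ ∈ Zs P := fun p hp a ha => by
      have haV : c⁻¹ * a * c ∈ Vs H P := by
        have := S.Vs_mem (inv_mem S.cH) ha
        rwa [inv_inv] at this
      rcases S.k_or hZ hkS (mem_cj.1 hp) haV with h | h
      · have : p * a * p⁻¹ = a := by
          calc p * a * p⁻¹ =
              c * (c⁻¹ * p * c * (c⁻¹ * a * c) * (c⁻¹ * p * c)⁻¹) * c⁻¹ := by group
            _ = a := by rw [h]; group
        rwa [this]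
      · have : p * a * p⁻¹ = a * (c * k * c⁻¹) := by
          calc p * a * p⁻¹ =
              c * (c⁻¹ * p * c * (c⁻¹ * a * c) * (c⁻¹ * p * c)⁻¹) * c⁻¹ := by group
            _ = a * (c * k * c⁻¹) := by rw [h]; group
        rw [this, hck]
        exact mul_mem ha hkZ
    have hn : ∀ (X : Subgroup G), (∀ p ∈ X, ∀ a ∈ Zs P, p * a * p⁻¹ ∈ Zs P) →
        X ≤ normalizer (Zs P : Set G) := by
      intro X hX p hp
      refine mem_normalizer_iff.2 fun a => ⟨hX p hp a, fun h => ?_⟩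
      have := hX p⁻¹ (inv_mem hp) _ h
      rwa [inv_inv, show p⁻¹ * (p * a * p⁻¹) * p = a by group] at this
    have hH := S.norm_of_gen (hn P fun p hp a ha => by
      rwa [← ha.2.2 p hp, mul_inv_cancel_right]) (hn _ hconj)
    have hVZ : Vs H P ≤ Zs P := by
      refine (closure_le _).2 ?_
      rintro _ ⟨h, hh, w, hw, rfl⟩
      exact (mem_normalizer_iff.1 (hH hh) w).1 hw
    obtain ⟨w, hw, hne⟩ := S.outer_moves hZ htP htQ
    exact hne ((hVZ hw).2.2 _ htP).symm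
  obtain ⟨k', hk'⟩ : ∃ k', k' = c * k * c⁻¹ := ⟨_, rfl⟩
  have hk'V : k' ∈ Vs H P := hk' ▸ S.Vs_mem S.cH hkZ
  have hkV := S.Zs_le_Vs hkZ
  have hk'Z : k' ∉ Zs P := fun h => by
    have hF : k' ∈ Zs P ⊓ cj c (Zs P) := mem_inf.2 ⟨h, hk' ▸ conj_mem_cj hkZ⟩
    have h2 := S.F_conj hF (inv_mem S.cH)
    rw [inv_inv, hk', show c⁻¹ * (c * k * c⁻¹) * c = k by group] at h2
    exact hkF (by rw [h2, ← hk']; exact hF)
  have hckV : c⁻¹ * k * c ∈ Vs H P := by
    have := S.Vs_mem (inv_mem S.cH) hkZ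
    rwa [inv_inv] at this
  have hck : c⁻¹ * k * c ∉ Zs P := fun h =>
    hkF (mem_inf.2 ⟨hkZ, mem_cj.2 h⟩)
  have hkk : k * k = 1 := hkZ.2.1
  have hk'k' : k' * k' = 1 := S.Vs_sq hZ hk'V
  have hcomm : k * k' = k' * k := S.Vs_comm hZ hkV hk'V
  have hne : k ≠ k' := fun e => hk'Z (e ▸ hkZ)
  have hne1 : k' ≠ 1 := fun e => hk'Z (e ▸ one_mem _)
  let W : Subgroup G :=
    { carrier := {w | w = 1 ∨ w = k ∨ w = k' ∨ w = k * k'}
      one_mem' := Or.inl rfl
      mul_mem' := fun {a b} ha hb => by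
        simp only [Set.mem_ofPred_eq] at ha hb ⊢
        have e1 : k * (k * k') = k' := by rw [← mul_assoc, hkk, one_mul]
        have e2 : k * k' * k = k' := by rw [hcomm, mul_assoc, hkk, mul_one]
        have e3 : k' * (k * k') = k := by rw [hcomm, ← mul_assoc, hk'k', one_mul]
        have e4 : k * k' * k' = k := by rw [mul_assoc, hk'k', mul_one]
        have e5 : k * k' * (k * k') = 1 := by rw [← mul_assoc, e2, hk'k']
        rcases ha with rfl | rfl | rfl | rfl <;> rcases hb with rfl | rfl | rfl | rfl <;>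
          simp [hkk, hk'k', hcomm.symm, e1, e2, e3, e4, e5]
      inv_mem' := fun {a} ha => by
        simp only [Set.mem_ofPred_eq] at ha ⊢
        rcases ha with rfl | rfl | rfl | rfl
        · simp
        · rw [inv_eq_of_mul_eq_one_left hkk]; simp
        · rw [inv_eq_of_mul_eq_one_left hk'k']; simp
        · rw [mul_inv_rev, inv_eq_of_mul_eq_one_left hkk, inv_eq_of_mul_eq_one_left hk'k',
            hcomm]
          simp }
  have hWV : W ≤ Vs H P := by
    rintro w (rfl | rfl | rfl | rfl)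
    exacts [one_mem _, hkV, hk'V, mul_mem hkV hk'V]
  have hWcl : W = closure {k, k'} := by
    refine le_antisymm ?_ ((closure_le _).2 ?_)
    · rintro w (rfl | rfl | rfl | rfl)
      exacts [one_mem _, subset_closure (Or.inl rfl), subset_closure (Or.inr rfl),
        mul_mem (subset_closure (Or.inl rfl)) (subset_closure (Or.inr rfl))]
    · rintro w (rfl | rfl)
      exacts [Or.inr (Or.inl rfl), Or.inr (Or.inr (Or.inl rfl))]
  have hWQ : W ≤ Q := hWV.trans (S.Vs_le_Q hZ)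
  have ht1 : y * v * y⁻¹ * k * (y * v * y⁻¹)⁻¹ = k := by
    rw [← hkZ.2.2 _ htP, mul_inv_cancel_right]
  have ht2 : y * v * y⁻¹ * k' * (y * v * y⁻¹)⁻¹ = k * k' := by
    rw [hk _ htP htQ _ hk'V hk'Z, hcomm]
  generalize y * v * y⁻¹ = t at htP htQ htt ht1 ht2
  have hs1 : c * t * c⁻¹ * k * (c * t * c⁻¹)⁻¹ = k * k' := by
    calc _ = c * (t * (c⁻¹ * k * c) * t⁻¹) * c⁻¹ := by group
      _ = k * (c * k * c⁻¹) := by rw [hk _ htP htQ _ hckV hck]; group
      _ = k * k' := by rw [hk']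
  have hs2 : c * t * c⁻¹ * k' * (c * t * c⁻¹)⁻¹ = k' := by
    calc _ = c * (t * k * t⁻¹) * c⁻¹ := by rw [hk']; group
      _ = k' := by rw [ht1, hk']
  have hWn : H ≤ normalizer (W : Set G) := by
    have hcl : ∀ x : G, x * k * x⁻¹ ∈ W → x * k' * x⁻¹ ∈ W → x ∈ normalizer (W : Set G) := by
      intro x h1 h2
      have hle : cj x W ≤ W := by
        rw [hWcl, cj, MonoidHom.map_closure]
        refine (closure_le _).2 ?_
        rintro _ ⟨w, rfl | rfl, rfl⟩
        · rw [← hWcl]; simpa using h1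
        · rw [← hWcl]; simpa using h2
      have heq := Subgroup.eq_of_le_of_card_ge hle
        (le_of_eq (card_map_of_injective (MulAut.conj _).injective).symm)
      exact mem_normalizer_iff.2 fun a => ⟨fun h => heq.le (conj_mem_cj h), fun h => by
        simpa [mul_assoc] using mem_cj.1 (heq.ge h)⟩
    have hq : Q ≤ normalizer (W : Set G) := fun q hq => centralizer_le_normalizer _
      fun w hw => S.Vs_central (hWV hw) hq
    refine S.norm_of_gen (S.le_of_outer hq htP htQ (hcl t ?_ ?_))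
      (S.cjc_le_of_outer hq htP htQ (hcl _ ?_ ?_))
    · rw [ht1]; exact Or.inr (Or.inl rfl)
    · rw [ht2]; exact Or.inr (Or.inr (Or.inr rfl))
    · rw [hs1]; exact Or.inr (Or.inr (Or.inr rfl))
    · rw [hs2]; exact Or.inr (Or.inr (Or.inl rfl))
  have hdis : Disjoint W Q₁ := by
    rw [disjoint_iff_inf_le]
    intro a ha
    obtain ⟨haW, ha1⟩ := mem_inf.1 ha
    have h := hQ₁c a ha1 t (S.PH htP)
    have hfix : t * a * t⁻¹ = a := by rw [h, mul_inv_cancel_right]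
    have h' := hQ₁c a ha1 c S.cH
    rw [mem_bot]
    rcases haW with rfl | rfl | rfl | rfl
    · rfl
    · refine absurd (mem_inf.2 ⟨hkZ, mem_cj.2 ?_⟩) hkF
      rw [mul_assoc, ← h', inv_mul_cancel_left]
      exact hkZ
    · rw [ht2] at hfix
      exact absurd (mul_eq_right.1 hfix) hk1
    · rw [← conj_mul, ht1, ht2, ← mul_assoc, hkk, one_mul] at hfix
      exact absurd (right_eq_mul.1 hfix) hk1
  have hWcard : Nat.card W = 4 := by
    have hset : (W : Set G) = ({1, k, k', k * k'} : Set G) := rfl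
    have : (W : Set G).ncard = 4 := by
      rw [hset, Set.ncard_insert_of_notMem, Set.ncard_insert_of_notMem, Set.ncard_pair]
      · exact fun e => hk1 (right_eq_mul.1 e)
      · rintro (e | e)
        exacts [hne e, hne1 (left_eq_mul.1 e)]
      · rintro (e | e | e)
        exacts [hk1 e.symm, hne1 e.symm, hne ((eq_inv_of_mul_eq_one_left e.symm).trans
          (inv_eq_of_mul_eq_one_left hk'k'))]
    rwa [← Nat.card_coe_set_eq] at this
  have hjoin : W ⊔ Q₁ = Q := by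
    refine Subgroup.eq_of_le_of_card_ge (sup_le hWQ (inf_le_left.trans inf_le_left)) ?_
    let f : W × Q₁ → ↥(W ⊔ Q₁) := fun a => ⟨a.1.1 * a.2.1, mul_mem (mem_sup_left a.1.2)
      (mem_sup_right a.2.2)⟩
    have hf : Function.Injective f := fun a a' e =>
      mul_injective_of_disjoint hdis (congrArg Subtype.val e)
    have := Nat.card_le_card_of_injective f hf
    rw [Nat.card_prod, hWcard] at this
    omega
  have hsq : ∀ a ∈ Q, a * a = 1 := by
    intro a ha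
    rw [← hjoin] at ha
    obtain ⟨w, hw, q, hq, rfl⟩ : ∃ w ∈ W, ∃ q ∈ Q₁, w * q = a := by
      rw [← SetLike.mem_coe, coe_mul_of_left_le_normalizer_right W Q₁ (fun w hw =>
        centralizer_le_normalizer _ fun q hq => (hQ₁c q hq w (S.PH (S.QP (hWQ hw)))).symm)] at ha
      exact ha
    have hq2 : q * q = 1 := by
      have h := pow_card_eq_one' (x := (⟨q, hq⟩ : Q₁))
      rcases (show Nat.card Q₁ = 1 ∨ Nat.card Q₁ = 2 by
        have : 0 < Nat.card Q₁ := Nat.card_pos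
        omega) with e | e <;> rw [e] at h
      · rw [pow_one] at h
        rw [show q = 1 from congrArg Subtype.val h, mul_one]
      · rw [sq] at h
        exact congrArg Subtype.val h
    rw [mul_assoc, ← mul_assoc q w q, ← hQ₁c q hq w (S.PH (S.QP (hWQ hw))), mul_assoc, hq2,
      mul_one, S.Vs_sq hZ (hWV hw)]
  exact ⟨t, k, k', W, Q₁, htP, htQ, htt, habel, hsq, hjoin, hdis, hWn, hWcard, hQ₁2, hQ₁c, hWcl,
    fun w hw => hw, hk1, hne1, hne, ht1, ht2, hs1, hs2⟩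

end Setup

end CfsgLib.PLocal.DihPush
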