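import Cfsg.Agent.Lib.PLocal.DihPushBasic

/-!
Walks in the coset graph of a dihedral pushing-up pair, and the transvection at a critical walk.
-/

set_option autoImplicit false
set_option linter.unusedSectionVars false

namespace CfsgLib.PLocal.DihPush

open Subgroup

variable {G : Type*} [Group G]

/-- `g` and `g'` are joined by the edge with representative `u`. -/
def Ed (H : Subgroup G) (y g g' u : G) : Prop :=
  g⁻¹ * u ∈ H ∧ ((u * y)⁻¹ * g' ∈ H ∨ (u * y⁻¹)⁻¹ * g' ∈ H)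

/-- A walk of length `n`. -/
def Wk (H : Subgroup G) (y : G) (n : ℕ) (p : ℕ → G) : Prop :=
  ∀ i, i < n → ∃ u, Ed H y (p i) (p (i + 1)) u

/-- Walks shorter than `b` do not separate. -/
def Short (H P Q : Subgroup G) (y : G) (b : ℕ) : Prop :=
  ∀ n, n < b → ∀ p, Wk H y n p → cj (p 0) (Vs H P) ≤ cj (p n) Q

/-- A critical walk of length `b`. -/
def Crit (H P Q : Subgroup G) (y : G) (b : ℕ) (p : ℕ → G) : Prop :=
  Wk H y b p ∧ ¬ cj (p 0) (Vs H P) ≤ cj (p b) Q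

variable {H P Q : Subgroup G} {y c : G}

theorem Ed.symm {g g' u : G} (h : Ed H y g g' u) : ∃ u', Ed H y g' g u' := by
  have h1 : u⁻¹ * g ∈ H := by simpa using inv_mem h.1
  rcases h.2 with h2 | h2
  · exact ⟨u * y, by simpa using inv_mem h2, Or.inr (by
      rwa [show u * y * y⁻¹ = u by group])⟩
  · exact ⟨u * y⁻¹, by simpa using inv_mem h2, Or.inl (by
      rwa [show u * y⁻¹ * y = u by group])⟩

theorem Ed.mul (a : G) {g g' u : G} (h : Ed H y g g' u) :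
    Ed H y (a * g) (a * g') (a * u) := by
  refine ⟨?_, ?_⟩
  · rw [show (a * g)⁻¹ * (a * u) = g⁻¹ * u by group]
    exact h.1
  · rcases h.2 with h2 | h2
    · left
      rwa [show (a * u * y)⁻¹ * (a * g') = (u * y)⁻¹ * g' by group]
    · right
      rwa [show (a * u * y⁻¹)⁻¹ * (a * g') = (u * y⁻¹)⁻¹ * g' by group]

theorem Wk.mul (a : G) {n : ℕ} {p : ℕ → G} (h : Wk H y n p) : Wk H y n fun i => a * p i :=
  fun i hi => by
    obtain ⟨u, hu⟩ := h i hi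
    exact ⟨_, hu.mul a⟩

theorem Wk.mono {m n : ℕ} {p : ℕ → G} (h : Wk H y n p) (hm : m ≤ n) : Wk H y m p :=
  fun i hi => h i (lt_of_lt_of_le hi hm)

theorem Wk.rev {n : ℕ} {p : ℕ → G} (h : Wk H y n p) : Wk H y n fun i => p (n - i) := by
  intro i hi
  obtain ⟨u, hu⟩ := h (n - (i + 1)) (by omega)
  obtain ⟨u', hu'⟩ := hu.symm
  rw [show n - (i + 1) + 1 = n - i by omega] at hu'
  exact ⟨u', hu'⟩

theorem Wk.cons {n : ℕ} {p : ℕ → G} (h : Wk H y n p) {g u : G} (hg : Ed H y g (p 0) u) :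
    Wk H y (n + 1) fun i => if i = 0 then g else p (i - 1) := by
  intro i hi
  rcases i with _ | i
  · exact ⟨u, by simpa using hg⟩
  · obtain ⟨u', hu'⟩ := h i (by omega)
    exact ⟨u', by simpa using hu'⟩

variable (S : Setup G H P Q y c)
include S

namespace Setup

theorem cj_congr {g u : G} {X : Subgroup G} (hX : H ≤ normalizer (X : Set G))
    (h : g⁻¹ * u ∈ H) : cj u X = cj g X := by
  conv_lhs => rw [← mul_inv_cancel_left g u]
  rw [cj_mul, cj_eq_of_mem (hX h)]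

theorem cj_side {g' u : G} {X : Subgroup G} (hX : H ≤ normalizer (X : Set G)) (hP : X ≤ P)
    (h : (u * y)⁻¹ * g' ∈ H ∨ (u * y⁻¹)⁻¹ * g' ∈ H) : cj g' X = cj u (cj y X) := by
  rcases h with h | h
  · rw [S.cj_congr hX h, cj_mul]
  · rw [S.cj_congr hX h, cj_mul, S.inv_y hP (S.PH.trans hX)]

theorem Qv_left {g g' u : G} (h : Ed H y g g' u) : cj g Q = cj u Q :=
  (S.cj_congr S.Qn h.1).symm

theorem Qv_right {g g' u : G} (h : Ed H y g g' u) : cj g' Q = cj u (cj y Q) :=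
  S.cj_side S.Qn S.QP h.2

theorem Vv_left {g g' u : G} (h : Ed H y g g' u) : cj g (Vs H P) = cj u (Vs H P) :=
  (S.cj_congr S.Vs_norm h.1).symm

variable (hZ : Zs P ≤ Q)
include hZ

theorem Vv_right {g g' u : G} (h : Ed H y g g' u) : cj g' (Vs H P) = cj u (cj y (Vs H P)) :=
  S.cj_side S.Vs_norm ((S.Vs_le_Q hZ).trans S.QP) h.2

/-- Some walk separates. -/
theorem exists_bad [Finite G] : ∃ n p, Wk H y n p ∧ ¬ cj (p 0) (Vs H P) ≤ cj (p n) Q := by
  by_contra hbad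
  push_neg at hbad
  let N : Subgroup G := ⨆ (g : G) (_ : ∃ n p, Wk H y n p ∧ p 0 ∈ H ∧ p n = g), cj g (Vs H P)
  have hle : ∀ {g : G}, (∃ n p, Wk H y n p ∧ p 0 ∈ H ∧ p n = g) → cj g (Vs H P) ≤ N :=
    fun {g} hg => le_iSup₂ (f := fun g _ => cj g (Vs H P)) g hg
  have hNQ : N ≤ Q := by
    refine iSup₂_le fun g hg => ?_
    obtain ⟨n, p, hp, h0, rfl⟩ := hg
    have := hbad n _ hp.rev
    simp only [Nat.sub_zero, Nat.sub_self] at this
    rwa [cj_eq_of_mem (S.Qn h0)] at this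
  have hinv : ∀ {a : G}, (∀ g, (∃ n p, Wk H y n p ∧ p 0 ∈ H ∧ p n = g) →
      ∃ n p, Wk H y n p ∧ p 0 ∈ H ∧ p n = a * g) → cj a N ≤ N := by
    intro a ha
    rw [cj, Subgroup.map_iSup]
    refine iSup_le fun g => ?_
    rw [Subgroup.map_iSup]
    refine iSup_le fun hg => ?_
    change cj a (cj g (Vs H P)) ≤ N
    rw [← cj_mul]
    exact hle (ha g hg)
  have heq : ∀ {a : G}, cj a N ≤ N → cj a N = N := fun h =>
    Subgroup.eq_of_le_of_card_ge h
      (le_of_eq (card_map_of_injective (MulAut.conj _).injective).symm)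
  have hHN : H ≤ normalizer (N : Set G) := by
    intro a ha
    have h := heq (hinv (a := a) fun g hg => by
      obtain ⟨n, p, hp, h0, rfl⟩ := hg
      exact ⟨n, _, hp.mul a, mul_mem ha h0, rfl⟩)
    exact mem_normalizer_iff.2 fun x => ⟨fun hx => h.le (conj_mem_cj hx), fun hx => by
      have := mem_cj.1 (h.ge hx)
      simpa [mul_assoc] using this⟩
  have hy := heq (hinv (a := y) fun g hg => by
    obtain ⟨n, p, hp, h0, rfl⟩ := hg
    refine ⟨n + 1, _, (hp.mul y).cons (g := 1) (u := 1) ⟨by simp, Or.inl ?_⟩, by simp, by simp⟩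
    rwa [show (1 * y)⁻¹ * (y * p 0) = p 0 by group])
  have hN0 := S.bad N (hNQ.trans S.QP) hHN hy
  have hV : Vs H P ≤ N := by
    refine le_of_eq_of_le (cj_one _).symm (hle ?_)
    exact ⟨0, fun _ => 1, fun i hi => absurd hi (Nat.not_lt_zero i), one_mem H, rfl⟩
  rw [hN0, le_bot_iff] at hV
  exact S.Zs_ne (le_bot_iff.1 (S.Zs_le_Vs.trans hV.le))

theorem exists_crit [Finite G] :
    ∃ b, 1 ≤ b ∧ Short H P Q y b ∧ ∃ p, Crit H P Q y b p := by
  classical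
  have h := S.exists_bad hZ
  refine ⟨Nat.find h, ?_, fun n hn p hp => ?_, Nat.find_spec h⟩
  · by_contra h0
    obtain ⟨p, -, hne⟩ := Nat.find_spec h
    rw [show Nat.find h = 0 by omega] at hne
    exact hne (cj_mono (S.Vs_le_Q hZ))
  · have := Nat.find_min h hn
    push_neg at this
    exact this p hp

theorem short_comm {b n : ℕ} (hb : Short H P Q y b) (hn : n < b) {p : ℕ → G}
    (hp : Wk H y n p) {x w : G} (hx : x ∈ cj (p 0) (Vs H P)) (hw : w ∈ cj (p n) (Vs H P)) :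
    x * w = w * x := by
  have h := S.Vs_central (mem_cj.1 hw) (mem_cj.1 (hb n hn p hp hx))
  calc x * w = p n * ((p n)⁻¹ * x * p n * ((p n)⁻¹ * w * p n)) * (p n)⁻¹ := by group
    _ = p n * ((p n)⁻¹ * w * p n * ((p n)⁻¹ * x * p n)) * (p n)⁻¹ := by rw [h]
    _ = w * x := by group

theorem le_edge {b n : ℕ} (hb : Short H P Q y b) (hn : n < b) {p : ℕ → G}
    (hp : Wk H y (n + 1) p) {u : G} (hu : Ed H y (p (n + 1)) (p n) u) :
    cj (p 0) (Vs H P) ≤ cj u P := by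
  refine (hb n hn p (hp.mono n.le_succ)).trans ?_
  rw [S.Qv_right hu]
  exact cj_mono S.Qy_le

theorem outer_moves [Finite G] {t : G} (ht : t ∈ P) (htQ : t ∉ Q) : ∃ v ∈ Vs H P, t * v ≠ v * t := by
  by_contra h
  push_neg at h
  have hV : Vs H P ≤ Zs P := by
    intro v hv
    refine ⟨S.QP (S.Vs_le_Q hZ hv), S.Vs_sq hZ hv, fun p hp => ?_⟩
    have := S.le_of_outer (X := centralizer ({v} : Set G))
      (fun q hq => mem_centralizer_singleton_iff.2 (S.Vs_central hv hq).symm) ht htQ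
      (mem_centralizer_singleton_iff.2 (h v hv)) hp
    exact (mem_centralizer_singleton_iff.1 this).symm
  have hH : H ≤ normalizer (Zs P : Set G) := by
    rw [le_antisymm S.Zs_le_Vs hV]
    exact S.Vs_norm
  have hy : cj y (Zs P) = Zs P := by
    refine le_antisymm ?_ ?_
    · rintro _ ⟨x, hx, rfl⟩
      exact S.Zs_y hx
    · intro x hx
      refine mem_cj.2 ?_
      rw [S.inv_y_comm hx.1 hx.2.2]
      exact S.Zs_y hx
  exact S.Zs_ne (S.bad _ (hZ.trans S.QP) hH hy)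

theorem rev_crit [Finite G] {b : ℕ} (h1 : 1 ≤ b) (hb : Short H P Q y b) {p : ℕ → G}
    (hp : Crit H P Q y b p) : ¬ cj (p b) (Vs H P) ≤ cj (p 0) Q := by
  intro hle
  obtain ⟨x, hx, hx'⟩ := SetLike.not_le_iff_exists.1 hp.2
  obtain ⟨n, rfl⟩ : ∃ n, b = n + 1 := ⟨b - 1, by omega⟩
  obtain ⟨u₀, hu₀⟩ := hp.1 n (by omega)
  obtain ⟨u, hu⟩ := hu₀.symm
  have hxu := mem_cj.1 (S.le_edge hZ hb (by omega) hp.1 hu hx)
  have hxQ : u⁻¹ * x * u ∉ Q := fun h => hx' (by rw [S.Qv_left hu]; exact mem_cj.2 h)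
  obtain ⟨v, hv, hne⟩ := S.outer_moves hZ hxu hxQ
  have hw : u * v * u⁻¹ ∈ cj (p (n + 1)) (Vs H P) := by
    rw [S.Vv_left hu]; exact conj_mem_cj hv
  have h := S.Vs_central (mem_cj.1 hx) (mem_cj.1 (hle hw))
  refine hne ?_
  calc u⁻¹ * x * u * v = u⁻¹ * (p 0 * ((p 0)⁻¹ * x * p 0 * ((p 0)⁻¹ * (u * v * u⁻¹) * p 0)) *
        (p 0)⁻¹) * u := by group
    _ = u⁻¹ * (p 0 * ((p 0)⁻¹ * (u * v * u⁻¹) * p 0 * ((p 0)⁻¹ * x * p 0)) *
        (p 0)⁻¹) * u := by rw [h]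
    _ = v * (u⁻¹ * x * u) := by group

theorem mem_Zs_of_comm {t : G} (ht : t ∈ P) (htQ : t ∉ Q) {v : G} (hv : v ∈ Vs H P)
    (h : t * v = v * t) : v ∈ Zs P := by
  refine ⟨S.QP (S.Vs_le_Q hZ hv), S.Vs_sq hZ hv, fun p hp => ?_⟩
  have := S.le_of_outer (X := centralizer ({v} : Set G))
    (fun q hq => mem_centralizer_singleton_iff.2 (S.Vs_central hv hq).symm) ht htQ
    (mem_centralizer_singleton_iff.2 h) hp
  exact (mem_centralizer_singleton_iff.1 this).symm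

/-- `Zs P` has index two in the normal closure. -/
theorem transv [Finite G] {v v' : G} (hv : v ∈ Vs H P) (hv' : v' ∈ Vs H P) (h : v ∉ Zs P)
    (h' : v' ∉ Zs P) : v * v' ∈ Zs P := by
  obtain ⟨b, h1, hb, p, hp⟩ := S.exists_crit hZ
  obtain ⟨x, hx, hx'⟩ := SetLike.not_le_iff_exists.1 (S.rev_crit hZ h1 hb hp)
  obtain ⟨n, rfl⟩ : ∃ n, b = n + 1 := ⟨b - 1, by omega⟩
  obtain ⟨u, hu⟩ := hp.1 0 (by omega)
  obtain ⟨w₀, hw₀⟩ := hp.1 n (by omega)
  obtain ⟨w, hw⟩ := hw₀.symm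
  have hxu : x ∈ cj u P := by
    have := S.le_edge hZ hb (n := n) (by omega) hp.1.rev
      (u := u) (by simpa using hu)
    simp only [Nat.sub_zero] at this
    exact this hx
  have hxQ : u⁻¹ * x * u ∉ Q := fun h0 => hx' (by rw [S.Qv_left hu]; exact mem_cj.2 h0)
  have key : ∀ a, a ∈ Vs H P → u * a * u⁻¹ ∈ cj (p (n + 1)) Q → a ∈ Zs P := by
    intro a ha hq
    refine S.mem_Zs_of_comm hZ (mem_cj.1 hxu) hxQ ha ?_
    have := S.Vs_central (mem_cj.1 hx) (mem_cj.1 hq)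
    calc u⁻¹ * x * u * a = u⁻¹ * (p (n + 1) * ((p (n + 1))⁻¹ * x * p (n + 1) *
          ((p (n + 1))⁻¹ * (u * a * u⁻¹) * p (n + 1))) * (p (n + 1))⁻¹) * u := by group
      _ = u⁻¹ * (p (n + 1) * ((p (n + 1))⁻¹ * (u * a * u⁻¹) * p (n + 1) *
          ((p (n + 1))⁻¹ * x * p (n + 1))) * (p (n + 1))⁻¹) * u := by rw [this]
      _ = a * (u⁻¹ * x * u) := by group
  have hmem : ∀ a, a ∈ Vs H P → a ∉ Zs P →
      w⁻¹ * (u * a * u⁻¹) * w ∈ P ∧ w⁻¹ * (u * a * u⁻¹) * w ∉ Q := by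
    intro a ha haZ
    have h0 : u * a * u⁻¹ ∈ cj (p 0) (Vs H P) := by
      rw [S.Vv_left hu]; exact conj_mem_cj ha
    exact ⟨mem_cj.1 (S.le_edge hZ hb (by omega) hp.1 hw h0), fun hq =>
      haZ (key a ha (by rw [S.Qv_left hw]; exact mem_cj.2 hq))⟩
  refine key _ (mul_mem hv hv') ?_
  rw [S.Qv_left hw, mem_cj]
  have := S.two _ (hmem v hv h).1 _ (hmem v' hv' h').1 (hmem v hv h).2 (hmem v' hv' h').2
  rwa [show w⁻¹ * (u * v * u⁻¹) * w * (w⁻¹ * (u * v' * u⁻¹) * w) =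
    w⁻¹ * (u * (v * v') * u⁻¹) * w by group] at this

theorem exists_k [Finite G] : ∃ k ∈ Zs P, k ≠ 1 ∧
    ∀ t ∈ P, t ∉ Q → ∀ v ∈ Vs H P, v ∉ Zs P → t * v * t⁻¹ = v * k := by
  obtain ⟨t, hty, htQ⟩ := S.exists_outer
  have ht := S.Qy_le hty
  obtain ⟨v, hv, hne⟩ := S.outer_moves hZ ht htQ
  have hvZ : v ∉ Zs P := fun h => hne (h.2.2 t ht).symm
  have hconj : t * v * t⁻¹ ∈ Vs H P :=
    (mem_normalizer_iff.1 (S.Vs_norm (S.PH ht)) v).1 hv
  have hk : v * (t * v * t⁻¹) ∈ Vs H P := mul_mem hv hconj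
  have hcq : ∀ q ∈ Q, ∀ a ∈ Vs H P, q * a * q⁻¹ = a := fun q hq a ha => by
    rw [← S.Vs_central ha hq, mul_inv_cancel_right]
  refine ⟨_, S.mem_Zs_of_comm hZ ht htQ hk ?_, fun e => hne ?_, ?_⟩
  · have h2 := hcq _ (S.two t ht t ht htQ htQ) v hv
    have h3 : t * (t * v * t⁻¹) * t⁻¹ = v := by
      rwa [show t * t * v * (t * t)⁻¹ = t * (t * v * t⁻¹) * t⁻¹ by group] at h2
    calc t * (v * (t * v * t⁻¹)) = t * v * t⁻¹ * (t * (t * v * t⁻¹) * t⁻¹) * t := by group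
      _ = v * (t * v * t⁻¹) * t := by rw [h3, S.Vs_comm hZ hconj hv]
  · have h4 := eq_inv_of_mul_eq_one_right e
    rw [inv_eq_of_mul_eq_one_left (S.Vs_sq hZ hv)] at h4
    exact mul_inv_eq_iff_eq_mul.1 h4
  · intro t' ht' ht'Q v' hv' hv'Z
    have hq := S.two t' ht' t ht ht'Q htQ
    have e1 : ∀ a ∈ Vs H P, t' * a * t'⁻¹ = t * a * t⁻¹ := by
      intro a ha
      have h5 := hcq _ hq _ ((mem_normalizer_iff.1 (S.Vs_norm (S.PH ht)) a).1 ha)
      have h6 := hcq _ (S.two t ht t ht htQ htQ) a ha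
      rw [show t' * t * (t * a * t⁻¹) * (t' * t)⁻¹ =
        t' * (t * t * a * (t * t)⁻¹) * t'⁻¹ by group, h6] at h5
      exact h5
    rw [e1 _ hv']
    have hz := S.transv hZ hv hv' hvZ hv'Z
    have h7 : t * (v * v') * t⁻¹ = v * v' := by
      rw [← hz.2.2 t ht, mul_inv_cancel_right]
    have h8 : v' = v * (v * v') := by rw [← mul_assoc, S.Vs_sq hZ hv, one_mul]
    calc t * v' * t⁻¹ = t * v * t⁻¹ * (t * (v * v') * t⁻¹) := by
          conv_lhs => rw [h8]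
          group
      _ = t * v * t⁻¹ * (v * v') := by rw [h7]
      _ = v * v' * (t * v * t⁻¹) := S.Vs_comm hZ hconj (mul_mem hv hv')
      _ = v' * v * (t * v * t⁻¹) := by rw [S.Vs_comm hZ hv hv']
      _ = v' * (v * (t * v * t⁻¹)) := mul_assoc _ _ _

end Setup

end CfsgLib.PLocal.DihPush
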