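import Cfsg.Agent.Lib.PLocal.DihPushShape

/-!
The symmetric-group shape of the quotient by the odd core.
-/

set_option autoImplicit false
set_option linter.unusedSectionVars false

namespace CfsgLib.PLocal.DihPush

open Subgroup
open scoped Pointwise

variable {X : Type*} [Group X] [Finite X] {n : ℕ}

/-- The data of an action of type `S₄` on a four-group. -/
structure Four (π : X →* DihedralGroup n) (Q W : Subgroup X) (t t' k k' z : X) : Prop
    extends Frame π Q where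
  Wn : W.Normal
  Wmem : ∀ w, w ∈ W ↔ (w = 1 ∨ w = k ∨ w = k' ∨ w = k * k')
  W4 : Nat.card W = 4
  z2 : z * z = 1
  zc : ∀ g, g * z = z * g
  Qeq : W ⊔ zpowers z = Q
  dis : Disjoint W (zpowers z)
  t2 : t * t = 1
  t'2 : t' * t' = 1
  tr : t ∉ Rot π
  t'r : t' ∉ Rot π
  k1 : k ≠ 1
  k'1 : k' ≠ 1
  kne : k ≠ k'
  tk : t * k * t⁻¹ = k
  tk' : t * k' * t⁻¹ = k * k'
  t'k : t' * k * t'⁻¹ = k * k'
  t'k' : t' * k' * t'⁻¹ = k'

variable {π : X →* DihedralGroup n} {Q W : Subgroup X} {t t' k k' z : X}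
variable (F : Four π Q W t t' k k' z)
include F

theorem Four.W_le : W ≤ Q := le_sup_left.trans F.Qeq.le

theorem Four.k_mem : k ∈ W := (F.Wmem k).2 (Or.inr (Or.inl rfl))

theorem Four.k'_mem : k' ∈ W := (F.Wmem k').2 (Or.inr (Or.inr (Or.inl rfl)))

theorem Four.kk : k * k = 1 := F.toFrame.sq k (F.W_le F.k_mem)

theorem Four.k'k' : k' * k' = 1 := F.toFrame.sq k' (F.W_le F.k'_mem)

theorem Four.comm' : k' * k = k * k' := F.toFrame.comm _ (F.W_le F.k'_mem) _ (F.W_le F.k_mem)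

theorem Four.k_kk : k * (k * k') = k' := by rw [← mul_assoc, F.kk, one_mul]

theorem Four.kk_k' : k * k' * k' = k := by rw [mul_assoc, F.k'k', mul_one]

/-- The rotation of order three on `W`. -/
theorem Four.u_spec : t * t' * k * (t * t')⁻¹ = k' ∧ t * t' * k' * (t * t')⁻¹ = k * k' := by
  constructor
  · calc t * t' * k * (t * t')⁻¹ = t * (t' * k * t'⁻¹) * t⁻¹ := by group
      _ = t * k * t⁻¹ * (t * k' * t⁻¹) := by rw [F.t'k]; group
      _ = k' := by rw [F.tk, F.tk', F.k_kk]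
  · calc t * t' * k' * (t * t')⁻¹ = t * (t' * k' * t'⁻¹) * t⁻¹ := by group
      _ = k * k' := by rw [F.t'k', F.tk']

/-- An element fixing `k` and `k'` centralizes `Q`. -/
theorem Four.cent_of_fix {g : X} (h1 : g * k * g⁻¹ = k) (h2 : g * k' * g⁻¹ = k') :
    g ∈ centralizer (Q : Set X) := by
  have h : Q ≤ centralizer ({g} : Set X) := by
    rw [← F.Qeq, sup_le_iff, zpowers_le]
    refine ⟨fun w hw => mem_centralizer_singleton_iff.2 (eq_comm.1 ?_),
      mem_centralizer_singleton_iff.2 (F.zc g).symm⟩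
    rcases (F.Wmem w).1 hw with rfl | rfl | rfl | rfl
    · simp
    · exact mul_inv_eq_iff_eq_mul.1 h1
    · exact mul_inv_eq_iff_eq_mul.1 h2
    · calc g * (k * k') = g * k * g⁻¹ * (g * k' * g⁻¹) * g := by group
        _ = k * k' * g := by rw [h1, h2]
  exact fun q hq => mem_centralizer_singleton_iff.1 (h hq)

theorem Four.cent_rot {g : X} (h1 : g * k * g⁻¹ = k) (h2 : g * k' * g⁻¹ = k') : g ∈ Rot π := by
  have hg := F.cent_of_fix h1 h2
  rcases hπ : π g with i | i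
  · exact mem_Rot.2 ⟨i, hπ⟩
  exfalso
  rcases hπt : π t with j | j
  · exact F.tr (mem_Rot.2 ⟨j, hπt⟩)
  -- `t` lies in `Q` times a conjugate of `g` by a power of the rotation
  have hu : t * t' ∈ Rot π ∧ ∃ l, π (t * t') = DihedralGroup.r l := by
    rcases hπt' : π t' with l | l
    · exact absurd (mem_Rot.2 ⟨l, hπt'⟩) F.t'r
    have : π (t * t') = DihedralGroup.r (l - j) := by
      rw [map_mul, hπt, hπt', DihedralGroup.sr_mul_sr]
    exact ⟨mem_Rot.2 ⟨_, this⟩, _, this⟩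
  haveI hQn : Q.Normal := F.toFrame.ker ▸ π.normal_ker
  -- the images of `t` and `g` agree up to a rotation centralizing nothing new
  have hgt : g * t ∈ Rot π := mem_Rot.2 ⟨j - i, by
    rw [map_mul, hπ, hπt, DihedralGroup.sr_mul_sr]⟩
  have hut : t' * g ∈ Rot π := by
    rcases hπt' : π t' with l | l
    · exact absurd (mem_Rot.2 ⟨l, hπt'⟩) F.t'r
    exact mem_Rot.2 ⟨i - l, by rw [map_mul, hπt', hπ, DihedralGroup.sr_mul_sr]⟩
  -- rotations commute modulo `Q`, so their commutator centralizes `W`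
  have hcomm : (g * t) * (t * t') * (g * t)⁻¹ * (t * t')⁻¹ ∈ Q := by
    obtain ⟨a, ha⟩ := mem_Rot.1 hgt
    obtain ⟨b, hb⟩ := mem_Rot.1 hu.1
    rw [← F.toFrame.ker, MonoidHom.mem_ker, map_mul, map_mul, map_mul, map_inv, map_inv, ha, hb]
    simp [add_comm]
  have h3 := F.toFrame.comm _ hcomm _ (F.W_le F.k'_mem)
  have e1 : (g * t) * (t * t') * (g * t)⁻¹ * (t * t')⁻¹ = g * t' * t⁻¹ * g⁻¹ * (t * t')⁻¹ := by
    calc _ = g * (t * t) * t' * t⁻¹ * g⁻¹ * (t * t')⁻¹ := by group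
      _ = _ := by rw [F.t2, mul_one]
  rw [e1] at h3
  obtain ⟨hu1, hu2⟩ := F.u_spec
  have hk3 : (t * t')⁻¹ * k' * (t * t') = k := by
    rw [← hu1]; group
  have hgk : g⁻¹ * k * g = k := by
    calc g⁻¹ * k * g = g⁻¹ * (g * k * g⁻¹) * g := by rw [h1]
      _ = k := by group
  have htk : t⁻¹ * k * t = k := by
    calc t⁻¹ * k * t = t⁻¹ * (t * k * t⁻¹) * t := by rw [F.tk]
      _ = k := by group
  have h4 : g * t' * t⁻¹ * g⁻¹ * (t * t')⁻¹ * k' * (g * t' * t⁻¹ * g⁻¹ * (t * t')⁻¹)⁻¹ =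
      k * k' := by
    calc _ = g * (t' * (t⁻¹ * (g⁻¹ * ((t * t')⁻¹ * k' * (t * t')) * g) * t) * t'⁻¹) * g⁻¹ := by
          group
      _ = g * k * g⁻¹ * (g * k' * g⁻¹) := by rw [hk3, hgk, htk, F.t'k]; group
      _ = k * k' := by rw [h1, h2]
  rw [h3, mul_inv_cancel_right] at h4
  exact F.k1 (right_eq_mul.1 h4)

/-- The shape of the quotient. -/
theorem Four.shape :
    (z = 1 → Nonempty (X ⧸ Cfsg.oddCore X ≃* Equiv.Perm (Fin 4))) ∧
    (z ≠ 1 → Nonempty (X ⧸ Cfsg.oddCore X ≃* Equiv.Perm (Fin 4) × Multiplicative (ZMod 2))) := by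
  haveI : (Cfsg.oddCore X).Normal := sSup_normal _ fun _ h => h.1
  haveI := F.Wn
  let K := Cfsg.oddCore X
  let ψ := QuotientGroup.mk' K
  have hψK : ∀ {e}, e ∈ K → ψ e = 1 := fun {e} he => (QuotientGroup.eq_one_iff e).2 he
  have hψinj : ∀ {a b : X}, a ∈ Q → b ∈ Q → ψ a = ψ b → a = b := fun {a b} ha hb h =>
    inv_mul_eq_one.1 (F.toFrame.oddCore_inter (mul_mem (inv_mem ha) hb) (QuotientGroup.eq.1 h))
  have hzQ : z ∈ Q := F.Qeq.le (mem_sup_right (mem_zpowers z))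
  -- an element centralizing `W` lies in `Q K`
  have hC : ∀ {g}, g * k * g⁻¹ = k → g * k' * g⁻¹ = k' → ∃ q ∈ Q, ψ g = ψ q := by
    intro g h1 h2
    obtain ⟨q, hq, e, he, rfl⟩ := F.toFrame.oddCore_spec g
      (mem_inf.2 ⟨F.cent_of_fix h1 h2, F.cent_rot h1 h2⟩)
    exact ⟨q, hq, by rw [map_mul, hψK he, mul_one]⟩
  obtain ⟨hu1, hu2⟩ := F.u_spec
  have hu3 : t * t' * (k * k') * (t * t')⁻¹ = k := by
    rw [← conj_mul, hu1, hu2, ← mul_assoc, F.comm', mul_assoc, F.k'k', mul_one]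
  have hu3' : ∀ w ∈ W, (t * t') ^ 3 * w * ((t * t') ^ 3)⁻¹ = w := by
    intro w hw
    generalize t * t' = u at hu1 hu2 hu3
    rw [show u ^ 3 * w * (u ^ 3)⁻¹ = u * (u * (u * w * u⁻¹) * u⁻¹) * u⁻¹ by
      rw [pow_succ, pow_two]; group]
    rcases (F.Wmem w).1 hw with rfl | rfl | rfl | rfl
    · group
    · rw [hu1, hu2, hu3]
    · rw [hu2, hu3, hu1]
    · rw [hu3, hu1, hu2]
  obtain ⟨q₃, hq₃, hq₃'⟩ := hC (hu3' k F.k_mem) (hu3' k' F.k'_mem)
  let r : X := (t * t') ^ 4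
  have hr3 : ψ r ^ 3 = 1 := by
    rw [← map_pow, ← pow_mul, mul_comm, pow_mul, map_pow, hq₃', ← map_pow, pow_succ, pow_succ,
      pow_two, F.toFrame.sq q₃ hq₃, one_mul, F.toFrame.sq q₃ hq₃, map_one]
  have hr : ∀ w ∈ W, r * w * r⁻¹ = t * t' * w * (t * t')⁻¹ := by
    intro w hw
    calc r * w * r⁻¹ = t * t' * ((t * t') ^ 3 * w * ((t * t') ^ 3)⁻¹) * (t * t')⁻¹ := by
          simp only [r, pow_succ' (t * t') 3]
          generalize (t * t') ^ 3 = a
          generalize t * t' = u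
          group
      _ = _ := by rw [hu3' w hw]
  have hrt : t * r * t⁻¹ = r⁻¹ := by
    simp only [r]
    rw [← conj_pow, ← inv_pow, mul_inv_rev, inv_eq_of_mul_eq_one_left F.t'2,
      inv_eq_of_mul_eq_one_left F.t2, ← mul_assoc t t t', F.t2, one_mul]
  let M : Subgroup (X ⧸ K) :=
    W.map ψ ⊔ closure {ψ r, ψ t}
  let Wb : Subgroup (X ⧸ K) := W.map ψ
  haveI hWbn : Wb.Normal := F.Wn.map ψ (QuotientGroup.mk'_surjective K)
  have hWbcent : ∀ {g : X}, ψ g ∈ centralizer (Wb : Set (X ⧸ K)) → ∀ w ∈ W, g * w * g⁻¹ = w := by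
    intro g hg w hw
    have h := hg (ψ w) (mem_map_of_mem ψ hw)
    refine hψinj (F.W_le (F.Wn.conj_mem w hw g)) (F.W_le hw) ?_
    rw [map_mul, map_mul, map_inv, ← h, mul_inv_cancel_right]
  have hrel : ψ t * ψ r * (ψ t)⁻¹ = (ψ r)⁻¹ := by
    rw [← map_inv, ← map_mul, ← map_mul, hrt, map_inv]
  have hD : ∀ g ∈ closure {ψ r, ψ t}, ∃ a b : X, (a = 1 ∨ a = r ∨ a = r * r) ∧ (b = 1 ∨ b = t) ∧
      g = ψ (a * b) := by
    intro g hg
    have hle : closure {ψ r, ψ t} ≤ zpowers (ψ r) ⊔ zpowers (ψ t) := by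
      refine (closure_le _).2 ?_
      rintro _ (rfl | rfl)
      exacts [mem_sup_left (mem_zpowers _), mem_sup_right (mem_zpowers _)]
    have hn : zpowers (ψ t) ≤ normalizer (zpowers (ψ r) : Set (X ⧸ K)) := by
      rw [zpowers_le]
      refine mem_normalizer_iff.2 fun x => ?_
      have h : (zpowers (ψ r)).map (MulAut.conj (ψ t)).toMonoidHom = zpowers (ψ r) := by
        rw [MonoidHom.map_zpowers]
        change zpowers (ψ t * ψ r * (ψ t)⁻¹) = _
        rw [hrel, zpowers_inv]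
      constructor
      · intro hx; exact h.le ⟨x, hx, rfl⟩
      · intro hx
        obtain ⟨a, ha, e⟩ := h.ge hx
        have : a = x := (MulAut.conj (ψ t)).injective e
        exact this ▸ ha
    have h := hle hg
    rw [← SetLike.mem_coe, coe_mul_of_right_le_normalizer_left _ _ hn] at h
    obtain ⟨_, ⟨i, rfl⟩, _, ⟨j, rfl⟩, rfl⟩ := h
    obtain ⟨a, ha, ea⟩ : ∃ a : X, (a = 1 ∨ a = r ∨ a = r * r) ∧ ψ r ^ i = ψ a := by
      have h3 : ∀ k : ℤ, ψ r ^ (3 * k) = 1 := fun k => by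
        rw [zpow_mul, zpow_ofNat, hr3, one_zpow]
      rw [← Int.emod_add_mul_ediv i 3, zpow_add, h3, mul_one]
      rcases (show i % 3 = 0 ∨ i % 3 = 1 ∨ i % 3 = 2 by omega) with e | e | e <;> rw [e]
      · exact ⟨1, Or.inl rfl, by rw [zpow_zero, map_one]⟩
      · exact ⟨r, Or.inr (Or.inl rfl), zpow_one _⟩
      · exact ⟨r * r, Or.inr (Or.inr rfl), by rw [zpow_two, map_mul]⟩
    obtain ⟨b, hb, eb⟩ : ∃ b : X, (b = 1 ∨ b = t) ∧ ψ t ^ j = ψ b := by
      have h2 : ∀ k : ℤ, ψ t ^ (2 * k) = 1 := fun k => by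
        rw [zpow_mul, zpow_ofNat, pow_two, ← map_mul, F.t2, map_one, one_zpow]
      rw [← Int.emod_add_mul_ediv j 2, zpow_add, h2, mul_one]
      rcases (show j % 2 = 0 ∨ j % 2 = 1 by omega) with e | e <;> rw [e]
      · exact ⟨1, Or.inl rfl, by rw [zpow_zero, map_one]⟩
      · exact ⟨t, Or.inr rfl, zpow_one _⟩
    exact ⟨a, b, ha, hb, by rw [map_mul, ← ea, ← eb]⟩
  have hMmem : ∀ g ∈ M, ∃ w ∈ W, ∃ a b : X, (a = 1 ∨ a = r ∨ a = r * r) ∧ (b = 1 ∨ b = t) ∧
      g = ψ (w * (a * b)) := by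
    intro g hg
    have hg' : g ∈ (Wb : Set (X ⧸ K)) * (closure {ψ r, ψ t} : Set (X ⧸ K)) := by
      rw [← coe_mul_of_right_le_normalizer_left _ _ (le_top.trans (normalizer_eq_top Wb).ge)]
      exact hg
    obtain ⟨_, ⟨w, hw, rfl⟩, d, hd, rfl⟩ := hg'
    obtain ⟨a, b, ha, hb, rfl⟩ := hD d hd
    exact ⟨w, hw, a, b, ha, hb, (map_mul ψ _ _).symm⟩
  -- the only one of the six centralizing `W` is the identity
  have hact : ∀ a b : X, (a = 1 ∨ a = r ∨ a = r * r) → (b = 1 ∨ b = t) →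
      a * b * k * (a * b)⁻¹ = k → a * b * k' * (a * b)⁻¹ = k' → a * b = 1 := by
    intro a b ha hb h1 h2
    have r1 : r * k * r⁻¹ = k' := (hr k F.k_mem).trans hu1
    have r2 : r * k' * r⁻¹ = k * k' := (hr k' F.k'_mem).trans hu2
    have r3 : r * r * k * (r * r)⁻¹ = k * k' := by
      rw [show r * r * k * (r * r)⁻¹ = r * (r * k * r⁻¹) * r⁻¹ by group, r1, r2]
    have hne' : k * k' ≠ k := fun e => F.k'1 (mul_eq_left.1 e)
    have hk'k : k' ≠ k := Ne.symm F.kne
    have hbk : b * k * b⁻¹ = k := by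
      rcases hb with rfl | rfl
      · group
      · exact F.tk
    rw [show a * b * k * (a * b)⁻¹ = a * (b * k * b⁻¹) * a⁻¹ by group, hbk] at h1
    rcases ha with rfl | rfl | rfl
    · rcases hb with rfl | rfl
      · rw [mul_one]
      · rw [one_mul, F.tk'] at h2
        exact absurd (mul_eq_right.1 h2) F.k1
    · exact absurd (r1.symm.trans h1) hk'k
    · exact absurd (r3.symm.trans h1) hne'
  have hWbM : Wb ≤ M := le_sup_left
  have hfixM : ∀ g ∈ M, (∀ w ∈ W, Commute (ψ w) g) → g ∈ Wb := by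
    intro g hg hc
    obtain ⟨w, hw, a, b, ha, hb, rfl⟩ := hMmem g hg
    have hcf : ∀ v ∈ W, a * b * v * (a * b)⁻¹ = v := by
      refine hWbcent ?_
      rintro _ ⟨v, hv, rfl⟩
      have h1 : Commute (ψ v) (ψ w) :=
        (show Commute v w from F.toFrame.comm _ (F.W_le hv) _ (F.W_le hw)).map ψ
      have := h1.inv_right.mul_right (hc v hv)
      rwa [← map_inv, ← map_mul, inv_mul_cancel_left] at this
    rw [hact a b ha hb (hcf k F.k_mem) (hcf k' F.k'_mem), mul_one]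
    exact mem_map_of_mem ψ hw
  have hzc : ∀ g : X ⧸ K, Commute g (ψ z) := fun g => by
    obtain ⟨x, rfl⟩ := QuotientGroup.mk'_surjective K g
    exact (show Commute x z from F.zc x).map ψ
  have hd : Disjoint M (zpowers (ψ z)) := by
    rw [disjoint_iff_inf_le]
    rintro g ⟨hgM, hgz⟩
    obtain ⟨i, rfl⟩ := mem_zpowers_iff.1 hgz
    obtain ⟨w, hw, e⟩ := hfixM _ hgM fun w _ => (hzc _).zpow_right i
    rw [← map_zpow] at e
    have h := hψinj (F.W_le hw) (zpow_mem hzQ i) e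
    rw [mem_bot, ← map_zpow,
      mem_bot.1 (disjoint_iff_inf_le.1 F.dis (mem_inf.2 ⟨h ▸ hw, zpow_mem (mem_zpowers z) i⟩)),
      map_one]
  have hQM : ∀ q ∈ Q, ψ q ∈ M ⊔ zpowers (ψ z) := by
    intro q hq
    have : Q.map ψ ≤ M ⊔ zpowers (ψ z) := by
      rw [← F.Qeq, Subgroup.map_sup, MonoidHom.map_zpowers]
      exact sup_le (le_sup_left.trans le_sup_left) le_sup_right
    exact this (mem_map_of_mem ψ hq)
  have hs : M ⊔ zpowers (ψ z) = ⊤ := by
    rw [eq_top_iff]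
    intro g _
    obtain ⟨x, rfl⟩ := QuotientGroup.mk'_surjective K g
    have hr' : ψ r ∈ M ⊔ zpowers (ψ z) :=
      mem_sup_left (mem_sup_right (subset_closure (Or.inl rfl)))
    have ht' : ψ t ∈ M ⊔ zpowers (ψ z) :=
      mem_sup_left (mem_sup_right (subset_closure (Or.inr rfl)))
    have hWmem : ∀ x : X, x * k * x⁻¹ ∈ W := fun x => F.Wn.conj_mem k F.k_mem x
    have hne1 : ∀ (x : X) {v : X}, v ≠ 1 → x * v * x⁻¹ ≠ 1 := fun x v hv e => hv (conj_eq_one_iff.1 e)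
    have hfixk : ∀ x : X, x * k * x⁻¹ = k → ψ x ∈ M ⊔ zpowers (ψ z) := by
      intro x hx
      rcases (F.Wmem _).1 (F.Wn.conj_mem k' F.k'_mem x) with e | e | e | e
      · exact absurd e (hne1 x F.k'1)
      · exact absurd (mul_left_cancel (mul_right_cancel (e.trans hx.symm))) (Ne.symm F.kne)
      · obtain ⟨q, hq, hq'⟩ := hC hx e
        rw [hq']
        exact hQM q hq
      · obtain ⟨q, hq, hq'⟩ := hC (g := t * x)
          (by rw [show t * x * k * (t * x)⁻¹ = t * (x * k * x⁻¹) * t⁻¹ by group, hx, F.tk])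
          (by rw [show t * x * k' * (t * x)⁻¹ = t * (x * k' * x⁻¹) * t⁻¹ by group, e, ← conj_mul,
            F.tk, F.tk', F.k_kk])
        rw [map_mul, ← eq_inv_mul_iff_mul_eq] at hq'
        rw [hq']
        exact mul_mem (inv_mem ht') (hQM q hq)
    rcases (F.Wmem _).1 (hWmem x) with e | e | e | e
    · exact absurd e (hne1 x F.k1)
    · exact hfixk x e
    · have := hfixk (r⁻¹ * x) (by
        rw [show r⁻¹ * x * k * (r⁻¹ * x)⁻¹ = r⁻¹ * (x * k * x⁻¹) * r by group, e,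
          ← (hr k F.k_mem).trans hu1]
        group)
      have h2 := mul_mem hr' this
      rwa [map_mul, ← mul_assoc, ← map_mul, mul_inv_cancel, map_one, one_mul] at h2
    · have := hfixk (r * x) (by
        rw [show r * x * k * (r * x)⁻¹ = r * (x * k * x⁻¹) * r⁻¹ by group, e,
          hr _ ((F.Wmem _).2 (Or.inr (Or.inr (Or.inr rfl)))), hu3])
      have h2 := mul_mem (inv_mem hr') this
      rwa [map_mul, inv_mul_cancel_left] at h2
  obtain ⟨e⟩ : Nonempty (↥M ≃* Equiv.Perm (Fin 4)) := by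
    let V : Subgroup M := Wb.subgroupOf M
    haveI : V.Normal := inferInstance
    have hWb4 : Nat.card Wb = 4 := by
      rw [← F.W4]
      refine (Nat.card_congr (Equiv.ofBijective (fun w : W => (⟨ψ w, mem_map_of_mem ψ w.2⟩ : Wb))
        ⟨fun a b h => Subtype.ext (hψinj (F.W_le a.2) (F.W_le b.2) (congrArg Subtype.val h)),
          fun g => ?_⟩)).symm
      obtain ⟨_, w, hw, rfl⟩ := g
      exact ⟨⟨w, hw⟩, rfl⟩
    haveI : IsKleinFour V := by
      refine ⟨(Nat.card_congr (subgroupOfEquivOfLe hWbM).toEquiv).trans hWb4, ?_⟩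
      haveI : Nontrivial V := Finite.one_lt_card_iff_nontrivial.1 (by
        rw [Nat.card_congr (subgroupOfEquivOfLe hWbM).toEquiv, hWb4]; norm_num)
      refine (Monoid.exponent_eq_prime_iff Nat.prime_two).2 fun v hv => ?_
      refine orderOf_eq_prime ?_ hv
      obtain ⟨⟨g, hg⟩, w, hw, e⟩ := v
      refine Subtype.ext (Subtype.ext ?_)
      change g ^ 2 = 1
      rw [pow_two]
      change ψ w = g at e
      rw [← e, ← map_mul, F.toFrame.sq w (F.W_le hw), map_one]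
    have hc : centralizer (V : Set M) = V := by
      refine le_antisymm (fun g hg => ?_) fun g hg v hv => ?_
      · exact hfixM g.1 g.2 fun w hw => congrArg Subtype.val
          (hg ⟨ψ w, hWbM (mem_map_of_mem ψ hw)⟩ (mem_map_of_mem ψ hw))
      · obtain ⟨a, ha, ea⟩ := (hv : v.1 ∈ Wb)
        obtain ⟨b, hb, eb⟩ := (hg : g.1 ∈ Wb)
        refine Subtype.ext ?_
        change v.1 * g.1 = g.1 * v.1
        rw [← show ψ a = v.1 from ea, ← show ψ b = g.1 from eb, ← map_mul, ← map_mul, F.toFrame.comm a (F.W_le ha) b (F.W_le hb)]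
    have hnot : ∀ (x : X) (hx : ψ x ∈ M), (⟨ψ x, hx⟩ : M) ∈ V → ∀ w ∈ W, x * w * x⁻¹ = w := by
      intro x hx hxV
      refine hWbcent ?_
      rintro _ ⟨v, hv, rfl⟩
      obtain ⟨b, hb, eb⟩ := (hxV : ψ x ∈ Wb)
      rw [← show ψ b = ψ x from eb, ← map_mul, ← map_mul,
        F.toFrame.comm v (F.W_le hv) b (F.W_le hb)]
    refine CfsgLib.Geom.FourGroup.equiv_permFour V hc (CfsgLib.Geom.FourGroup.card_eq_24 V hc
      (t := (⟨ψ r, mem_sup_right (subset_closure (Or.inl rfl))⟩ : M)) (Subtype.ext hr3) ?_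
      (f := (⟨ψ t, mem_sup_right (subset_closure (Or.inr rfl))⟩ : M)) ?_ ?_)
    · intro h
      have := hnot r _ h k F.k_mem
      rw [hr k F.k_mem, hu1] at this
      exact F.kne this.symm
    · have : (⟨ψ t, mem_sup_right (subset_closure (Or.inr rfl))⟩ * ⟨ψ t, mem_sup_right
          (subset_closure (Or.inr rfl))⟩ : M) = 1 := Subtype.ext (by
        change ψ t * ψ t = 1
        rw [← map_mul, F.t2, map_one])
      rw [this]
      exact one_mem _
    · intro h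
      have := hnot t _ h k' F.k'_mem
      rw [F.tk'] at this
      exact F.k1 (mul_eq_right.1 this)
  refine ⟨fun hz => ⟨?_⟩, fun hz => ?_⟩
  · have hM : M = ⊤ := by
      rw [hz, map_one, zpowers_one_eq_bot, sup_bot_eq] at hs
      exact hs
    exact ((topEquiv.symm.trans (MulEquiv.subgroupCongr hM.symm)).trans e)
  · obtain ⟨f⟩ := equiv_prod (M := M) (z := ψ z) (fun m _ => hzc m) hd hs
    obtain ⟨e2⟩ := equiv_two (z := ψ z) (by rw [← map_mul, F.z2, map_one]) fun h =>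
      hz (hψinj hzQ (one_mem Q) (h.trans (map_one ψ).symm))
    exact ⟨f.trans (e.prodCongr e2)⟩

end CfsgLib.PLocal.DihPush
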