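import Cfsg.Agent.Lib.PLocal.DihPushBound
import Cfsg.Agent.Lib.PLocal.DihPushSym

/-!
Pushing up a Sylow `2`-subgroup of a group with dihedral quotient by `O₂`.
-/

set_option autoImplicit false
set_option linter.unusedSectionVars false

namespace CfsgLib.PLocal.DihPush

open Subgroup
open scoped Pointwise

theorem two_unit {n : ℕ} (hn : Odd n) : IsUnit (2 : ZMod n) := by
  have := (ZMod.isUnit_iff_coprime 2 n).2 hn.coprime_two_left
  simpa using this

theorem dihedral_top {n : ℕ} {D : Subgroup (DihedralGroup n)} {a b : ZMod n} (hu : IsUnit (b - a))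
    (ha : DihedralGroup.sr a ∈ D) (hb : DihedralGroup.sr b ∈ D) : D = ⊤ := by
  have hr : DihedralGroup.r (b - a) ∈ D := by
    have := mul_mem ha hb
    rwa [DihedralGroup.sr_mul_sr] at this
  obtain ⟨u, hu⟩ := hu
  have hall : ∀ i : ZMod n, DihedralGroup.r i ∈ D := fun i => by
    obtain ⟨k, hk⟩ := ZMod.intCast_surjective (i * (↑u⁻¹ : ZMod n))
    have : DihedralGroup.r (b - a) ^ k = DihedralGroup.r i := by
      rw [DihedralGroup.r_zpow, hk, ← hu, mul_comm i, ← mul_assoc, Units.mul_inv, one_mul]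
    exact this ▸ zpow_mem hr k
  rw [eq_top_iff]
  intro g _
  rcases g with i | i
  · exact hall i
  · have := mul_mem ha (hall (i - a))
    rwa [DihedralGroup.sr_mul_r, add_sub_cancel] at this

/-- Pushing up with a dihedral quotient. -/
theorem dihedral_push {G : Type*} [Group G] [Finite G]
    (H : Subgroup G) (hO : Cfsg.pCore 2 ↥H ≠ ⊥) (n : ℕ) (hn : 2 ≤ n)
    (hdih : Nonempty (↥H ⧸ Cfsg.pCore 2 ↥H ≃* DihedralGroup n))
    (P : Subgroup G) (hPH : P ≤ H) (hP : IsPGroup 2 P) (hPsyl : ¬ 2 ∣ P.relIndex H)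
    (y : G) (hy2 : y ^ 2 ∈ P ⊔ centralizer (P : Set G)) (hyN : cj y P = P)
    (hyQ : ∀ Q : Subgroup G, Q ≤ P → (Q.subgroupOf H).Normal → cj y Q = Q → Q = ⊥) :
    (Nat.card P = 4 ∨ Nat.card P = 8 ∨ Nat.card P = 16) ∧
    (Nonempty (↥H ⧸ Cfsg.oddCore ↥H ≃* Multiplicative (ZMod 2) × Multiplicative (ZMod 2)) ∨
     Nonempty (↥H ⧸ Cfsg.oddCore ↥H ≃* Equiv.Perm (Fin 4)) ∨
     Nonempty (↥H ⧸ Cfsg.oddCore ↥H ≃* Equiv.Perm (Fin 4) × Multiplicative (ZMod 2))) := by
  haveI : Fact (Nat.Prime 2) := ⟨Nat.prime_two⟩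
  haveI : NeZero n := ⟨by omega⟩
  obtain ⟨e⟩ := hdih
  have hQ2 := CfsgLib.Comp.isPGroup_pCore 2 ↥H
  haveI hQn : (Cfsg.pCore 2 ↥H).Normal := sSup_normal _ fun _ h => h.1
  let π : ↥H →* DihedralGroup n := e.toMonoidHom.comp (QuotientGroup.mk' (Cfsg.pCore 2 ↥H))
  have hπs : Function.Surjective π := e.surjective.comp (QuotientGroup.mk'_surjective _)
  have hker : π.ker = Cfsg.pCore 2 ↥H := by
    ext x
    simp [π, MonoidHom.mem_ker]
  -- `n` is odd
  have hodd : Odd n := by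
    rw [← Nat.not_even_iff_odd]
    rintro ⟨m, rfl⟩
    let Z : Subgroup (DihedralGroup (m + m)) := zpowers (DihedralGroup.r (m : ZMod (m + m)))
    have hmm : ((m : ZMod (m + m)) + m) = 0 := by
      rw [← Nat.cast_add, ZMod.natCast_self]
    have hZn : Z.Normal := ⟨fun x hx g => by
      obtain ⟨k, rfl⟩ := mem_zpowers_iff.1 hx
      rw [← conj_zpow]
      refine zpow_mem ?_ k
      rcases g with i | i
      · simpa [Z] using mem_zpowers (DihedralGroup.r (m : ZMod (m + m)))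
      · have : -(m : ZMod (m + m)) = m := neg_eq_of_add_eq_zero_left hmm
        simpa [Z, this] using mem_zpowers (DihedralGroup.r (m : ZMod (m + m)))⟩
    have hZ2 : IsPGroup 2 Z := by
      intro ⟨x, hx⟩
      obtain ⟨k, rfl⟩ := mem_zpowers_iff.1 hx
      refine ⟨1, Subtype.ext ?_⟩
      change (DihedralGroup.r (m : ZMod (m + m)) ^ k) ^ (2 ^ 1) = 1
      rw [pow_one, ← zpow_natCast, ← zpow_mul, mul_comm, zpow_mul, zpow_natCast, pow_two,
        DihedralGroup.r_mul_r, hmm]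
      exact one_zpow k
    have hle : Z.comap π ≤ Cfsg.pCore 2 ↥H :=
      le_sSup ⟨hZn.comap π, hZ2.comap_of_ker_isPGroup π (hker ▸ hQ2)⟩
    obtain ⟨x, hx⟩ := hπs (DihedralGroup.r (m : ZMod (m + m)))
    have h1 : π x = 1 := by
      rw [← MonoidHom.mem_ker, hker]
      exact hle (mem_comap.2 (hx ▸ mem_zpowers _))
    rw [hx, DihedralGroup.one_def, DihedralGroup.r.injEq, ← Nat.cast_zero (R := ZMod (m + m)),
      ZMod.natCast_eq_natCast_iff', Nat.zero_mod, Nat.mod_eq_of_lt (by omega)] at h1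
    omega
  -- `Q` has index two in `P`
  let Q : Subgroup G := (Cfsg.pCore 2 ↥H).map H.subtype
  have hQH : Q ≤ H := map_subtype_le _
  have hQmem : ∀ {x : G} (hx : x ∈ H), x ∈ Q ↔ π ⟨x, hx⟩ = 1 := by
    intro x hx
    rw [← MonoidHom.mem_ker, hker]
    exact ⟨fun ⟨w, hw, e⟩ => (show w = ⟨x, hx⟩ from Subtype.ext e) ▸ hw, fun h => ⟨_, h, rfl⟩⟩
  have hQnorm : H ≤ normalizer (Q : Set G) := by
    intro h hh
    refine mem_normalizer_iff.2 fun x => ?_
    constructor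
    · intro hx
      exact ⟨_, hQn.conj_mem _ ((hker ▸ (hQmem (hQH hx)).1 hx : (⟨x, hQH hx⟩ : H) ∈ _)) ⟨h, hh⟩, rfl⟩
    · intro hx
      have hm := hQn.conj_mem _ ((hker ▸ (hQmem (hQH hx)).1 hx : (⟨_, hQH hx⟩ : H) ∈ _))
        ⟨h⁻¹, inv_mem hh⟩
      refine ⟨_, hm, ?_⟩
      simp [mul_assoc]
  have hQP : Q ≤ P := by
    let S : Sylow 2 ↥H := (hP.comap_subtype : IsPGroup 2 (P.subgroupOf H)).toSylow hPsyl
    have hle : Cfsg.pCore 2 ↥H ≤ (S : Subgroup ↥H) := by
      have h2 : IsPGroup 2 ↥((S : Subgroup ↥H) ⊔ Cfsg.pCore 2 ↥H) := S.2.to_sup_of_normal_right hQ2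
      exact le_sup_right.trans (S.3 h2 le_sup_left).le
    rintro _ ⟨x, hx, rfl⟩
    exact hle hx
  have hrefl : ∀ {x : G} (hx : x ∈ P), x ∉ Q → ∃ i, π ⟨x, hPH hx⟩ = DihedralGroup.sr i := by
    intro x hx hxQ
    rcases hπ : π ⟨x, hPH hx⟩ with i | i
    · exfalso
      obtain ⟨a, ha⟩ := hP ⟨x, hx⟩
      have hx2 : x ^ 2 ^ a = 1 := congrArg Subtype.val ha
      have h1 : orderOf (π ⟨x, hPH hx⟩) ∣ 2 ^ a := orderOf_dvd_of_pow_eq_one (by
        rw [← map_pow, show (⟨x, hPH hx⟩ : H) ^ 2 ^ a = 1 from Subtype.ext hx2, map_one])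
      have h2 : orderOf (π ⟨x, hPH hx⟩) ∣ n := orderOf_dvd_of_pow_eq_one (by
        rw [hπ, DihedralGroup.r_pow, ZMod.natCast_self, mul_zero]
        rfl)
      exact hxQ ((hQmem (hPH hx)).2 (orderOf_eq_one_iff.1 (Nat.eq_one_of_dvd_coprimes
        (Nat.Coprime.pow_left a hodd.coprime_two_left) h1 h2)))
    · exact ⟨i, rfl⟩
  obtain ⟨t₀, ht₀, ht₀Q⟩ : ∃ t ∈ P, t ∉ Q := by
    by_contra hcon
    push_neg at hcon
    have hle : P.subgroupOf H ≤ π.ker := fun x hx => (hQmem x.2).1 (hcon x hx)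
    have h1 := Subgroup.index_dvd_of_le hle
    rw [Subgroup.index_ker, MonoidHom.range_eq_top.2 hπs, card_top, DihedralGroup.nat_card] at h1
    exact hPsyl ((dvd_mul_right 2 n).trans h1)
  obtain ⟨cc, hcc⟩ := hπs (DihedralGroup.r 1)
  -- generation
  have hgenX : ∀ (Y : Subgroup G), Q ≤ Y → ∀ {x x' : G} (hx : x ∈ H) (hx' : x' ∈ H) {a b : ZMod n},
      x ∈ Y → x' ∈ Y → π ⟨x, hx⟩ = DihedralGroup.sr a → π ⟨x', hx'⟩ = DihedralGroup.sr b →
      IsUnit (b - a) → H ≤ Y := by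
    intro Y hQY x x' hx hx' a b hxY hx'Y hπx hπx' hu h hh
    have htop := dihedral_top (D := (Y.subgroupOf H).map π) hu
      (hπx ▸ mem_map_of_mem π (show (⟨x, hx⟩ : H) ∈ Y.subgroupOf H from hxY))
      (hπx' ▸ mem_map_of_mem π (show (⟨x', hx'⟩ : H) ∈ Y.subgroupOf H from hx'Y))
    have hk : π.ker ≤ Y.subgroupOf H := fun g hg => hQY ((hQmem g.2).2 hg)
    have := mem_comap.2 (htop.ge (mem_top (π ⟨h, hh⟩)))
    rw [comap_map_eq_self hk] at this
    exact this
  have hQcj : ∀ {h : G}, h ∈ H → Q ≤ cj h P := fun hh => by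
    rw [← cj_eq_of_mem (hQnorm hh)]; exact cj_mono hQP
  have hQne : Q ≠ ⊥ := fun h => hO ((map_eq_bot_iff_of_injective _ H.subtype_injective).1 h)
  have S : Setup G H P Q y (cc : G) := by
    refine ⟨hQP, hPH, hQnorm, hP, hQne, ?_, hyN, by rwa [pow_two] at hy2, cc.2, ?_, ?_, ?_⟩
    · intro a ha b hb haQ hbQ
      obtain ⟨i, hi⟩ := hrefl ha haQ
      obtain ⟨j, hj⟩ := hrefl hb hbQ
      refine (hQmem (mul_mem (hPH ha) (hPH hb))).2 ?_
      rw [show (⟨a * b, _⟩ : H) = ⟨a, hPH ha⟩ * ⟨b, hPH hb⟩ from rfl, map_mul, hi, hj,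
        DihedralGroup.sr_mul_sr]
      -- a product of two reflections from a `2`-group
      obtain ⟨m, hm⟩ := hP ⟨a * b, mul_mem ha hb⟩
      have h1 : π (⟨a, hPH ha⟩ * ⟨b, hPH hb⟩) ^ 2 ^ m = 1 := by
        rw [← map_pow, show (⟨a, hPH ha⟩ * ⟨b, hPH hb⟩ : H) ^ 2 ^ m = 1 from
          Subtype.ext (congrArg (fun p : P => (p : G)) hm), map_one]
      rw [map_mul, hi, hj, DihedralGroup.sr_mul_sr] at h1
      refine orderOf_eq_one_iff.1 (Nat.eq_one_of_dvd_coprimes
        (Nat.Coprime.pow_left m hodd.coprime_two_left) (orderOf_dvd_of_pow_eq_one h1)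
        (orderOf_dvd_of_pow_eq_one ?_))
      rw [DihedralGroup.r_pow, ZMod.natCast_self, mul_zero]
      rfl
    · obtain ⟨i, hi⟩ := hrefl ht₀ ht₀Q
      refine hgenX _ (hQP.trans le_sup_left) (hPH ht₀)
        (mul_mem (mul_mem cc.2 (hPH ht₀)) (inv_mem cc.2)) (mem_sup_left ht₀)
        (mem_sup_right (conj_mem_cj ht₀)) hi (b := i - 2) ?_ ?_
      · change π (cc * ⟨t₀, hPH ht₀⟩ * cc⁻¹) = _
        rw [map_mul, map_mul, map_inv, hcc, hi, DihedralGroup.r_mul_sr, DihedralGroup.inv_r,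
          DihedralGroup.sr_mul_r]
        congr 1; ring
      · rw [sub_sub_cancel_left]; exact (two_unit hodd).neg
    · intro t ht htQ
      obtain ⟨i, hi⟩ := hrefl ht htQ
      have htH := hPH ht
      refine hgenX _ ((hQcj cc.2).trans le_sup_left)
        (mul_mem (mul_mem cc.2 htH) (inv_mem cc.2))
        (mul_mem (mul_mem (mul_mem (mul_mem htH cc.2) (inv_mem htH)) htH)
          (inv_mem (mul_mem (mul_mem htH cc.2) (inv_mem htH))))
        (a := i - 2) (b := i + 2)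
        (mem_sup_left (conj_mem_cj ht)) (mem_sup_right (conj_mem_cj ht)) ?_ ?_ ?_
      · change π (cc * ⟨t, htH⟩ * cc⁻¹) = _
        rw [map_mul, map_mul, map_inv, hcc, hi, DihedralGroup.r_mul_sr, DihedralGroup.inv_r,
          DihedralGroup.sr_mul_r]
        congr 1; ring
      · change π (⟨t, htH⟩ * cc * ⟨t, htH⟩⁻¹ * ⟨t, htH⟩ * (⟨t, htH⟩ * cc * ⟨t, htH⟩⁻¹)⁻¹) = _
        simp only [map_mul, map_inv, hcc, hi, mul_inv_rev, inv_inv, DihedralGroup.inv_sr,
          DihedralGroup.inv_r, DihedralGroup.sr_mul_r, DihedralGroup.sr_mul_sr,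
          DihedralGroup.r_mul_r, DihedralGroup.r_mul_sr]
        congr 1; ring
      · rw [show i + 2 - (i - 2) = 2 * 2 by ring]; exact (two_unit hodd).mul (two_unit hodd)
    · intro X hX hn hy
      exact hyQ X hX ((normal_subgroupOf_iff_le_normalizer (hX.trans hPH)).2 hn) hy
  have hPcard : Nat.card P = 2 * Nat.card Q := by
    refine le_antisymm (card_le_two_mul hQP S.two) ?_
    obtain ⟨m, hm⟩ := Subgroup.card_dvd_of_le hQP
    rw [hm, mul_comm 2]
    refine Nat.mul_le_mul_left _ ?_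
    rcases m with _ | _ | m
    · exact absurd (hm.trans (mul_zero _)) (Nat.card_pos (α := P)).ne'
    · exact absurd ((Subgroup.eq_of_le_of_card_ge hQP (hm.trans (mul_one _)).le).ge ht₀) ht₀Q
    · omega
  by_cases hZ : Zs P ≤ Q
  · obtain ⟨t, k, k', W, Q₁, ht, htQ, htt, hab, hsq, hWQ, hdis, hWn, hW4, hQ₁2, hQ₁c, hWcl, hWmem,
      hk1, hk'1, hkne, htk, htk', hsk, hsk'⟩ := S.bound hZ
    obtain ⟨z, hzQ₁, hz⟩ : ∃ z ∈ Q₁, Q₁ = zpowers z := by
      by_cases h1 : Q₁ = ⊥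
      · exact ⟨1, one_mem _, by rw [h1, zpowers_one_eq_bot]⟩
      · obtain ⟨z, hz, hz1⟩ : ∃ z ∈ Q₁, z ≠ 1 := by
          by_contra hc
          push_neg at hc
          exact h1 ((eq_bot_iff_forall _).2 hc)
        refine ⟨z, hz, (Subgroup.eq_of_le_of_card_ge (zpowers_le.2 hz) ?_).symm⟩
        have : 2 ≤ Nat.card (zpowers z) := by
          rw [Nat.card_zpowers]
          have h2 : orderOf z ≠ 1 := fun e => hz1 (orderOf_eq_one_iff.1 e)
          have h3 := orderOf_pos z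
          omega
        omega
    have hWQ' : W ≤ Q := le_sup_left.trans hWQ.le
    have hQ₁Q : Q₁ ≤ Q := le_sup_right.trans hWQ.le
    have hkQ : k ∈ Q := hWQ' (hWcl ▸ subset_closure (Or.inl rfl))
    have hk'Q : k' ∈ Q := hWQ' (hWcl ▸ subset_closure (Or.inr rfl))
    obtain ⟨i, hi⟩ := hrefl ht htQ
    have hs : π (cc * ⟨t, hPH ht⟩ * cc⁻¹) = DihedralGroup.sr (i - 2) := by
      rw [map_mul, map_mul, map_inv, hcc, hi, DihedralGroup.r_mul_sr, DihedralGroup.inv_r,
        DihedralGroup.sr_mul_r]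
      congr 1; ring
    have hnrot : ∀ {x : ↥H} {j : ZMod n}, π x = DihedralGroup.sr j → x ∉ Rot π := by
      intro x j hx hx'
      obtain ⟨l, hl⟩ := mem_Rot.1 hx'
      rw [hx] at hl
      cases hl
    have hF : Four π (Q.subgroupOf H) (W.subgroupOf H) ⟨t, hPH ht⟩ (cc * ⟨t, hPH ht⟩ * cc⁻¹)
        ⟨k, hQH hkQ⟩ ⟨k', hQH hk'Q⟩ ⟨z, hQH (hQ₁Q hzQ₁)⟩ := by
      refine ⟨⟨hodd, ?_, ?_, ?_⟩, ?_, ?_, ?_, ?_, ?_, ?_, ?_, Subtype.ext htt, ?_, hnrot hi,
        hnrot hs, ?_, ?_, ?_, Subtype.ext htk, Subtype.ext htk', Subtype.ext hsk,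
        Subtype.ext hsk'⟩
      · ext x
        exact (hQmem x.2).symm
      · exact fun a ha b hb => Subtype.ext (hab a ha b hb)
      · exact fun a ha => Subtype.ext (hsq a ha)
      · exact (normal_subgroupOf_iff_le_normalizer (hWQ'.trans hQH)).2 hWn
      · intro w
        refine ⟨fun hw => ?_, ?_⟩
        · rcases hWmem w hw with h | h | h | h
          exacts [Or.inl (Subtype.ext h), Or.inr (Or.inl (Subtype.ext h)),
            Or.inr (Or.inr (Or.inl (Subtype.ext h))), Or.inr (Or.inr (Or.inr (Subtype.ext h)))]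
        · have h1 : k ∈ W := hWcl ▸ subset_closure (Or.inl rfl)
          have h2 : k' ∈ W := hWcl ▸ subset_closure (Or.inr rfl)
          rintro (rfl | rfl | rfl | rfl)
          exacts [one_mem _, h1, h2, mul_mem h1 h2]
      · rw [← hW4]
        exact Nat.card_congr (subgroupOfEquivOfLe (hWQ'.trans hQH)).toEquiv
      · exact Subtype.ext (hsq z (hQ₁Q hzQ₁))
      · exact fun g => Subtype.ext (hQ₁c z hzQ₁ g g.2)
      · refine map_injective H.subtype_injective ?_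
        rw [Subgroup.map_sup, MonoidHom.map_zpowers, map_subgroupOf_eq_of_le (hWQ'.trans hQH),
          map_subgroupOf_eq_of_le hQH]
        change W ⊔ zpowers z = Q
        rw [← hz]; exact hWQ
      · rw [disjoint_iff_inf_le]
        rintro x ⟨hxW, hxz⟩
        obtain ⟨j, rfl⟩ := mem_zpowers_iff.1 hxz
        refine mem_bot.2 (Subtype.ext (mem_bot.1 (disjoint_iff_inf_le.1 hdis (mem_inf.2 ⟨hxW, ?_⟩))))
        rw [SubgroupClass.coe_zpow]
        exact hz ▸ zpow_mem (mem_zpowers z) j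
      · refine Subtype.ext ?_
        change (cc : G) * t * (cc : G)⁻¹ * ((cc : G) * t * (cc : G)⁻¹) = 1
        rw [show (cc : G) * t * (cc : G)⁻¹ * ((cc : G) * t * (cc : G)⁻¹) =
          (cc : G) * (t * t) * (cc : G)⁻¹ by group, htt, mul_one, mul_inv_cancel]
      · exact fun e => hk1 (congrArg Subtype.val e)
      · exact fun e => hk'1 (congrArg Subtype.val e)
      · exact fun e => hkne (congrArg Subtype.val e)
    obtain ⟨hS4, hS42⟩ := hF.shape
    have hQcard : Nat.card Q ≤ 8 ∧ 4 ≤ Nat.card Q := by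
      refine ⟨?_, hW4 ▸ Nat.le_of_dvd Nat.card_pos (Subgroup.card_dvd_of_le hWQ')⟩
      have h1 : (Q : Set G) ⊆ (W : Set G) * (Q₁ : Set G) := by
        rw [← coe_mul_of_left_le_normalizer_right W Q₁ fun w hw => centralizer_le_normalizer _
          fun q hq => (hQ₁c q hq w (hQH (hWQ' hw))).symm, hWQ]
      let f : W × Q₁ → Q := fun a => ⟨a.1.1 * a.2.1, mul_mem (hWQ' a.1.2) (hQ₁Q a.2.2)⟩
      have hf : Function.Surjective f := fun q => by
        obtain ⟨w, hw, a, ha, e⟩ := h1 q.2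
        exact ⟨(⟨w, hw⟩, ⟨a, ha⟩), Subtype.ext e⟩
      have := Nat.card_le_card_of_surjective f hf
      rw [Nat.card_prod, hW4] at this
      omega
    refine ⟨?_, ?_⟩
    · obtain ⟨a, ha⟩ := (IsPGroup.iff_card).1 (hP.to_le hQP : IsPGroup 2 Q)
      obtain ⟨hle8, hge4⟩ := hQcard
      rcases (show a ≤ 1 ∨ a = 2 ∨ a = 3 ∨ 4 ≤ a by omega) with e | e | e | e
      · have := Nat.pow_le_pow_right (show 0 < 2 by norm_num) e
        omega
      · subst e; omega
      · subst e; omega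
      · have := Nat.pow_le_pow_right (show 0 < 2 by norm_num) e
        omega
    · by_cases hz1 : z = 1
      · exact Or.inr (Or.inl (hS4 (Subtype.ext hz1)))
      · exact Or.inr (Or.inr (hS42 fun e => hz1 (congrArg Subtype.val e)))
  · obtain ⟨z, hz, hzQ⟩ := SetLike.not_le_iff_exists.1 hZ
    have hQ2c := S.card_Q_central hz hzQ
    refine ⟨Or.inl (by rw [hPcard, hQ2c]), Or.inl ?_⟩
    obtain ⟨q, hqQ, hq1⟩ : ∃ q ∈ Q, q ≠ 1 := by
      by_contra hc
      push_neg at hc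
      exact hQne ((eq_bot_iff_forall Q).2 hc)
    have hall : ∀ a ∈ Q, a ≠ 1 → a = q := by
      intro a ha ha1
      by_contra hne
      have h3 : ({1, q, a} : Set G) ⊆ (Q : Set G) := by
        rintro x (rfl | rfl | rfl)
        exacts [one_mem Q, hqQ, ha]
      have h4 := Set.ncard_le_ncard h3 (Set.toFinite _)
      rw [Set.ncard_eq_three.2 ⟨1, q, a, Ne.symm hq1, Ne.symm ha1, Ne.symm hne, rfl⟩,
        ← Nat.card_coe_set_eq] at h4
      change 3 ≤ Nat.card Q at h4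
      omega
    have hqc : ∀ g ∈ H, g * q = q * g := fun g hg => by
      have h1 := (mem_normalizer_iff.1 (hQnorm hg) q).1 hqQ
      exact mul_inv_eq_iff_eq_mul.1 (hall _ h1 fun e => hq1 (conj_eq_one_iff.1 e))
    have hq2 : q * q = 1 := by
      by_contra h
      exact hq1 (mul_eq_left.1 (hall _ (mul_mem hqQ hqQ) h))
    have hQeq : Q.subgroupOf H = zpowers ⟨q, hQH hqQ⟩ := by
      refine le_antisymm (fun x hx => ?_) (zpowers_le.2 hqQ)
      by_cases hx1 : (x : G) = 1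
      · rw [show x = 1 from Subtype.ext hx1]; exact one_mem _
      · rw [show x = ⟨q, hQH hqQ⟩ from Subtype.ext (hall _ hx hx1)]; exact mem_zpowers _
    obtain ⟨i, hi⟩ := hrefl hz.1 hzQ
    refine Frame.four (π := π) (Q := Q.subgroupOf H) ⟨hodd, ?_, ?_, ?_⟩
      (q := ⟨q, hQH hqQ⟩) (z := ⟨z, hPH hz.1⟩) hQeq
      (fun g => Subtype.ext (hqc g g.2)) (fun e => hq1 (congrArg Subtype.val e))
      (Subtype.ext hz.2.1) ?_
    · ext x
      exact (hQmem x.2).symm
    · intro a ha b _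
      by_cases ha1 : (a : G) = 1
      · rw [show a = 1 from Subtype.ext ha1, one_mul, mul_one]
      · refine Subtype.ext ?_
        change (a : G) * b = b * a
        rw [show (a : G) = q from hall _ ha ha1, hqc b b.2]
    · intro a ha
      refine Subtype.ext ?_
      change (a : G) * a = 1
      by_cases ha1 : (a : G) = 1
      · rw [ha1, one_mul]
      · rw [show (a : G) = q from hall _ ha ha1, hq2]
    · intro h
      obtain ⟨l, hl⟩ := mem_Rot.1 h
      rw [hi] at hl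
      cases hl

end CfsgLib.PLocal.DihPush
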