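import Cfsg.Agent.Lib.PLocal.DihPushRadius

/-!
The critical distance is one: `Vs` is not contained in the neighbouring kernel.
-/

set_option autoImplicit false
set_option linter.unusedSectionVars false

namespace CfsgLib.PLocal.DihPush

open Subgroup

variable {G : Type*} [Group G] {H P Q : Subgroup G} {y c k : G}
variable (S : Setup G H P Q y c) (hZ : Zs P ≤ Q)
include S hZ

namespace Setup

theorem exists_norm_crit [Finite G] {b : ℕ} (h1 : 1 ≤ b) {p : ℕ → G} (hp : Crit H P Q y b p) :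
    ∃ q, Crit H P Q y b q ∧ q 0 = 1 ∧ Ed H y 1 (q 1) 1 := by
  obtain ⟨u, hu⟩ := hp.1 0 (by omega)
  have hu' := hu.mul u⁻¹
  rw [inv_mul_cancel] at hu'
  have hh : u⁻¹ * p 0 ∈ H := by
    simpa using inv_mem hu.1
  refine ⟨fun i => if i = 0 then 1 else u⁻¹ * p i, ⟨?_, ?_⟩, rfl, ?_⟩
  · intro i hi
    rcases i with _ | i
    · exact ⟨1, by simp, by simpa using hu'.2⟩
    · obtain ⟨v, hv⟩ := (hp.1.mul u⁻¹) (i + 1) hi
      exact ⟨v, by simpa using hv⟩
  · simp only [ite_true, if_neg (show ¬ b = 0 by omega), cj_one]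
    intro hle
    refine hp.2 ?_
    rw [← cj_le_iff (g := u⁻¹), ← cj_mul, ← cj_mul, cj_eq_of_mem (S.Vs_norm hh)]
    exact hle
  · exact ⟨by simp, by simpa using hu'.2⟩

theorem b_eq_one [Finite G] (hk : KSpec H P Q k) {b : ℕ} (h1 : 1 ≤ b)
    (hb : Short H P Q y b) (hp' : ∃ p, Crit H P Q y b p) : b = 1 := by
  by_contra hb1
  have h2 : 2 ≤ b := by omega
  obtain ⟨p₀, hp₀⟩ := hp'
  obtain ⟨p, hp, h0, he⟩ := S.exists_norm_crit hZ h1 hp₀
  obtain ⟨n, rfl⟩ : ∃ n, b = n + 2 := ⟨b - 2, by omega⟩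
  obtain ⟨hq, hed⟩ := S.shift hZ hk h2 hb hp h0 he S.cH S.gen
  -- the translated edge commutator is centralized by `H`
  have hz : y * k * y⁻¹ ∈ Zs P ⊓ cj c (Zs P) := by
    obtain ⟨u₀, hu₀⟩ := hp.1 n (by omega)
    obtain ⟨u, hu⟩ := hu₀.symm
    have hw : Ed H y (p (n + 1)) (p n) u := hu
    have hK := S.crit_k hZ hk h1 hb hq (u := c * y) (w := u)
      (by simpa [h0] using hed) (by simpa using hw)
    have hR : c * y * k * (c * y)⁻¹ = c * (y * k * y⁻¹) * c⁻¹ := by group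
    rw [hR] at hK
    obtain ⟨x, hx, hx'⟩ := SetLike.not_le_iff_exists.1 (S.rev_crit hZ h1 hb hp)
    rw [h0, cj_one] at hx'
    have hxP : x ∈ P := by
      have := S.le_edge hZ hb (n := n + 1) (by omega) hp.1.rev (u := 1) (by simpa [h0] using he)
      simp only [Nat.sub_zero] at this
      simpa [mem_cj] using this hx
    have hxw : u⁻¹ * x * u ∈ P := by
      obtain ⟨u₁, hu₁⟩ := hp.1 (n + 1) (by omega)
      have h3 := hb 1 (by omega) (fun i => p (n + 2 - i))
        ((hp.1.rev).mono (by omega)) (by simpa using hx)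
      rw [show n + 2 - 1 = n + 1 by omega, S.Qv_left hw] at h3
      exact S.QP (mem_cj.1 h3)
    have hyk := S.Zs_y hk.1
    have hV : c * (y * k * y⁻¹) * c⁻¹ ∈ Vs H P := S.Vs_mem S.cH hyk
    have hcomm : x * (c * (y * k * y⁻¹) * c⁻¹) = c * (y * k * y⁻¹) * c⁻¹ * x := by
      rw [hK]
      have := hk.1.2.2 _ hxw
      calc x * (u * k * u⁻¹) = u * (u⁻¹ * x * u * k) * u⁻¹ := by group
        _ = u * (k * (u⁻¹ * x * u)) * u⁻¹ := by rw [this]
        _ = u * k * u⁻¹ * x := by group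
    have hF : c * (y * k * y⁻¹) * c⁻¹ ∈ Zs P ⊓ cj c (Zs P) :=
      mem_inf.2 ⟨S.mem_Zs_of_comm hZ hxP hx' hV hcomm, conj_mem_cj hyk⟩
    have h4 := S.F_conj hF (inv_mem S.cH)
    rw [show c⁻¹ * (c * (y * k * y⁻¹) * c⁻¹) * c⁻¹⁻¹ = y * k * y⁻¹ by group] at h4
    rwa [← h4] at hF
  have hkz : y * (y * k * y⁻¹) * y⁻¹ = k := S.y2_comm hk.1.1 hk.1.2.2
  have hz1 : y * k * y⁻¹ ≠ 1 := fun e => hk.2.1 (by rw [← hkz, e]; group)
  have hkF : k ∉ Zs P ⊓ cj c (Zs P) := fun h =>
    hz1 (S.F_y hz (by rw [hkz]; exact h))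
  -- the vertex involutions at the two inner ends of a critical walk agree
  have crit_z : ∀ {q : ℕ → G}, Crit H P Q y (n + 2) q →
      q 1 * (y * k * y⁻¹) * (q 1)⁻¹ = q (n + 1) * (y * k * y⁻¹) * (q (n + 1))⁻¹ := by
    intro q hq
    obtain ⟨u, hu⟩ := hq.1 0 (by omega)
    obtain ⟨w₀, hw₀⟩ := hq.1 (n + 1) (by omega)
    obtain ⟨w, hw⟩ := hw₀.symm
    rw [S.side_z hZ hu hz hkz, S.side_z hZ hw hz hkz]
    exact S.crit_k hZ hk h1 hb hq hu hw
  obtain ⟨t, ht, htQ⟩ : ∃ t, t ∈ cj (p (n + 2)) (Vs H P) ∧ t ∉ Q := by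
    have := S.rev_crit hZ h1 hb hp
    rw [h0, cj_one] at this
    exact SetLike.not_le_iff_exists.1 this
  have htP : t ∈ P := by
    have := S.le_edge hZ hb (n := n + 1) (by omega) hp.1.rev (u := 1) (by simpa [h0] using he)
    simp only [Nat.sub_zero] at this
    simpa [mem_cj] using this ht
  have htH := S.PH htP
  have hc'H : t * c * t⁻¹ ∈ H := mul_mem (mul_mem htH S.cH) (inv_mem htH)
  have hgen' : H ≤ P ⊔ cj (t * c * t⁻¹) P := by
    have h3 : cj t H ≤ cj t (P ⊔ cj c P) := cj_mono S.gen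
    rw [cj_eq_of_mem (le_normalizer htH), cj_sup, cj_eq_of_mem (le_normalizer htP), ← cj_mul] at h3
    rwa [cj_mul (t * c) t⁻¹, cj_eq_of_mem (le_normalizer (inv_mem htP))]
  rcases n with _ | m
  · -- radius two
    have hgd : H ≤ P ⊔ cj (c⁻¹ * (t * c * t⁻¹)) P := by
      have h3 : cj c⁻¹ H ≤ cj c⁻¹ (cj c P ⊔ cj (t * c * t⁻¹) P) := cj_mono (S.gen2 t htP htQ)
      rwa [cj_eq_of_mem (le_normalizer (inv_mem S.cH)), cj_sup, ← cj_mul, inv_mul_cancel, cj_one,
        ← cj_mul] at h3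
    obtain ⟨hr, -⟩ := S.shift hZ hk h2 hb hp h0 he
      (mul_mem (inv_mem S.cH) hc'H) hgd
    have hp1 : cj (p 1) Q = cj y Q := by rw [S.Qv_right he, cj_one]
    have hpair : ¬ cj (t * c * t⁻¹ * y) (Vs H P) ≤ cj (c * y) Q := by
      intro hle
      refine hr.2 ?_
      simp only [ite_true, if_neg (show ¬ (2 = 0) by omega), show (2 : ℕ) - 1 = 1 from rfl]
      rw [hp1, ← cj_le_iff (g := c), ← cj_mul, ← cj_mul,
        show c * (c⁻¹ * (t * c * t⁻¹) * y) = t * c * t⁻¹ * y by group]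
      exact hle
    obtain ⟨x, hx, hx'⟩ := SetLike.not_le_iff_exists.1 hq.2
    simp only [ite_true, if_neg (show ¬ (0 + 2 = 0) by omega), show 0 + 2 - 1 = 1 from rfl] at hx hx'
    rw [hp1] at hx'
    have hcy : ∀ d, d ∈ H → Ed H y (d * y) 1 (d * y) := fun d hd =>
      ⟨by simp, Or.inr (by simpa using inv_mem hd)⟩
    have hnear : ∀ d, d ∈ H → cj (d * y) (Vs H P) ≤ Q := by
      intro d hd
      have := hb 1 (by omega) (fun i => if i = 0 then d * y else 1) (fun i hi => by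
        have : i = 0 := by omega
        subst this
        exact ⟨d * y, by simpa using hcy d hd⟩)
      simpa [cj_one] using this
    have hxQ : x ∈ Q := hnear c S.cH hx
    have hxP := S.QP hxQ
    have hx2P : t * x * t⁻¹ ∈ P := mul_mem (mul_mem htP hxP) (inv_mem htP)
    have htn : t ∈ normalizer (cj y Q : Set G) := S.P_norm_cj S.P_norm htP
    have hx2 : t * x * t⁻¹ ∉ cj y Q := fun h => hx' ((mem_normalizer_iff.1 htn x).2 h)
    have hx2V : t * x * t⁻¹ ∈ cj (t * c * t⁻¹ * y) (Vs H P) := by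
      rw [cj_mul, cj_mul (t * c) t⁻¹, cj_eq_of_mem (S.P_norm_cj (S.PH.trans S.Vs_norm)
        (inv_mem htP)), cj_mul t c, ← cj_mul c y]
      exact conj_mem_cj hx
    have hx2Q := hnear _ hc'H hx2V
    -- the two conjugates do not commute
    have hne : (t * x * t⁻¹) * x = x * (t * x * t⁻¹) * (y * k * y⁻¹) := by
      have ha : (t * c * t⁻¹ * y)⁻¹ * x * (t * c * t⁻¹ * y) ∈ P := by
        have h3 : x ∈ cj (t * c * t⁻¹) P := cj_mono S.QP ((S.cj_H_Q hc'H).ge hxQ)
        rw [show cj (t * c * t⁻¹) P = cj (t * c * t⁻¹ * y) P by rw [cj_mul (t * c * t⁻¹) y, S.Py]] at h3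
        exact mem_cj.1 h3
      have hxZ : (c * y)⁻¹ * x * (c * y) ∉ Zs P := by
        intro h
        refine hx' ?_
        have h3 := S.Zs_next hZ (hcy c S.cH) (mem_cj.2 h)
        rw [cj_one] at h3
        have h4 := hb 1 (by omega) p (hp.1.mono (by omega)) (by rw [h0, cj_one]; exact h3)
        rwa [hp1] at h4
      obtain ⟨s, hs, hs'⟩ := SetLike.not_le_iff_exists.1 hpair
      have haQ : (t * c * t⁻¹ * y)⁻¹ * x * (t * c * t⁻¹ * y) ∉ Q := by
        intro h
        refine hxZ (S.mem_Zs_of_comm hZ (t := (c * y)⁻¹ * s * (c * y)) ?_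
          (fun h' => hs' (mem_cj.2 h')) (mem_cj.1 hx) ?_)
        · have h3 : s ∈ cj c P := cj_mono S.QP ((S.cj_H_Q S.cH).ge (hnear _ hc'H hs))
          rw [show cj c P = cj (c * y) P by rw [cj_mul, S.Py]] at h3
          exact mem_cj.1 h3
        · have h3 := S.Vs_central (mem_cj.1 hs) h
          generalize t * c * t⁻¹ * y = g at h3 ⊢
          have h4 : s * x = x * s := by
            calc s * x = g * (g⁻¹ * s * g * (g⁻¹ * x * g)) * g⁻¹ := by group
              _ = g * (g⁻¹ * x * g * (g⁻¹ * s * g)) * g⁻¹ := by rw [h3]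
              _ = x * s := by group
          calc _ = (c * y)⁻¹ * (s * x) * (c * y) := by group
            _ = (c * y)⁻¹ * (x * s) * (c * y) := by rw [h4]
            _ = _ := by group
      have hbZ : (t * c * t⁻¹ * y)⁻¹ * (t * x * t⁻¹) * (t * c * t⁻¹ * y) ∉ Zs P := by
        intro h
        refine hx2 ?_
        have h3 := S.Zs_next hZ (hcy _ hc'H) (mem_cj.2 h)
        rw [cj_one] at h3
        have h4 := hb 1 (by omega) p (hp.1.mono (by omega)) (by rw [h0, cj_one]; exact h3)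
        rwa [hp1] at h4
      have h5 := hk.2.2 _ ha haQ _ (mem_cj.1 hx2V) hbZ
      have h6 := S.F_conj hz hc'H
      generalize hg : t * c * t⁻¹ * y = g at h5
      have hgk : g * k * g⁻¹ = y * k * y⁻¹ := by
        conv_rhs => rw [← h6]
        rw [← hg]; group
      have h7 : x * (t * x * t⁻¹) * x⁻¹ = t * x * t⁻¹ * (y * k * y⁻¹) := by
        rw [← hgk]
        calc _ = g * (g⁻¹ * x * g * (g⁻¹ * (t * x * t⁻¹) * g) * (g⁻¹ * x * g)⁻¹) * g⁻¹ := by group
          _ = _ := by rw [h5]; group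
      generalize t * x * t⁻¹ = x₂ at h7 ⊢
      have h8 : x₂ * (y * k * y⁻¹) * x = x * x₂ := (eq_mul_inv_iff_mul_eq.1 h7.symm)
      have h9 : x * (y * k * y⁻¹) = y * k * y⁻¹ * x := S.F_comm hz (S.PH hxP)
      rw [← h8, mul_assoc x₂ _ x, ← h9, mul_assoc, mul_assoc, ← sq, sq, 
        (mem_inf.1 hz).1.2.1, mul_one]
    have hv : x * (t * x * t⁻¹) ∈ cj (p 1) Q := by
      rw [hp1]; exact S.two' hxP hx2P hx' hx2
    obtain ⟨u₀, hu₀⟩ := hp.1 1 (by omega)
    obtain ⟨u, hu⟩ := hu₀.symm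
    have hvP : u⁻¹ * (x * (t * x * t⁻¹)) * u ∈ P := by
      rw [S.Qv_right hu, mem_cj] at hv
      exact S.Qy_le hv
    have htu := ht
    rw [show (0 : ℕ) + 2 = 1 + 1 from rfl, S.Vv_left hu, mem_cj] at htu
    have hku : u * k * u⁻¹ = k := by
      have := S.crit_k hZ hk h1 hb hp (u := 1) (w := u) (by rw [h0]; exact he) (by simpa using hu)
      simpa using this.symm
    have htt : t * t = 1 := by
      calc t * t = u * (u⁻¹ * t * u * (u⁻¹ * t * u)) * u⁻¹ := by group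
        _ = 1 := by rw [S.Vs_sq hZ htu]; group
    have hti : t⁻¹ = t := inv_eq_of_mul_eq_one_left htt
    have hrev : t * (x * (t * x * t⁻¹)) * t⁻¹ = t * x * t⁻¹ * x := by
      rw [hti]
      calc t * (x * (t * x * t)) * t = t * x * t * x * (t * t) := by group
        _ = t * x * t * x := by rw [htt, mul_one]
    have hne' : t * (x * (t * x * t⁻¹)) * t⁻¹ = x * (t * x * t⁻¹) * (y * k * y⁻¹) := by
      rw [hrev]; exact hne
    have hvP' : x * (t * x * t⁻¹) ∈ P := mul_mem hxP hx2P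
    generalize x * (t * x * t⁻¹) = v at hne' hvP hvP'
    rcases S.k_or hZ hk hvP htu with h5 | h5
    · refine hz1 ?_
      have h6 : v * t = t * v := by
        calc v * t = u * (u⁻¹ * v * u * (u⁻¹ * t * u) * (u⁻¹ * v * u)⁻¹) * u⁻¹ * v := by group
          _ = t * v := by rw [h5]; group
      rw [← h6, mul_inv_cancel_right] at hne'
      exact mul_eq_left.1 hne'.symm
    · refine hkF ?_
      have h6 : v * t = t * k * v := by
        calc v * t = u * (u⁻¹ * v * u * (u⁻¹ * t * u) * (u⁻¹ * v * u)⁻¹) * u⁻¹ * v := by group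
          _ = t * (u * k * u⁻¹) * v := by rw [h5]; group
          _ = t * k * v := by rw [hku]
      have hkt : t * k = k * t := (hk.1.2.2 t htP).symm
      have h7 : t * v = k * (v * t) := by
        rw [h6, hkt, ← mul_assoc, ← mul_assoc, hk.1.2.1, one_mul]
      rw [h7, mul_assoc, mul_inv_cancel_right] at hne'
      have hzv : v * (y * k * y⁻¹) = y * k * y⁻¹ * v := by
        have hvH : v ∈ H := by
          exact S.PH hvP'
        exact S.F_comm hz hvH
      rw [hzv] at hne'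
      rw [mul_right_cancel hne']
      exact hz
  · -- larger radius
    have two : ∀ {d}, d ∈ H → H ≤ P ⊔ cj d P →
        d * k * d⁻¹ = p m * (y * k * y⁻¹) * (p m)⁻¹ := by
      intro d hd hgen
      obtain ⟨hr, her⟩ := S.shift hZ hk h2 hb hp h0 he hd hgen
      let q : ℕ → G := fun i => (d * y)⁻¹ * if i = 0 then d * y else p (i - 1)
      have hq0 : q 0 = 1 := by simp [q]
      have hqe : Ed H y 1 (q 1) 1 := by
        have := her.mul (d * y)⁻¹
        simpa [q, h0] using this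
      have hqc : Crit H P Q y (m + 1 + 2) q := by
        refine ⟨hr.1.mul _, ?_⟩
        intro hle
        refine hr.2 ?_
        simp only [q] at hle
        rwa [cj_mul, cj_mul, cj_le_iff] at hle
      obtain ⟨hs, -⟩ := S.shift hZ hk h2 hb hqc hq0 hqe S.cH S.gen
      have h5 := crit_z hs
      simp only [if_neg (show ¬ (1 = 0) by omega), if_neg (show ¬ (m + 1 + 1 = 0) by omega),
        show (1 : ℕ) - 1 = 0 from rfl, show m + 1 + 1 - 1 = m + 1 by omega, hq0, one_mul, inv_one,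
        mul_one] at h5
      simp only [q, if_neg (show ¬ (m + 1 = 0) by omega), show m + 1 - 1 = m by omega] at h5
      calc d * k * d⁻¹ = d * y * (y * k * y⁻¹) * (d * y)⁻¹ := by
            conv_lhs => rw [← hkz]
            group
        _ = d * y * ((d * y)⁻¹ * p m * (y * k * y⁻¹) * ((d * y)⁻¹ * p m)⁻¹) * (d * y)⁻¹ := by
            rw [← h5]
        _ = p m * (y * k * y⁻¹) * (p m)⁻¹ := by group
    have h5 := (two hc'H hgen').trans (two S.cH S.gen).symm
    have hkt : t⁻¹ * k * t = k := by rw [mul_assoc, hk.1.2.2 t htP, inv_mul_cancel_left]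
    have hcomm : t * (c * k * c⁻¹) = c * k * c⁻¹ * t := by
      calc t * (c * k * c⁻¹) = t * c * (t⁻¹ * k * t) * c⁻¹ := by rw [hkt]; group
        _ = t * c * t⁻¹ * k * (t * c * t⁻¹)⁻¹ * t := by group
        _ = c * k * c⁻¹ * t := by rw [h5]
    have hF : c * k * c⁻¹ ∈ Zs P ⊓ cj c (Zs P) := mem_inf.2
      ⟨S.mem_Zs_of_comm hZ htP htQ (S.Vs_mem S.cH hk.1) hcomm, conj_mem_cj hk.1⟩
    refine hkF ?_
    have h6 := S.F_conj hF (inv_mem S.cH)
    rw [show c⁻¹ * (c * k * c⁻¹) * c⁻¹⁻¹ = k by group] at h6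
    rw [h6]
    exact hF

end Setup

end CfsgLib.PLocal.DihPush
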