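import Cfsg.Agent.Lib.PLocal.DihPushGraph

/-!
The critical distance of a dihedral pushing-up pair is one.
-/

set_option autoImplicit false
set_option linter.unusedSectionVars false

namespace CfsgLib.PLocal.DihPush

open Subgroup

variable {G : Type*} [Group G]

/-- `k` is the commutator of the transvection. -/
def KSpec (H P Q : Subgroup G) (k : G) : Prop :=
  k ∈ Zs P ∧ k ≠ 1 ∧ ∀ t ∈ P, t ∉ Q → ∀ v ∈ Vs H P, v ∉ Zs P → t * v * t⁻¹ = v * k

variable {H P Q : Subgroup G} {y c k : G}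
variable (S : Setup G H P Q y c)
include S

namespace Setup

theorem F_comm {x : G} (hx : x ∈ Zs P ⊓ cj c (Zs P)) {h : G} (hh : h ∈ H) : h * x = x * h := by
  have h1 : P ≤ centralizer ({x} : Set G) := fun p hp =>
    mem_centralizer_singleton_iff.2 ((mem_inf.1 hx).1.2.2 p hp).symm
  have h2 : cj c P ≤ centralizer ({x} : Set G) := fun p hp => by
    refine mem_centralizer_singleton_iff.2 ?_
    have h3 := (mem_cj.1 (mem_inf.1 hx).2).2.2 _ (mem_cj.1 hp)
    calc p * x = c * ((c⁻¹ * p * c) * (c⁻¹ * x * c)) * c⁻¹ := by group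
      _ = c * ((c⁻¹ * x * c) * (c⁻¹ * p * c)) * c⁻¹ := by rw [h3]
      _ = x * p := by group
  exact mem_centralizer_singleton_iff.1 (S.gen.trans (sup_le h1 h2) hh)

theorem F_conj {x : G} (hx : x ∈ Zs P ⊓ cj c (Zs P)) {h : G} (hh : h ∈ H) :
    h * x * h⁻¹ = x := by rw [S.F_comm hx hh, mul_inv_cancel_right]

/-- No nontrivial element centralized by `H` has such a conjugate under `y`. -/
theorem F_y {x : G} (hx : x ∈ Zs P ⊓ cj c (Zs P)) (hy : y * x * y⁻¹ ∈ Zs P ⊓ cj c (Zs P)) :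
    x = 1 := by
  let F : Subgroup G := Zs P ⊓ cj c (Zs P)
  have hFP : F ≤ P := fun a ha => (mem_inf.1 ha).1.1
  have hn : ∀ X : Subgroup G, X ≤ F → H ≤ normalizer (X : Set G) := fun X hX h hh =>
    centralizer_le_normalizer _ fun a ha => (S.F_comm (hX ha) hh).symm
  have h2 : cj y (cj y F) = F := S.y2_norm hFP (S.PH.trans (hn F le_rfl))
  have := S.bad (F ⊓ cj y F) (inf_le_left.trans hFP) (hn _ inf_le_left)
    (by rw [cj_inf, h2, inf_comm])
  have h3 : y * x * y⁻¹ ∈ F ⊓ cj y F := mem_inf.2 ⟨hy, conj_mem_cj hx⟩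
  rw [this, mem_bot] at h3
  calc x = y⁻¹ * (y * x * y⁻¹) * y := by group
    _ = 1 := by rw [h3]; group

variable (hZ : Zs P ≤ Q)
include hZ

theorem F_mul {z z' : G} (hz : z ∈ Zs P) (hz' : z' ∈ Zs P) [Finite G]
    (h : z ∉ cj c (Zs P)) (h' : z' ∉ cj c (Zs P)) : z * z' ∈ Zs P ⊓ cj c (Zs P) := by
  refine mem_inf.2 ⟨mul_mem hz hz', ?_⟩
  have hc : ∀ {a}, a ∈ Zs P → c⁻¹ * a * c ∈ Vs H P := fun {a} ha => by
    have := (mem_normalizer_iff.1 (S.Vs_norm (inv_mem S.cH)) a).1 (S.Zs_le_Vs ha)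
    rwa [inv_inv] at this
  have := S.transv hZ (hc hz) (hc hz') (fun e => h (mem_cj.2 e)) (fun e => h' (mem_cj.2 e))
  exact mem_cj.2 (by rwa [show c⁻¹ * z * c * (c⁻¹ * z' * c) = c⁻¹ * (z * z') * c by group] at this)

theorem k_or (hk : KSpec H P Q k) {t : G} (ht : t ∈ P) {v : G} (hv : v ∈ Vs H P) :
    t * v * t⁻¹ = v ∨ t * v * t⁻¹ = v * k := by
  by_cases htQ : t ∈ Q
  · exact Or.inl (by rw [← S.Vs_central hv htQ, mul_inv_cancel_right])
  by_cases hvZ : v ∈ Zs P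
  · exact Or.inl (by rw [← hvZ.2.2 t ht, mul_inv_cancel_right])
  exact Or.inr (hk.2.2 t ht htQ v hv hvZ)

theorem Zs_next {g g' u : G} (h : Ed H y g g' u) {x : G} (hx : x ∈ cj u (Zs P)) :
    x ∈ cj g' (Vs H P) := by
  rw [S.Vv_right hZ h]
  refine cj_mono ?_ hx
  intro z hz
  refine mem_cj.2 ?_
  rw [S.inv_y_comm hz.1 hz.2.2]
  exact S.Zs_le_Vs (S.Zs_y hz)

theorem crit_k [Finite G] (hk : KSpec H P Q k) {b : ℕ} (h1 : 1 ≤ b) (hb : Short H P Q y b)
    {p : ℕ → G} (hp : Crit H P Q y b p) {u w : G} (hu : Ed H y (p 0) (p 1) u)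
    (hw : Ed H y (p b) (p (b - 1)) w) : u * k * u⁻¹ = w * k * w⁻¹ := by
  obtain ⟨n, rfl⟩ : ∃ n, b = n + 1 := ⟨b - 1, by omega⟩
  obtain ⟨x, hx, hx'⟩ := SetLike.not_le_iff_exists.1 (S.rev_crit hZ h1 hb hp)
  obtain ⟨v, hv, hv'⟩ := SetLike.not_le_iff_exists.1 hp.2
  rw [Nat.add_sub_cancel] at hw
  have hvw : w⁻¹ * v * w ∈ P := mem_cj.1 (S.le_edge hZ hb (by omega) hp.1 hw hv)
  have hxu : u⁻¹ * x * u ∈ P := by
    have := S.le_edge hZ hb (n := n) (by omega) hp.1.rev (u := u) (by simpa using hu)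
    simp only [Nat.sub_zero] at this
    exact mem_cj.1 (this hx)
  have hvQ : w⁻¹ * v * w ∉ Q := fun h => hv' (by rw [S.Qv_left hw]; exact mem_cj.2 h)
  have hxQ : u⁻¹ * x * u ∉ Q := fun h => hx' (by rw [S.Qv_left hu]; exact mem_cj.2 h)
  rw [S.Vv_left hu, mem_cj] at hv
  rw [S.Vv_left hw, mem_cj] at hx
  have hvZ : u⁻¹ * v * u ∉ Zs P := by
    intro h
    have hv0 := S.Zs_next hZ hu (mem_cj.2 h)
    have hq := hb n (by omega) (fun i => p (i + 1)) (fun i hi => hp.1 (i + 1) (by omega))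
    exact hv' (hq hv0)
  have hxZ : w⁻¹ * x * w ∉ Zs P := by
    intro h
    have hx0 := S.Zs_next hZ hw (mem_cj.2 h)
    have hq := hb n (by omega) _ (hp.1.mono n.le_succ).rev
    simp only [Nat.sub_zero, Nat.sub_self] at hq
    exact hx' (hq hx0)
  have e1 := hk.2.2 _ hxu hxQ _ hv hvZ
  have e2 := hk.2.2 _ hvw hvQ _ hx hxZ
  have f1 : x * v * x⁻¹ * v⁻¹ = u * k * u⁻¹ := by
    have hc := S.Vs_comm hZ hv (S.Zs_le_Vs hk.1)
    calc x * v * x⁻¹ * v⁻¹ =
        u * (u⁻¹ * x * u * (u⁻¹ * v * u) * (u⁻¹ * x * u)⁻¹ * (u⁻¹ * v * u)⁻¹) * u⁻¹ := by group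
      _ = u * k * u⁻¹ := by rw [e1, hc, mul_inv_cancel_right]
  have f2 : v * x * v⁻¹ * x⁻¹ = w * k * w⁻¹ := by
    have hc := S.Vs_comm hZ hx (S.Zs_le_Vs hk.1)
    calc v * x * v⁻¹ * x⁻¹ =
        w * (w⁻¹ * v * w * (w⁻¹ * x * w) * (w⁻¹ * v * w)⁻¹ * (w⁻¹ * x * w)⁻¹) * w⁻¹ := by group
      _ = w * k * w⁻¹ := by rw [e2, hc, mul_inv_cancel_right]
  calc u * k * u⁻¹ = u * k⁻¹ * u⁻¹ := by rw [inv_eq_of_mul_eq_one_left hk.1.2.1]
    _ = (u * k * u⁻¹)⁻¹ := by group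
    _ = (x * v * x⁻¹ * v⁻¹)⁻¹ := by rw [f1]
    _ = v * x * v⁻¹ * x⁻¹ := by group
    _ = w * k * w⁻¹ := f2

theorem side_z {g g' u : G} (h : Ed H y g g' u) {z : G} (hz : z ∈ Zs P ⊓ cj c (Zs P))
    (hkz : y * z * y⁻¹ = k) : g' * z * g'⁻¹ = u * k * u⁻¹ := by
  rcases h.2 with h' | h' <;> have h1 := S.F_conj hz h'
  · rw [show g' * z * g'⁻¹ = u * y * ((u * y)⁻¹ * g' * z * ((u * y)⁻¹ * g')⁻¹) * (u * y)⁻¹ by
      group, h1, ← hkz]
    group
  · rw [show g' * z * g'⁻¹ = u * y⁻¹ * ((u * y⁻¹)⁻¹ * g' * z * ((u * y⁻¹)⁻¹ * g')⁻¹) *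
      (u * y⁻¹)⁻¹ by group, h1, ← hkz]
    have := S.inv_y_comm (mem_inf.1 hz).1.1 (mem_inf.1 hz).1.2.2
    rw [show u * y⁻¹ * z * (u * y⁻¹)⁻¹ = u * (y⁻¹ * z * y) * u⁻¹ by group, this]

/-- Prepending a generating neighbour to a normalized critical walk. -/
theorem shift [Finite G] (hk : KSpec H P Q k) {b : ℕ} (h2 : 2 ≤ b) (hb : Short H P Q y b)
    {p : ℕ → G} (hp : Crit H P Q y b p) (h0 : p 0 = 1) (he : Ed H y 1 (p 1) 1) {d : G}
    (hd : d ∈ H) (hgen : H ≤ P ⊔ cj d P) :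
    Crit H P Q y b (fun i => if i = 0 then d * y else p (i - 1)) ∧
      Ed H y (d * y) 1 (d * y) := by
  have hed : Ed H y (d * y) 1 (d * y) :=
    ⟨by simp, Or.inr (by simpa using inv_mem hd)⟩
  refine ⟨⟨((hp.1.cons (u := d * y) (by rw [h0]; exact hed))).mono b.le_succ, ?_⟩, hed⟩
  simp only [ite_true, if_neg (show ¬ b = 0 by omega)]
  intro hle
  obtain ⟨n, rfl⟩ : ∃ n, b = n + 1 := ⟨b - 1, by omega⟩
  rw [Nat.add_sub_cancel] at hle
  obtain ⟨u', hu'⟩ := hp.1 n (by omega)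
  obtain ⟨u, hu⟩ := hu'.symm
  have hK := S.crit_k hZ hk (by omega) hb hp (u := 1) (w := u) (by rw [h0]; exact he)
    (by rw [Nat.add_sub_cancel]; exact hu)
  simp only [one_mul, inv_one, mul_one] at hK
  obtain ⟨x, hx, hx'⟩ := SetLike.not_le_iff_exists.1 (S.rev_crit hZ (by omega) hb hp)
  rw [h0, cj_one] at hx'
  have hxP : x ∈ P := by
    have := S.le_edge hZ hb (n := n) (by omega) hp.1.rev (u := 1) (by simpa [h0] using he)
    simp only [Nat.sub_zero] at this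
    simpa [mem_cj] using this hx
  rw [S.Vv_left hu, mem_cj] at hx
  have hdV : cj (d * y) (Vs H P) ≤ Q := by
    have := hb 1 (by omega) (fun i => if i = 0 then d * y else 1) (fun i hi => by
      have : i = 0 := by omega
      subst this
      exact ⟨d * y, by simpa using hed⟩)
    simpa [cj_one] using this
  let X : Subgroup G := Vs H P ⊔ cj (d * y) (Vs H P)
  have hXQ : X ≤ Q := sup_le (S.Vs_le_Q hZ) hdV
  have hPV : P ≤ normalizer (Vs H P : Set G) := S.PH.trans S.Vs_norm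
  have hVP : Vs H P ≤ P := (S.Vs_le_Q hZ).trans S.QP
  have hdn : cj d P ≤ normalizer (cj (d * y) (Vs H P) : Set G) := by
    rw [cj_mul]; exact le_normalizer_cj (S.P_norm_cj hPV)
  have hXd : cj d P ≤ normalizer (X : Set G) := by
    refine le_normalizer_sup ?_ hdn
    refine le_trans ?_ S.Vs_norm
    intro a ha
    have := mul_mem (mul_mem hd (S.PH (mem_cj.1 ha))) (inv_mem hd)
    simpa [mul_assoc] using this
  have hQd : Q ≤ cj d P := by
    rw [← cj_eq_of_mem (S.Qn hd)]; exact cj_mono S.QP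
  have hxn : x ∈ normalizer (X : Set G) := by
    have hle' : cj x X ≤ X := by
      rw [cj_sup]
      refine sup_le ((cj_eq_of_mem (hPV hxP)).le.trans le_sup_left) ?_
      intro a ha
      rw [mem_cj] at ha
      have hw : u⁻¹ * (x⁻¹ * a * x) * u ∈ P := by
        have h5 := hle ha
        rw [S.Qv_right hu, mem_cj] at h5
        exact S.Qy_le h5
      have key : x⁻¹ * a * x * x * (x⁻¹ * a * x)⁻¹ = x ∨
          x⁻¹ * a * x * x * (x⁻¹ * a * x)⁻¹ = x * k := by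
        rcases S.k_or hZ hk hw hx with h6 | h6
        · left
          calc _ = u * (u⁻¹ * (x⁻¹ * a * x) * u * (u⁻¹ * x * u) *
                (u⁻¹ * (x⁻¹ * a * x) * u)⁻¹) * u⁻¹ := by group
            _ = x := by rw [h6]; group
        · right
          calc _ = u * (u⁻¹ * (x⁻¹ * a * x) * u * (u⁻¹ * x * u) *
                (u⁻¹ * (x⁻¹ * a * x) * u)⁻¹) * u⁻¹ := by group
            _ = x * (u * k * u⁻¹) := by rw [h6]; group
            _ = x * k := by rw [← hK]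
      generalize hwa : x⁻¹ * a * x = w at ha key
      have ha' : a = x * w * x⁻¹ := by rw [← hwa]; group
      rcases key with h6 | h6
      · have : a = w := by
          rw [ha', mul_inv_eq_iff_eq_mul.1 h6 |>.symm, mul_inv_cancel_right]
        rw [this]
        exact mem_sup_right ha
      · have h7 : w * x = x * k * w := mul_inv_eq_iff_eq_mul.1 h6
        have h8 : a = k * w := by
          have hkk : x * k = k * x := (hk.1.2.2 x hxP).symm
          have hwx : x * w = k * (w * x) := by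
            rw [h7, hkk, ← mul_assoc, ← mul_assoc, hk.1.2.1, one_mul]
          rw [ha', hwx, ← mul_assoc, mul_inv_cancel_right]
        rw [h8]
        exact mul_mem (mem_sup_left (S.Zs_le_Vs hk.1)) (mem_sup_right ha)
    have heq : cj x X = X := Subgroup.eq_of_le_of_card_ge hle'
      (le_of_eq (card_map_of_injective (MulAut.conj _).injective).symm)
    exact mem_normalizer_iff.2 fun a => ⟨fun h => heq.le (conj_mem_cj h), fun h => by
      simpa [mul_assoc] using mem_cj.1 (heq.ge h)⟩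
  have hXP : P ≤ normalizer (X : Set G) := S.le_of_outer (hQd.trans hXd) hxP hx' hxn
  have hXH : H ≤ normalizer (X : Set G) := hgen.trans (sup_le hXP hXd)
  have hX' : X = Vs H P ⊔ cj y (Vs H P) := by
    have := cj_eq_of_mem (hXH (inv_mem hd))
    rw [cj_sup, cj_eq_of_mem (S.Vs_norm (inv_mem hd)), ← cj_mul, inv_mul_cancel_left] at this
    exact this.symm
  have hXy : cj y X = X := by
    rw [hX', cj_sup, S.y2_norm hVP hPV, sup_comm]
  have hbot := S.bad X (hXQ.trans S.QP) hXH hXy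
  exact S.Zs_ne (le_bot_iff.1 ((S.Zs_le_Vs.trans le_sup_left).trans hbot.le))

end Setup

end CfsgLib.PLocal.DihPush
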