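import Cfsg.Agent.Lib.Comp.Subnormal
import Cfsg.Agent.Lib.Geom.FourGroupNormalizer
import Cfsg.Prelude.Def_CaseTheorems

/-!
The quotient by the odd core of a small extension of a dihedral group.
-/

set_option autoImplicit false
set_option linter.unusedSectionVars false

namespace CfsgLib.PLocal.DihPush

open Subgroup

theorem equiv_two {Y : Type*} [Group Y] {z : Y} (hz : z * z = 1) (hz1 : z ≠ 1) :
    Nonempty (zpowers z ≃* Multiplicative (ZMod 2)) := by
  haveI : Fact (Nat.Prime 2) := ⟨Nat.prime_two⟩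
  refine ⟨mulEquivOfPrimeCardEq (p := 2) ?_ ?_⟩
  · rw [Nat.card_zpowers, orderOf_eq_prime (by rw [sq, hz]) hz1]
  · simp

theorem equiv_prod {Y : Type*} [Group Y] {M : Subgroup Y} {z : Y} (hc : ∀ m ∈ M, Commute m z)
    (hd : Disjoint M (zpowers z)) (hs : M ⊔ zpowers z = ⊤) : Nonempty (Y ≃* M × zpowers z) := by
  have hcm : ∀ (m : M) (x : zpowers z), Commute (M.subtype m) ((zpowers z).subtype x) := by
    rintro ⟨m, hm⟩ ⟨x, hx⟩
    obtain ⟨i, rfl⟩ := mem_zpowers_iff.1 hx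
    exact (hc m hm).zpow_right i
  let f : M × zpowers z →* Y := MonoidHom.noncommCoprod M.subtype (zpowers z).subtype hcm
  refine ⟨(MulEquiv.ofBijective f ⟨?_, ?_⟩).symm⟩
  · intro a b h
    exact mul_injective_of_disjoint hd h
  · intro g
    have hg : g ∈ M ⊔ zpowers z := hs ▸ mem_top g
    rw [← SetLike.mem_coe, coe_mul_of_right_le_normalizer_left M (zpowers z) (zpowers_le.2
      (centralizer_le_normalizer _ fun m hm => hc m hm))] at hg
    obtain ⟨m, hm, x, hx, rfl⟩ := hg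
    exact ⟨(⟨m, hm⟩, ⟨x, hx⟩), rfl⟩

variable {X : Type*} [Group X] [Finite X] {n : ℕ}

/-- A surjection to a dihedral group of twice odd order with elementary abelian kernel. -/
structure Frame (π : X →* DihedralGroup n) (Q : Subgroup X) : Prop where
  odd : Odd n
  ker : π.ker = Q
  comm : ∀ a ∈ Q, ∀ b ∈ Q, a * b = b * a
  sq : ∀ a ∈ Q, a * a = 1

variable {π : X →* DihedralGroup n} {Q : Subgroup X} (F : Frame π Q)

/-- The elements mapping to rotations. -/
def Rot (π : X →* DihedralGroup n) : Subgroup X := (zpowers (DihedralGroup.r 1)).comap π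

theorem mem_Rot {x : X} : x ∈ Rot π ↔ ∃ i, π x = DihedralGroup.r i := by
  rw [Rot, mem_comap, mem_zpowers_iff]
  constructor
  · rintro ⟨k, hk⟩
    exact ⟨k, by rw [← hk, DihedralGroup.r_one_zpow]⟩
  · rintro ⟨i, hi⟩
    obtain ⟨k, rfl⟩ := ZMod.intCast_surjective i
    exact ⟨k, by rw [hi, DihedralGroup.r_one_zpow]⟩

theorem Rot_conj {g x : X} (hx : x ∈ Rot π) : g * x * g⁻¹ ∈ Rot π := by
  obtain ⟨i, hi⟩ := mem_Rot.1 hx
  rw [mem_Rot, map_mul, map_mul, map_inv, hi]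
  rcases π g with j | j
  · exact ⟨i, by simp⟩
  · exact ⟨-i, by simp⟩

theorem sr_conj (hn : Odd n) (i j : ZMod n) :
    ∃ l : ZMod n, DihedralGroup.r l * DihedralGroup.sr i * (DihedralGroup.r l)⁻¹ =
      DihedralGroup.sr j := by
  obtain ⟨m, rfl⟩ := hn
  refine ⟨((m : ZMod (2 * m + 1)) + 1) * (i - j), ?_⟩
  have h : ((2 * m + 1 : ℕ) : ZMod (2 * m + 1)) = 0 := ZMod.natCast_self _
  push_cast at h
  rw [DihedralGroup.r_mul_sr, DihedralGroup.inv_r, DihedralGroup.sr_mul_r]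
  congr 1
  linear_combination (-(i - j)) * h

include F

theorem Frame.pow_n_mem {x : X} (hx : x ∈ Rot π) : x ^ n ∈ Q := by
  obtain ⟨i, hi⟩ := mem_Rot.1 hx
  obtain ⟨m, hm⟩ := F.odd
  haveI : NeZero n := ⟨by omega⟩
  rw [← F.ker, MonoidHom.mem_ker, map_pow, hi, ← ZMod.natCast_zmod_val i,
    ← DihedralGroup.r_one_pow, ← pow_mul, mul_comm, pow_mul, DihedralGroup.r_one_pow_n, one_pow]

/-- The odd core is a complement to `Q` in the rotations centralizing `Q`. -/
theorem Frame.oddCore_spec :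
    ∀ x ∈ centralizer (Q : Set X) ⊓ Rot π, ∃ q ∈ Q, ∃ e ∈ Cfsg.oddCore X, x = q * e := by
  haveI hQn : Q.Normal := F.ker ▸ π.normal_ker
  let C : Subgroup X := centralizer (Q : Set X) ⊓ Rot π
  have hC : ∀ a ∈ C, ∀ b ∈ C, a * b = b * a := by
    let f : C →* zpowers (DihedralGroup.r (1 : ZMod n)) :=
      (π.comp C.subtype).codRestrict _ fun x => mem_comap.1 (mem_inf.1 x.2).2
    have hf : f.ker ≤ center C := by
      intro x hx
      have hxQ : (x : X) ∈ Q := by
        rw [← F.ker]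
        exact congrArg Subtype.val (MonoidHom.mem_ker.1 hx)
      refine mem_center_iff.2 fun g => Subtype.ext ?_
      exact ((mem_inf.1 g.2).1 _ hxQ).symm
    intro a ha b hb
    exact congrArg Subtype.val (commutative_of_cyclic_center_quotient f hf ⟨a, ha⟩ ⟨b, hb⟩)
  let K : Subgroup X :=
    { carrier := {x | x ∈ C ∧ x ^ n = 1}
      one_mem' := ⟨one_mem C, one_pow n⟩
      mul_mem' := fun {a b} ha hb => ⟨mul_mem ha.1 hb.1, by
        rw [Commute.mul_pow (hC a ha.1 b hb.1), ha.2, hb.2, one_mul]⟩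
      inv_mem' := fun {a} ha => ⟨inv_mem ha.1, by rw [inv_pow, ha.2, inv_one]⟩ }
  have hKn : K.Normal := ⟨fun x hx g => ⟨mem_inf.2
    ⟨(inferInstance : (centralizer (Q : Set X)).Normal).conj_mem x (mem_inf.1 hx.1).1 g,
      Rot_conj (mem_inf.1 hx.1).2⟩, by rw [conj_pow, hx.2, mul_one, mul_inv_cancel]⟩⟩
  have hKodd : (Nat.card K).Coprime 2 := by
    rw [Nat.coprime_two_right, ← Nat.not_even_iff_odd, even_iff_two_dvd]
    intro h2
    haveI : Fact (Nat.Prime 2) := ⟨Nat.prime_two⟩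
    obtain ⟨⟨e, he⟩, heo⟩ := exists_prime_orderOf_dvd_card' (G := K) 2 h2
    rw [Subgroup.orderOf_mk] at heo
    exact (Nat.not_even_iff_odd.2 F.odd) (even_iff_two_dvd.2 (heo ▸ orderOf_dvd_of_pow_eq_one he.2))
  intro x hx
  obtain ⟨m, hm⟩ := F.odd
  have hq := F.pow_n_mem (mem_inf.1 hx).2
  refine ⟨x ^ n, hq, (x ^ 2) ^ (-(m : ℤ)), (show K ≤ Cfsg.oddCore X from le_sSup ⟨hKn, hKodd⟩)
    (K.zpow_mem (show x ^ 2 ∈ C ∧ (x ^ 2) ^ n = 1 from ⟨pow_mem hx 2, ?_⟩) _), ?_⟩
  · rw [← pow_mul, mul_comm, pow_mul, pow_two]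
    exact F.sq _ hq
  · rw [← zpow_natCast x n, ← zpow_natCast x 2, ← zpow_mul, ← zpow_add, hm]
    conv_lhs => rw [← zpow_one x]
    congr 1
    push_cast
    ring

theorem Frame.oddCore_inter {q : X} (hq : q ∈ Q) (hK : q ∈ Cfsg.oddCore X) : q = 1 := by
  have h1 : orderOf q ∣ 2 := orderOf_dvd_of_pow_eq_one (by rw [pow_two]; exact F.sq q hq)
  have h2 : orderOf q ∣ Nat.card (Cfsg.oddCore X) := by
    rw [← Subgroup.orderOf_mk q hK]; exact orderOf_dvd_natCard _
  exact orderOf_eq_one_iff.1 (Nat.eq_one_of_dvd_coprimes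
    (CfsgLib.Comp.coprime_card_pPrimeCore 2 X).symm h1 h2)

theorem Frame.oddCore_cent {q e : X} (hq : q ∈ Q) (he : e ∈ Cfsg.oddCore X) : q * e = e * q := by
  haveI : Q.Normal := F.ker ▸ π.normal_ker
  haveI : (Cfsg.oddCore X).Normal := sSup_normal _ fun _ h => h.1
  have h1 : q * e * q⁻¹ * e⁻¹ ∈ Q := by
    rw [mul_assoc q e, mul_assoc q]
    exact mul_mem hq ((inferInstance : Q.Normal).conj_mem _ (inv_mem hq) e)
  have h2 : q * e * q⁻¹ * e⁻¹ ∈ Cfsg.oddCore X :=
    mul_mem ((inferInstance : (Cfsg.oddCore X).Normal).conj_mem e he q) (inv_mem he)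
  exact mul_inv_eq_iff_eq_mul.1 (mul_inv_eq_one.1 (F.oddCore_inter h1 h2))

/-- Small kernel: the quotient is a four-group. -/
theorem Frame.four {q z : X} (hQ : Q = zpowers q) (hq : ∀ g, g * q = q * g) (hq1 : q ≠ 1)
    (hz : z * z = 1) (hzr : z ∉ Rot π) :
    Nonempty (X ⧸ Cfsg.oddCore X ≃* Multiplicative (ZMod 2) × Multiplicative (ZMod 2)) := by
  haveI : (Cfsg.oddCore X).Normal := sSup_normal _ fun _ h => h.1
  let K := Cfsg.oddCore X
  let ψ := QuotientGroup.mk' K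
  have hqQ : q ∈ Q := hQ ▸ mem_zpowers q
  have hQC : Q ≤ centralizer ({q} : Set X) := fun g _ =>
    mem_centralizer_singleton_iff.2 (hq g)
  have hψq : ψ q ≠ 1 := fun h => hq1 (F.oddCore_inter hqQ ((QuotientGroup.eq_one_iff q).1 h))
  have hKrot : K ≤ Rot π := by
    intro e he
    by_contra her
    have h2 : e * e ∈ Q := by
      rcases hπ : π e with i | i
      · exact absurd (mem_Rot.2 ⟨i, hπ⟩) her
      · rw [← F.ker, MonoidHom.mem_ker, map_mul, hπ, DihedralGroup.sr_mul_self]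
    have h3 := F.oddCore_inter h2 (mul_mem he he)
    have h4 : orderOf e ∣ 2 := orderOf_dvd_of_pow_eq_one (by rw [pow_two]; exact h3)
    have h5 : orderOf e ∣ Nat.card K := by
      rw [← Subgroup.orderOf_mk e he]; exact orderOf_dvd_natCard _
    have := orderOf_eq_one_iff.1 (Nat.eq_one_of_dvd_coprimes
      (CfsgLib.Comp.coprime_card_pPrimeCore 2 X).symm h4 h5)
    exact her (this ▸ one_mem _)
  have hψz : ψ z ≠ 1 := fun h => hzr (hKrot ((QuotientGroup.eq_one_iff z).1 h))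
  have hd : Disjoint (zpowers (ψ q)) (zpowers (ψ z)) := by
    rw [disjoint_iff_inf_le]
    rintro a ⟨ha, hb⟩
    rw [mem_bot]
    by_contra ha1
    have he : ∀ {w : X}, w * w = 1 → a ∈ zpowers (ψ w) → a = ψ w := by
      intro w hw haw
      obtain ⟨i, rfl⟩ := mem_zpowers_iff.1 haw
      rcases Int.even_or_odd i with ⟨j, rfl⟩ | ⟨j, rfl⟩
      · exact absurd (by rw [← two_mul, zpow_mul, zpow_ofNat, pow_two, ← map_mul, hw, map_one,
          one_zpow]) ha1
      · rw [zpow_add, zpow_mul, zpow_ofNat, pow_two, ← map_mul, hw, map_one, one_zpow, one_mul,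
          zpow_one]
    have h := (he (F.sq q hqQ) ha).symm.trans (he hz hb)
    have h' : q⁻¹ * z ∈ K := QuotientGroup.eq.1 h
    have hqr : q ∈ Rot π := mem_Rot.2 ⟨0, by
      rw [MonoidHom.mem_ker.1 (F.ker.symm ▸ hqQ : q ∈ π.ker)]; rfl⟩
    exact hzr (by simpa using mul_mem hqr (hKrot h'))
  have hs : zpowers (ψ q) ⊔ zpowers (ψ z) = ⊤ := by
    rw [eq_top_iff]
    intro a _
    obtain ⟨x, rfl⟩ := QuotientGroup.mk'_surjective K a
    have hrot : ∀ x ∈ Rot π, ψ x ∈ zpowers (ψ q) ⊔ zpowers (ψ z) := by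
      intro x hx
      obtain ⟨q', hq', e, he, rfl⟩ := F.oddCore_spec x (mem_inf.2 ⟨fun a ha => by
        rw [SetLike.mem_coe, hQ, mem_zpowers_iff] at ha
        obtain ⟨i, rfl⟩ := ha
        exact ((show Commute x q from hq x).zpow_right i).eq.symm, hx⟩)
      rw [map_mul, (QuotientGroup.eq_one_iff e).2 he |> fun h => (show ψ e = 1 from h), mul_one]
      rw [hQ, mem_zpowers_iff] at hq'
      obtain ⟨i, rfl⟩ := hq'
      rw [map_zpow]
      exact mem_sup_left (zpow_mem (mem_zpowers _) i)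
    by_cases hx : x ∈ Rot π
    · exact hrot x hx
    · have hxz : x * z ∈ Rot π := by
        rcases hπ : π x with i | i
        · exact absurd (mem_Rot.2 ⟨i, hπ⟩) hx
        rcases hπz : π z with j | j
        · exact absurd (mem_Rot.2 ⟨j, hπz⟩) hzr
        exact mem_Rot.2 ⟨j - i, by rw [map_mul, hπ, hπz, DihedralGroup.sr_mul_sr]⟩
      have := mul_mem (hrot _ hxz) (inv_mem (mem_sup_right (mem_zpowers (ψ z))))
      rwa [map_mul, mul_inv_cancel_right] at this
  obtain ⟨e⟩ := equiv_prod (M := zpowers (ψ q)) (z := ψ z) (fun m hm => by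
    obtain ⟨i, rfl⟩ := mem_zpowers_iff.1 hm
    exact ((show Commute q z from (hq z).symm).map ψ).zpow_left i) hd hs
  obtain ⟨e1⟩ := equiv_two (z := ψ q) (by rw [← map_mul, F.sq q hqQ, map_one]) hψq
  obtain ⟨e2⟩ := equiv_two (z := ψ z) (by rw [← map_mul, hz, map_one]) hψz
  exact ⟨e.trans (e1.prodCongr e2)⟩

end CfsgLib.PLocal.DihPush
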