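import Cfsg.Agent.Lib.PLocal.DihSquare

/-!
The rational classes of a primitive Schur ring over a dihedral group; the case of a 2-power order.
-/

set_option autoImplicit false
set_option linter.unusedSectionVars false

namespace CfsgLib.PLocal.Dih

open Finset MonoidAlgebra

universe u

variable {C : Type u} [CommGroup C] [Fintype C] [DecidableEq C] [IsCyclic C]

namespace DihSR

variable (S : DihSR C)

/-- Conjugacy of classes by multipliers. -/
def RC (c d : C) : Prop :=
  ∃ u : ℕ, (Fintype.card C).Coprime u ∧ S.r (Sum.inl (c ^ u)) (Sum.inl d)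

theorem exists_inv_exp {u : ℕ} (hu : (Fintype.card C).Coprime u) :
    ∃ v : ℕ, (Fintype.card C).Coprime v ∧ ∀ c : C, (c ^ u) ^ v = c := by
  haveI : NeZero (Fintype.card C) := ⟨Fintype.card_pos.ne'⟩
  let U := ZMod.unitOfCoprime u hu.symm
  refine ⟨((U⁻¹ : (ZMod (Fintype.card C))ˣ) : ZMod (Fintype.card C)).val,
    (ZMod.val_coe_unit_coprime U⁻¹).symm, fun c => ?_⟩
  rw [← pow_mul]
  conv_rhs => rw [← pow_one c]
  refine pow_congr_card ?_
  have h : ((u * ((U⁻¹ : (ZMod (Fintype.card C))ˣ) : ZMod (Fintype.card C)).val : ℕ) :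
      ZMod (Fintype.card C)) = ((1 : ℕ) : ZMod (Fintype.card C)) := by
    rw [Nat.cast_mul, ZMod.natCast_zmod_val, Nat.cast_one, ← ZMod.coe_unitOfCoprime u hu.symm]
    exact U.mul_inv
  exact (ZMod.natCast_eq_natCast_iff' _ _ _).1 h

theorem rc_refl (c : C) : S.RC c c := ⟨1, Nat.coprime_one_right _, by rw [pow_one]; exact S.refl _⟩

theorem rc_symm {c d : C} (h : S.RC c d) : S.RC d c := by
  obtain ⟨u, hu, h⟩ := h
  obtain ⟨v, hv, hinv⟩ := exists_inv_exp hu
  have := S.mult hv h
  rw [hinv] at this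
  exact ⟨v, hv, S.symm this⟩

theorem rc_trans {c d e : C} (h : S.RC c d) (h' : S.RC d e) : S.RC c e := by
  obtain ⟨u, hu, h⟩ := h
  obtain ⟨v, hv, h'⟩ := h'
  exact ⟨u * v, hu.mul_right hv, by rw [pow_mul]; exact S.trans (S.mult hv h) h'⟩

theorem rc_eq_one {c : C} (h : S.RC c 1) : c = 1 := by
  obtain ⟨v, hv, h⟩ := S.rc_symm h
  rw [one_pow] at h
  exact Sum.inl_injective (S.one h)

open scoped Classical in
/-- The indicator of a rational class. -/
noncomputable def rcA (R : Type) [CommRing R] (g : C) : MonoidAlgebra R C :=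
  ofFn fun c => if S.RC g c then 1 else 0

open scoped Classical in
/-- The indicator of a rational class, second half. -/
noncomputable def rcB (R : Type) [CommRing R] (g : C) : MonoidAlgebra R C :=
  ofFn fun c => if ∃ u : ℕ, (Fintype.card C).Coprime u ∧ S.r (Sum.inl (g ^ u)) (Sum.inr c)
    then 1 else 0

variable {R : Type} [CommRing R]

theorem inv_rc (g : C) : Inv S.r (S.rcA R g) (S.rcB R g) := by
  classical
  let P : C ⊕ C → Prop := fun x => ∃ u : ℕ, (Fintype.card C).Coprime u ∧ S.r (Sum.inl (g ^ u)) x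
  have key : ∀ x, pairFn (S.rcA R g) (S.rcB R g) x = if P x then 1 else 0 := by
    rintro (c | c) <;> simp only [pairFn, rcA, rcB, Sum.elim_inl, Sum.elim_inr, coeff_ofFn, RC, P] <;>
      congr 1
  intro x y hxy
  rw [key, key]
  refine if_congr ?_ rfl rfl
  exact ⟨fun ⟨u, hu, h⟩ => ⟨u, hu, S.trans h hxy⟩, fun ⟨u, hu, h⟩ => ⟨u, hu, S.trans h (S.symm hxy)⟩⟩

theorem isRat_rc (g : C) : IsRat (S.rcA R g) := by
  classical
  refine isRat_of_pow fun v hv c => ?_
  have hcc : S.RC c (c ^ v) := ⟨v, hv, S.refl _⟩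
  simp only [rcA, coeff_ofFn]
  exact if_congr ⟨fun h => S.rc_trans h (S.rc_symm hcc), fun h => S.rc_trans h hcc⟩ rfl rfl

theorem rc_of_orderOf_eq {c d : C} (h : orderOf c = orderOf d) : S.RC c d := by
  classical
  have := S.isRat_rc (R := ℤ) c c d h
  simp only [rcA, coeff_ofFn, S.rc_refl, if_true] at this
  by_contra hn
  simp [hn] at this

theorem coeff_eq_of_rc {a b : MonoidAlgebra R C} (h : Inv S.r a b) (ha : IsRat a) {c d : C}
    (hcd : S.RC c d) : a.coeff c = a.coeff d := by
  obtain ⟨u, hu, hr⟩ := hcd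
  rw [← S.inv_coeff_l h hr, isRat_coeff_pow ha hu]

theorem rc_zero_one (g : C) :
    (∀ c, (S.rcA ℤ g).coeff c = 0 ∨ (S.rcA ℤ g).coeff c = 1) ∧
      ∀ c, (S.rcB ℤ g).coeff c = 0 ∨ (S.rcB ℤ g).coeff c = 1 := by
  constructor <;> intro c <;> simp only [rcA, rcB, coeff_ofFn] <;> split_ifs <;> simp

variable {q : ℕ} [hp : Fact q.Prime] {z : C}

/-- A rational class with invariant first component gives an `XSet`. -/
noncomputable def xSetOfRC (g : C) (hg : g ≠ 1) (hP : PInv z (S.rcA ℤ g)) : S.XSet z where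
  a := S.rcA ℤ g
  b := S.rcB ℤ g
  inv := S.inv_rc g
  rat := S.isRat_rc g
  pInv := hP
  za := (S.rc_zero_one g).1
  zb := (S.rc_zero_one g).2
  one := by
    classical
    simp only [rcA, coeff_ofFn]
    exact if_neg fun h => hg (S.rc_eq_one h)
  nonempty := by
    classical
    refine ⟨g, ?_⟩
    simp only [rcA, coeff_ofFn]
    exact if_pos (S.rc_refl g)

end DihSR

/-- The finite fact excluding the last arithmetical case. -/
theorem no_design_eight : ∀ γ : Bool, ∀ f : Fin 8 → Bool,
    (∑ i, if f i then 1 else 0 : ℕ) = 4 → ¬ ∀ k : Fin 8, k = 1 ∨ k = 2 ∨ k = 4 →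
      (∑ i : Fin 8, if (i ≠ 0 ∧ i ≠ 4 ∧ (γ ∨ i.val % 2 = 0)) ∧
          (k - i ≠ 0 ∧ k - i ≠ 4 ∧ (γ ∨ (k - i).val % 2 = 0)) then 1 else 0 : ℕ) +
        (∑ i : Fin 8, if f i ∧ f (i - k) then 1 else 0 : ℕ) = if γ then 6 else 2 := by
  decide +kernel

namespace DihSR

variable {S : DihSR C}

theorem XSet.false_of_two {e : ℕ} (he : Fintype.card C = 2 ^ e) {z : C} (hz : orderOf z = 2)
    (X : S.XSet z) : False := by
  classical
  haveI : Fact (Nat.Prime 2) := ⟨Nat.prime_two⟩
  obtain ⟨hA, hAm, hB, hBm, t, e0, h2, h1, h3⟩ := X.data hz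
  obtain ⟨g, hg⟩ := IsCyclic.exists_generator (α := C)
  have hog : orderOf g = Fintype.card C := by
    rw [← Nat.card_eq_fintype_card]; exact orderOf_eq_card_of_forall_mem_zpowers hg
  have he1 : e ≠ 0 := fun h => by
    have h' : 2 ∣ Fintype.card C := hz ▸ orderOf_dvd_card
    rw [he, h, pow_zero] at h'; omega
  have hord : ∀ k : ℕ, orderOf (g ^ k) = Fintype.card C ↔ k % 2 = 1 := fun k => by
    rw [← hog]
    constructor
    · intro h
      by_contra hk
      have h2k : 2 ∣ k := by omega
      have hdvd : 2 ∣ orderOf g := by rw [hog, he]; exact dvd_pow_self 2 he1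
      have := orderOf_pow (n := k) g
      rw [h, eq_comm, Nat.div_eq_self] at this
      rcases this with h0 | h0
      · exact absurd h0 (orderOf_pos g).ne'
      · exact absurd (Nat.dvd_gcd hdvd h2k) (by rw [h0]; omega)
    · intro hk
      exact Nat.Coprime.orderOf_pow (by
        rw [hog, he]; exact Nat.Coprime.pow_left e (Nat.coprime_two_left.2 (Nat.odd_iff.2 hk)))
  let χ : C → ℤ := fun c => if orderOf c = Fintype.card C then -1 else 1
  have hχ : ∀ c d, χ (c * d) = χ c * χ d := fun c d => by
    obtain ⟨i, rfl⟩ := mem_powers_iff_mem_zpowers.2 (hg c)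
    obtain ⟨j, rfl⟩ := mem_powers_iff_mem_zpowers.2 (hg d)
    simp only [χ, ← pow_add, hord]
    rcases Nat.mod_two_eq_zero_or_one i with hi | hi <;>
      rcases Nat.mod_two_eq_zero_or_one j with hj | hj <;>
      simp [hi, hj, Nat.add_mod]
  let L : MonoidAlgebra ℤ C →+* ℤ :=
    { toFun := fun x => ∑ c, χ c * x.coeff c
      map_one' := by
        simp only [one_def, coeff_single, Finsupp.single_apply, mul_ite, mul_one, mul_zero,
          sum_ite_eq, mem_univ, if_true, χ, orderOf_one]
        exact if_neg fun h => by rw [he] at h; exact absurd (Nat.one_lt_two_pow he1) (by omega)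
      map_mul' := fun x y => by
        simp only [coeff_mul]
        rw [Finset.sum_mul_sum]
        simp only [mul_sum]
        rw [Finset.sum_comm]
        refine sum_congr rfl fun d _ => ?_
        rw [← Equiv.sum_comp (Equiv.mulLeft d)]
        refine sum_congr rfl fun c _ => ?_
        simp only [Equiv.coe_mulLeft, inv_mul_cancel_left, hχ]; ring
      map_zero' := by simp
      map_add' := fun x y => by simp [mul_add, Finset.sum_add_distrib] }
  have hχg : χ g = -1 := if_pos hog
  have hsum : ∑ c, χ c = 0 := by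
    have : ∑ c, χ c = ∑ c, χ (g * c) := (Equiv.sum_comp (Equiv.mulLeft g) χ).symm
    simp only [hχ, hχg, neg_one_mul, sum_neg_distrib] at this
    linarith
  have hLbar : L bar = 0 := by
    show ∑ c, χ c * (bar : MonoidAlgebra ℤ C).coeff c = 0
    simpa [coeff_bar] using hsum
  let γ := X.a.coeff g
  have hLa : L X.a = aug X.a - γ * Fintype.card C := by
    show ∑ c, χ c * X.a.coeff c = _
    have e : ∀ c, χ c * X.a.coeff c = X.a.coeff c + γ * (χ c - 1) := fun c => by
      simp only [χ]
      split_ifs with h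
      · rw [X.rat c g (h.trans hog.symm)]; ring
      · ring
    simp only [e, sum_add_distrib, ← mul_sum, sum_sub_distrib, hsum, sum_const, card_univ, aug_apply]
    simp; ring
  have hL : L X.a ^ 2 = (aug X.a - aug X.b) ^ 2 := by
    have := congrArg L h3
    have hLk : ∀ r : ℤ, L (algebraMap ℤ _ r) = r := fun r => by simp
    simp only [map_mul, map_add, map_pow, map_ofNat, hLbar, hLk, mul_zero, add_zero] at this
    have hne : L X.a ≠ 0 := fun h => by
      rw [hLa] at h
      rcases X.za g with h' | h' <;> simp only [γ, h'] at h <;> linarith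
    refine mul_left_cancel₀ (mul_ne_zero two_ne_zero hne) ?_
    linear_combination this
  rw [hLa] at hL
  have hAB : ∃ A' : ℤ, A' * ((Fintype.card C : ℤ) + 4) = 3 * Fintype.card C ∧
      ((γ = 0 ∧ aug X.a = A' ∧ aug X.b = 2 * A') ∨
        (γ = 1 ∧ aug X.a = Fintype.card C - A' ∧ aug X.b = Fintype.card C - 2 * A')) := by
    generalize aug X.a = A at *
    generalize aug X.b = B at *
    generalize (Fintype.card C : ℤ) = m at *
    rcases X.za g with h' | h' <;> simp only [γ, h'] at hL ⊢
    · have : B * (2 * A - B) = 0 := by linear_combination hL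
      have hB2 : B = 2 * A := by
        rcases mul_eq_zero.1 this with h | h <;> linarith
      refine ⟨A, ?_, Or.inl ⟨trivial, rfl, hB2⟩⟩
      subst hB2
      refine mul_left_cancel₀ hA.ne' ?_
      linear_combination (-1) * m * h1 + h2
    · have : (m - B) * (2 * A - B - m) = 0 := by linear_combination -hL
      have hB2 : B = 2 * A - m := by
        rcases mul_eq_zero.1 this with h | h <;> linarith
      refine ⟨m - A, ?_, Or.inr ⟨trivial, by ring, by rw [hB2]; ring⟩⟩
      subst hB2
      refine mul_left_cancel₀ (show m - A ≠ 0 by linarith) ?_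
      linear_combination (-1) * m * h1 + h2
  obtain ⟨A', hA', hcase⟩ := hAB
  have hA'pos : 0 < A' := by rcases hcase with ⟨-, e1, -⟩ | ⟨-, e1, -⟩ <;> linarith
  have hA'lt : A' < 3 := by nlinarith [Fintype.card_pos (α := C)]
  obtain ⟨z', hz'⟩ : ∃ k : ℕ, g ^ k = z := mem_powers_iff_mem_zpowers.2 (hg z)
  interval_cases A'
  · -- order two
    have hm2 : Fintype.card C = 2 := by omega
    have haz : X.a.coeff z = 0 := by rw [← X.one]; simpa using X.pInv 1
    rcases hcase with ⟨-, e1, -⟩ | ⟨hγ, -, e1⟩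
    · -- the two elements are `1` and `z`
      have hzero : aug X.a = 0 := by
        rw [aug_apply]
        refine sum_eq_zero fun c _ => ?_
        by_cases hc : c = 1
        · rw [hc, X.one]
        · have hoc : orderOf c = 2 := by
            have h' : orderOf c ∣ Fintype.card C := orderOf_dvd_card
            rw [hm2] at h'
            rcases (Nat.dvd_prime Nat.prime_two).1 h' with h'' | h''
            · exact absurd (orderOf_eq_one_iff.1 h'') hc
            · exact h''
          rw [X.rat c z (hoc.trans hz.symm), haz]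
      omega
    · omega
  · have hm8 : Fintype.card C = 8 := by omega
    rw [hm8] at hog hord
    let p : Fin 8 → C := fun i => g ^ i.val
    have hp : Function.Bijective p := by
      rw [Fintype.bijective_iff_injective_and_card]
      refine ⟨fun i j h => Fin.ext (pow_injOn_Iio_orderOf (x := g) (by simp [hog])
        (by simp [hog]) h), by simp [hm8]⟩
    have hpsub : ∀ k i : Fin 8, (p k)⁻¹ * p i = p (i - k) := fun k i => by
      rw [inv_mul_eq_iff_eq_mul]
      simp only [p, ← pow_add]
      rw [pow_eq_pow_iff_modEq, hog]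
      fin_cases k <;> fin_cases i <;> decide
    have hpsub' : ∀ k i : Fin 8, (p i)⁻¹ * p k = p (k - i) := fun k i => hpsub i k
    have hz4 : p 4 = z := by
      obtain ⟨i, hi⟩ := hp.2 z
      have h2' : orderOf (p i) = 2 := hi ▸ hz
      have hkey : ∀ j : Fin 8, j ≠ 4 → orderOf (p j) ≠ 2 := fun j hj h => by
        have : p j ^ 2 = 1 := by rw [← h, pow_orderOf_eq_one]
        simp only [p, ← pow_mul] at this
        have hd := orderOf_dvd_of_pow_eq_one this
        rw [hog] at hd
        have hj0 : j ≠ 0 := fun e => by subst e; simp [p] at h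
        fin_cases j <;> simp_all
      by_contra hne
      exact hkey i (fun e => hne (by rw [← e, hi])) h2'
    have haz : X.a.coeff z = 0 := by rw [← X.one]; simpa using X.pInv 1
    have ha26 : X.a.coeff (p 2) = X.a.coeff (p 6) := X.rat _ _ (by
      rw [orderOf_pow, orderOf_pow, hog]; rfl)
    have haodd : ∀ i : Fin 8, i.val % 2 = 1 → X.a.coeff (p i) = γ := fun i hi =>
      X.rat _ _ (((hord i.val).2 hi).trans hog.symm)
    have hsumA : aug X.a = 4 * γ + 2 * X.a.coeff (p 2) := by
      rw [aug_apply, ← hp.sum_comp]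
      simp only [Fin.sum_univ_eight]
      rw [haodd 1 rfl, haodd 3 rfl, haodd 5 rfl, haodd 7 rfl, hz4, haz, ← ha26,
        show p 0 = 1 from pow_zero g, X.one]
      ring
    obtain ⟨gb, hgb, htv, ha2⟩ : ∃ gb : Bool, γ = (if gb then 1 else 0) ∧
        t = (if gb then 6 else 2) ∧ X.a.coeff (p 2) = 1 ∧ aug X.b = 4 := by
      rcases hcase with ⟨hγ, e1, e2⟩ | ⟨hγ, e1, e2⟩
      · refine ⟨false, by simp [hγ], ?_, ?_, ?_⟩ <;> simp [hm8] at * <;> nlinarith
      · refine ⟨true, by simp [hγ], ?_, ?_, ?_⟩ <;> simp [hm8] at * <;> nlinarith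
    have hav : ∀ i : Fin 8,
        X.a.coeff (p i) = if i ≠ 0 ∧ i ≠ 4 ∧ (gb ∨ i.val % 2 = 0) then 1 else 0 := by
      intro i
      fin_cases i
      · simp [p, X.one]
      · show X.a.coeff (p 1) = _; rw [haodd 1 rfl, hgb]; cases gb <;> rfl
      · show X.a.coeff (p 2) = _; rw [ha2.1]; cases gb <;> rfl
      · show X.a.coeff (p 3) = _; rw [haodd 3 rfl, hgb]; cases gb <;> rfl
      · show X.a.coeff (p 4) = _; rw [hz4, haz]; cases gb <;> rfl
      · show X.a.coeff (p 5) = _; rw [haodd 5 rfl, hgb]; cases gb <;> rfl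
      · show X.a.coeff (p 6) = _; rw [← ha26, ha2.1]; cases gb <;> rfl
      · show X.a.coeff (p 7) = _; rw [haodd 7 rfl, hgb]; cases gb <;> rfl
    let f : Fin 8 → Bool := fun i => decide (X.b.coeff (p i) = 1)
    have hbv : ∀ i, X.b.coeff (p i) = if f i then 1 else 0 := fun i => by
      rcases X.zb (p i) with h | h <;> simp [f, h]
    refine no_design_eight gb f ?_ fun k hk => ?_
    · have h4 := ha2.2
      rw [aug_apply, ← hp.sum_comp] at h4
      simp only [hbv] at h4
      exact_mod_cast (show ((∑ i, if f i then 1 else 0 : ℕ) : ℤ) = 4 by push_cast; exact h4)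
    · have hk1 : p k ≠ 1 := fun e => by
        have := hp.1 (e.trans (pow_zero g).symm : p k = p 0)
        rcases hk with rfl | rfl | rfl <;> simp at this
      have h := congrArg (fun x => x.coeff (p k)) e0
      simp only [coeff_add, Finsupp.add_apply, coeff_algebraMap, if_neg hk1, coeff_smul_apply,
        coeff_bar, mul_one, zero_add] at h
      rw [coeff_mul, coeff_mul, ← hp.sum_comp, ← hp.sum_comp] at h
      simp only [hpsub', coeff_st, mul_inv_rev, inv_inv, hav, hbv, hpsub] at h
      have hif : ∀ P Q : Prop, [Decidable P] → [Decidable Q] →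
          ((if P then 1 else 0 : ℤ) * if Q then 1 else 0) = if P ∧ Q then 1 else 0 := fun P Q _ _ => by
        split_ifs <;> simp_all
      have key : ∀ x y : Fin 8, ((p (x - y))⁻¹) = (p x)⁻¹ * p y := fun x y => by
        rw [← hpsub y x, mul_inv_rev, inv_inv, mul_comm]
      simp only [key, hbv, hpsub, hif, htv] at h
      exact_mod_cast (show ((_ : ℕ) : ℤ) = ((if gb then 6 else 2 : ℕ) : ℤ) by
        push_cast; exact h)

/-- In a 2-power order all non-identity elements are rationally conjugate. -/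
theorem rc_two (S : DihSR C) {e : ℕ} (he : Fintype.card C = 2 ^ e) {z : C} (hz : orderOf z = 2)
    {g : C} (hg : g ≠ 1) : S.RC z g := by
  classical
  haveI : Fact (Nat.Prime 2) := ⟨Nat.prime_two⟩
  by_contra hn
  refine (S.xSetOfRC g hg (pInv_of_isRat hz (S.isRat_rc g) fun x hx => ?_)).false_of_two he hz
  have hx1 : x = 1 := by
    obtain ⟨i, -, hi⟩ := (Nat.dvd_prime_pow Nat.prime_two).1 (he ▸ orderOf_dvd_card (x := x))
    rcases i with _ | i
    · exact orderOf_eq_one_iff.1 (by rw [hi, pow_zero])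
    · exact absurd (by rw [hi]; exact dvd_pow_self 2 i.succ_ne_zero) hx
  subst hx1
  simp only [rcA, coeff_ofFn, one_mul]
  rw [if_neg fun h => hn (S.rc_symm h), if_neg fun h => hg (S.rc_eq_one h)]

end DihSR

end CfsgLib.PLocal.Dih
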