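import Cfsg.Agent.Lib.PLocal.DihPow
import Mathlib.NumberTheory.LSeries.PrimesInAP

/-!
Multipliers and rational elements of a Schur ring over a dihedral group.
-/

set_option autoImplicit false
set_option linter.unusedSectionVars false

namespace CfsgLib.PLocal.Dih

open Finset MonoidAlgebra

universe u

variable {C : Type u} [CommGroup C] [Fintype C] [DecidableEq C]
variable {R R' : Type} [CommRing R] [CommRing R']

/-- Change of the coefficient ring. -/
noncomputable def mapC (f : R →+* R') : MonoidAlgebra R C →+* MonoidAlgebra R' C where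
  toFun a := ofFn fun c => f (a.coeff c)
  map_one' := by
    ext c; simp [coeff_ofFn, one_def, Finsupp.single_apply, apply_ite f]
  map_mul' a b := by
    ext c
    simp only [coeff_ofFn, coeff_mul, map_sum, map_mul]
  map_zero' := by ext c; simp [coeff_ofFn]
  map_add' a b := by ext c; simp [coeff_ofFn]

theorem coeff_mapC (f : R →+* R') (a : MonoidAlgebra R C) (c : C) :
    (mapC f a).coeff c = f (a.coeff c) := coeff_ofFn _ c

theorem mapC_st (f : R →+* R') (a : MonoidAlgebra R C) : mapC f (st a) = st (mapC f a) := by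
  ext c; simp [coeff_mapC, coeff_st]

theorem pow_congr_card {c : C} {u v : ℕ} (h : u % Fintype.card C = v % Fintype.card C) :
    c ^ u = c ^ v := by
  rw [← pow_mod_card, h, pow_mod_card]

theorem pow_bijective {n : ℕ} (hn : (Fintype.card C).Coprime n) :
    Function.Bijective fun c : C => c ^ n :=
  (powCoprime (Nat.card_eq_fintype_card (α := C) ▸ hn)).bijective

theorem coeff_pow_coprime (q : ℕ) [Fact q.Prime] (hq : (Fintype.card C).Coprime q)
    (a : MonoidAlgebra (ZMod q) C) (g : C) : (a ^ q).coeff (g ^ q) = a.coeff g := by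
  rw [coeff_pow_char, sum_eq_single g]
  · intro d hd hne
    exact absurd ((pow_bijective hq).1 (mem_filter.1 hd).2) hne
  · simp

/-- Elements whose values depend only on the order. -/
def IsRat (a : MonoidAlgebra R C) : Prop :=
  ∀ c d : C, orderOf c = orderOf d → a.coeff c = a.coeff d

/-- In a cyclic group the solutions of `x ^ orderOf c = 1` are the powers of `c`. -/
theorem exists_pow_eq [IsCyclic C] {c x : C} (h : x ^ orderOf c = 1) : ∃ k : ℕ, c ^ k = x := by
  classical
  have hsub : (Finset.range (orderOf c)).image (fun k => c ^ k) ⊆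
      univ.filter fun y : C => y ^ orderOf c = 1 := by
    intro y hy
    obtain ⟨k, _, rfl⟩ := mem_image.1 hy
    exact mem_filter.2 ⟨mem_univ _, by rw [← pow_mul, mul_comm, pow_mul, pow_orderOf_eq_one, one_pow]⟩
  have hcard : ((Finset.range (orderOf c)).image fun k => c ^ k).card = orderOf c := by
    rw [card_image_of_injOn, card_range]
    intro i hi j hj
    exact pow_injOn_Iio_orderOf (by simpa using hi) (by simpa using hj)
  have hle : (univ.filter fun y : C => y ^ orderOf c = 1).card ≤
      ((Finset.range (orderOf c)).image fun k => c ^ k).card :=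
    hcard.symm ▸ IsCyclic.card_pow_eq_one_le (orderOf_pos c)
  have hx : x ∈ univ.filter fun y : C => y ^ orderOf c = 1 := mem_filter.2 ⟨mem_univ _, h⟩
  rw [← eq_of_subset_of_card_le hsub hle] at hx
  obtain ⟨k, _, hk⟩ := mem_image.1 hx
  exact ⟨k, hk⟩

theorem isRat_of_pow [IsCyclic C] {a : MonoidAlgebra R C}
    (h : ∀ u : ℕ, (Fintype.card C).Coprime u → ∀ c, a.coeff (c ^ u) = a.coeff c) : IsRat a := by
  intro c d hcd
  have hm : 0 < Fintype.card C := Fintype.card_pos
  obtain ⟨k, hk⟩ := exists_pow_eq (c := c) (x := d) (by rw [hcd, pow_orderOf_eq_one])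
  have hcop : k.Coprime (orderOf c) := by
    have hpos : 0 < orderOf c := orderOf_pos c
    have h2 := orderOf_pow (n := k) c
    rw [hk, ← hcd] at h2
    have h1 := (Nat.div_eq_iff_eq_mul_left (Nat.gcd_pos_of_pos_left k hpos)
      (Nat.gcd_dvd_left _ k)).1 h2.symm
    rw [Nat.coprime_comm]
    exact (Nat.mul_eq_left hpos.ne').1 h1.symm
  haveI : NeZero (Fintype.card C) := ⟨hm.ne'⟩
  have hdvd : orderOf c ∣ Fintype.card C := orderOf_dvd_card
  obtain ⟨v, hv⟩ := ZMod.unitsMap_surjective hdvd (ZMod.unitOfCoprime k hcop)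
  have hvk : c ^ (v : ZMod (Fintype.card C)).val = d := by
    rw [← hk, pow_eq_pow_iff_modEq, ← ZMod.natCast_eq_natCast_iff]
    have := congrArg (fun x : (ZMod (orderOf c))ˣ => (x : ZMod (orderOf c))) hv
    simp only [ZMod.unitsMap_def, Units.coe_map, MonoidHom.coe_coe, ZMod.coe_unitOfCoprime] at this
    rw [← this, ZMod.castHom_apply, ZMod.natCast_val]
  rw [← hvk, h _ (ZMod.val_coe_unit_coprime v).symm]

theorem isRat_coeff_pow {a : MonoidAlgebra R C} (h : IsRat a) {n : ℕ}
    (hn : (Fintype.card C).Coprime n) (c : C) : a.coeff (c ^ n) = a.coeff c :=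
  h _ _ (Nat.Coprime.orderOf_pow (Nat.Coprime.coprime_dvd_left orderOf_dvd_card hn))

theorem pow_eq_self_of_isRat (q : ℕ) [Fact q.Prime] (hq : (Fintype.card C).Coprime q)
    {a : MonoidAlgebra (ZMod q) C} (ha : IsRat a) : a ^ q = a := by
  ext g
  obtain ⟨h, rfl⟩ := (pow_bijective hq).2 g
  rw [coeff_pow_coprime q hq, isRat_coeff_pow ha hq]

namespace DihSR

variable (S : DihSR C)

open scoped Classical in
theorem inv_indicator (x0 : C ⊕ C) :
    Inv S.r (ofFn fun c => if S.r x0 (Sum.inl c) then (1 : R) else 0)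
      (ofFn fun c => if S.r x0 (Sum.inr c) then (1 : R) else 0) := by
  intro x y hxy
  have key : ∀ z, pairFn (ofFn fun c => if S.r x0 (Sum.inl c) then (1 : R) else 0)
      (ofFn fun c => if S.r x0 (Sum.inr c) then (1 : R) else 0) z = if S.r x0 z then 1 else 0 := by
    rintro (c | c) <;> simp [pairFn, coeff_ofFn]
  rw [key, key]
  exact if_congr ⟨fun h => S.trans h hxy, fun h => S.trans h (S.symm hxy)⟩ rfl rfl

theorem mult_prime {q : ℕ} [Fact q.Prime] (hodd : Odd q) (hq : (Fintype.card C).Coprime q)
    {c d : C} (h : S.r (Sum.inl (c ^ q)) (Sum.inl (d ^ q))) : S.r (Sum.inl c) (Sum.inl d) := by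
  classical
  have hi := S.inv_pow_odd hodd (S.inv_indicator (R := ZMod q) (Sum.inl c))
  have := S.inv_coeff_l hi h
  rw [coeff_pow_coprime q hq, coeff_pow_coprime q hq, coeff_ofFn, coeff_ofFn, if_pos (S.refl _)] at this
  by_contra hn
  rw [if_neg hn] at this
  exact one_ne_zero this

theorem mult_prime' {q : ℕ} [Fact q.Prime] (hodd : Odd q) (hq : (Fintype.card C).Coprime q)
    {c d : C} (h : S.r (Sum.inl c) (Sum.inl d)) : S.r (Sum.inl (c ^ q)) (Sum.inl (d ^ q)) := by
  classical
  let e : C × C → C × C := fun p => (p.1 ^ q, p.2 ^ q)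
  let T : Finset (C × C) := univ.filter fun p => S.r (Sum.inl p.1) (Sum.inl p.2)
  have hinj : Function.Injective e := fun p p' he =>
    Prod.ext ((pow_bijective hq).1 (congrArg Prod.fst he)) ((pow_bijective hq).1 (congrArg Prod.snd he))
  -- the preimage of the relation is contained in it, so equal to it
  have hsub : (univ.filter fun p => e p ∈ T) ⊆ T := fun p hp =>
    mem_filter.2 ⟨mem_univ _, S.mult_prime hodd hq (mem_filter.1 (mem_filter.1 hp).2).2⟩
  have hcard : T.card ≤ (univ.filter fun p => e p ∈ T).card := by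
    refine le_of_eq (card_bij (fun p hp => e p) (fun p hp => (mem_filter.1 hp).2)
      (fun p _ p' _ he => hinj he) fun p hp => ?_).symm
    obtain ⟨p', hp'⟩ := (Finite.injective_iff_bijective.1 hinj).2 p
    exact ⟨p', mem_filter.2 ⟨mem_univ _, hp'.symm ▸ hp⟩, hp'⟩
  have : (c, d) ∈ univ.filter fun p => e p ∈ T :=
    (eq_of_subset_of_card_le hsub hcard).symm ▸ mem_filter.2 ⟨mem_univ _, h⟩
  exact (mem_filter.1 (mem_filter.1 this).2).2

theorem mult_odd : ∀ {u : ℕ}, Odd u → (Fintype.card C).Coprime u → ∀ {c d : C},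
    S.r (Sum.inl c) (Sum.inl d) → S.r (Sum.inl (c ^ u)) (Sum.inl (d ^ u)) := by
  intro u
  induction u using induction_on_primes with
  | zero => intro h; simp at h
  | one => intro _ _ c d h; simpa using h
  | prime_mul p a hp ih =>
    intro hodd hcop c d h
    haveI := Fact.mk hp
    rw [Nat.odd_mul] at hodd
    have := ih hodd.2 hcop.coprime_mul_left_right
      (S.mult_prime' hodd.1 hcop.coprime_mul_right_right h)
    rwa [← pow_mul, ← pow_mul] at this

theorem mult {u : ℕ} (hcop : (Fintype.card C).Coprime u) {c d : C}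
    (h : S.r (Sum.inl c) (Sum.inl d)) : S.r (Sum.inl (c ^ u)) (Sum.inl (d ^ u)) := by
  rcases Nat.even_or_odd u with he | ho
  · have hm : Odd (Fintype.card C) := Nat.Coprime.odd_of_left
      (Nat.Coprime.coprime_dvd_left (even_iff_two_dvd.1 he) hcop.symm)
    have hcop' : (Fintype.card C).Coprime (u + Fintype.card C) := by simpa using hcop
    have := S.mult_odd (he.add_odd hm) hcop' h
    rwa [pow_congr_card (Nat.add_mod_right u _), pow_congr_card (Nat.add_mod_right u _)] at this
  · exact S.mult_odd ho hcop h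

/-- Products of rational invariant pairs are rational. -/
theorem isRat_mul [IsCyclic C] {a b a' b' : MonoidAlgebra ℤ C} (h : Inv S.r a b)
    (h' : Inv S.r a' b') (ha : IsRat a) (ha' : IsRat a') : IsRat (a * a' + b * st b') := by
  refine isRat_of_pow fun u hu c => ?_
  haveI : NeZero (Fintype.card C) := ⟨Fintype.card_pos.ne'⟩
  obtain ⟨q, ⟨hqp, hqu⟩, hqbig⟩ := (Nat.infinite_setOfPred_prime_and_eq_mod (q := Fintype.card C)
    (a := (u : ZMod (Fintype.card C))) (ZMod.isUnit_iff_coprime u _ |>.2 hu.symm)).exists_gt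
    (2 + ((a * a' + b * st b').coeff (c ^ u) - (a * a' + b * st b').coeff c).natAbs)
  haveI := Fact.mk hqp
  have hodd : Odd q := hqp.odd_of_ne_two (by omega)
  have hmod : q % Fintype.card C = u % Fintype.card C :=
    (ZMod.natCast_eq_natCast_iff' q u _).1 hqu
  have hq : (Fintype.card C).Coprime q := by
    rwa [Nat.Coprime, Nat.gcd_rec, hmod, ← Nat.gcd_rec]
  let φ : ℤ →+* ZMod q := Int.castRingHom _
  have hi : Inv S.r (mapC φ a) (mapC φ b) := S.inv_map φ h
  have hi' : Inv S.r (mapC φ a') (mapC φ b') := S.inv_map φ h'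
  have hr : mapC φ a ^ q = mapC φ a := pow_eq_self_of_isRat q hq fun x y e => by
    simp only [coeff_mapC, ha x y e]
  have hr' : mapC φ a' ^ q = mapC φ a' := pow_eq_self_of_isRat q hq fun x y e => by
    simp only [coeff_mapC, ha' x y e]
  let A := mapC φ a
  let B := mapC φ b
  let A' := mapC φ a'
  let B' := mapC φ b'
  have hB : (B * st B) ^ (q / 2) * B = B := by
    have := S.inv_pow_odd hodd hi
    rw [hr] at this
    exact S.ext_left this hi
  have hB' : (B' * st B') ^ (q / 2) * B' = B' := by
    have := S.inv_pow_odd hodd hi'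
    rw [hr'] at this
    exact S.ext_left this hi'
  have hB'' : (B' * st B') ^ (q / 2) * st B' = st B' := by
    have e : ∀ k : ℕ, st ((B' * st B') ^ k) = (B' * st B') ^ k := fun k => by
      induction k with
      | zero => simp [st_one]
      | succ k ih => rw [pow_succ, st_mul, ih, st_mul, st_st, mul_comm (st B') B']
    conv_rhs => rw [← hB', st_mul, e]
  have hreal : st B * B' = B * st B' := by
    have := S.st_eq (S.inv_mul hi hi')
    rw [st_add, st_mul, st_mul, st_st, S.st_eq hi, S.st_eq hi'] at this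
    exact add_left_cancel this
  have hX : (B * st B') ^ q = B * st B' := by
    have e : (B * st B') * (B * st B') = (B * st B) * (B' * st B') := by
      nth_rewrite 2 [← hreal]; ring
    have e2 : (B * st B') ^ q = (B * st B') ^ (2 * (q / 2) + 1) :=
      congrArg ((B * st B') ^ ·) (Nat.two_mul_div_two_add_one_of_odd hodd).symm
    rw [e2, pow_succ, pow_mul, pow_two, e, mul_pow]
    calc (B * st B) ^ (q / 2) * (B' * st B') ^ (q / 2) * (B * st B')
        = ((B * st B) ^ (q / 2) * B) * ((B' * st B') ^ (q / 2) * st B') := by ring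
      _ = B * st B' := by rw [hB, hB'']
  haveI := charP_algebra (C := C) q
  have hfin : (mapC φ (a * a' + b * st b')) ^ q = mapC φ (a * a' + b * st b') := by
    rw [map_add, map_mul, map_mul, mapC_st, add_pow_char, mul_pow, hr, hr', hX]
  have := coeff_pow_coprime q hq (mapC φ (a * a' + b * st b')) c
  rw [hfin, pow_congr_card hmod, coeff_mapC, coeff_mapC] at this
  have hdvd : (q : ℤ) ∣ (a * a' + b * st b').coeff (c ^ u) - (a * a' + b * st b').coeff c :=
    (ZMod.intCast_eq_intCast_iff_dvd_sub _ _ q).1 this.symm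
  have := Int.eq_zero_of_dvd_of_natAbs_lt_natAbs hdvd (by omega)
  omega

end DihSR

end CfsgLib.PLocal.Dih
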