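import Cfsg.Agent.Lib.PLocal.DihBase

/-!
Schur rings over generalised dihedral groups `C ⋊ ⟨b⟩`, in pair coordinates: an element is a pair
`(α, β)` standing for `α + β b`.
-/

set_option autoImplicit false
set_option linter.unusedSectionVars false

namespace CfsgLib.PLocal.Dih

open Finset MonoidAlgebra

universe u

variable {C : Type u} [CommGroup C] [Fintype C] [DecidableEq C]

/-- A pair of coefficient functions as one function on the two halves. -/
def pairFn {R : Type} [CommRing R] (a b : MonoidAlgebra R C) : C ⊕ C → R :=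
  Sum.elim (fun c => a.coeff c) fun c => b.coeff c

/-- Constant on the classes of a relation. -/
def Inv (r : C ⊕ C → C ⊕ C → Prop) {R : Type} [CommRing R] (a b : MonoidAlgebra R C) : Prop :=
  ∀ x y, r x y → pairFn a b x = pairFn a b y

/-- The axioms of a primitive Schur ring over a generalised dihedral group. -/
structure DihSR (C : Type u) [CommGroup C] [Fintype C] [DecidableEq C] where
  r : C ⊕ C → C ⊕ C → Prop
  refl : ∀ x, r x x
  symm : ∀ {x y}, r x y → r y x
  trans : ∀ {x y z}, r x y → r y z → r x z
  one : ∀ {x}, r (Sum.inl 1) x → x = Sum.inl 1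
  mul : ∀ {R : Type} [CommRing R] (a b a' b' : MonoidAlgebra R C), Inv r a b → Inv r a' b' →
    Inv r (a * a' + b * st b') (a * b' + b * st a')
  symmC : ∀ c : C, r (Sum.inl c) (Sum.inl c⁻¹)
  toR : ∀ c : C, c ≠ 1 → ∃ c', r (Sum.inl c) (Sum.inr c')
  toL : ∀ c : C, ∃ c', r (Sum.inr c) (Sum.inl c')
  stab : ∀ {R : Type} [CommRing R] (a b : MonoidAlgebra R C), Inv r a b → ∀ z : C, z ≠ 1 →
    (∀ c, a.coeff (z * c) = a.coeff c) → (∀ c, b.coeff (z * c) = b.coeff c) →
    ∀ x y, pairFn a b x = pairFn a b y

namespace DihSR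

variable (S : DihSR C) {R : Type} [CommRing R]

theorem inv_coeff_l {a b : MonoidAlgebra R C} (h : Inv S.r a b) {c d : C}
    (hcd : S.r (Sum.inl c) (Sum.inl d)) : a.coeff c = a.coeff d := h _ _ hcd

theorem inv_coeff_lr {a b : MonoidAlgebra R C} (h : Inv S.r a b) {c d : C}
    (hcd : S.r (Sum.inl c) (Sum.inr d)) : a.coeff c = b.coeff d := h _ _ hcd

/-- Invariant pairs have symmetric first component. -/
theorem st_eq {a b : MonoidAlgebra R C} (h : Inv S.r a b) : st a = a := by
  ext c; rw [coeff_st]; exact (S.inv_coeff_l h (S.symmC c)).symm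

/-- An invariant pair is determined by its first component. -/
theorem ext_left {a b b' : MonoidAlgebra R C} (h : Inv S.r a b) (h' : Inv S.r a b') : b = b' := by
  ext c
  obtain ⟨d, hd⟩ := S.toL c
  rw [← S.inv_coeff_lr h (S.symm hd), S.inv_coeff_lr h' (S.symm hd)]

theorem inv_add {a b a' b' : MonoidAlgebra R C} (h : Inv S.r a b) (h' : Inv S.r a' b') :
    Inv S.r (a + a') (b + b') := by
  intro x y hxy
  have h1 := h x y hxy
  have h2 := h' x y hxy
  cases x <;> cases y <;> simp_all [pairFn]

theorem inv_sub {a b a' b' : MonoidAlgebra R C} (h : Inv S.r a b) (h' : Inv S.r a' b') :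
    Inv S.r (a - a') (b - b') := by
  intro x y hxy
  have h1 := h x y hxy
  have h2 := h' x y hxy
  cases x <;> cases y <;> simp_all [pairFn]

theorem inv_const (t : R) : Inv S.r (algebraMap R (MonoidAlgebra R C) t) 0 := by
  have key : ∀ z : C ⊕ C, z ≠ Sum.inl 1 →
      pairFn (algebraMap R (MonoidAlgebra R C) t) 0 z = 0 := by
    rintro (c | c) hc
    · have : c ≠ 1 := fun e => hc (by rw [e])
      simp [pairFn, this]
    · simp [pairFn]
  intro x y hxy
  by_cases hx : x = Sum.inl 1
  · subst hx; rw [S.one hxy]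
  · have hy : y ≠ Sum.inl 1 := fun e => hx (S.one (S.symm (e ▸ hxy)))
    rw [key x hx, key y hy]

theorem inv_smul (t : R) {a b : MonoidAlgebra R C} (h : Inv S.r a b) :
    Inv S.r (algebraMap R _ t * a) (algebraMap R _ t * b) := by
  intro x y hxy
  have h1 := h x y hxy
  cases x <;> cases y <;> simp_all [pairFn]

theorem inv_bar : Inv S.r (bar : MonoidAlgebra R C) bar := by
  intro x y _
  cases x <;> cases y <;> simp [pairFn, coeff_bar]

/-- The product in pair coordinates, using that the first components are symmetric. -/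
theorem inv_mul {a b a' b' : MonoidAlgebra R C} (h : Inv S.r a b) (h' : Inv S.r a' b') :
    Inv S.r (a * a' + b * st b') (a * b' + a' * b) := by
  have := S.mul a b a' b' h h'
  rwa [S.st_eq h', mul_comm b a'] at this

theorem inv_map {R' : Type} [CommRing R'] (f : R → R') {a b : MonoidAlgebra R C} (h : Inv S.r a b) :
    Inv S.r (ofFn fun c => f (a.coeff c)) (ofFn fun c => f (b.coeff c)) := by
  intro x y hxy
  have h1 := h x y hxy
  cases x <;> cases y <;> simp_all [pairFn, coeff_ofFn]

/-- Second component of the `n`-th power is a multiple of `b`. -/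
theorem inv_pow {a b : MonoidAlgebra R C} (h : Inv S.r a b) :
    ∀ n : ℕ, ∃ e o, Inv S.r e (o * b) ∧
      !![a, b; st b, a] ^ n = !![e, o * b; o * st b, e] := by
  intro n
  induction n with
  | zero =>
    refine ⟨1, 0, ?_, ?_⟩
    · rw [zero_mul, ← map_one (algebraMap R (MonoidAlgebra R C))]
      exact S.inv_const 1
    · rw [pow_zero]
      ext i j : 2
      fin_cases i <;> fin_cases j <;> simp
  | succ n ih =>
    obtain ⟨e, o, hi, hm⟩ := ih
    refine ⟨e * a + o * b * st b, e + o * a, ?_, ?_⟩
    · have := S.inv_mul hi h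
      have he : e * b + a * (o * b) = (e + o * a) * b := by ring
      rwa [he] at this
    · rw [pow_succ, hm, Matrix.mul_fin_two]
      congr 1
      funext i j
      fin_cases i <;> fin_cases j <;> simp only [Matrix.of_apply, Matrix.cons_val', Matrix.cons_val_zero,
        Matrix.cons_val_one, Matrix.cons_val_fin_one, Fin.zero_eta, Fin.mk_one] <;> ring

end DihSR

end CfsgLib.PLocal.Dih
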