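import Cfsg.Agent.Lib.PLocal.DihTriv

/-!
A rational union of classes whose first component is invariant under translation by an element of
prime order has a very restricted square.
-/

set_option autoImplicit false
set_option linter.unusedSectionVars false

namespace CfsgLib.PLocal.Dih

open Finset MonoidAlgebra

universe u

variable {C : Type u} [CommGroup C] [Fintype C] [DecidableEq C] [IsCyclic C]
variable {q : ℕ} [hp : Fact q.Prime] {z : C}

theorem coeff_mul_self_one {a : MonoidAlgebra ℤ C} (h : st a = a) :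
    (a * a).coeff 1 = ∑ c, a.coeff c ^ 2 := by
  rw [coeff_mul]
  refine sum_congr rfl fun d _ => ?_
  rw [mul_one, ← coeff_st, h, sq]

theorem coeff_mul_st_one (a : MonoidAlgebra ℤ C) :
    (a * st a).coeff 1 = ∑ c, a.coeff c ^ 2 := by
  rw [coeff_mul]
  exact sum_congr rfl fun d _ => by rw [mul_one, coeff_st, inv_inv, sq]

theorem aug_algebraMap {R : Type} [CommRing R] (r : R) :
    aug (algebraMap R (MonoidAlgebra R C) r) = r := by
  rw [aug_apply]; simp only [coeff_algebraMap, sum_ite_eq', mem_univ, if_true]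

theorem aug_bar : aug (bar : MonoidAlgebra ℤ C) = Fintype.card C := by
  simp [aug_apply, coeff_bar]

theorem sum_sq_of_zero_one {a : MonoidAlgebra ℤ C} (h : ∀ c, a.coeff c = 0 ∨ a.coeff c = 1) :
    ∑ c, a.coeff c ^ 2 = aug a := by
  rw [aug_apply]
  exact sum_congr rfl fun c _ => by rcases h c with e | e <;> simp [e]

namespace DihSR

variable (S : DihSR C)

/-- An indicator of a union of classes with invariant, nontrivial, first component. -/
structure XSet (z : C) where
  a : MonoidAlgebra ℤ C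
  b : MonoidAlgebra ℤ C
  inv : Inv S.r a b
  rat : IsRat a
  pInv : PInv z a
  za : ∀ c, a.coeff c = 0 ∨ a.coeff c = 1
  zb : ∀ c, b.coeff c = 0 ∨ b.coeff c = 1
  one : a.coeff 1 = 0
  nonempty : ∃ c, a.coeff c = 1

variable {S}

/-- The arithmetical data of an `XSet`. -/
theorem XSet.data (hz : orderOf z = q) (X : S.XSet z) :
    let A := aug X.a
    let B := aug X.b
    let m : ℤ := (Fintype.card C : ℤ)
    0 < A ∧ A < m ∧ 0 < B ∧ B < m ∧ ∃ t : ℤ,
      X.a * X.a + X.b * st X.b = algebraMap ℤ _ ((A - B) ^ 2) + algebraMap ℤ _ t * bar ∧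
      2 * (A * B) = t * m ∧ A + B = (A - B) ^ 2 + t ∧
      2 * X.a ^ 3 = algebraMap ℤ _ (2 * (A - B) ^ 2) * X.a + algebraMap ℤ _ (2 * (t * A) - t * B) * bar := by
  intro A B m
  obtain ⟨a, b, hi, hr, hP, za, zb, h1, ⟨c0, hc0⟩⟩ := X
  have hz1 : z ≠ 1 := fun e => hp.out.ne_one (by rw [← hz, e, orderOf_one])
  have hsym : st a = a := S.st_eq hi
  have hc01 : c0 ≠ 1 := fun e => by rw [e, h1] at hc0; exact zero_ne_one hc0
  obtain ⟨c0', hc0'⟩ := S.toR c0 hc01
  obtain ⟨z', hz'⟩ := S.toR z hz1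
  have hbz : b.coeff z' = 0 := by
    rw [← S.inv_coeff_lr hi hz', ← h1]
    simpa using hP 1
  have nn : ∀ {x : MonoidAlgebra ℤ C}, (∀ c, x.coeff c = 0 ∨ x.coeff c = 1) →
      ∀ c ∈ (univ : Finset C), 0 ≤ x.coeff c := fun h c _ => by rcases h c with e | e <;> simp [e]
  have ub : ∀ {x : MonoidAlgebra ℤ C}, (∀ c, x.coeff c = 0 ∨ x.coeff c = 1) →
      ∀ c0, x.coeff c0 = 0 → aug x < Fintype.card C := fun {x} h c0 h0 => by
    rw [aug_apply, Fintype.card_eq_sum_ones, Nat.cast_sum]
    refine sum_lt_sum (fun c _ => ?_) ⟨c0, mem_univ _, by simp [h0]⟩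
    rcases h c with e | e <;> simp [e]
  have hA : 0 < A := lt_of_lt_of_le (by rw [hc0]; norm_num) (single_le_sum (nn za) (mem_univ c0))
  have hB : 0 < B := lt_of_lt_of_le
    (by rw [← S.inv_coeff_lr hi hc0', hc0]; norm_num) (single_le_sum (nn zb) (mem_univ c0'))
  refine ⟨hA, ub za 1 h1, hB, ub zb z' hbz, ?_⟩
  have h2 : S.R0 z (a * a + b * st b) (a * b + a * b) :=
    ⟨S.inv_mul hi hi, S.isRat_mul hi hi hr hr, (hP.mul_right b).add (hP.mul_right b)⟩
  obtain ⟨t, ht, ht'⟩ := S.R0_trivial hz h2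
  have e2 : a * b + a * b = algebraMap ℤ _ t * bar := by
    ext c; rw [ht', coeff_smul_apply, coeff_bar, mul_one]
  have e1 : a * a + b * st b = algebraMap ℤ _ (A + B - t) + algebraMap ℤ _ t * bar := by
    ext c
    simp only [coeff_add, Finsupp.add_apply, coeff_smul_apply, coeff_bar, coeff_algebraMap, mul_one]
    by_cases hc : c = 1
    · subst hc
      rw [coeff_mul_self_one hsym, coeff_mul_st_one,
        sum_sq_of_zero_one za, sum_sq_of_zero_one zb, if_pos rfl]
      ring
    · rw [if_neg hc, zero_add, ← ht c hc, coeff_add, Finsupp.add_apply]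
  have a1 := congrArg aug e1
  have a2 := congrArg aug e2
  simp only [map_add, map_mul, aug_st, aug_algebraMap, aug_bar] at a1 a2
  have hd : A + B - t = (A - B) ^ 2 := by
    simp only [A, B] at a1 a2 ⊢
    linear_combination -a1 + a2
  refine ⟨t, by rw [← hd]; exact e1, by simp only [A, B, m] at a2 ⊢; linarith, by linarith, ?_⟩
  have hbb : bar * st b = algebraMap ℤ _ B * bar := by rw [bar_mul, aug_st]
  have hba : bar * a = algebraMap ℤ _ A * bar := bar_mul a
  rw [← hd]
  simp only [map_sub, map_mul, map_ofNat]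
  calc 2 * a ^ 3 = 2 * a * (a * a + b * st b) - (a * b + a * b) * st b := by ring
    _ = 2 * a * (algebraMap ℤ _ (A + B - t) + algebraMap ℤ _ t * bar) -
        algebraMap ℤ _ t * (bar * st b) := by rw [e1, e2]; ring
    _ = 2 * algebraMap ℤ _ (A + B - t) * a + 2 * algebraMap ℤ _ t * (bar * a) -
        algebraMap ℤ _ t * (bar * st b) := by ring
    _ = _ := by rw [hba, hbb, map_sub]; ring

/-- The rank inequality. -/
theorem XSet.ineq (hz : orderOf z = q) (X : S.XSet z) :
    (q : ℤ) * (aug X.a * ((Fintype.card C : ℤ) - aug X.a)) ≤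
      (Fintype.card C : ℤ) * (aug X.a - aug X.b) ^ 2 := by
  obtain ⟨hA, hAm, -, -, t, -, -, -, h3⟩ := X.data hz
  let A := aug X.a
  let m : ℤ := (Fintype.card C : ℤ)
  let D2 := (aug X.a - aug X.b) ^ 2
  let k : ℤ →+* MonoidAlgebra ℤ C := algebraMap ℤ _
  let W := k m * X.a - k A * bar
  have hm : (0 : ℤ) < m := lt_trans hA hAm
  have hWbar : W * bar = 0 := by
    rw [sub_mul, mul_assoc, mul_comm X.a bar, bar_mul, mul_assoc, bar_mul, aug_bar]
    simp only [k, A, m]; ring
  obtain ⟨γ, hγ⟩ : ∃ γ, 2 * W ^ 3 - k (2 * m ^ 2 * D2) * W = k γ * bar := by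
    refine ⟨m ^ 3 * (2 * (t * A) - t * aug X.b) - 6 * m ^ 2 * A * (A * A) + 6 * m * A ^ 2 * (A * m)
      - 2 * A ^ 3 * (m * m) + 2 * m ^ 2 * D2 * A, ?_⟩
    have hbb : bar * bar = k m * bar := by rw [bar_mul, aug_bar]
    have hba : bar * X.a = k A * bar := bar_mul _
    have haa : bar * (X.a * X.a) = k (A * A) * bar := by rw [bar_mul, map_mul]
    have hb3 : bar * bar * bar = k (m * m) * bar := by rw [hbb, mul_assoc, hbb, map_mul]; ring
    have hbba : bar * bar * X.a = k (A * m) * bar := by rw [hbb, mul_assoc, hba, map_mul]; ring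
    calc 2 * W ^ 3 - k (2 * m ^ 2 * D2) * W
        = k m ^ 3 * (2 * X.a ^ 3) - 6 * (k m ^ 2 * k A) * (bar * (X.a * X.a))
          + 6 * (k m * k A ^ 2) * (bar * bar * X.a) - 2 * k A ^ 3 * (bar * bar * bar)
          - k (2 * m ^ 2 * D2) * (k m * X.a - k A * bar) := by simp only [W]; ring
      _ = _ := by
        rw [h3, haa, hbba, hb3]
        simp only [k, map_add, map_sub, map_mul, map_pow, map_ofNat, D2, A, m]; ring
  have hγ0 : γ = 0 := by
    have := congrArg (fun x => (x * bar).coeff 1) hγ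
    have hW3 : (2 * W ^ 3 - k (2 * m ^ 2 * D2) * W) * bar = 0 := by
      have e : (2 * W ^ 3 - k (2 * m ^ 2 * D2) * W) * bar =
          (2 * W ^ 2 - k (2 * m ^ 2 * D2)) * (W * bar) := by ring
      rw [e, hWbar, mul_zero]
    simp only [hW3] at this
    rw [mul_assoc, bar_mul, aug_bar] at this
    simp only [k, coeff_smul_apply, coeff_bar, coeff_zero, Finsupp.coe_zero, Pi.zero_apply,
      mul_one] at this
    rcases mul_eq_zero.1 this.symm with h | h
    · exact h
    · exact absurd h hm.ne'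
  have hW4 : ((W * W) * (W * W)).coeff 1 = m ^ 2 * D2 * (W * W).coeff 1 := by
    have e : 2 * ((W * W) * (W * W)) = k (2 * m ^ 2 * D2) * (W * W) := by
      rw [hγ0, map_zero, zero_mul, sub_eq_zero] at hγ
      calc 2 * ((W * W) * (W * W)) = (2 * W ^ 3) * W := by ring
        _ = _ := by rw [hγ]; ring
    have := congrArg (fun x => x.coeff 1) e
    simp only [k, two_mul, coeff_add, Finsupp.add_apply, coeff_smul_apply] at this
    linarith
  have hWs : st W = W := by
    ext c
    simp only [W, k, coeff_st, coeff_sub, Finsupp.sub_apply, coeff_smul_apply, coeff_bar]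
    rw [S.inv_coeff_l X.inv (S.symmC c)]
  have hW2s : st (W * W) = W * W := by rw [st_mul, hWs]
  have hW1 : (W * W).coeff 1 = m * (A * (m - A)) := by
    rw [coeff_mul_self_one hWs]
    simp only [W, k, coeff_sub, Finsupp.sub_apply, coeff_smul_apply, coeff_bar, mul_one]
    have e : ∀ c, (m * X.a.coeff c - A) ^ 2 = (m ^ 2 - 2 * m * A) * X.a.coeff c + A ^ 2 := fun c => by
      rcases X.za c with h | h <;> rw [h] <;> ring
    simp only [e, sum_add_distrib, ← mul_sum, ← aug_apply, sum_const, card_univ, nsmul_eq_mul]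
    simp only [A, m]; ring
  have hWP : PInv z (W * W) :=
    ((X.pInv.mul_left _).sub (pInv_bar.mul_left _)).mul_left _
  have hle : (q : ℤ) * (W * W).coeff 1 ^ 2 ≤ ((W * W) * (W * W)).coeff 1 := by
    rw [coeff_mul_self_one hW2s]
    calc (q : ℤ) * (W * W).coeff 1 ^ 2
        = ∑ i ∈ range q, (W * W).coeff (1 * z ^ i) ^ 2 := by
          rw [sum_congr rfl (g := fun _ => (W * W).coeff 1 ^ 2) fun i _ => by
            rw [mul_comm 1 (z ^ i), hWP.pow i], sum_const, card_range, nsmul_eq_mul]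
      _ = ∑ x with x ^ q = (1 : C) ^ q, (W * W).coeff x ^ 2 :=
          (sum_roots hz 1 fun x => (W * W).coeff x ^ 2).symm
      _ ≤ _ := sum_le_univ_sum_of_nonneg (fun x => sq_nonneg _)
  rw [hW4, hW1] at hle
  have hpos : 0 < m * (A * (m - A)) := mul_pos hm (mul_pos hA (by simp only [A, m]; linarith))
  have h4 : (q : ℤ) * (m * (A * (m - A))) ≤ m ^ 2 * D2 := by
    refine le_of_mul_le_mul_right ?_ hpos
    linarith [hle]
  refine le_of_mul_le_mul_left ?_ hm
  simp only [A, D2, m] at h4 ⊢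
  linarith [h4]

/-- No such set exists for odd `q`. -/
theorem XSet.false_of_odd (hz : orderOf z = q) (hq : Odd q) (X : S.XSet z) : False := by
  obtain ⟨hA, hAm, hB, hBm, t, -, h2, h1, -⟩ := X.data hz
  have hineq := X.ineq hz
  have hdA : (q : ℤ) ∣ aug X.a := by
    obtain ⟨T, hT⟩ := exists_sum_eq hz (fun c => X.a.coeff c) X.pInv
    exact ⟨T, hT⟩
  have hdB : (q : ℤ) ∣ aug X.b := by
    let φ : ℤ →+* ZMod q := Int.castRingHom _
    have hi : Inv S.r (mapC φ X.a) (mapC φ X.b) := S.inv_map φ X.inv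
    have hr : IsRat (mapC φ X.a) := fun c d e => by simp only [coeff_mapC, X.rat c d e]
    have hy := S.inv_pow_odd hq hi
    rw [frob_eq_spart hz hr, spart_pInv hz (X.pInv.map φ)] at hy
    have h0 : Inv S.r (0 : MonoidAlgebra (ZMod q) C) 0 := by
      have := S.inv_const (0 : ZMod q)
      rwa [map_zero] at this
    have := congrArg aug (S.ext_left hy h0)
    rw [map_mul, map_pow, map_mul, aug_st, map_zero] at this
    have e : aug (mapC φ X.b) = φ (aug X.b) := by simp only [aug_apply, coeff_mapC, map_sum]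
    have h' : φ (aug X.b) = 0 := by
      rw [e] at this
      rcases mul_eq_zero.1 this with h | h
      · exact (mul_self_eq_zero.1 ((pow_eq_zero_iff'.1 h).1))
      · exact h
    exact (ZMod.intCast_zmod_eq_zero_iff_dvd _ q).1 h'
  have hqm : q ∣ Fintype.card C := hz ▸ orderOf_dvd_card
  have hq3 : 3 ≤ q := by rcases hq with ⟨k, hk⟩; have := hp.out.two_le; omega
  have hqmle : q ≤ Fintype.card C := Nat.le_of_dvd Fintype.card_pos hqm
  obtain ⟨e, he⟩ := dvd_sub hdA hdB
  generalize aug X.a = A at *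
  generalize aug X.b = B at *
  have hm : (q : ℤ) ≤ (Fintype.card C : ℤ) := by exact_mod_cast hqmle
  generalize (Fintype.card C : ℤ) = m at *
  have hQ : (3 : ℤ) ≤ q := by exact_mod_cast hq3
  generalize (q : ℤ) = Q at *
  have hD : A - B ≠ 0 := fun h => by
    rw [h] at hineq
    have : 0 < Q * (A * (m - A)) := mul_pos (by linarith) (mul_pos hA (by linarith))
    linarith
  have he0 : e ≠ 0 := fun h => hD (by rw [he, h, mul_zero])
  have hDQ : Q ^ 2 ≤ (A - B) ^ 2 := by
    rw [he, mul_pow]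
    exact le_mul_of_one_le_right (sq_nonneg Q) (by nlinarith [mul_self_pos.2 he0])
  have hs : (A + B) * (2 * m - (A + B)) = (2 * m - 1) * (A - B) ^ 2 := by
    linear_combination 2 * m * h1 - 2 * h2
  have h5 : ((Q - 2) * m - Q) * (A - B) ^ 2 ≤ -(Q * (A - B) * (m - (A + B))) := by
    nlinarith [hineq, hs]
  have hpos : 0 ≤ (Q - 2) * m - Q := by nlinarith
  have h6 : ((Q - 2) * m - Q) ^ 2 * (A - B) ^ 2 ≤ Q ^ 2 * (m - (A + B)) ^ 2 := by
    have h7 := mul_le_mul h5 h5 (mul_nonneg hpos (sq_nonneg _))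
      ((mul_nonneg hpos (sq_nonneg _)).trans h5)
    refine le_of_mul_le_mul_right ?_ (show (0 : ℤ) < (A - B) ^ 2 by positivity)
    nlinarith [h7]
  have hu : (m - (A + B)) ^ 2 = m ^ 2 - (2 * m - 1) * (A - B) ^ 2 := by linear_combination -hs
  rw [hu] at h6
  have h8 : ((Q - 2) ^ 2 * m ^ 2 + 4 * Q * m) * (A - B) ^ 2 ≤ Q ^ 2 * m ^ 2 := by
    nlinarith [h6, sq_nonneg (A - B)]
  have hm0 : 0 < m := by linarith
  have h9 : ((Q - 2) ^ 2 * m ^ 2 + 4 * Q * m) * Q ^ 2 ≤ Q ^ 2 * m ^ 2 :=
    le_trans (mul_le_mul_of_nonneg_left hDQ (by positivity)) h8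
  have h10 : m ^ 2 ≤ (Q - 2) ^ 2 * m ^ 2 := le_mul_of_one_le_left (sq_nonneg m) (by nlinarith)
  nlinarith [mul_pos (mul_pos (show (0 : ℤ) < 4 * Q by linarith) hm0)
    (show (0 : ℤ) < Q ^ 2 by positivity), mul_le_mul_of_nonneg_right h10 (sq_nonneg Q)]

end DihSR

end CfsgLib.PLocal.Dih
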