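import Cfsg.Agent.Lib.PLocal.DihPInv

/-!
A rational invariant pair whose second component is invariant under the translation by an element of
prime order is constant away from the identity.
-/

set_option autoImplicit false
set_option linter.unusedSectionVars false

namespace CfsgLib.PLocal.Dih

open Finset MonoidAlgebra

universe u

variable {C : Type u} [CommGroup C] [Fintype C] [DecidableEq C] [IsCyclic C]
variable {R : Type} [CommRing R] {q : ℕ} [hp : Fact q.Prime] {z : C}

theorem isRat_spart (hz : orderOf z = q) {a : MonoidAlgebra R C} (ha : IsRat a) :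
    IsRat (spart q z a) := fun c d h => by
  by_cases hc : q ∣ orderOf c
  · simp [coeff_spart, hc, h ▸ hc]
  · have hd : ¬ q ∣ orderOf d := h ▸ hc
    simp [coeff_spart, hc, hd, ha c d h,
      ha (c * z) (d * z) (by rw [orderOf_mul_of_not_dvd hz hc, orderOf_mul_of_not_dvd hz hd, h])]

theorem spart_add (a b : MonoidAlgebra R C) : spart q z (a + b) = spart q z a + spart q z b := by
  ext c
  simp only [coeff_spart, coeff_add, Finsupp.add_apply]
  split_ifs <;> ring

theorem mapC_spart (f : ℤ →+* R) (a : MonoidAlgebra ℤ C) :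
    mapC f (spart q z a) = spart q z (mapC f a) := by
  ext c
  rw [coeff_mapC, coeff_spart, coeff_spart, coeff_mapC, coeff_mapC]
  split_ifs <;> simp

theorem frob_eq_spart (hz : orderOf z = q) {a : MonoidAlgebra (ZMod q) C} (ha : IsRat a) :
    a ^ q = spart q z a := by
  ext c; rw [coeff_frob hz ha, coeff_spart]

/-- Scalar multiples of `bar`. -/
theorem mul_bar_eq (t : R) (a : MonoidAlgebra R C) :
    a * (algebraMap R _ t * bar) = algebraMap R _ (t * aug a) * bar := by
  rw [map_mul, mul_left_comm, mul_comm a, bar_mul, mul_assoc]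

theorem st_bar_mul (t : R) :
    st (algebraMap R _ t * bar : MonoidAlgebra R C) = algebraMap R _ t * bar := by
  ext c; rw [coeff_st, coeff_smul_apply, coeff_smul_apply, coeff_bar, coeff_bar]

theorem st_smul (t : R) (a : MonoidAlgebra R C) :
    st (algebraMap R _ t * a) = algebraMap R _ t * st a := by
  ext c; simp only [coeff_st, coeff_smul_apply]

namespace DihSR

variable (S : DihSR C)

/-- Rational invariant pairs whose second component is `z`-invariant. -/
def R0 (z : C) (a b : MonoidAlgebra ℤ C) : Prop := Inv S.r a b ∧ IsRat a ∧ PInv z b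

/-- Congruent modulo `n` to a common multiple of `(bar, bar)`. -/
def Near (n : ℤ) (x y : MonoidAlgebra ℤ C) : Prop :=
  ∃ (x0 y0 : MonoidAlgebra ℤ C) (t : ℤ), x = algebraMap ℤ _ n * x0 + algebraMap ℤ _ t * bar ∧
    y = algebraMap ℤ _ n * y0 + algebraMap ℤ _ t * bar

theorem near_zero (n : ℤ) : Near n (0 : MonoidAlgebra ℤ C) 0 := ⟨0, 0, 0, by simp, by simp⟩

theorem Near.add {n : ℤ} {x y x' y' : MonoidAlgebra ℤ C} (h : Near n x y) (h' : Near n x' y') :
    Near n (x + x') (y + y') := by
  obtain ⟨x0, y0, t, rfl, rfl⟩ := h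
  obtain ⟨x1, y1, t', rfl, rfl⟩ := h'
  exact ⟨x0 + x1, y0 + y1, t + t', by rw [map_add]; ring, by rw [map_add]; ring⟩

theorem Near.mul {n : ℤ} {x y a b : MonoidAlgebra ℤ C} (h : Near n x y) (ha : st a = a) :
    Near n (x * a + y * st b) (x * b + y * a) := by
  obtain ⟨x0, y0, t, rfl, rfl⟩ := h
  refine ⟨x0 * a + y0 * st b, x0 * b + y0 * a, t * (aug a + aug b), ?_, ?_⟩
  · calc _ = algebraMap ℤ _ n * (x0 * a + y0 * st b) + (a * (algebraMap ℤ _ t * bar)
        + st b * (algebraMap ℤ _ t * bar)) := by ring
      _ = _ := by rw [mul_bar_eq, mul_bar_eq, aug_st, mul_add t, map_add]; ring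
  · calc _ = algebraMap ℤ _ n * (x0 * b + y0 * a) + (a * (algebraMap ℤ _ t * bar)
        + b * (algebraMap ℤ _ t * bar)) := by ring
      _ = _ := by rw [mul_bar_eq, mul_bar_eq, mul_add t, map_add]; ring

theorem R0.pInv_sub (hz : orderOf z = q) {a b : MonoidAlgebra ℤ C} (h : S.R0 z a b) :
    PInv z (a - spart q z a) := pInv_sub_spart hz h.2.1

/-- The congruence modulo `q`. -/
theorem near_one (hz : orderOf z = q) {a b : MonoidAlgebra ℤ C} (h : S.R0 z a b) :
    Near (q : ℤ) (a - spart q z a) b := by
  let φ : ℤ →+* ZMod q := Int.castRingHom _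
  let A := mapC φ a
  let B := mapC φ b
  have hi : Inv S.r A B := S.inv_map φ h.1
  have hr : IsRat A := fun c d e => by simp only [A, coeff_mapC, h.2.1 c d e]
  have hB : PInv z B := h.2.2.map φ
  have hd : B * st B = 0 := hB.mul_eq_zero hz hB.st
  have hy : Inv S.r (A ^ q) 0 := by
    rcases hp.out.eq_two_or_odd' with rfl | hodd
    · have := S.inv_pow_two hi
      rwa [hd, add_zero] at this
    · have := S.inv_pow_odd hodd hi
      rwa [hd, zero_pow (by have := hp.out.two_le; omega), zero_mul] at this
  rw [frob_eq_spart hz hr] at hy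
  have hk := S.inv_sub hi hy
  rw [sub_zero] at hk
  have hz1 : z ≠ 1 := fun e => hp.out.ne_one (by rw [← hz, e, orderOf_one])
  have hconst := S.stab _ _ hk z hz1 (pInv_sub_spart hz hr) hB
  obtain ⟨t, ht⟩ := ZMod.intCast_surjective ((A - spart q z A).coeff 1)
  have key : ∀ w, pairFn (A - spart q z A) B w = (t : ZMod q) :=
    fun w => (hconst w (Sum.inl 1)).trans ht.symm
  have h1 : ∀ c, ∃ e : ℤ, (a - spart q z a).coeff c = q * e + t := fun c => by
    have h0 := key (Sum.inl c)
    simp only [pairFn, Sum.elim_inl, A] at h0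
    rw [← mapC_spart, ← map_sub, coeff_mapC] at h0
    obtain ⟨e, he⟩ := (ZMod.intCast_eq_intCast_iff_dvd_sub _ _ q).1 h0.symm
    exact ⟨e, by linarith⟩
  have h2 : ∀ c, ∃ e : ℤ, b.coeff c = q * e + t := fun c => by
    have h0 := key (Sum.inr c)
    simp only [pairFn, Sum.elim_inr, B, coeff_mapC] at h0
    obtain ⟨e, he⟩ := (ZMod.intCast_eq_intCast_iff_dvd_sub _ _ q).1 h0.symm
    exact ⟨e, by linarith⟩
  choose x0 hx0 using h1
  choose y0 hy0 using h2
  refine ⟨ofFn x0, ofFn y0, t, ?_, ?_⟩ <;>
  · ext c
    simp only [coeff_add, Finsupp.add_apply, coeff_smul_apply, coeff_bar, coeff_ofFn, hx0, hy0,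
      mul_one]

/-- Powers, to first order in the `z`-invariant part. -/
theorem pow_approx (hz : orderOf z = q) {a b : MonoidAlgebra ℤ C} (h : S.R0 z a b) {v : ℕ}
    (hv : 1 ≤ v) (hn : Near ((q : ℤ) ^ v) (a - spart q z a) b) (n : ℕ) :
    ∃ A B X Y, S.R0 z A B ∧ A = spart q z a ^ n + X ∧ PInv z X ∧ B = Y ∧ PInv z Y ∧
      Near ((q : ℤ) ^ (v + 1)) (X - (n : MonoidAlgebra ℤ C) * (spart q z a ^ (n - 1) * (a - spart q z a)))
        (Y - (n : MonoidAlgebra ℤ C) * (spart q z a ^ (n - 1) * b)) := by
  induction n with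
  | zero =>
    refine ⟨1, 0, 0, 0, ⟨?_, ?_, pInv_zero⟩, by simp, pInv_zero, rfl, pInv_zero, ?_⟩
    · have := S.inv_const (1 : ℤ)
      rwa [map_one] at this
    · intro c d e
      have h1 : c = 1 ↔ d = 1 := by rw [← orderOf_eq_one_iff, e, orderOf_eq_one_iff]
      simp [one_def, Finsupp.single_apply, eq_comm, h1]
    · simpa using near_zero _
  | succ n ih =>
    obtain ⟨A, B, X, Y, hR, hA, hX, hB, hY, hN⟩ := ih
    let s := spart q z a
    let N := a - s
    have hNP : PInv z N := R0.pInv_sub S hz h
    have hsym : st a = a := S.st_eq h.1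
    refine ⟨A * a + B * st b, A * b + a * B, s ^ n * N + X * a + B * st b, A * b + a * B,
      ⟨S.inv_mul hR.1 h.1, S.isRat_mul hR.1 h.1 hR.2.1 h.2.1,
        (h.2.2.mul_left A).add (hR.2.2.mul_left a)⟩, ?_, ?_, rfl, ?_, ?_⟩
    · rw [hA, pow_succ]; simp only [N, s]; ring
    · exact ((hNP.mul_left _).add (hX.mul_right a)).add (hR.2.2.mul_right _)
    · exact (h.2.2.mul_left A).add (hR.2.2.mul_left a)
    · -- the quadratic error is divisible by `q * q ^ v`
      obtain ⟨N0, b0, t, hN0, hb0⟩ := hn
      have hcancel : ∀ x0 x : MonoidAlgebra ℤ C, x = algebraMap ℤ _ ((q : ℤ) ^ v) * x0 +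
          algebraMap ℤ _ t * bar → PInv z x → PInv z x0 := fun x0 x hx hxP c => by
        have := hxP c
        simp only [hx, coeff_add, Finsupp.add_apply, coeff_smul_apply, coeff_bar] at this
        have hq0 : ((q : ℤ) ^ v) ≠ 0 := pow_ne_zero _ (by exact_mod_cast hp.out.ne_zero)
        exact mul_left_cancel₀ hq0 (by linarith)
      have hN0P : PInv z N0 := hcancel N0 N hN0 hNP
      have hb0P : PInv z b0 := hcancel b0 b hb0 h.2.2
      have hsq : Near ((q : ℤ) ^ (v + 1)) (N * N + b * st b) (N * b + b * N) := by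
        obtain ⟨w1, h1⟩ := hN0P.exists_mul_eq hz hNP
        obtain ⟨w2, h2⟩ := hb0P.exists_mul_eq hz h.2.2.st
        obtain ⟨w3, h3⟩ := hN0P.exists_mul_eq hz h.2.2
        obtain ⟨w4, h4⟩ := hb0P.exists_mul_eq hz hNP
        refine ⟨w1 + w2, w3 + w4, t * (aug N + aug b), ?_, ?_⟩
        · calc N * N + b * st b = algebraMap ℤ _ ((q : ℤ) ^ v) * (N0 * N + b0 * st b)
              + (N * (algebraMap ℤ _ t * bar) + st b * (algebraMap ℤ _ t * bar)) := by
                conv_lhs => arg 1; arg 1; rw [show N = _ from hN0]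
                conv_lhs => arg 2; arg 1; rw [hb0]
                ring
            _ = _ := by
                  rw [h1, h2, mul_bar_eq, mul_bar_eq, aug_st, mul_add t]
                  simp only [pow_succ, map_mul, map_add]; ring
        · calc N * b + b * N = algebraMap ℤ _ ((q : ℤ) ^ v) * (N0 * b + b0 * N)
              + (b * (algebraMap ℤ _ t * bar) + N * (algebraMap ℤ _ t * bar)) := by
                conv_lhs => arg 1; arg 1; rw [show N = _ from hN0]
                conv_lhs => arg 2; arg 1; rw [hb0]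
                ring
            _ = _ := by
                  rw [h3, h4, mul_bar_eq, mul_bar_eq, mul_add t]
                  simp only [pow_succ, map_mul, map_add]; ring
      have hst : st (s ^ (n - 1) : MonoidAlgebra ℤ C) = s ^ (n - 1) := by
        have hs : IsRat s := isRat_spart hz h.2.1
        have hs' : st s = s := by
          ext c; rw [coeff_st]; exact hs _ _ (orderOf_inv c)
        induction (n - 1) with
        | zero => simp [st_one]
        | succ k ih => rw [pow_succ, st_mul, ih, hs']
      have h1 := (Near.mul (a := a) (b := b) hN hsym)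
      have h2 := hsq.mul (a := (n : MonoidAlgebra ℤ C) * s ^ (n - 1)) (b := 0) (by
        rw [st_mul, hst]
        congr 1
        rw [← map_natCast (algebraMap ℤ (MonoidAlgebra ℤ C)), ← mul_one (algebraMap ℤ _ (n : ℤ)),
          st_smul, st_one])
      have h3 := h1.add h2
      have key : (n : MonoidAlgebra ℤ C) * (s ^ (n - 1) * s) = (n : MonoidAlgebra ℤ C) * s ^ n := by
        rcases n with _ | k
        · simp
        · rw [Nat.add_sub_cancel, pow_succ]
      convert h3 using 1
      · simp only [Nat.add_sub_cancel, Nat.cast_succ, hB, show st (0 : MonoidAlgebra ℤ C) = 0 by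
          ext c; simp [coeff_st]]
        simp only [N, s] at key ⊢
        linear_combination (a - spart q z a) * key
      · simp only [Nat.add_sub_cancel, Nat.cast_succ, hA, hB]
        simp only [N, s] at key ⊢
        linear_combination b * key

theorem near_all (hz : orderOf z = q) :
    ∀ v : ℕ, 1 ≤ v → ∀ a b, S.R0 z a b → Near ((q : ℤ) ^ v) (a - spart q z a) b := by
  intro v hv
  induction v, hv using Nat.le_induction with
  | base => intro a b h; simpa using near_one S hz h
  | succ v hv ih =>
    intro a b h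
    let s := spart q z a
    let N := a - s
    let Q : MonoidAlgebra ℤ C := algebraMap ℤ _ (q : ℤ)
    obtain ⟨A, B, X, Y, hR, hA, hX, hB, hY, hN⟩ := S.pow_approx hz h hv (ih a b h) q
    obtain ⟨X0, Y0, t', hX0, hY0⟩ := hN
    obtain ⟨N1, b1, t, hN1, hb1⟩ := near_one S hz h
    obtain ⟨s1, hs1⟩ : ∃ s1, s ^ q - s = Q * s1 := by
      let φ : ℤ →+* ZMod q := Int.castRingHom _
      have hs : QSupp q (mapC φ s) := fun c hc => by rw [coeff_mapC, qSupp_spart a c hc, map_zero]
      have hsr : IsRat (mapC φ s) := fun c d e => by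
        simp only [coeff_mapC, isRat_spart hz h.2.1 c d e, s]
      have e : mapC φ (s ^ q) = mapC φ s := by
        rw [map_pow, frob_eq_spart hz hsr, spart_of_qSupp hz hs]
      have e' : ∀ c, ∃ T : ℤ, (s ^ q - s).coeff c = q * T := fun c => by
        have h0 : φ ((s ^ q).coeff c) = φ (s.coeff c) := by rw [← coeff_mapC, e, coeff_mapC]
        obtain ⟨T, hT⟩ := (ZMod.intCast_eq_intCast_iff_dvd_sub _ _ q).1 h0.symm
        exact ⟨T, by simpa using hT⟩
      choose T hT using e'
      exact ⟨ofFn T, MonoidAlgebra.ext <| Finsupp.ext fun c => by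
        rw [coeff_smul_apply, coeff_ofFn, hT]⟩
    have hQ : (q : MonoidAlgebra ℤ C) = Q := (map_natCast _ q).symm
    -- the descended element
    let u : MonoidAlgebra ℤ C := algebraMap ℤ _ ((q : ℤ) ^ v)
    let wN := s ^ (q - 1) * N - N1 + u * X0
    let wb := s ^ (q - 1) * b - b1 + u * Y0
    let a' := s1 + wN
    have ea : Q * a' = A - a - algebraMap ℤ _ (t' - t) * bar := by
      simp only [hQ, pow_succ, map_mul] at hX0
      simp only [a', wN, u, mul_add, mul_sub, map_sub, Q] at hX0 ⊢
      rw [hA, ← hs1]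
      simp only [N, s] at hX0 hN1 ⊢
      linear_combination hN1 - hX0
    have eb : Q * wb = B - b - algebraMap ℤ _ (t' - t) * bar := by
      simp only [hQ, pow_succ, map_mul] at hY0
      simp only [wb, u, mul_add, mul_sub, map_sub, Q] at hY0 ⊢
      rw [hB]
      simp only [N, s] at hY0 hb1 ⊢
      linear_combination hb1 - hY0
    have hq0 : (q : ℤ) ≠ 0 := by exact_mod_cast hp.out.ne_zero
    have cancelP : ∀ x : MonoidAlgebra ℤ C, PInv z (Q * x) → PInv z x := fun x hx c => by
      have := hx c
      simp only [Q, coeff_smul_apply] at this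
      exact mul_left_cancel₀ hq0 this
    have hbarP : ∀ r : ℤ, PInv z (algebraMap ℤ (MonoidAlgebra ℤ C) r * bar) := fun r =>
      pInv_bar.mul_left _
    have hR' : S.R0 z a' wb := by
      have hI : Inv S.r (Q * a') (Q * wb) := by
        rw [ea, eb]
        exact S.inv_sub (S.inv_sub hR.1 h.1) (S.inv_smul _ S.inv_bar)
      refine ⟨fun x y hxy => ?_, fun c d e => ?_, ?_⟩
      · have h0 := hI x y hxy
        cases x <;> cases y <;> simp only [pairFn, Sum.elim_inl, Sum.elim_inr, Q, coeff_smul_apply]
          at h0 ⊢ <;> exact mul_left_cancel₀ hq0 h0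
      · refine mul_left_cancel₀ hq0 ?_
        rw [← coeff_smul_apply, ← coeff_smul_apply, show algebraMap ℤ _ (q : ℤ) * a' = _ from ea]
        simp only [coeff_sub, Finsupp.sub_apply, coeff_smul_apply, coeff_bar, hR.2.1 c d e,
          h.2.1 c d e]
      · refine cancelP _ ?_
        rw [eb]
        exact (hR.2.2.sub h.2.2).sub (hbarP _)
    have hwN : PInv z wN := by
      refine cancelP _ ?_
      have : Q * wN = X - (a - s) - algebraMap ℤ _ (t' - t) * bar := by
        have := ea
        simp only [a', mul_add, hA] at this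
        linear_combination this + hs1
      rw [this]
      exact (hX.sub (R0.pInv_sub S hz h)).sub (hbarP _)
    have hsp : spart q z a' = s1 := by
      have hs1' : QSupp q s1 := fun c hc => by
        have h0 : (s ^ q - s).coeff c = (q : ℤ) * s1.coeff c := by
          rw [hs1]; exact coeff_smul_apply _ _ _
        rw [coeff_sub, Finsupp.sub_apply, ((qSupp_spart a).pow q) c hc, qSupp_spart a c hc, sub_zero]
          at h0
        exact (mul_eq_zero.1 h0.symm).resolve_left hq0
      rw [spart_add, spart_pInv hz hwN, add_zero, spart_of_qSupp hz hs1']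
    -- read the induction hypothesis for it
    obtain ⟨M, M', r, hM, hM'⟩ := ih a' wb hR'
    rw [hsp] at hM
    obtain ⟨N0, b0, t0, hN0, hb0⟩ := ih a b h
    refine ⟨s ^ (q - 1) * N0 + X0 - M, s ^ (q - 1) * b0 + Y0 - M',
      q * (t0 * aug (s ^ (q - 1)) - r) + t, ?_, ?_⟩
    · have e1 : N1 = s ^ (q - 1) * N + u * X0 - (u * M + algebraMap ℤ _ r * bar) := by
        have := hM
        simp only [a', wN] at this
        simp only [u] at this ⊢
        linear_combination -this
      have e2 : s ^ (q - 1) * N = u * (s ^ (q - 1) * N0) +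
          algebraMap ℤ _ (t0 * aug (s ^ (q - 1))) * bar := by
        rw [← mul_bar_eq]
        conv_lhs => rw [show N = _ from hN0]
        simp only [u]; ring
      rw [show a - spart q z a = _ from hN1, e1, e2]
      simp only [u, pow_succ, map_mul, map_add, map_sub]; ring
    · have e1 : b1 = s ^ (q - 1) * b + u * Y0 - (u * M' + algebraMap ℤ _ r * bar) := by
        have := hM'
        simp only [wb] at this
        simp only [u] at this ⊢
        linear_combination -this
      have e2 : s ^ (q - 1) * b = u * (s ^ (q - 1) * b0) +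
          algebraMap ℤ _ (t0 * aug (s ^ (q - 1))) * bar := by
        rw [← mul_bar_eq]
        conv_lhs => rw [hb0]
        simp only [u]; ring
      rw [hb1, e1, e2]
      simp only [u, pow_succ, map_mul, map_add, map_sub]; ring

/-- A rational invariant pair with `z`-invariant second component is constant off the identity. -/
theorem R0_trivial (hz : orderOf z = q) {a b : MonoidAlgebra ℤ C} (h : S.R0 z a b) :
    ∃ t : ℤ, (∀ c, c ≠ 1 → a.coeff c = t) ∧ ∀ c, b.coeff c = t := by
  have hall : ∀ w w' : C ⊕ C, pairFn (a - spart q z a) b w = pairFn (a - spart q z a) b w' := by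
    intro w w'
    obtain ⟨V, hV⟩ : ∃ V : ℕ, (pairFn (a - spart q z a) b w - pairFn (a - spart q z a) b w').natAbs
        < q ^ V := ⟨_, Nat.lt_pow_self hp.out.one_lt⟩
    obtain ⟨x0, y0, t, hx, hy⟩ := S.near_all hz (V + 1) (by omega) a b h
    have key : ∀ w, ∃ e, pairFn (a - spart q z a) b w = (q : ℤ) ^ (V + 1) * e + t := by
      rintro (c | c)
      · exact ⟨x0.coeff c, by simp only [pairFn, Sum.elim_inl, hx, coeff_add, Finsupp.add_apply,
          coeff_smul_apply, coeff_bar, mul_one]⟩
      · exact ⟨y0.coeff c, by simp only [pairFn, Sum.elim_inr, hy, coeff_add, Finsupp.add_apply,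
          coeff_smul_apply, coeff_bar, mul_one]⟩
    obtain ⟨e, he⟩ := key w
    obtain ⟨e', he'⟩ := key w'
    have hdvd : ((q ^ (V + 1) : ℕ) : ℤ) ∣
        pairFn (a - spart q z a) b w - pairFn (a - spart q z a) b w' :=
      ⟨e - e', by rw [he, he']; push_cast; ring⟩
    have hlt : q ^ V ≤ q ^ (V + 1) := Nat.pow_le_pow_right hp.out.pos (by omega)
    have := Int.eq_zero_of_dvd_of_natAbs_lt_natAbs hdvd (by rw [Int.natAbs_natCast]; omega)
    linarith
  refine ⟨b.coeff 1, fun c hc => ?_, fun c => hall (Sum.inr c) (Sum.inr 1)⟩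
  obtain ⟨c', hc'⟩ := S.toR c hc
  rw [S.inv_coeff_lr h.1 hc']
  exact hall (Sum.inr c') (Sum.inr 1)

end DihSR

end CfsgLib.PLocal.Dih
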