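import Cfsg.Agent.Lib.PLocal.ElemFamily
import Cfsg.Agent.Lib.Fusion.OffenderGroup
import Cfsg.Agent.Lib.PLocal.FactorFourGroup
import Cfsg.Agent.Lib.Complement.Thompson

/-!
# `{Z, J}` controls strong fusion when irreducible modules have no offenders
-/

set_option autoImplicit false
set_option linter.unusedVariables false

namespace CfsgLib.PLocal

open Subgroup CfsgLib.Fusion

universe u

/-- An irreducible module without a section `S₃` has no offender. -/
def NoOffIrr : Prop :=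
  ∀ (V : Type u) [CommGroup V] [Finite V] (G : Subgroup (MulAut V)), IsPGroup 2 V →
    Offender.NoThree G → ¬ Cfsg.Involves (Equiv.Perm (Fin 4)) G →
    (∀ W : Subgroup V, (∀ g ∈ G, ∀ w ∈ W, g w ∈ W) → W = ⊥ ∨ W = ⊤) →
    ∀ A : Subgroup (MulAut V), A ≤ G → ¬ Offender.IsOff A

section Constrained

variable {X : Type u} [Group X] [Finite X]

/-- An element of odd order that fixes a normal elementary subgroup modulo a fixed subgroup fixes it. -/
theorem fix_of_stabilises {l v f : X} (hl : (orderOf l).Coprime 2) (hf : l * f * l⁻¹ = f)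
    (hf2 : f * f = 1) (hlv : l * v * l⁻¹ = f * v) : l * v * l⁻¹ = v := by
  have hit : ∀ j : ℕ, l ^ j * v * (l ^ j)⁻¹ = f ^ j * v := by
    intro j
    induction j with
    | zero => simp
    | succ j ih =>
      calc l ^ (j + 1) * v * (l ^ (j + 1))⁻¹ = l * (l ^ j * v * (l ^ j)⁻¹) * l⁻¹ := by
            rw [pow_succ']; group
        _ = l * (f ^ j * v) * l⁻¹ := by rw [ih]
        _ = (l * f * l⁻¹) ^ j * (l * v * l⁻¹) := by rw [conj_pow]; group
        _ = f ^ j * (f * v) := by rw [hf, hlv]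
        _ = f ^ (j + 1) * v := by rw [pow_succ, mul_assoc]
  have h1 := hit (orderOf l)
  rw [pow_orderOf_eq_one, inv_one, one_mul, mul_one, right_eq_mul] at h1
  have : f = 1 := orderOf_eq_one_iff.1 (Nat.eq_one_of_dvd_coprimes hl
    (orderOf_dvd_of_pow_eq_one h1) (orderOf_dvd_of_pow_eq_one (by rw [pow_two]; exact hf2)))
  rw [hlv, this, one_mul]

variable (hno : NoOffIrr.{u}) (hfree : ¬ Cfsg.Involves (Equiv.Perm (Fin 4)) X)
  (hc : Constrained 2 X) (S : Sylow 2 X)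
  (hZ : ¬ ((S : Subgroup X) ⊓ centralizer ((S : Subgroup X) : Set X)).Normal)
  (hJ : ¬ (Cfsg.thompsonSubgroupOf 2 (S : Subgroup X)).Normal)

include hno hfree hc hZ hJ

/-- A normal subgroup giving a factorisation into two proper subgroups over the Sylow subgroup. -/
theorem exists_factorisation :
    ∃ N : Subgroup X, N.Normal ∧ (S : Subgroup X) ⊔ N ≠ ⊤ ∧ ¬ ((S : Subgroup X) ⊓ N).Normal := by
  haveI : Fact (Nat.Prime 2) := ⟨Nat.prime_two⟩
  obtain ⟨S', hS'⟩ : ∃ S' : Subgroup X, S' = (S : Subgroup X) := ⟨_, rfl⟩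
  rw [← hS'] at hZ hJ ⊢
  have hSp : IsPGroup 2 S' := hS' ▸ S.2
  obtain ⟨Q, hQ⟩ : ∃ Q : Subgroup X, Q = Cfsg.pCore 2 X := ⟨_, rfl⟩
  haveI hQn : Q.Normal := hQ ▸ Cfsg.pCore_normal 2 X
  have hQS : Q ≤ S' := by rw [hQ, hS']; exact CfsgLib.Solvable.pCore_le_sylow S
  have hcQ : centralizer (Q : Set X) ≤ Q := by rw [hQ]; exact hc
  obtain ⟨O, hO⟩ : ∃ O : Subgroup X, O = Cfsg.pResidual 2 X := ⟨_, rfl⟩
  haveI hOn : O.Normal := hO ▸ CfsgLib.Transfer.pResidual_normal
  -- a normal subgroup together with `S` gives everything exactly when it contains `O`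
  have hsup : ∀ N : Subgroup X, N.Normal → O ≤ N → S' ⊔ N = ⊤ := by
    intro N hN hON
    have hp : IsPGroup 2 (X ⧸ N) :=
      CfsgLib.Transfer.isPGroup_quotient_of_pResidual_le (hO ▸ hON)
    have h1 := (S.mapSurjective (QuotientGroup.mk'_surjective N)).3 (hp.to_subgroup ⊤) le_top
    rw [Sylow.coe_mapSurjective, ← hS'] at h1
    have h2 := congrArg (Subgroup.comap (QuotientGroup.mk' N)) h1
    rw [comap_map_eq, comap_top, QuotientGroup.ker_mk'] at h2
    exact h2.symm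
  have hres : ∀ N : Subgroup X, N.Normal → S' ⊔ N = ⊤ → O ≤ N := by
    intro N hN htop
    rw [hO]
    refine CfsgLib.Transfer.pResidual_le_of_isPGroup_quotient (IsPGroup.of_surjective hSp
      ((QuotientGroup.mk' N).comp S'.subtype) fun y => ?_)
    obtain ⟨y, rfl⟩ := QuotientGroup.mk'_surjective N y
    have hy : y ∈ S' ⊔ N := htop ▸ mem_top y
    obtain ⟨s, hs, n, hn, rfl⟩ := mem_sup_of_normal_right.1 hy
    refine ⟨⟨s, hs⟩, ?_⟩
    simp [(QuotientGroup.eq_one_iff n).2 hn]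
  -- a normal elementary subgroup not centralised by `O`
  obtain ⟨ZQ, hZQ⟩ : ∃ ZQ : Subgroup X, ZQ = Q ⊓ centralizer (Q : Set X) := ⟨_, rfl⟩
  haveI hZQn : ZQ.Normal := hZQ ▸ inferInstance
  have hZQc : ZQ ≤ centralizer (ZQ : Set X) := by
    rw [hZQ]
    exact fun a ha b hb => ha.2 b hb.1
  have hΩel := omegaOne_elemAb (p := 2) hZQc
  have hΩle : Cfsg.omegaOne 2 ZQ ≤ ZQ := omegaOne_le 2 ZQ
  have hΩO : ¬ O ≤ centralizer (Cfsg.omegaOne 2 ZQ : Set X) := by
    intro hle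
    refine hZ ?_
    have hcen : O ≤ centralizer (ZQ : Set X) := by
      rw [hO, Cfsg.pResidual, closure_le]
      intro l hl
      refine CfsgLib.Complement.mem_centralizer_of_fixes_omega hZQc
        ((hQ.symm ▸ CfsgLib.Solvable.pCore_isPGroup 2 : IsPGroup 2 Q).to_le (hZQ ▸ inf_le_left)) ?_ hl
        fun y hy hy2 => mem_centralizer_iff.1 (hle (hO ▸ CfsgLib.Transfer.mem_pResidual_of_coprime hl)) y
          (subset_closure ⟨hy, hy2⟩)
      rw [normalizer_eq_top]; exact mem_top l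
    have hZ0Q : S' ⊓ centralizer (S' : Set X) ≤ ZQ := by
      rintro z ⟨hzS, hzc⟩
      have h1 : z ∈ centralizer (Q : Set X) := centralizer_le hQS hzc
      rw [hZQ]
      exact ⟨hcQ h1, h1⟩
    have hall : ⊤ ≤ centralizer ((S' ⊓ centralizer (S' : Set X) : Subgroup X) : Set X) := by
      rw [← hsup O hOn le_rfl]
      exact sup_le (fun s hs z hz => (hz.2 s hs).symm) (hcen.trans (centralizer_le hZ0Q))
    refine ⟨fun z hz g => ?_⟩
    rw [← hall (mem_top g) z hz, mul_inv_cancel_right]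
    exact hz
  obtain ⟨V, ⟨hVn, hVΩ, hVO⟩, hVmin⟩ := Set.exists_min_image
    {V : Subgroup X | V.Normal ∧ V ≤ Cfsg.omegaOne 2 ZQ ∧ ¬ O ≤ centralizer (V : Set X)}
    (fun V => Nat.card V) (Set.toFinite _)
    ⟨_, CfsgLib.Complement.omegaOne_normal ZQ, le_rfl, hΩO⟩
  haveI := hVn
  have hVel : ∀ v ∈ V, v ^ 2 = 1 := fun v hv => hΩel.2 v (hVΩ hv)
  have hVc : ∀ a ∈ V, ∀ b ∈ V, a * b = b * a := fun a ha b hb =>
    hZQc (hΩle (hVΩ hb)) a (hΩle (hVΩ ha))
  have hVQ : V ≤ centralizer (Q : Set X) := fun v hv => by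
    have := hΩle (hVΩ hv)
    rw [hZQ] at this
    exact this.2
  have hVS : V ≤ S' := fun v hv => hQS (by
    have := hΩle (hVΩ hv)
    rw [hZQ] at this
    exact this.1)
  obtain ⟨F, hF⟩ : ∃ F : Subgroup X, F = V ⊓ centralizer (O : Set X) := ⟨_, rfl⟩
  haveI hFn : F.Normal := hF ▸ inferInstance
  have hFV : F ≤ V := hF ▸ inf_le_left
  have hmin : ∀ U : Subgroup X, U.Normal → U ≤ V → U ≠ V → U ≤ F := by
    intro U hU hUV hne
    rw [hF]
    refine le_inf hUV (le_centralizer_iff.1 ?_)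
    by_contra hnot
    have := hVmin U ⟨hU, hUV.trans hVΩ, hnot⟩
    exact hne (eq_of_le_of_card_ge hUV this)
  -- the quotient by `F` and the action on `V / F`
  obtain ⟨π, hπ⟩ : ∃ π : X →* X ⧸ F, π = QuotientGroup.mk' F := ⟨_, rfl⟩
  have hπs : Function.Surjective π := hπ ▸ QuotientGroup.mk'_surjective F
  have hπ1 : ∀ z, π z = 1 ↔ z ∈ F := fun z => by rw [hπ]; exact QuotientGroup.eq_one_iff z
  obtain ⟨Vb, hVb⟩ : ∃ Vb : Subgroup (X ⧸ F), Vb = V.map π := ⟨_, rfl⟩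
  haveI hVbn : Vb.Normal := hVb ▸ hVn.map π hπs
  haveI hVbc : IsMulCommutative Vb := ⟨⟨fun a b => by
    obtain ⟨x, hx, hxa⟩ := hVb.le a.2
    obtain ⟨y, hy, hyb⟩ := hVb.le b.2
    refine Subtype.ext ?_
    show (a : X ⧸ F) * b = b * a
    rw [← hxa, ← hyb, ← map_mul, ← map_mul, hVc x hx y hy]⟩⟩
  letI : CommGroup Vb := { (inferInstance : Group Vb) with mul_comm := fun a b => hVbc.is_comm.comm a b }
  obtain ⟨ρ, hρ⟩ : ∃ ρ : X ⧸ F →* MulAut Vb, ρ = MulAut.conjNormal (H := Vb) := ⟨_, rfl⟩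
  have hρap : ∀ (g : X ⧸ F) (w : Vb), ((ρ g w : Vb) : X ⧸ F) = g * w * g⁻¹ := fun g w => by
    rw [hρ]; exact MulAut.conjNormal_apply g w
  obtain ⟨K, hK⟩ : ∃ K : Subgroup X, K = (ρ.comp π).ker := ⟨_, rfl⟩
  haveI hKn : K.Normal := hK ▸ MonoidHom.normal_ker _
  have hKmem : ∀ k ∈ K, ∀ v ∈ V, k * v * k⁻¹ * v⁻¹ ∈ F := by
    intro k hk v hv
    rw [hK, MonoidHom.mem_ker] at hk
    have h1 := hρap (π k) ⟨π v, hVb ▸ mem_map_of_mem π hv⟩
    rw [MonoidHom.comp_apply] at hk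
    rw [hk, MulAut.one_apply] at h1
    rw [← hπ1, map_mul, map_mul, map_mul, map_inv, map_inv, ← h1, mul_inv_cancel]
  have hKO : ¬ O ≤ K := by
    intro hOK
    refine hVO ?_
    rw [hO, Cfsg.pResidual, closure_le]
    intro l hl
    have hlO : l ∈ O := hO ▸ CfsgLib.Transfer.mem_pResidual_of_coprime hl
    refine mem_centralizer_iff.2 fun v hv => ?_
    have hfF := hKmem l (hOK hlO) v hv
    have hf : l * (l * v * l⁻¹ * v⁻¹) * l⁻¹ = l * v * l⁻¹ * v⁻¹ := by
      rw [hF] at hfF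
      rw [hfF.2 l hlO, mul_inv_cancel_right]
    have h2 := fix_of_stabilises hl hf (by rw [← pow_two]; exact hVel _ (hFV hfF))
      (v := v) (by group)
    exact (mul_inv_eq_iff_eq_mul.1 h2).symm
  refine ⟨K, hKn, fun h => hKO (hres K hKn h), fun hnorm => hJ ?_⟩
  have hSKQ : S' ⊓ K ≤ Q := hQ ▸ CfsgLib.Solvable.le_pCore hnorm (hSp.to_le inf_le_left)
  -- the Thompson subgroup acts trivially on `V / F`
  have hJK : Cfsg.thompsonSubgroupOf 2 S' ≤ K := by
    rw [thompsonOf_eq]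
    refine sSup_le fun A hA => ?_
    by_contra hAK
    have hAc : ∀ a ∈ A, ∀ b ∈ A, a * b = b * a := fun a ha b hb =>
      congrArg Subtype.val (hA.2.1.1.is_comm.comm (⟨a, ha⟩ : A) ⟨b, hb⟩)
    obtain ⟨A₀, hA₀⟩ : ∃ A₀ : Subgroup X, A₀ = A ⊓ K := ⟨_, rfl⟩
    have hA₀c : A₀ ≤ centralizer (V : Set X) := by
      rw [hA₀]
      intro a ha v hv
      exact (hVQ hv a (hSKQ ⟨hA.1 ha.1, ha.2⟩)).symm
    obtain ⟨G, hG⟩ : ∃ G : Subgroup (MulAut Vb), G = ρ.range := ⟨_, rfl⟩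
    have hfreeF : ¬ Cfsg.Involves (Equiv.Perm (Fin 4)) (X ⧸ F) := fun h =>
      hfree (CfsgLib.Complement.involves_of_quotient h)
    have hV2 : IsPGroup 2 Vb := fun w => by
      obtain ⟨v, hv, hvw⟩ := hVb.le w.2
      refine ⟨1, Subtype.ext ?_⟩
      rw [pow_one, SubmonoidClass.coe_pow, ← hvw, ← map_pow, hVel v hv, map_one]
      rfl
    refine hno Vb G hV2 ?_ ?_ ?_ (A.map (ρ.comp π)) ?_ ?_
    · rw [hG, hρ]
      exact noThree_conjNormal hfreeF Vb
    · intro h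
      obtain ⟨L, f, hf⟩ := CfsgLib.Complement.involves_iff_exists_hom.1 (hG ▸ h)
      refine hfreeF (CfsgLib.Complement.involves_iff_exists_hom.2 ⟨L.comap ρ.rangeRestrict,
        f.comp (ρ.rangeRestrict.subgroupComap L), hf.comp ?_⟩)
      exact MonoidHom.subgroupComap_surjective_of_surjective _ _ ρ.rangeRestrict_surjective
    · intro W hW
      obtain ⟨U, hU⟩ : ∃ U : Subgroup X, U = (W.map Vb.subtype).comap π := ⟨_, rfl⟩
      have hmemU : ∀ z, z ∈ U ↔ ∃ w ∈ W, (w : X ⧸ F) = π z := fun z => by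
        rw [hU, mem_comap, mem_map]; rfl
      have hUn : U.Normal := ⟨fun z hz g => by
        obtain ⟨w, hw, hwz⟩ := (hmemU z).1 hz
        refine (hmemU _).2 ⟨ρ (π g) w, hW _ (hG ▸ ⟨π g, rfl⟩) w hw, ?_⟩
        rw [hρap, hwz, map_mul, map_mul, map_inv]⟩
      have hUV : U ≤ V := fun z hz => by
        obtain ⟨w, -, hwz⟩ := (hmemU z).1 hz
        obtain ⟨v, hv, hvz⟩ := hVb.le w.2
        have : z * v⁻¹ ∈ F := by rw [← hπ1, map_mul, map_inv, ← hwz, hvz, mul_inv_cancel]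
        simpa using V.mul_mem (hFV this) hv
      by_cases hUe : U = V
      · refine Or.inr (eq_top_iff.2 fun w _ => ?_)
        obtain ⟨v, hv, hvw⟩ := hVb.le w.2
        obtain ⟨w', hw', he⟩ := (hmemU v).1 (hUe ▸ hv)
        rwa [show w = w' from Subtype.ext (hvw.symm.trans he.symm)]
      · refine Or.inl ((eq_bot_iff_forall _).2 fun w hw => ?_)
        obtain ⟨v, hv, hvw⟩ := hVb.le w.2
        have h1 := hmin U hUn hUV hUe ((hmemU v).2 ⟨w, hw, hvw.symm⟩)
        exact Subtype.ext (hvw.symm.trans ((hπ1 v).2 h1))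
    · rintro _ ⟨a, -, rfl⟩
      exact hG ▸ ⟨π a, rfl⟩
    obtain ⟨A', hA'⟩ : ∃ A' : Subgroup (MulAut Vb), A' = A.map (ρ.comp π) := ⟨_, rfl⟩
    rw [← hA']
    refine ⟨hA' ▸ (hSp.to_le hA.1).map _, ?_, ?_, ?_⟩
    · rw [hA']
      rintro _ ⟨a, ha, rfl⟩ _ ⟨b, hb, rfl⟩
      rw [← map_mul, ← map_mul, hAc a ha b hb]
    · rw [hA', Ne, Subgroup.map_eq_bot_iff, ← hK]
      exact hAK
    -- the counting
    have hVA : ∀ v ∈ V ⊓ centralizer (A : Set X), v ∈ A := fun v hv =>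
      mem_maxElemIn_of_centralizes hA (hVS hv.1) (hVel v hv.1) hv.2
    obtain ⟨B, hB⟩ : ∃ B : Subgroup X, B = A₀ ⊔ V := ⟨_, rfl⟩
    have hBel : Cfsg.IsElementaryAbelian 2 B := by
      rw [hB]
      refine elemAb_sup ⟨?_, fun a ha => hA.2.1.2 a ((hA₀ ▸ ha : a ∈ A ⊓ K).1)⟩
        ⟨⟨⟨fun a b => Subtype.ext (hVc a a.2 b b.2)⟩⟩, hVel⟩ hA₀c
      exact ⟨⟨fun a b => Subtype.ext (hAc a ((hA₀ ▸ a.2 : (a : X) ∈ A ⊓ K).1) b
        ((hA₀ ▸ b.2 : (b : X) ∈ A ⊓ K).1))⟩⟩
    have hBA : Nat.card B ≤ Nat.card A := hA.2.2 B (hB ▸ sup_le (hA₀ ▸ inf_le_left.trans hA.1) hVS) hBel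
    have hVAA₀ : A₀ ⊓ V = V ⊓ centralizer (A : Set X) := by
      refine le_antisymm (fun z hz => ⟨hz.2, fun a ha => hAc a ha z (hA₀ ▸ hz.1 : z ∈ A ⊓ K).1⟩) fun z hz => ⟨?_, hz.1⟩
      rw [hA₀]
      refine ⟨hVA z hz, ?_⟩
      show z ∈ K
      rw [hK, MonoidHom.mem_ker, MonoidHom.comp_apply]
      refine MulEquiv.ext fun w => Subtype.ext ?_
      obtain ⟨v, hv, hvw⟩ := hVb.le w.2
      rw [hρap, MulAut.one_apply, ← hvw, ← map_inv, ← map_mul, ← map_mul, hVc z hz.1 v hv, mul_inv_cancel_right]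
    have hprod : Nat.card A₀ * Nat.card V ≤ Nat.card B * Nat.card ↥(A₀ ⊓ V) := by
      have h := Subgroup.card_mul_index ((A₀ ⊓ V).subgroupOf A₀)
      have h' := Subgroup.card_mul_index (V.subgroupOf B)
      rw [Nat.card_congr (Subgroup.subgroupOfEquivOfLe (inf_le_left : A₀ ⊓ V ≤ A₀)).toEquiv] at h
      rw [Nat.card_congr (Subgroup.subgroupOfEquivOfLe (hB ▸ le_sup_right : V ≤ B)).toEquiv] at h'
      have h3 : (A₀ ⊓ V).relIndex A₀ = V.relIndex B := by
        rw [Subgroup.inf_relIndex_left, hB, sup_comm, Subgroup.relIndex_sup_left]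
      rw [Subgroup.relIndex, Subgroup.relIndex] at h3
      rw [← h, ← h', h3]
      exact le_of_eq (by ring)
    have hker : Nat.card A = Nat.card A₀ * Nat.card A' := by
      have h := Subgroup.card_mul_index (((ρ.comp π).comp A.subtype).ker)
      rw [Subgroup.index_ker, MonoidHom.range_comp, Subgroup.range_subtype, ← hA'] at h
      have hk : (((ρ.comp π).comp A.subtype).ker).map A.subtype = A₀ := by
        rw [hA₀, hK, ← MonoidHom.comap_ker, Subgroup.map_comap_eq, Subgroup.range_subtype]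
      rw [← hk, Subgroup.card_map_of_injective A.subtype_injective]
      exact h.symm
    have hVF : Nat.card V = Nat.card Vb * Nat.card F := by
      have h := Subgroup.card_mul_index ((π.comp V.subtype).ker)
      rw [Subgroup.index_ker, MonoidHom.range_comp, Subgroup.range_subtype, ← hVb] at h
      have hk : ((π.comp V.subtype).ker).map V.subtype = F := by
        rw [← MonoidHom.comap_ker, Subgroup.map_comap_eq, Subgroup.range_subtype, hπ,
          QuotientGroup.ker_mk', inf_eq_right.2 hFV]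
      have h2 : Nat.card F = Nat.card ↥((π.comp V.subtype).ker) :=
        (congrArg (fun H : Subgroup X => Nat.card H) hk.symm).trans (Subgroup.card_map_of_injective V.subtype_injective)
      rw [← h, h2, mul_comm]
    have hfix : Nat.card ↥(A₀ ⊓ V) ≤ Nat.card F * Nat.card (Offender.fixOf A') := by
      obtain ⟨W, hW⟩ : ∃ W : Subgroup X, W = A₀ ⊓ V := ⟨_, rfl⟩
      have h := Subgroup.card_mul_index ((π.comp W.subtype).ker)
      rw [Subgroup.index_ker, MonoidHom.range_comp, Subgroup.range_subtype] at h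
      have hk : ((π.comp W.subtype).ker).map W.subtype ≤ F := by
        rintro _ ⟨w, hw, rfl⟩
        exact (hπ1 _).1 hw
      have hle : W.map π ≤ (Offender.fixOf A').map Vb.subtype := by
        rintro _ ⟨w, hw, rfl⟩
        rw [hW, hVAA₀] at hw
        refine ⟨⟨π w, hVb ▸ mem_map_of_mem π hw.1⟩, ?_, rfl⟩
        rw [hA']
        rintro _ ⟨a, ha, rfl⟩
        refine Subtype.ext ?_
        rw [MonoidHom.comp_apply, hρap, ← map_inv, ← map_mul, ← map_mul,
          hw.2 a ha, mul_inv_cancel_right]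
      rw [← hW, ← h]
      refine Nat.mul_le_mul ?_ ?_
      · rw [← Subgroup.card_map_of_injective W.subtype_injective]
        exact Subgroup.card_le_of_le hk
      · exact (Subgroup.card_le_of_le hle).trans (Subgroup.card_map_of_injective Vb.subtype_injective).le
    refine Nat.le_of_mul_le_mul_left ?_ (Nat.mul_pos (Nat.card_pos (α := A₀)) (Nat.card_pos (α := F)))
    calc Nat.card A₀ * Nat.card F * Nat.card Vb = Nat.card A₀ * Nat.card V := by rw [hVF]; ring
      _ ≤ Nat.card B * Nat.card ↥(A₀ ⊓ V) := hprod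
      _ ≤ Nat.card A * (Nat.card F * Nat.card (Offender.fixOf A')) := Nat.mul_le_mul hBA hfix
      _ = _ := by rw [hker]; ring
  haveI : (S' ⊓ K).Normal := hnorm
  rw [← thompsonOf_eq_of_le (U := S' ⊓ K) (le_inf (thompsonOf_le S') hJK) inf_le_left]
  refine normalizer_eq_top_iff.1 (top_le_iff.1 ((normalizer_eq_top (H := S' ⊓ K)).ge.trans
    (normalizer_le_normalizer_thompsonOf _)))

end Constrained

end CfsgLib.PLocal
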