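import Cfsg.Agent.Lib.PLocal.ElemControl
import Cfsg.Agent.Lib.PLocal.QdFusion
import Cfsg.Agent.Lib.PLocal.QdFree
import Cfsg.Agent.Lib.PLocal.KControl
import Cfsg.Agent.S2761

/-!
# `{Z, J}` and the absence of a section `S₄`, given the theorem on irreducible modules
-/

set_option autoImplicit false

namespace CfsgLib.PLocal

open Subgroup

universe u

theorem ctrl_zj_of_symFour_free (hno : NoOffIrr.{u}) :
    ∀ (n : ℕ) (G : Type u) [Group G] [Finite G], Nat.card G = n →
      ¬ Cfsg.Involves (Equiv.Perm (Fin 4)) G → Ctrl 2 (zjFamily 2) G := by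
  haveI : Fact (Nat.Prime 2) := ⟨Nat.prime_two⟩
  intro n
  induction n using Nat.strong_induction_on with
  | _ n ih =>
    intro G _ _ hn hfree
    refine ctrl_of_constrained zjFamily_isChar G fun X _ _ hX hc => ?_
    obtain ⟨L, f, hf⟩ := hX
    have hfX : ¬ Cfsg.Involves (Equiv.Perm (Fin 4)) X := fun h => by
      obtain ⟨K, g, hg⟩ := CfsgLib.Complement.involves_iff_exists_hom.1 h
      exact hfree (CfsgLib.Complement.involves_of_subgroup (L := L)
        (CfsgLib.Complement.involves_iff_exists_hom.2 ⟨K.comap f, g.comp (f.subgroupComap K),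
          hg.comp (MonoidHom.subgroupComap_surjective_of_surjective _ _ hf)⟩))
    have hcard : Nat.card X ≤ n :=
      (Nat.card_le_card_of_surjective f hf).trans (hn ▸ card_le_card_group L)
    obtain ⟨S⟩ : Nonempty (Sylow 2 X) := inferInstance
    refine familyControls_iff.2 ⟨(S : Subgroup X), sylowIn_top S, fun A g _ hA hgA => ?_⟩
    rw [indSet_zjFamily]
    have single : ∀ W : Subgroup X → Subgroup X,
        W ∈ ({fun P : Subgroup X => P ⊓ centralizer (P : Set X),
          fun P : Subgroup X => Cfsg.thompsonSubgroupOf 2 P} : Set (Subgroup X → Subgroup X)) →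
        (W (S : Subgroup X)).Normal → FusRel (FamStep
          ({fun P : Subgroup X => P ⊓ centralizer (P : Set X),
            fun P : Subgroup X => Cfsg.thompsonSubgroupOf 2 P} : Set (Subgroup X → Subgroup X)) ⊤
          (S : Subgroup X)) (S : Subgroup X) A g := fun W hW hn' =>
      FusRel.single hA ⟨W, hW, mem_top g, by
        rw [normalizer_eq_top_iff.2 hn']
        exact mem_top g⟩ hgA
    by_cases hZ : ((S : Subgroup X) ⊓ centralizer ((S : Subgroup X) : Set X)).Normal
    · exact single _ (Or.inl rfl) hZ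
    by_cases hJ : (Cfsg.thompsonSubgroupOf 2 (S : Subgroup X)).Normal
    · exact single _ (Or.inr rfl) hJ
    obtain ⟨N, hN, hNtop, hSN⟩ := exists_factorisation hno hfX hc S hZ hJ
    haveI := hN
    have hlow : (S : Subgroup X) ≤ normalizer (((S : Subgroup X) ⊓ N : Subgroup X) : Set X) :=
      (le_inf (S : Subgroup X).le_normalizer (le_normalizer_of_normal _ N)).trans
        inf_normalizer_le_normalizer_inf
    refine fusRel_of_product S ((S : Subgroup X) ⊔ N)
      (normalizer (((S : Subgroup X) ⊓ N : Subgroup X) : Set X)) le_sup_left hlow ?_ ?_ A g hA hgA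
    · rintro M hM B h hh hB hhB
      have hne : M ≠ ⊤ := by
        rcases hM with rfl | rfl
        · exact hNtop
        · exact fun h => hSN (normalizer_eq_top_iff.1 h)
      have hSM : (S : Subgroup X) ≤ M := by rcases hM with rfl | rfl; exacts [le_sup_left, hlow]
      have hlt : Nat.card M < n := lt_of_lt_of_le
        (lt_of_le_of_ne (card_le_card_group M) fun hc' => hne (eq_top_of_card_eq _ hc')) hcard
      have hctrl := ih _ hlt M rfl fun h => hfX (CfsgLib.Complement.involves_of_subgroup h)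
      have := ctrl_subgroup zjFamily_isChar hctrl
        (⟨hSM, S.2, fun hd => S.not_dvd_index (hd.trans (relIndex_dvd_index_of_le hSM))⟩ :
          SylowIn 2 (S : Subgroup X) M) B h hh hB hhB
      rw [indSet_zjFamily] at this
      exact this.map_mono fun x ⟨W, hW, hx⟩ => ⟨W, hW, mem_top x, hx.2⟩
    · intro x
      obtain ⟨c, hc', n', hn', he⟩ := frattini_mul S N x
      exact ⟨c, mem_sup_right hc', n', hn', he⟩

/-- **Glauberman**: no section `S₄` iff `{Z, J}` controls strong fusion in every section. -/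
theorem symFour_free_iff_zj_control (hno : NoOffIrr.{u}) {G : Type u} [Group G] [Finite G] :
    ¬ Cfsg.Involves (Equiv.Perm (Fin 4)) G ↔ ∀ (K R : Subgroup G) [hR : (R.subgroupOf K).Normal],
      Cfsg.FamilyControlsStrongFusionIn 2 ({fun P : Subgroup (↥K ⧸ R.subgroupOf K) =>
          P ⊓ centralizer ((P : Subgroup (↥K ⧸ R.subgroupOf K)) : Set (↥K ⧸ R.subgroupOf K)),
        fun P : Subgroup (↥K ⧸ R.subgroupOf K) => Cfsg.thompsonSubgroupOf 2 P} :
          Set (Subgroup (↥K ⧸ R.subgroupOf K) → Subgroup (↥K ⧸ R.subgroupOf K))) ⊤ := by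
  haveI : Fact (Nat.Prime 2) := ⟨Nat.prime_two⟩
  constructor
  · intro hfree K R _
    rw [← indSet_zjFamily]
    exact ctrl_zj_of_symFour_free hno _ _ rfl fun h => hfree
      (CfsgLib.Complement.involves_of_subgroup (CfsgLib.Complement.involves_of_quotient h))
  · rintro h ⟨K, R, hR, ⟨e⟩⟩
    have h1 := h K R
    rw [← indSet_zjFamily] at h1
    obtain ⟨e₄⟩ := Cfsg.Agent.S2761.result
    exact not_ctrl_of_equiv_qd (e.trans e₄.symm) _ zjFamily_isChar h1

/-- A family of characteristic functors controls strong fusion in all sections iff `Qd(p)` is absent. -/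
theorem qd_free_iff_family_control (hno : NoOffIrr.{u}) {G : Type u} [Group G] [Finite G] {p : ℕ}
    [Fact p.Prime] :
    ¬ Cfsg.Involves ↥(Cfsg.qd p) G ↔ ∃ 𝓦 : Set (∀ (Q : Type u) [Group Q], Subgroup Q),
      (∀ W ∈ 𝓦, Cfsg.IsCharPFunctor.{u} p W) ∧ ∀ (K R : Subgroup G) [hR : (R.subgroupOf K).Normal],
        Cfsg.FamilyControlsStrongFusionIn p
          ((fun W => Cfsg.inducedFunctor (G := (↥K ⧸ R.subgroupOf K)) W) '' 𝓦) ⊤ := by
  constructor
  · intro hfree
    rcases eq_or_ne p 2 with rfl | hp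
    · refine ⟨zjFamily 2, zjFamily_isChar, fun K R _ => ctrl_zj_of_symFour_free hno _ _ rfl fun h => hfree ?_⟩
      obtain ⟨K', R', hR', ⟨e⟩⟩ :=
        CfsgLib.Complement.involves_of_subgroup (CfsgLib.Complement.involves_of_quotient h)
      obtain ⟨e₄⟩ := Cfsg.Agent.S2761.result
      exact ⟨K', R', hR', ⟨e.trans e₄.symm⟩⟩
    · refine ⟨{Cfsg.kInfUpper}, by rintro W rfl; exact kInfUpper_isCharPFunctor, fun K R _ => ?_⟩
      have hno' : ¬ Cfsg.Involves ↥(Cfsg.qd p) (↥K ⧸ R.subgroupOf K) := fun h => by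
        obtain ⟨X, f, hf⟩ := exists_sec_of_involves h
        obtain ⟨X', f', -, hf'⟩ := sec_of_quotient (R.subgroupOf K) f hf
        obtain ⟨X'', f'', -, hf''⟩ := sec_of_subgroup K f' hf'
        exact hfree (involves_of_sec f'' hf'')
      exact ctrl_kInf_of_pStable ((not_involves_qd_iff hp).1 hno') _ kInfUpper_isCharPFunctor
        fun _ _ _ _ h => h.2
  · rintro ⟨𝓦, h𝓦, h⟩ ⟨K, R, hR, ⟨e⟩⟩
    exact not_ctrl_of_equiv_qd e 𝓦 h𝓦 (h K R)

end CfsgLib.PLocal
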