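import Cfsg.Agent.Lib.PLocal.StrongReduce
import Cfsg.Agent.Lib.PLocal.Thompson
import Cfsg.Agent.Lib.Complement.TwoTools
import Cfsg.Agent.Lib.Complement.Functors

/-!
# The family `{Z, J}` of functors
-/

set_option autoImplicit false

namespace CfsgLib.PLocal

open Subgroup

universe u

/-- The family consisting of the centre and of the elementary Thompson subgroup. -/
def zjFamily (p : ℕ) : Set (∀ (Q : Type u) [Group Q], Subgroup Q) :=
  {fun (Q : Type u) [Group Q] => Subgroup.center Q, fun (Q : Type u) [Group Q] => Cfsg.thompsonSubgroup p Q}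

theorem inducedFunctor_center {G : Type u} [Group G] (P : Subgroup G) :
    Cfsg.inducedFunctor (G := G) (fun (Q : Type u) [Group Q] => Subgroup.center Q) P = P ⊓ centralizer (P : Set G) := by
  ext z
  constructor
  · rintro ⟨w, hw, rfl⟩
    exact ⟨w.2, fun s hs => congrArg Subtype.val (mem_center_iff.1 hw ⟨s, hs⟩)⟩
  · rintro ⟨hz, hc⟩
    exact ⟨⟨z, hz⟩, mem_center_iff.2 fun s => Subtype.ext (hc s s.2), rfl⟩

theorem zjFamily_isChar {p : ℕ} [hp : Fact p.Prime] :
    ∀ W ∈ (zjFamily p : Set (∀ (Q : Type u) [Group Q], Subgroup Q)), Cfsg.IsCharPFunctor.{u} p W := by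
  rintro W (rfl | rfl)
  · refine ⟨fun Q _ _ hQ hne => ?_, fun Q R _ _ _ _ φ => ?_⟩
    · haveI := hne
      haveI := hQ.center_nontrivial
      exact (Subgroup.nontrivial_iff_ne_bot _).1 inferInstance
    · ext z
      constructor
      · rintro ⟨w, hw, rfl⟩
        refine mem_center_iff.2 fun r => ?_
        obtain ⟨q, rfl⟩ := φ.surjective r
        have h1 := congrArg φ (mem_center_iff.1 hw q)
        simpa using h1
      · intro hz
        obtain ⟨w, rfl⟩ := φ.surjective z
        refine ⟨w, mem_center_iff.2 fun q => φ.injective ?_, rfl⟩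
        simpa using mem_center_iff.1 hz (φ q)
  · refine ⟨fun Q _ _ hQ hne => ?_, fun Q R _ _ _ _ φ => ?_⟩
    · haveI := hne
      refine thompson_ne_bot ?_
      obtain ⟨n, hn⟩ := IsPGroup.iff_card.1 hQ
      have h1 : 1 < Nat.card Q := Finite.one_lt_card
      rw [hn] at h1 ⊢
      exact dvd_pow_self p fun h0 => by simp [h0] at h1
    · exact thompson_map_equiv φ

theorem indSet_zjFamily {p : ℕ} (G : Type u) [Group G] :
    indSet (zjFamily p) G = ({fun P : Subgroup G => P ⊓ centralizer (P : Set G),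
      fun P : Subgroup G => Cfsg.thompsonSubgroupOf p P} : Set (Subgroup G → Subgroup G)) := by
  rw [indSet, zjFamily, Set.image_pair]
  congr 1
  · exact funext fun P => inducedFunctor_center P

variable {p : ℕ} [Fact p.Prime]

/-- A product of two subgroups containing the Sylow subgroup, both controlled, is controlled. -/
theorem fusRel_of_product {G : Type u} [Group G] [Finite G] {P : G → Prop} (S : Sylow p G)
    (M₁ M₂ : Subgroup G) (h₁ : (S : Subgroup G) ≤ M₁) (h₂ : (S : Subgroup G) ≤ M₂)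
    (hstep : ∀ M : Subgroup G, (M = M₁ ∨ M = M₂) → ∀ (A : Set G) (h : G), h ∈ M → A ⊆ (S : Subgroup G) →
      lconj h A ⊆ (S : Subgroup G) → FusRel P (S : Subgroup G) A h)
    (hprod : ∀ g : G, ∃ c ∈ M₁, ∃ n ∈ M₂, g = c * n)
    (A : Set G) (g : G) (hA : A ⊆ (S : Subgroup G)) (hgA : lconj g A ⊆ (S : Subgroup G)) :
    FusRel P (S : Subgroup G) A g := by
  obtain ⟨c, hc, n, hn, rfl⟩ := hprod g
  have hnA : lconj n A ⊆ ((M₁ ⊓ M₂ : Subgroup G) : Set G) := by
    rintro _ ⟨a, ha, rfl⟩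
    refine ⟨?_, M₂.mul_mem (M₂.mul_mem hn (h₂ (hA ha))) (M₂.inv_mem hn)⟩
    have h3 := M₁.mul_mem (M₁.mul_mem (M₁.inv_mem hc) (h₁ (hgA ⟨a, ha, rfl⟩))) hc
    simpa [mul_assoc] using h3
  have hp' : IsPGroup p (closure (lconj n A)) :=
    (S.2.map (MulAut.conj n).toMonoidHom).to_le <| (closure_le _).2 <| by
      rintro _ ⟨a, ha, rfl⟩
      exact ⟨a, hA ha, rfl⟩
  obtain ⟨l, hl, hlle⟩ := (show SylowIn p (S : Subgroup G) (M₁ ⊓ M₂) from ⟨le_inf h₁ h₂, S.2, fun hd =>
    S.not_dvd_index (hd.trans (relIndex_dvd_index_of_le (le_inf h₁ h₂)))⟩).exists_conj_le hp'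
      ((closure_le _).2 hnA)
  have hmid : lconj (l * n) A ⊆ (S : Subgroup G) := by
    rintro _ ⟨a, ha, rfl⟩
    have := hlle (conj_mem_conjMap (subset_closure ⟨a, ha, rfl⟩))
    show _ ∈ (S : Subgroup G)
    simpa [mul_assoc] using this
  have e : c * n = c * l⁻¹ * (l * n) := by group
  rw [e] at hgA ⊢
  refine (hstep M₂ (Or.inr rfl) A (l * n) (M₂.mul_mem hl.2 hn) hA hmid).trans ?_
  refine hstep M₁ (Or.inl rfl) _ _ (M₁.mul_mem hc (M₁.inv_mem hl.1)) hmid ?_
  rwa [lconj_lconj]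

end CfsgLib.PLocal
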