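import Cfsg.Agent.Lib.PLocal.ElemControl
import Mathlib.GroupTheory.SemidirectProduct

/-!
# A characteristic subgroup normal in constrained groups gives the theorem on irreducible modules
-/

set_option autoImplicit false
set_option linter.unusedVariables false

namespace CfsgLib.PLocal

open Subgroup CfsgLib.Fusion

universe u

/-- A subgroup between `Ω₁ Z(S)` and `Ω₁ Z(J(S))` whose normalizer controls strong fusion. -/
def StellmacherInput : Prop :=
  ∀ (X : Type u) [Group X] [Finite X], ¬ Cfsg.Involves (Equiv.Perm (Fin 4)) X → ∀ S : Sylow 2 X,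
    ∃ W : Subgroup X, Cfsg.omegaOne 2 ((S : Subgroup X) ⊓ centralizer ((S : Subgroup X) : Set X)) ≤ W ∧
      W ≤ Cfsg.omegaOne 2 (Cfsg.centerThompsonOf 2 (S : Subgroup X)) ∧
      (S : Subgroup X) ≤ normalizer (W : Set X) ∧
      ∀ A : Set X, A ⊆ (S : Subgroup X) →
        Cfsg.ControlsStrongFusionOf (normalizer (W : Set X)) (S : Subgroup X) A

theorem symFour_elementary_aux : ∀ a : Equiv.Perm (Fin 4), a ≠ 1 → a * a = 1 →
    (∀ x : Equiv.Perm (Fin 4), x * a * x⁻¹ * a = a * (x * a * x⁻¹)) →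
    (Equiv.swap 0 1 * Equiv.swap 1 2) * a * (Equiv.swap 0 1 * Equiv.swap 1 2 : Equiv.Perm (Fin 4))⁻¹ ≠ a := by
  decide +kernel

section Semi

variable {V : Type u} [CommGroup V] {G : Subgroup (MulAut V)}

theorem semidirect_conj_inl (k : V ⋊[G.subtype] ↥G) (v : V) :
    k * SemidirectProduct.inl v * k⁻¹ = SemidirectProduct.inl ((k.right : MulAut V) v) := by
  have hk : k = SemidirectProduct.inl k.left * SemidirectProduct.inr k.right :=
    (SemidirectProduct.inl_left_mul_inr_right k).symm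
  conv_lhs => rw [hk]
  rw [show SemidirectProduct.inl k.left * SemidirectProduct.inr k.right * SemidirectProduct.inl v *
      (SemidirectProduct.inl k.left * SemidirectProduct.inr k.right)⁻¹ =
      SemidirectProduct.inl k.left * (SemidirectProduct.inr k.right * SemidirectProduct.inl v *
      (SemidirectProduct.inr k.right)⁻¹) * (SemidirectProduct.inl k.left : V ⋊[G.subtype] ↥G)⁻¹ by group,
    ← map_inv (SemidirectProduct.inr : ↥G →* V ⋊[G.subtype] ↥G), ← SemidirectProduct.inl_aut, ← map_inv,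
    ← map_mul, ← map_mul, mul_comm k.left, mul_inv_cancel_right]
  rfl

variable [Finite V]

/-- The semidirect product of a module without a section `S₃` has no section `S₄`. -/
theorem semidirect_symFour_free (h2 : ∀ v : V, v * v = 1) (hn : Offender.NoThree G)
    (hG : ¬ Cfsg.Involves (Equiv.Perm (Fin 4)) G) :
    ¬ Cfsg.Involves (Equiv.Perm (Fin 4)) (V ⋊[G.subtype] ↥G) := by
  intro h
  obtain ⟨K, f, hf⟩ := CfsgLib.Complement.involves_iff_exists_hom.1 h
  obtain ⟨U, hU⟩ : ∃ U : Subgroup V, U = K.comap SemidirectProduct.inl := ⟨_, rfl⟩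
  have hUmem : ∀ {v}, v ∈ U ↔ SemidirectProduct.inl v ∈ K := fun {v} => by rw [hU, mem_comap]
  let ι : U →* K := (SemidirectProduct.inl.comp U.subtype).codRestrict K fun u => hUmem.1 u.2
  obtain ⟨F, hF⟩ : ∃ F : Subgroup V, F = ((f.comp ι).ker).map U.subtype := ⟨_, rfl⟩
  have hFmem : ∀ {v} (hv : v ∈ U), v ∈ F ↔ f (ι ⟨v, hv⟩) = 1 := fun {v} hv => by
    rw [hF, mem_map]
    constructor
    · rintro ⟨w, hw, hwv⟩
      rwa [show w = ⟨v, hv⟩ from Subtype.ext hwv] at hw
    · intro h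
      exact ⟨⟨v, hv⟩, h, rfl⟩
  have hFU : F ≤ U := hF ▸ map_subtype_le _
  have hact : ∀ (k : K) {v} (hv : v ∈ U), ∃ hv' : ((k : V ⋊[G.subtype] ↥G).right : MulAut V) v ∈ U,
      ι ⟨_, hv'⟩ = k * ι ⟨v, hv⟩ * k⁻¹ := fun k v hv => by
    have h1 := semidirect_conj_inl (k : V ⋊[G.subtype] ↥G) v
    refine ⟨hUmem.2 (h1 ▸ K.mul_mem (K.mul_mem k.2 (hUmem.1 hv)) (K.inv_mem k.2)), Subtype.ext ?_⟩
    exact h1.symm
  by_cases hUF : ∀ u : U, f (ι u) = 1
  · obtain ⟨π, hπ⟩ : ∃ π : K →* G, π = SemidirectProduct.rightHom.comp K.subtype := ⟨_, rfl⟩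
    have hker : π.rangeRestrict.ker ≤ f.ker := by
      intro k hk
      rw [MonoidHom.ker_rangeRestrict, hπ, MonoidHom.mem_ker] at hk
      have hk' : (k : V ⋊[G.subtype] ↥G) = SemidirectProduct.inl (k : V ⋊[G.subtype] ↥G).left := by
        conv_lhs => rw [← SemidirectProduct.inl_left_mul_inr_right (k : V ⋊[G.subtype] ↥G)]
        rw [show (k : V ⋊[G.subtype] ↥G).right = 1 from hk, map_one, mul_one]
      have hmem : (k : V ⋊[G.subtype] ↥G).left ∈ U := hUmem.2 (hk' ▸ k.2)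
      rw [MonoidHom.mem_ker, show k = ι ⟨_, hmem⟩ from Subtype.ext hk']
      exact hUF _
    exact hG (CfsgLib.Complement.involves_iff_exists_hom.2 ⟨π.range,
      (π.rangeRestrict).liftOfSurjective π.rangeRestrict_surjective ⟨f, hker⟩, fun y => by
        obtain ⟨k, rfl⟩ := hf y
        exact ⟨π.rangeRestrict k, MonoidHom.liftOfRightInverse_comp_apply _ _ _ ⟨f, hker⟩ k⟩⟩)
  · push Not at hUF
    obtain ⟨u, hu⟩ := hUF
    obtain ⟨kc, hkc⟩ := hf (Equiv.swap 0 1)
    obtain ⟨kl, hkl⟩ := hf (Equiv.swap 0 1 * Equiv.swap 1 2)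
    have hsq : f (ι u) * f (ι u) = 1 := by
      rw [← map_mul, ← map_mul, show u * u = 1 from Subtype.ext (h2 _), map_one, map_one]
    have hcomm : ∀ x : Equiv.Perm (Fin 4), x * f (ι u) * x⁻¹ * f (ι u) = f (ι u) * (x * f (ι u) * x⁻¹) := by
      intro x
      obtain ⟨k, rfl⟩ := hf x
      obtain ⟨hv', he⟩ := hact k u.2
      rw [← map_inv, ← map_mul, ← map_mul, ← he, ← map_mul, ← map_mul, ← map_mul, ← map_mul]
      exact congrArg (fun z => f (ι z)) (Subtype.ext (mul_comm _ _))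
    have hne := symFour_elementary_aux _ hu hsq hcomm
    have hmove : ∀ (k : K) (v : V), v ∈ U → ((k : V ⋊[G.subtype] ↥G).right : MulAut V) v ∈ U :=
      fun k v hv => (hact k hv).1
    have hFinv : ∀ (k : K) (v : V), v ∈ F → ((k : V ⋊[G.subtype] ↥G).right : MulAut V) v ∈ F := by
      intro k v hv
      obtain ⟨hv', he⟩ := hact k (hFU hv)
      rw [hFmem hv', he, map_mul, map_mul, (hFmem (hFU hv)).1 hv, mul_one, map_inv, mul_inv_cancel]
    have hdiff : ∀ (k : K) (v : V) (hv : v ∈ U),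
        ((k : V ⋊[G.subtype] ↥G).right : MulAut V) v * v⁻¹ ∈ F ↔
          f k * f (ι ⟨v, hv⟩) * (f k)⁻¹ = f (ι ⟨v, hv⟩) := by
      intro k v hv
      obtain ⟨hv', he⟩ := hact k hv
      rw [hFmem (U.mul_mem hv' (U.inv_mem hv))]
      rw [show (⟨_, U.mul_mem hv' (U.inv_mem hv)⟩ : U) = ⟨_, hv'⟩ * (⟨v, hv⟩ : U)⁻¹ from rfl,
        map_mul, map_mul, map_inv, map_inv, he, map_mul, map_mul, map_inv, mul_inv_eq_one]
    have hone : ∀ (k : K), f k = 1 → ∀ v ∈ U, ((k : V ⋊[G.subtype] ↥G).right : MulAut V) v * v⁻¹ ∈ F :=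
      fun k hk v hv => by rw [hdiff k v hv, hk, one_mul, inv_one, mul_one]
    have hl := hn U F ((kc : V ⋊[G.subtype] ↥G).right : MulAut V) ((kl : V ⋊[G.subtype] ↥G).right : MulAut V)
      ((kc : V ⋊[G.subtype] ↥G).right).2 ((kl : V ⋊[G.subtype] ↥G).right).2 hFU
      (fun v hv => by rw [h2]; exact one_mem F) (hmove kc) (hmove kl) (hFinv kc) (hFinv kl)
      (fun v hv => by simpa using hone (kc * kc) (by rw [map_mul, hkc]; decide) v hv)
      (fun v hv => by
        simpa [pow_succ] using hone (kl * kl * kl) (by rw [map_mul, map_mul, hkl]; decide) v hv)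
      (fun v hv => by
        simpa using hone (kc * kl * kc⁻¹ * kl) (by rw [map_mul, map_mul, map_mul, map_inv, hkc, hkl]; decide) v hv)
      u u.2
    exact hne (hkl ▸ (hdiff kl u u.2).1 hl)

end Semi

/-- The input gives that irreducible modules without a section `S₃` have no offenders. -/
theorem noOffIrr_of_stellmacher (hW : StellmacherInput.{u}) : NoOffIrr.{u} := by
  haveI : Fact (Nat.Prime 2) := ⟨Nat.prime_two⟩
  intro V _ _ G hV hn hG hirr A₀ hA₀ hoff
  obtain ⟨B, hBA, hB⟩ := Offender.exists_isMinOff_le hoff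
  have hBG : B ≤ G := hBA.trans hA₀
  have hV1 : (⊥ : Subgroup V) ≠ ⊤ := fun h => hB.1.2.2.1 ((eq_bot_iff_forall _).2 fun b _ =>
    MulEquiv.ext fun v => by
      have hv : ∀ w : V, w = 1 := fun w => mem_bot.1 (h.ge (mem_top w))
      rw [hv (b v), hv ((1 : MulAut V) v)])
  -- `V` is elementary
  have h2 : ∀ v : V, v * v = 1 := by
    obtain ⟨W, hWd⟩ : ∃ W : Subgroup V, W = (powMonoidHom 2 : V →* V).ker := ⟨_, rfl⟩
    rcases hirr W (fun g _ w hw => by
      rw [hWd, MonoidHom.mem_ker, powMonoidHom_apply] at hw ⊢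
      rw [← map_pow, hw, map_one]) with h | h
    · exfalso
      obtain ⟨v, hv⟩ : ∃ v : V, v ≠ 1 := by
        by_contra hall
        push Not at hall
        exact hV1 (eq_top_iff.2 fun v _ => mem_bot.2 (hall v))
      obtain ⟨n, hn2⟩ := hV v
      have key : ∀ n, ∀ v : V, v ^ 2 ^ n = 1 → v = 1 := by
        intro n
        induction n with
        | zero => intro v hv; simpa using hv
        | succ n ih =>
          intro v hv
          refine mem_bot.1 (h.le ?_)
          rw [hWd, MonoidHom.mem_ker, powMonoidHom_apply]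
          exact ih _ (by rw [← pow_mul, ← pow_succ']; exact hv)
      exact hv (key n v hn2)
    · intro v
      have := h.ge (mem_top v)
      rw [hWd, MonoidHom.mem_ker, powMonoidHom_apply, pow_two] at this
      exact this
  haveI : Finite G := inferInstance
  haveI : Finite (V ⋊[G.subtype] ↥G) :=
    Finite.of_equiv (V × G) (SemidirectProduct.equivProd (φ := G.subtype)).symm
  obtain ⟨S⟩ : Nonempty (Sylow 2 (V ⋊[G.subtype] ↥G)) := inferInstance
  obtain ⟨W, hW1, hW2, hW3, hW4⟩ := hW _ (semidirect_symFour_free h2 hn hG) S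
  obtain ⟨V₁, hV₁⟩ : ∃ V₁ : Subgroup (V ⋊[G.subtype] ↥G),
      V₁ = (SemidirectProduct.inl : V →* V ⋊[G.subtype] ↥G).range := ⟨_, rfl⟩
  have hV₁mem : ∀ v : V, SemidirectProduct.inl v ∈ V₁ := fun v => hV₁ ▸ ⟨v, rfl⟩
  haveI hV₁n : V₁.Normal := ⟨by
    rw [hV₁]
    rintro _ ⟨v, rfl⟩ g
    exact ⟨_, (semidirect_conj_inl g v).symm⟩⟩
  have hV₁Q : V₁ ≤ Cfsg.pCore 2 (V ⋊[G.subtype] ↥G) := CfsgLib.Solvable.le_pCore hV₁n (by
    rw [hV₁, MonoidHom.range_eq_map]
    exact (hV.to_subgroup ⊤).map _)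
  have hV₁S : V₁ ≤ (S : Subgroup (V ⋊[G.subtype] ↥G)) := hV₁Q.trans (CfsgLib.Solvable.pCore_le_sylow S)
  have hcV : centralizer (V₁ : Set (V ⋊[G.subtype] ↥G)) ≤ V₁ := by
    intro z hz
    have h1 : z.right = 1 := Subtype.ext (MulEquiv.ext fun v => by
      have h2 := semidirect_conj_inl z v
      rw [← hz _ (hV₁mem v), mul_inv_cancel_right] at h2
      exact (SemidirectProduct.inl_injective h2).symm)
    rw [← SemidirectProduct.inl_left_mul_inr_right z, h1, map_one, mul_one]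
    exact hV₁mem _
  have hWn : W.Normal := by
    refine normalizer_eq_top_iff.1 (eq_top_iff.2 fun g _ => ?_)
    haveI := Cfsg.pCore_normal 2 (V ⋊[G.subtype] ↥G)
    have hQS := CfsgLib.Solvable.pCore_le_sylow S
    obtain ⟨-, hfus⟩ := hW4 (Cfsg.pCore 2 (V ⋊[G.subtype] ↥G) : Subgroup _) hQS
    obtain ⟨x, hx, he⟩ := hfus g (by
      rintro _ ⟨a, ha, rfl⟩
      exact hQS ((inferInstance : (Cfsg.pCore 2 (V ⋊[G.subtype] ↥G)).Normal).conj_mem a ha g))
    have h1 : x⁻¹ * g ∈ centralizer (V₁ : Set (V ⋊[G.subtype] ↥G)) := fun a ha => by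
      have h2 := he a (hV₁Q ha)
      calc a * (x⁻¹ * g) = x⁻¹ * (x * a * x⁻¹) * g := by group
        _ = x⁻¹ * (g * a * g⁻¹) * g := by rw [h2]
        _ = x⁻¹ * g * a := by group
    have h2 := Subgroup.mul_mem _ hx (hW3 (hV₁S (hcV h1)))
    rwa [mul_inv_cancel_left] at h2
  -- the fixed points of the Sylow subgroup give `V ≤ W`
  obtain ⟨U, hU⟩ : ∃ U : Subgroup V, U = W.comap SemidirectProduct.inl := ⟨_, rfl⟩
  have hUinv : ∀ g ∈ G, ∀ w ∈ U, g w ∈ U := fun g hg w hw => by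
    rw [hU, mem_comap] at hw ⊢
    rw [show SemidirectProduct.inl (g w) = _ from (semidirect_conj_inl (SemidirectProduct.inr ⟨g, hg⟩) w).symm]
    exact hWn.conj_mem _ hw _
  have hUne : U ≠ ⊥ := by
    intro hbot
    have hne : V₁.subgroupOf (S : Subgroup (V ⋊[G.subtype] ↥G)) ≠ ⊥ := by
      rw [Ne, subgroupOf_eq_bot, disjoint_iff, inf_eq_left.2 hV₁S, hV₁, MonoidHom.range_eq_map,
        map_eq_bot_iff_of_injective _ SemidirectProduct.inl_injective]
      exact hV1.symm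
    haveI : Group.IsNilpotent (S : Subgroup (V ⋊[G.subtype] ↥G)) := S.2.isNilpotent
    refine CfsgLib.Solvable.normal_inf_center_ne_bot _ hne ((eq_bot_iff_forall _).2 fun y hy => Subtype.ext ?_)
    obtain ⟨v, hv⟩ := hV₁.le (mem_inf.1 hy).1
    have hvW : SemidirectProduct.inl v ∈ W := hW1 (subset_closure ⟨by
      rw [hv]
      exact ⟨y.2, fun s hs => congrArg Subtype.val (mem_center_iff.1 (mem_inf.1 hy).2 ⟨s, hs⟩)⟩,
      by rw [← map_pow, pow_two, h2, map_one]⟩)
    have : v = 1 := mem_bot.1 (hbot.le (show v ∈ U by rw [hU]; exact hvW))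
    rw [this, map_one] at hv
    exact hv.symm
  have hVW : V₁ ≤ W := by
    rw [hV₁]
    rintro _ ⟨v, rfl⟩
    have h1 : v ∈ U := ((hirr U hUinv).resolve_left hUne).ge (mem_top v)
    rwa [hU] at h1
  have hJV : Cfsg.thompsonSubgroupOf 2 (S : Subgroup (V ⋊[G.subtype] ↥G)) ≤ V₁ :=
    le_trans (fun j hj => mem_centralizer_iff.2 fun z hz => ((omegaOne_le 2 _ (hW2 (hVW hz))).2 j hj).symm) hcV
  -- an offender gives a large elementary subgroup outside `V`
  obtain ⟨C, hC⟩ : ∃ C : Subgroup V, C = Offender.fixOf B := ⟨_, rfl⟩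
  have hsq : ∀ b ∈ B, b * b = 1 := fun b hb => MulEquiv.ext fun v => by
    have h1 := Offender.IsMinOff.quadratic hV hB v b hb
    have h3 : b (b v * v⁻¹) = b v * v⁻¹ := h1 b hb
    rw [map_mul, map_inv] at h3
    rw [MulAut.mul_apply, MulAut.one_apply]
    have h4 : b (b v) = b v * v⁻¹ * b v := mul_inv_eq_iff_eq_mul.1 h3
    rw [h4, mul_comm, ← mul_assoc, h2, one_mul]
    exact inv_eq_of_mul_eq_one_left (h2 v)
  obtain ⟨E, hEmem⟩ : ∃ E : Subgroup (V ⋊[G.subtype] ↥G),
      ∀ z, z ∈ E ↔ z.left ∈ C ∧ (z.right : MulAut V) ∈ B := ⟨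
    { carrier := {z | z.left ∈ C ∧ (z.right : MulAut V) ∈ B}
      one_mem' := ⟨C.one_mem, B.one_mem⟩
      mul_mem' := fun {a b} ha hb => by
        refine ⟨?_, B.mul_mem ha.2 hb.2⟩
        rw [SemidirectProduct.mul_left]
        exact C.mul_mem ha.1 (by
          rw [hC] at hb ⊢
          show (a.right : MulAut V) b.left ∈ _
          rw [hb.1 _ ha.2]
          exact hb.1)
      inv_mem' := fun {a} ha => by
        refine ⟨?_, B.inv_mem ha.2⟩
        rw [SemidirectProduct.inv_left]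
        have hai := C.inv_mem ha.1
        rw [hC] at hai ⊢
        show (a.right : MulAut V)⁻¹ a.left⁻¹ ∈ _
        rw [hai _ (B.inv_mem ha.2)]
        exact hai }, fun z => Iff.rfl⟩
  have hEel : Cfsg.IsElementaryAbelian 2 E := by
    have hlr : ∀ a ∈ E, ∀ b ∈ E, (a.right : MulAut V) b.left = b.left := fun a ha b hb => by
      have := ((hEmem b).1 hb).1
      rw [hC] at this
      exact this _ ((hEmem a).1 ha).2
    refine ⟨⟨⟨fun a b => Subtype.ext (SemidirectProduct.ext ?_ ?_)⟩⟩, fun a ha => ?_⟩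
    · show ((a : V ⋊[G.subtype] ↥G) * b).left = ((b : V ⋊[G.subtype] ↥G) * a).left
      rw [SemidirectProduct.mul_left, SemidirectProduct.mul_left]
      show _ * ((a : V ⋊[G.subtype] ↥G).right : MulAut V) _ = _ * ((b : V ⋊[G.subtype] ↥G).right : MulAut V) _
      rw [hlr _ a.2 _ b.2, hlr _ b.2 _ a.2, mul_comm]
    · exact Subtype.ext (hB.1.2.1 _ ((hEmem _).1 a.2).2 _ ((hEmem _).1 b.2).2)
    · rw [pow_two]
      refine SemidirectProduct.ext ?_ (Subtype.ext (hsq _ ((hEmem a).1 ha).2))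
      rw [SemidirectProduct.mul_left]
      show a.left * (a.right : MulAut V) a.left = 1
      rw [hlr a ha a ha, h2]
  have hEcard : Nat.card V ≤ Nat.card E := by
    refine le_trans hB.1.2.2.2 ?_
    rw [← hC, mul_comm, ← Nat.card_prod]
    exact Nat.card_le_card_of_injective
      (fun p : C × B => (⟨⟨p.1, ⟨p.2, hBG p.2.2⟩⟩, (hEmem _).2 ⟨p.1.2, p.2.2⟩⟩ : E))
      fun p q h => by
        have h1 := congrArg (fun z : E => (z : V ⋊[G.subtype] ↥G).left) h
        have h3 := congrArg (fun z : E => ((z : V ⋊[G.subtype] ↥G).right : MulAut V)) h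
        exact Prod.ext (Subtype.ext h1) (Subtype.ext h3)
  obtain ⟨g, -, hg⟩ := (sylowIn_top S).exists_conj_le
    (show IsPGroup 2 E from fun z => ⟨1, Subtype.ext (by simpa using hEel.2 z.1 z.2)⟩) (le_top : E ≤ ⊤)
  have hV₁card : Nat.card V₁ = Nat.card V := by
    rw [hV₁]
    exact (Nat.card_congr (MonoidHom.ofInjective SemidirectProduct.inl_injective).toEquiv).symm
  obtain ⟨A, hA⟩ := exists_maxElemIn 2 (S : Subgroup (V ⋊[G.subtype] ↥G))
  have hA1 : Nat.card A ≤ Nat.card V := hV₁card ▸ card_le_of_le ((le_thompsonOf hA).trans hJV)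
  have hEg : Cfsg.IsElementaryAbelian 2 (conjMap g E) := FactorFour.elemAb_map_conj g hEel
  have hmax : conjMap g E ∈ maxElemIn 2 (S : Subgroup (V ⋊[G.subtype] ↥G)) :=
    ⟨hg, hEg, fun D hD hDe => (hA.2.2 D hD hDe).trans (hA1.trans (hEcard.trans (card_conjMap g E).ge))⟩
  refine hB.1.2.2.1 ((eq_bot_iff_forall _).2 fun b hb => ?_)
  have hz : SemidirectProduct.inr ⟨b, hBG hb⟩ ∈ E := (hEmem _).2 ⟨C.one_mem, hb⟩
  have h5 := (le_thompsonOf hmax).trans hJV (conj_mem_conjMap (g := g) hz)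
  have h6 : (SemidirectProduct.inr ⟨b, hBG hb⟩ : V ⋊[G.subtype] ↥G) ∈ V₁ := by
    have := hV₁n.conj_mem _ h5 g⁻¹
    simpa [mul_assoc] using this
  obtain ⟨v, hv⟩ := hV₁.le h6
  have := congrArg SemidirectProduct.right hv
  simp at this
  exact congrArg Subtype.val this.symm

end CfsgLib.PLocal
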