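import Cfsg.Agent.Lib.Fusion.OffenderMain

/-!
Abelian `2`-groups `V` without a section `S₃` in the acting group: the group is generated by the
stabilizer of a point fixed by a Sylow subgroup and the normalizer of a weakly closed subgroup
generated by offenders. Part one: the only maximal overgroup of an offender.
-/

set_option autoImplicit false
set_option linter.style.haveILetI false
set_option linter.unusedVariables false
set_option linter.unusedSectionVars false

universe u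

namespace CfsgLib.PLocal.FactorFour

open Subgroup CfsgLib.Fusion CfsgLib.Fusion.Offender

variable {V : Type u} [CommGroup V]

/-- The subgroup generated by the stabilizer of `x` and the normalizer of `J`. -/
def genSub (G J : Subgroup (MulAut V)) (x : V) : Subgroup (MulAut V) :=
  (G ⊓ stabElt x) ⊔ (G ⊓ normalizer (J : Set (MulAut V)))

theorem genSub_le (G J : Subgroup (MulAut V)) (x : V) : genSub G J x ≤ G :=
  sup_le inf_le_left inf_le_left

/-- The hypothesis carried through the induction. -/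
def GenGoal (n : ℕ) : Prop :=
  ∀ (V : Type u) [CommGroup V] [Finite V] (G S J : Subgroup (MulAut V)) (x : V),
    Nat.card G + Nat.card V ≤ n → IsPGroup 2 V → (∀ g ∈ G, g (x * x) = x * x) → NoThree G → S ≤ G → IsPGroup 2 S →
    ¬ 2 ∣ S.relIndex G → (∀ g ∈ S, g x = x) → J ≤ S →
    (∀ g ∈ G, conjSub g J ≤ S → conjSub g J = J) →
    (∃ 𝒜 : Set (Subgroup (MulAut V)), J = sSup 𝒜 ∧ ∀ A ∈ 𝒜, Good A) →
    G ≤ genSub G J x

variable [Finite V]

section Setup

variable {G S J : Subgroup (MulAut V)} {x : V} (hV : IsPGroup 2 V)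
  (hx2 : ∀ g ∈ G, g (x * x) = x * x) (hfree : NoThree G)
  (hSG : S ≤ G) (hS : IsPGroup 2 S) (hidx : ¬ 2 ∣ S.relIndex G) (hSx : ∀ g ∈ S, g x = x)
  (hgen : Subgroup.closure ((fun g : MulAut V => g x) '' (G : Set (MulAut V))) = ⊤)
  (hMne : genSub G J x ≠ G)
  {n : ℕ} (hcard : Nat.card G + Nat.card V ≤ n + 1) (ih : GenGoal.{u} n)
  (hJS : J ≤ S) (hJw : ∀ g ∈ G, conjSub g J ≤ S → conjSub g J = J)
  (hJgen : ∃ 𝒜 : Set (Subgroup (MulAut V)), J = sSup 𝒜 ∧ ∀ A ∈ 𝒜, Good A)

include hV hx2 hfree hSG hS hidx hSx hgen hMne hcard ih hJS hJw hJgen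

theorem le_genSub {H : Subgroup (MulAut V)} (hSH : S ≤ H) (hHG : H ≤ G) (hne : H ≠ G) :
    H ≤ genSub G J x := by
  have h1 : Nat.card H < Nat.card G := by
    refine lt_of_le_of_ne (Subgroup.card_le_of_le hHG) fun h => hne ?_
    exact Subgroup.eq_of_le_of_card_ge hHG h.ge
  refine (ih V H S J x (by omega) hV (fun k hk => hx2 k (hHG hk))
    (hfree.mono hHG) hSH hS
    (fun h => hidx (h.trans (Dvd.intro _ (Subgroup.relIndex_mul_relIndex S H G hSH hHG))))
    hSx hJS (fun k hk => hJw k (hHG hk)) hJgen).trans ?_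
  exact sup_le_sup (inf_le_inf_right _ hHG) (inf_le_inf_right _ hHG)

theorem sylow_le_genSub : S ≤ genSub G J x :=
  (le_inf hSG fun g hg => hSx g hg).trans le_sup_left

/-- A normal subgroup inside the maximal subgroup meets `S` trivially. -/
theorem inf_eq_bot_of_normal {N : Subgroup (MulAut V)} (hNM : N ≤ genSub G J x)
    (hn : ∀ g ∈ G, conjSub g N = N) : N ⊓ S = ⊥ := by
  haveI : Fact (Nat.Prime 2) := ⟨Nat.prime_two⟩
  have hNG : N ≤ G := hNM.trans (genSub_le G J x)
  have hxgen : ∀ g : MulAut V, (∀ k ∈ G, g (k x) = k x) → g = 1 := fun g hg =>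
    eq_one_of_fixes_closure hgen (by
      rintro _ ⟨k, hk, rfl⟩
      exact hg k hk)
  set D := N ⊓ S with hD
  set H := G ⊓ normalizer (D : Set (MulAut V)) with hH
  have hSH : S ≤ H := fun s hs => ⟨hSG hs, Subgroup.mem_normalizer_iff_map_conj_eq.2 (by
    refine Subgroup.eq_of_le_of_card_ge ?_ (Subgroup.card_map_of_injective (MulAut.conj s).injective).ge
    rintro _ ⟨d, hd, rfl⟩
    exact ⟨(hn s (hSG hs)).le (conj_mem_conjSub hd.1), S.mul_mem (S.mul_mem hs hd.2) (S.inv_mem hs)⟩)⟩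
  by_cases he : H = G
  · refine (Subgroup.eq_bot_iff_forall _).2 fun m hm => hxgen m fun k hk => ?_
    have h1 : k⁻¹ * m * k⁻¹⁻¹ ∈ D := (Subgroup.mem_normalizer_iff.1 (he.ge (G.inv_mem hk)).2 m).1 hm
    have h2 := congrArg k (hSx _ h1.2)
    rw [inv_inv, MulAut.mul_apply, MulAut.mul_apply, MulAut.apply_inv_self] at h2
    exact h2
  -- Frattini
  exfalso
  refine hMne (le_antisymm (genSub_le G J x) fun g hg => ?_)
  have hidxN : ¬ 2 ∣ D.relIndex N :=
    CfsgLib.Fusion.not_dvd_relIndex_inf hS hSG hidx hNG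
      (fun k hk m hm => (hn k hk).le (conj_mem_conjSub hm)) |> fun h => by rwa [hD, inf_comm]
  have hle : conjSub g D ≤ N := (conjSub_mono inf_le_left).trans (hn g hg).le
  obtain ⟨m, hm, hmD⟩ := exists_conj_le_of_sylow (hS.to_le inf_le_right) (inf_le_left : D ≤ N) hidxN
    ((hS.to_le inf_le_right).map _) hle
  have h1 : conjSub (m * g) D = D := by
    refine Subgroup.eq_of_le_of_card_ge ?_ (card_conjSub _ D).ge
    rw [conjSub_mul]; exact hmD
  have h2 : m * g ∈ genSub G J x := le_genSub hV hx2 hfree hSG hS hidx hSx hgen hMne hcard ih hJS hJw hJgen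
    hSH inf_le_left he ⟨G.mul_mem (hNG hm) hg, Subgroup.mem_normalizer_iff_map_conj_eq.2 h1⟩
  have h3 := (genSub G J x).mul_mem ((genSub G J x).inv_mem (hNM hm)) h2
  rwa [inv_mul_cancel_left] at h3

/-- The maximal subgroup is self-normalizing. -/
theorem normalizer_genSub_le :
    G ⊓ normalizer ((genSub G J x : Subgroup (MulAut V)) : Set (MulAut V)) ≤ genSub G J x := by
  by_cases he : G ⊓ normalizer ((genSub G J x : Subgroup (MulAut V)) : Set (MulAut V)) = G
  swap
  · exact le_genSub hV hx2 hfree hSG hS hidx hSx hgen hMne hcard ih hJS hJw hJgen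
      (le_inf hSG ((sylow_le_genSub hV hx2 hfree hSG hS hidx hSx hgen hMne hcard ih hJS hJw hJgen).trans
        le_normalizer)) inf_le_left he
  · exfalso
    have h := inf_eq_bot_of_normal hV hx2 hfree hSG hS hidx hSx hgen hMne hcard ih hJS hJw hJgen le_rfl
      fun g hg => Subgroup.mem_normalizer_iff_map_conj_eq.1 (he.ge hg).2
    have hSb : S = ⊥ := le_bot_iff.1 (h ▸ le_inf
      (sylow_le_genSub hV hx2 hfree hSG hS hidx hSx hgen hMne hcard ih hJS hJw hJgen) le_rfl)
    refine hMne (le_antisymm (genSub_le G J x) ?_)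
    have hJ : J = ⊥ := le_bot_iff.1 (hJS.trans hSb.le)
    refine le_trans (le_inf le_rfl ?_) le_sup_right
    rw [hJ, normalizer_eq_top]; exact le_top

theorem overgroup_le_genSub (hoff : ∃ A, A ≤ G ∧ IsOff A) :
    ∃ B, IsMinOff B ∧ B ≤ S ∧
      ∀ C, IsMinOff C → C ≤ genSub G J x → ∀ H, C ≤ H → H ≤ G → H ≠ G → H ≤ genSub G J x := by
  haveI : Fact (Nat.Prime 2) := ⟨Nat.prime_two⟩
  obtain ⟨A₀, hA₀G, hA₀⟩ := hoff
  have hxgen : ∀ g : MulAut V, (∀ k ∈ G, g (k x) = k x) → g = 1 := fun g hg =>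
    eq_one_of_fixes_closure hgen (by
      rintro _ ⟨k, hk, rfl⟩
      exact hg k hk)
  -- normal subgroups that are `2`-groups are trivial
  have hnorm1 : ∀ N : Subgroup (MulAut V), N ≤ G → (∀ g ∈ G, conjSub g N = N) →
      (∀ k ∈ N, k x = x) → N = ⊥ := fun N hNG hn hfix => by
    refine (Subgroup.eq_bot_iff_forall _).2 fun m hm => hxgen m fun k hk => ?_
    have h1 : k⁻¹ * m * k⁻¹⁻¹ ∈ N := (hn k⁻¹ (G.inv_mem hk)).le (conj_mem_conjSub hm)
    have h2 := congrArg k (hfix _ h1)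
    rw [inv_inv, MulAut.mul_apply, MulAut.mul_apply, MulAut.apply_inv_self] at h2
    exact h2
  have hO2 : ∀ N : Subgroup (MulAut V), N ≤ G → IsPGroup 2 N → (∀ g ∈ G, conjSub g N = N) →
      N = ⊥ := fun N hNG hN hn => by
    refine hnorm1 N hNG hn fun k hk => ?_
    obtain ⟨g, hg, hgN⟩ := exists_conj_le_of_sylow hS hSG hidx hN hNG
    exact hSx k (hgN ((hn g hg).ge hk))
  set M := genSub G J x with hM
  have hMG : M ≤ G := genSub_le G J x
  have hSM : S ≤ M := sylow_le_genSub hV hx2 hfree hSG hS hidx hSx hgen hMne hcard ih hJS hJw hJgen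
  have hidxM : ¬ 2 ∣ S.relIndex M := fun h => hidx (h.trans
    (Dvd.intro _ (Subgroup.relIndex_mul_relIndex S M G hSM hMG)))
  have hcardlt : ∀ H : Subgroup (MulAut V), H ≤ G → H ≠ G → Nat.card H + Nat.card V ≤ n := by
    intro H hH hne
    have h1 : Nat.card H < Nat.card G := by
      refine lt_of_le_of_ne (Subgroup.card_le_of_le hH) fun h => hne ?_
      exact Subgroup.eq_of_le_of_card_ge hH h.ge
    omega
  -- conjugates of a minimal offender
  let P : Subgroup (MulAut V) → Prop := fun B => IsMinOff B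
  have hPc : ∀ (g : MulAut V) B, P B → P (conjSub g B) := fun g B h => IsMinOff.conjSub h g
  obtain ⟨B₀, hB₀A, hB₀⟩ := exists_isMinOff_le hA₀
  obtain ⟨g₀, hg₀, hB₀S⟩ := exists_conj_le_of_sylow hS hSG hidx hB₀.1.1 (hB₀A.trans hA₀G)
  let DS : Subgroup (MulAut V) → Subgroup (MulAut V) := fun H => sSup {B | P B ∧ B ≤ S ∧ B ≤ H}
  have hDS_le : ∀ H, DS H ≤ S ⊓ H := fun H => sSup_le fun B hB => le_inf hB.2.1 hB.2.2
  have hDS_gen : ∀ H, DS H ≤ sSup {B | P B ∧ B ≤ DS H} := fun H =>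
    sSup_le fun B hB => le_sSup ⟨hB.1, le_sSup ⟨hB.1, hB.2.1, hB.2.2⟩⟩
  -- the normalizer of the join of all minimal offenders in `S`
  have hJ'fix : ∀ g ∈ G, conjSub g (DS G) = DS G → g ∈ M := by
    intro g hg hgJ
    set H := G ⊓ Subgroup.normalizer ((DS G : Subgroup (MulAut V)) : Set (MulAut V)) with hH
    have hSH : S ≤ H := fun s hs => ⟨hSG hs, by
      refine Subgroup.mem_normalizer_iff_map_conj_eq.2 ?_
      refine Subgroup.eq_of_le_of_card_ge ?_
        (Subgroup.card_map_of_injective (MulAut.conj s).injective).ge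
      refine Subgroup.map_le_iff_le_comap.2 (sSup_le fun B hB => Subgroup.map_le_iff_le_comap.1 ?_)
      refine le_sSup ⟨hPc s B hB.1, ?_, ?_⟩
      · rintro _ ⟨b, hb, rfl⟩
        exact S.mul_mem (S.mul_mem hs (hB.2.1 hb)) (S.inv_mem hs)
      · rintro _ ⟨b, hb, rfl⟩
        exact G.mul_mem (G.mul_mem (hSG hs) (hB.2.2 hb)) (G.inv_mem (hSG hs))⟩
    have hne : H ≠ G := fun he => by
      have hbot : DS G = ⊥ := hO2 _ ((hDS_le G).trans inf_le_right)
        (hS.to_le ((hDS_le G).trans inf_le_left))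
        fun k hk => Subgroup.mem_normalizer_iff_map_conj_eq.1 (he.ge hk).2
      refine (hPc g₀ B₀ hB₀).1.2.2.1 (le_bot_iff.1 (hbot ▸ le_sSup ⟨hPc g₀ B₀ hB₀, hB₀S, ?_⟩))
      exact hB₀S.trans hSG
    exact le_genSub hV hx2 hfree hSG hS hidx hSx hgen hMne hcard ih hJS hJw hJgen hSH inf_le_left hne
      ⟨hg, Subgroup.mem_normalizer_iff_map_conj_eq.2 hgJ⟩
  -- every proper overgroup of a minimal offender in `S` is in `M`
  have hover0 : ∀ B, P B → B ≤ S → ∀ H, B ≤ H → H ≤ G → H ≠ G → H ≤ M := by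
    by_contra hbad
    push Not at hbad
    obtain ⟨B₁, hB₁, hB₁S, H₁, hB₁H, hH₁G, hH₁ne, hH₁M⟩ := hbad
    obtain ⟨H, ⟨hHG, hHne, hHM, ⟨B, hB, hBS, hBH⟩⟩, hmax⟩ := Set.exists_max_image
      {H : Subgroup (MulAut V) | H ≤ G ∧ H ≠ G ∧ ¬ H ≤ M ∧ ∃ B, P B ∧ B ≤ S ∧ B ≤ H}
      (fun H => Nat.card (DS H)) (Set.toFinite _)
      ⟨H₁, hH₁G, hH₁ne, hH₁M, B₁, hB₁, hB₁S, hB₁H⟩
    set D := DS H with hD
    have hBD : B ≤ D := le_sSup ⟨hB, hBS, hBH⟩
    have hDne : D ≠ ⊥ := fun h => hB.1.2.2.1 (le_bot_iff.1 (h ▸ hBD))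
    have hND : G ⊓ Subgroup.normalizer (D : Set (MulAut V)) ≤ M := by
      by_cases hall : ∀ B', P B' → B' ≤ S → B' ≤ D
      · have hDJ : D = DS G := le_antisymm
          (sSup_le fun B hB => le_sSup ⟨hB.1, hB.2.1, hB.2.1.trans hSG⟩)
          (sSup_le fun B hB => hall B hB.1 hB.2.1)
        intro g hg
        refine hJ'fix g hg.1 ?_
        rw [← hDJ]
        exact Subgroup.mem_normalizer_iff_map_conj_eq.1 hg.2
      · push Not at hall
        obtain ⟨B', hB', hB'R, hB'D⟩ := exists_member_normalizing (D := D) hS P (fun g _ B _ h => hPc g B h)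
          ((hDS_le H).trans inf_le_left) (hDS_gen H) hall
        by_contra hh
        have hne : G ⊓ Subgroup.normalizer (D : Set (MulAut V)) ≠ G := fun he => hDne <|
          hO2 D ((hDS_le H).trans (inf_le_right.trans hHG)) (hS.to_le ((hDS_le H).trans inf_le_left))
            fun k hk => Subgroup.mem_normalizer_iff_map_conj_eq.1 (he.ge hk).2
        have hDN : D ≤ G ⊓ Subgroup.normalizer (D : Set (MulAut V)) :=
          le_inf ((hDS_le H).trans (inf_le_right.trans hHG)) Subgroup.le_normalizer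
        have hB'N : B' ≤ G ⊓ Subgroup.normalizer (D : Set (MulAut V)) :=
          le_inf ((hB'R.trans inf_le_left).trans hSG) (hB'R.trans inf_le_right)
        have h1 := hmax (G ⊓ Subgroup.normalizer (D : Set (MulAut V))) ⟨inf_le_left, hne, hh, B, hB, hBS, hBD.trans hDN⟩
        have hle : D ≤ DS (G ⊓ Subgroup.normalizer (D : Set (MulAut V))) :=
          sSup_le fun C hC => le_sSup ⟨hC.1, hC.2.1,
            (le_sSup ⟨hC.1, hC.2.1, hC.2.2⟩ : C ≤ D).trans hDN⟩
        exact hB'D ((Subgroup.eq_of_le_of_card_ge hle h1).ge.trans' (le_sSup ⟨hB', hB'R.trans inf_le_left, hB'N⟩))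
    obtain ⟨W, hW⟩ := ((hS.to_le ((hDS_le H).trans inf_le_left : D ≤ S)).of_equiv
      (Subgroup.subgroupOfEquivOfLe ((hDS_le H).trans inf_le_right)).symm).exists_le_sylow
    set T := (W : Subgroup H).map H.subtype with hTdef
    have hTH : T ≤ H := Subgroup.map_subtype_le _
    have hTp : IsPGroup 2 T := W.isPGroup'.map _
    have hDT : D ≤ T := fun d hd => ⟨⟨d, ((hDS_le H) hd).2⟩, hW hd, rfl⟩
    by_cases hTD : ∀ B', P B' → B' ≤ T → B' ≤ D
    · have hDeq : ∀ g : MulAut V, conjSub g D ≤ T → conjSub g D = D := fun g hg => by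
        refine Subgroup.eq_of_le_of_card_ge ?_ (card_conjSub g D).ge
        refine Subgroup.map_le_iff_le_comap.2 ((hDS_gen H).trans (sSup_le fun C hC => ?_))
        rw [← Subgroup.map_le_iff_le_comap]
        exact hTD _ (hPc g C hC.1) ((conjSub_mono hC.2).trans hg)
      have hTn : T ≤ G ⊓ Subgroup.normalizer (D : Set (MulAut V)) := fun t ht => ⟨hHG (hTH ht), by
        refine Subgroup.mem_normalizer_iff_map_conj_eq.2 (hDeq t ?_)
        rintro _ ⟨d, hd, rfl⟩
        exact T.mul_mem (T.mul_mem ht (hDT hd)) (T.inv_mem ht)⟩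
      have hTM : T ≤ M := hTn.trans hND
      obtain ⟨m, hm, hmT⟩ := exists_conj_le_of_sylow hS hSM hidxM hTp hTM
      have hx' : (m⁻¹ x) * (m⁻¹ x) = x * x := by rw [← map_mul, hx2 _ (G.inv_mem (hMG hm))]
      refine hHM ((ih V H T D (m⁻¹ x) (hcardlt H hHG hHne) hV
        (fun k hk => by rw [hx']; exact hx2 k (hHG hk))
        (hfree.mono hHG) hTH hTp (not_dvd_relIndex_of_sylow W) (fun t ht => ?_) hDT (fun k _ => hDeq k)
        ⟨_, rfl, fun C hC => IsMinOff.good hC.1⟩).trans (sup_le ?_ ((inf_le_inf_right _ hHG).trans hND)))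
      · have h1 := congrArg (m⁻¹ : MulAut V) (hSx _ (hmT (conj_mem_conjSub (g := m) ht)))
        simpa [MulAut.mul_apply] using h1
      · rintro h ⟨hh, hhx⟩
        have h1 : m * h * m⁻¹ ∈ M := Subgroup.mem_sup_left ⟨G.mul_mem (G.mul_mem (hMG hm) (hHG hh))
          (G.inv_mem (hMG hm)), by
          show m (h (m⁻¹ x)) = x
          rw [show h (m⁻¹ x) = m⁻¹ x from hhx, MulAut.apply_inv_self]⟩
        have h2 := M.mul_mem (M.mul_mem (M.inv_mem hm) h1) hm
        simpa [mul_assoc] using h2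
    · push Not at hTD
      obtain ⟨B', hB', hB'R, hB'D⟩ := exists_member_normalizing (D := D) hTp P (fun g _ B _ h => hPc g B h)
        hDT (hDS_gen H) hTD
      have hRM : T ⊓ Subgroup.normalizer (D : Set (MulAut V)) ≤ M :=
        le_trans (le_inf (inf_le_left.trans (hTH.trans hHG)) inf_le_right) hND
      obtain ⟨m, hm, hmR⟩ := exists_conj_le_of_sylow hS hSM hidxM (hTp.to_le inf_le_left) hRM
      have hmG := hMG hm
      have hHm : conjSub m H ≤ G := by
        rintro _ ⟨h, hh, rfl⟩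
        exact G.mul_mem (G.mul_mem hmG (hHG hh)) (G.inv_mem hmG)
      have hDR : D ≤ T ⊓ Subgroup.normalizer (D : Set (MulAut V)) := le_inf hDT Subgroup.le_normalizer
      have h1 := hmax (conjSub m H) ⟨hHm, fun he => hHne (Subgroup.eq_of_le_of_card_ge hHG (by
          rw [← card_conjSub m H, he])), fun hle => hHM fun h hh => ?_, conjSub m B, hPc m B hB,
        (conjSub_mono (hBD.trans hDR)).trans hmR, conjSub_mono hBH⟩
      · have hle : conjSub m (D ⊔ B') ≤ DS (conjSub m H) := by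
          rw [conjSub, Subgroup.map_sup, sup_le_iff]
          refine ⟨Subgroup.map_le_iff_le_comap.2 ((hDS_gen H).trans (sSup_le fun C hC => ?_)),
            le_sSup ⟨hPc m B' hB', (conjSub_mono hB'R).trans hmR,
              conjSub_mono ((hB'R.trans inf_le_left).trans hTH)⟩⟩
          rw [← Subgroup.map_le_iff_le_comap]
          exact le_sSup ⟨hPc m C hC.1, (conjSub_mono (hC.2.trans hDR)).trans hmR,
            conjSub_mono (hC.2.trans (hDT.trans hTH))⟩
        have h2 : Nat.card ↥(D ⊔ B') ≤ Nat.card D := by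
          rw [← card_conjSub m (D ⊔ B')]
          exact (Subgroup.card_le_of_le hle).trans h1
        exact hB'D ((Subgroup.eq_of_le_of_card_ge le_sup_left h2).ge.trans' le_sup_right)
      · have h3 := M.mul_mem (M.mul_mem (M.inv_mem hm) (hle (conj_mem_conjSub (g := m) hh))) hm
        simpa [mul_assoc] using h3
  have hover : ∀ B, P B → B ≤ M → ∀ H, B ≤ H → H ≤ G → H ≠ G → H ≤ M := by
    intro B hB hBM H hBH hHG hne
    obtain ⟨m, hm, hmB⟩ := exists_conj_le_of_sylow hS hSM hidxM hB.1.1 hBM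
    have hmG := hMG hm
    have h1 := hover0 _ (hPc m B hB) hmB (conjSub m H) (conjSub_mono hBH) (by
      rintro _ ⟨h, hh, rfl⟩
      exact G.mul_mem (G.mul_mem hmG (hHG hh)) (G.inv_mem hmG))
      fun he => hne (Subgroup.eq_of_le_of_card_ge hHG (by rw [← card_conjSub m H, he]))
    intro h hh
    have h3 := M.mul_mem (M.mul_mem (M.inv_mem hm) (h1 (conj_mem_conjSub (g := m) hh))) hm
    simpa [mul_assoc] using h3
  exact ⟨conjSub g₀ B₀, hPc g₀ B₀ hB₀, hB₀S, hover⟩

end Setup

end CfsgLib.PLocal.FactorFour
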