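import Cfsg.Agent.Lib.PLocal.FactorFourMain

/-!
Abelian `2`-groups `V` without a section `S₃` in the acting group: the group is generated by the
stabilizer of a point fixed by a Sylow subgroup and the normalizer of a weakly closed subgroup
generated by offenders. Part three: the induction.
-/

set_option autoImplicit false
set_option linter.style.haveILetI false
set_option linter.unusedVariables false
set_option linter.unusedSectionVars false

universe u

namespace CfsgLib.PLocal.FactorFour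

open Subgroup CfsgLib.Fusion CfsgLib.Fusion.Offender

variable {V : Type u} [CommGroup V] [Finite V]

/-- Without a section `S₃` the group is generated by the stabilizer of `x` and the normalizer of `J`. -/
theorem genGoal : ∀ n, GenGoal.{u} n := by
  intro n
  induction n with
  | zero =>
    intro V _ _ G S J x hn
    have : 0 < Nat.card G := Nat.card_pos
    omega
  | succ n ih =>
    intro V _ _ G S J x hn hV hx2 hfree hSG hS hidx hSx hJS hJw hJgen
    by_contra hnot
    have hMne : genSub G J x ≠ G := fun he => hnot he.ge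
    set W := Subgroup.closure ((fun g : MulAut V => g x) '' (G : Set (MulAut V))) with hWdef
    by_cases htop : W = ⊤
    · by_cases hoff : ∃ A, A ≤ G ∧ IsOff A
      · exact no_offender hV hx2 hfree hSG hS hidx hSx htop hMne hn ih hJS hJw hJgen hoff
      · obtain ⟨𝒜, hJ, h𝒜⟩ := hJgen
        have hbot : J = ⊥ := by
          rw [hJ, sSup_eq_bot]
          intro A hA
          by_contra hne
          exact hoff ⟨A, ((le_sSup hA).trans hJ.ge).trans (hJS.trans hSG), (h𝒜 A hA).isOff hne⟩
        refine hnot (le_trans (le_inf le_rfl ?_) le_sup_right)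
        rw [hbot, normalizer_eq_top]
        exact le_top
    have hxW : x ∈ W := Subgroup.subset_closure ⟨1, G.one_mem, rfl⟩
    have hW : ∀ k ∈ G, ∀ w ∈ W, k w ∈ W := fun k hk => by
      have hle : W ≤ W.comap k.toMonoidHom := by
        refine (Subgroup.closure_le _).2 ?_
        rintro _ ⟨l, hl, rfl⟩
        exact Subgroup.subset_closure ⟨k * l, G.mul_mem hk hl, rfl⟩
      exact fun w hw => hle hw
    set π := restrictHom G W hW with hπ
    obtain ⟨𝒜, hJ, h𝒜⟩ := hJgen
    have hJG : J ≤ G := hJS.trans hSG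
    have h𝒜G : ∀ A ∈ 𝒜, A ≤ G := fun A hA => ((le_sSup hA).trans hJ.ge).trans hJG
    set S' := (S.subgroupOf G).map π with hS'
    set J' := (J.subgroupOf G).map π with hJ'
    -- `J` is weakly closed in every `2`-subgroup containing it
    have hweak : ∀ T : Subgroup (MulAut V), J ≤ T → T ≤ G → IsPGroup 2 T → ∀ a ∈ G,
        conjSub a J ≤ T → conjSub a J = J := by
      intro T hJT hTG hT a ha haT
      obtain ⟨m, hm, hmT⟩ := exists_conj_le_of_sylow hS hSG hidx hT hTG
      have h1 := hJw m hm ((conjSub_mono hJT).trans hmT)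
      have h2 := hJw (m * a) (G.mul_mem hm ha) (by rw [conjSub_mul]; exact (conjSub_mono haT).trans hmT)
      rw [conjSub_mul] at h2
      exact Subgroup.map_injective (f := (MulAut.conj m).toMonoidHom) (MulAut.conj m).injective
        (h2.trans h1.symm)
    have hSJ : ∀ s ∈ S, conjSub s J = J := fun s hs => hJw s (hSG hs) (by
      rintro _ ⟨j, hj, rfl⟩
      exact S.mul_mem (S.mul_mem hs (hJS hj)) (S.inv_mem hs))
    have himg : ∀ (a : G), conjSub (π a) J' = ((conjSub (a : MulAut V) J).subgroupOf G).map π := by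
      intro a
      ext m
      constructor
      · rintro ⟨_, ⟨j, hj, rfl⟩, rfl⟩
        refine ⟨a * j * a⁻¹, ?_, by simp⟩
        rw [SetLike.mem_coe, Subgroup.mem_subgroupOf]
        exact ⟨j, hj, rfl⟩
      · rintro ⟨b, ⟨j, hj, hjb⟩, rfl⟩
        have hb : b = a * ⟨j, hJG hj⟩ * a⁻¹ := Subtype.ext hjb.symm
        exact ⟨π ⟨j, hJG hj⟩, ⟨⟨j, hJG hj⟩, hj, rfl⟩, by rw [hb]; simp⟩
    have hlt : Nat.card π.range + Nat.card W ≤ n := by
      have h1 : Nat.card π.range ≤ Nat.card G :=
        Nat.card_le_card_of_surjective π.rangeRestrict π.rangeRestrict_surjective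
      have h2 : Nat.card W < Nat.card V := by
        refine lt_of_le_of_ne (Subgroup.card_le_card_group W) fun h => htop ?_
        exact Subgroup.eq_top_of_card_eq W h
      omega
    have key := ih W π.range S' J' ⟨x, hxW⟩ hlt (hV.to_subgroup W)
      (by rintro _ ⟨a, rfl⟩; exact Subtype.ext (hx2 _ a.2)) (hfree.restrict hW)
      (Subgroup.map_le_range π _)
      ((hS.of_equiv (Subgroup.subgroupOfEquivOfLe hSG).symm).map π) ?_ ?_
      (Subgroup.map_mono (Subgroup.comap_mono hJS)) ?_
      ⟨(fun A : Subgroup (MulAut V) => (A.subgroupOf G).map π) '' 𝒜, ?_, ?_⟩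
    · refine hnot fun g hg => ?_
      have hle : genSub π.range J' ⟨x, hxW⟩ ≤ ((genSub G J x).subgroupOf G).map π := by
        refine sup_le ?_ ?_
        · rintro _ ⟨⟨a, rfl⟩, ha⟩
          exact ⟨a, Subgroup.mem_sup_left ⟨a.2, congrArg Subtype.val ha⟩, rfl⟩
        · rintro _ ⟨⟨a, rfl⟩, ha⟩
          have ha' : conjSub (π a) J' = J' := Subgroup.mem_normalizer_iff_map_conj_eq.1 ha
          set JK := (J'.comap π).map G.subtype with hJK
          have hJJK : J ≤ JK := fun j hj => ⟨⟨j, hJG hj⟩, ⟨⟨j, hJG hj⟩, hj, rfl⟩, rfl⟩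
          have hJKG : JK ≤ G := Subgroup.map_subtype_le _
          obtain ⟨T₀, hT₀⟩ := ((hS.to_le hJS).of_equiv
            (Subgroup.subgroupOfEquivOfLe hJJK).symm).exists_le_sylow
          set T := (T₀ : Subgroup JK).map JK.subtype with hT
          have hJT : J ≤ T := fun j hj => ⟨⟨j, hJJK hj⟩, hT₀ hj, rfl⟩
          have hc : conjSub (a : MulAut V) J ≤ JK := by
            rintro _ ⟨j, hj, rfl⟩
            refine ⟨a * ⟨j, hJG hj⟩ * a⁻¹, ha'.le ?_, rfl⟩
            exact ⟨π ⟨j, hJG hj⟩, ⟨⟨j, hJG hj⟩, hj, rfl⟩, by simp⟩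
          obtain ⟨m, hm, hmT⟩ := exists_conj_le_of_sylow (T₀.isPGroup'.map JK.subtype)
            (Subgroup.map_subtype_le _) (not_dvd_relIndex_of_sylow T₀) ((hS.to_le hJS).map _) hc
          obtain ⟨m, hmK, rfl⟩ := hm
          obtain ⟨j, hj, hjm⟩ := hmK
          have h1 := hweak T hJT ((Subgroup.map_subtype_le _).trans hJKG) (T₀.isPGroup'.map _) (m * a)
            (m * a).2 (by
              rw [conjSub_mul]
              exact hmT)
          refine ⟨j⁻¹ * (m * a), Subgroup.mem_sup_right ⟨(j⁻¹ * (m * a)).2, ?_⟩, ?_⟩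
          · show (j : MulAut V)⁻¹ * ((m : MulAut V) * (a : MulAut V)) ∈ _
            exact Subgroup.mul_mem _ (Subgroup.inv_mem _ (Subgroup.le_normalizer (show (j : MulAut V) ∈ J from hj)))
              (Subgroup.mem_normalizer_iff_map_conj_eq.2 h1)
          · rw [map_mul, map_inv, map_mul, ← hjm, inv_mul_cancel_left]
      obtain ⟨h, hh, he⟩ := hle (key ⟨⟨g, hg⟩, rfl⟩)
      have h1 : h⁻¹ * ⟨g, hg⟩ ∈ π.ker := by
        rw [MonoidHom.mem_ker, map_mul, map_inv, he, inv_mul_cancel]
      have h2 : ((h⁻¹ * ⟨g, hg⟩ : G) : MulAut V) ∈ genSub G J x :=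
        Subgroup.mem_sup_left ⟨(h⁻¹ * ⟨g, hg⟩ : G).2, congrArg Subtype.val
          (show π (h⁻¹ * ⟨g, hg⟩) ⟨x, hxW⟩ = ⟨x, hxW⟩ by rw [MonoidHom.mem_ker.1 h1]; rfl)⟩
      have h3 := (genSub G J x).mul_mem (hh : (h : MulAut V) ∈ genSub G J x) h2
      simpa using h3
    · intro h
      have h1 : (S.subgroupOf G).map π.rangeRestrict = S'.subgroupOf π.range := by
        ext m
        exact ⟨fun ⟨a, ha, he⟩ => ⟨a, ha, congrArg Subtype.val he⟩,
          fun ⟨a, ha, he⟩ => ⟨a, ha, Subtype.ext he⟩⟩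
      rw [Subgroup.relIndex, ← h1] at h
      exact hidx (h.trans (Subgroup.index_map_dvd _ π.rangeRestrict_surjective))
    · rintro _ ⟨s, hs, rfl⟩
      exact Subtype.ext (hSx s hs)
    · rintro _ ⟨a, rfl⟩ ha
      set SK := (S'.comap π).map G.subtype with hSK
      have hSSK : S ≤ SK := fun s hs => ⟨⟨s, hSG hs⟩, ⟨⟨s, hSG hs⟩, hs, rfl⟩, rfl⟩
      have hSKG : SK ≤ G := Subgroup.map_subtype_le _
      have hidxK : ¬ 2 ∣ S.relIndex SK := fun h => hidx (h.trans
        (Dvd.intro _ (Subgroup.relIndex_mul_relIndex S SK G hSSK hSKG)))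
      have hle : conjSub (a : MulAut V) J ≤ SK := by
        rintro _ ⟨j, hj, rfl⟩
        refine ⟨a * ⟨j, hJG hj⟩ * a⁻¹, ha ?_, rfl⟩
        exact ⟨π ⟨j, hJG hj⟩, ⟨⟨j, hJG hj⟩, hj, rfl⟩, by simp⟩
      obtain ⟨m, hm, hmS⟩ := exists_conj_le_of_sylow hS hSSK hidxK ((hS.to_le hJS).map _) hle
      obtain ⟨m, hmK, rfl⟩ := hm
      obtain ⟨s, hs, hsm⟩ := hmK
      have h1 := hJw (m * a) (m * a).2 (by
        rw [conjSub_mul]
        exact hmS)
      have h3 : conjSub (π (m * a)) J' = J' := by rw [himg, Subgroup.coe_mul, h1]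
      have h4 : conjSub (π s) J' = J' := by rw [himg, hSJ s hs]
      rw [map_mul, conjSub_mul, ← hsm] at h3
      exact Subgroup.map_injective (f := (MulAut.conj (π s)).toMonoidHom) (MulAut.conj (π s)).injective
        (h3.trans h4.symm)
    · refine le_antisymm ?_ (sSup_le ?_)
      · rintro _ ⟨j, hj, rfl⟩
        have hle : J ≤ ((sSup ((fun A : Subgroup (MulAut V) => (A.subgroupOf G).map π) '' 𝒜)).comap π).map G.subtype := by
          rw [hJ]
          refine sSup_le fun A hA a ha => ⟨⟨a, h𝒜G A hA ha⟩, ?_, rfl⟩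
          exact (le_sSup (Set.mem_image_of_mem (fun A : Subgroup (MulAut V) => (A.subgroupOf G).map π) hA) : _ ≤ _)
            ⟨⟨a, h𝒜G A hA ha⟩, ha, rfl⟩
        obtain ⟨b, hb, hbj⟩ := hle hj
        rwa [show b = j from Subtype.ext hbj] at hb
      · rintro _ ⟨A, hA, rfl⟩
        exact Subgroup.map_mono (Subgroup.comap_mono ((le_sSup hA).trans hJ.ge))
    · rintro _ ⟨A, hA, rfl⟩
      exact (h𝒜 A hA).restrict (h𝒜G A hA) hW

end CfsgLib.PLocal.FactorFour
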