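import Cfsg.Agent.Lib.PLocal.FactorFour

/-!
Abelian `2`-groups `V` without a section `S₃` in the acting group: the group is generated by the
stabilizer of a point fixed by a Sylow subgroup and the normalizer of a weakly closed subgroup
generated by offenders. Part two: no offender in the minimal case.
-/

set_option autoImplicit false
set_option linter.style.haveILetI false
set_option linter.unusedVariables false
set_option linter.unusedSectionVars false

universe u

namespace CfsgLib.PLocal.FactorFour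

open Subgroup CfsgLib.Fusion CfsgLib.Fusion.Offender

variable {V : Type u} [CommGroup V] [Finite V]

/-- The core of `M` in `G`. -/
theorem exists_core {G : Subgroup (MulAut V)} (M : Subgroup (MulAut V)) :
    ∃ N : Subgroup (MulAut V), N ≤ M ∧ (∀ g ∈ G, conjSub g N = N) ∧
      ∀ e, (∀ k ∈ G, e ∈ conjSub k M) → e ∈ N := by
  refine ⟨
    { carrier := {e | ∀ k, k ∈ G → e ∈ conjSub k M}
      one_mem' := fun k _ => Subgroup.one_mem _
      mul_mem' := fun {a b} ha hb k hk => Subgroup.mul_mem _ (ha k hk) (hb k hk)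
      inv_mem' := fun {a} ha k hk => Subgroup.inv_mem _ (ha k hk) },
    fun e he => ?_, fun g hg => ?_, fun e he => he⟩
  · have h := he 1 G.one_mem
    rwa [conjSub_one] at h
  · refine Subgroup.eq_of_le_of_card_ge ?_ (Nat.le_of_eq (card_conjSub g _).symm)
    intro m hm k hk
    obtain ⟨e, he, hem⟩ := Subgroup.mem_map.1 hm
    have h := conj_mem_conjSub (g := g) (he (g⁻¹ * k) (G.mul_mem (G.inv_mem hg) hk))
    rw [← conjSub_mul, mul_inv_cancel_left] at h
    rw [← hem]
    exact h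

section Main

variable {G S J : Subgroup (MulAut V)} {x : V} (hV : IsPGroup 2 V)
  (hx2 : ∀ g ∈ G, g (x * x) = x * x) (hfree : NoThree G)
  (hSG : S ≤ G) (hS : IsPGroup 2 S) (hidx : ¬ 2 ∣ S.relIndex G) (hSx : ∀ g ∈ S, g x = x)
  (hgen : Subgroup.closure ((fun g : MulAut V => g x) '' (G : Set (MulAut V))) = ⊤)
  (hMne : genSub G J x ≠ G)
  {n : ℕ} (hcard : Nat.card G + Nat.card V ≤ n + 1) (ih : GenGoal.{u} n)
  (hJS : J ≤ S) (hJw : ∀ g ∈ G, conjSub g J ≤ S → conjSub g J = J)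
  (hJgen : ∃ 𝒜 : Set (Subgroup (MulAut V)), J = sSup 𝒜 ∧ ∀ A ∈ 𝒜, Good A)

include hV hx2 hfree hSG hS hidx hSx hgen hMne hcard ih hJS hJw hJgen

set_option maxHeartbeats 1000000 in
theorem no_offender (hoff : ∃ A, A ≤ G ∧ IsOff A) : False := by
  haveI : Fact (Nat.Prime 2) := ⟨Nat.prime_two⟩
  obtain ⟨B, hB, hBS, hover⟩ :=
    overgroup_le_genSub hV hx2 hfree hSG hS hidx hSx hgen hMne hcard ih hJS hJw hJgen hoff
  obtain ⟨A₀, hA₀G, hA₀⟩ := hoff
  set M := genSub G J x with hM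
  have hMG : M ≤ G := genSub_le G J x
  have hSM : S ≤ M := sylow_le_genSub hV hx2 hfree hSG hS hidx hSx hgen hMne hcard ih hJS hJw hJgen
  have hBG : B ≤ G := hBS.trans hSG
  have hcore := fun (N : Subgroup (MulAut V)) (h1 : N ≤ M) (h2 : ∀ g ∈ G, conjSub g N = N) =>
    inf_eq_bot_of_normal hV hx2 hfree hSG hS hidx hSx hgen hMne hcard ih hJS hJw hJgen h1 h2
  have hself := normalizer_genSub_le hV hx2 hfree hSG hS hidx hSx hgen hMne hcard ih hJS hJw hJgen
  have hxgen : ∀ g : MulAut V, (∀ k ∈ G, g (k x) = k x) → g = 1 := fun g hg =>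
    eq_one_of_fixes_closure hgen (by
      rintro _ ⟨k, hk, rfl⟩
      exact hg k hk)
  have hnorm1 : ∀ N : Subgroup (MulAut V), N ≤ G → (∀ g ∈ G, conjSub g N = N) →
      (∀ k ∈ N, k x = x) → N = ⊥ := fun N hNG hn hfix => by
    refine (Subgroup.eq_bot_iff_forall _).2 fun m hm => hxgen m fun k hk => ?_
    have h1 : k⁻¹ * m * k⁻¹⁻¹ ∈ N := (hn k⁻¹ (G.inv_mem hk)).le (conj_mem_conjSub hm)
    have h2 := congrArg k (hfix _ h1)
    rw [inv_inv, MulAut.mul_apply, MulAut.mul_apply, MulAut.apply_inv_self] at h2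
    exact h2
  have hO2 : ∀ N : Subgroup (MulAut V), N ≤ G → IsPGroup 2 N → (∀ g ∈ G, conjSub g N = N) →
      N = ⊥ := fun N hNG hN hn => by
    refine hnorm1 N hNG hn fun k hk => ?_
    obtain ⟨g, hg, hgN⟩ := exists_conj_le_of_sylow hS hSG hidx hN hNG
    exact hSx k (hgN ((hn g hg).ge hk))
  let P : Subgroup (MulAut V) → Prop := fun B => IsMinOff B
  have hPc : ∀ (g : MulAut V) B, P B → P (conjSub g B) := fun g B h => IsMinOff.conjSub h g
  -- a conjugate generating `G` with `B`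
  have hgen2 : ∀ h ∈ G, ¬ conjSub h B ≤ M → B ⊔ conjSub h B = G := by
    intro h hh hnot
    by_contra hne
    refine hnot (le_sup_right.trans (hover B hB (hBS.trans hSM) _ le_sup_left (sup_le hBG ?_) hne))
    rintro _ ⟨b, hb, rfl⟩
    exact G.mul_mem (G.mul_mem hh (hBG hb)) (G.inv_mem hh)
  obtain ⟨g, hg, hgM⟩ : ∃ g ∈ G, ¬ conjSub g B ≤ M := by
    by_contra hall
    push Not at hall
    set N := ⨆ g : G, conjSub (g : MulAut V) B with hN
    have hNM : N ≤ M := iSup_le fun g => hall g g.2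
    have hNn : ∀ k ∈ G, conjSub k N = N := fun k hk => by
      refine Subgroup.eq_of_le_of_card_ge ?_ (card_conjSub k N).ge
      rw [conjSub, hN, Subgroup.map_iSup]
      refine iSup_le fun g => ?_
      show conjSub k (conjSub (g : MulAut V) B) ≤ _
      rw [← conjSub_mul]
      exact le_iSup (fun g : G => conjSub (g : MulAut V) B) ⟨k * g, G.mul_mem hk g.2⟩
    refine hB.1.2.2.1 (le_bot_iff.1 (hcore N hNM hNn ▸ le_inf ?_ hBS))
    have := le_iSup (fun g : G => conjSub (g : MulAut V) B) ⟨1, G.one_mem⟩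
    rwa [conjSub_one] at this
  -- the fixed points of the elements of odd order
  set G₀ := Subgroup.closure {g : MulAut V | g ∈ G ∧ Odd (orderOf g)} with hG₀
  set F := fixOf G₀ with hF
  have hG₀G : G₀ ≤ G := (Subgroup.closure_le _).2 fun k hk => hk.1
  have hFinv : ∀ k ∈ G, F.map k.toMonoidHom = F := by
    intro k hk
    rw [hF, ← fixOf_conjSub]
    congr 1
    refine Subgroup.eq_of_le_of_card_ge ?_ (card_conjSub k G₀).ge
    refine Subgroup.map_le_iff_le_comap.2 ((Subgroup.closure_le _).2 fun l hl => ?_)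
    refine Subgroup.subset_closure ⟨G.mul_mem (G.mul_mem hk hl.1) (G.inv_mem hk), ?_⟩
    show Odd (orderOf ((MulAut.conj k).toMonoidHom l))
    rw [orderOf_injective _ (MulAut.conj k).injective]
    exact hl.2
  have hodd : ∀ l ∈ G, Odd (orderOf l) → ∀ v : V, l v * v⁻¹ ∈ F → l v = v := by
    intro l hl ho v hv
    have hfix := hv l (Subgroup.subset_closure ⟨hl, ho⟩)
    set f := l v * v⁻¹ with hf
    have hpow : ∀ i : ℕ, (l ^ i) v = f ^ i * v := by
      intro i
      induction i with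
      | zero => simp
      | succ i ihi =>
        rw [pow_succ', MulAut.mul_apply, ihi, map_mul, map_pow, hfix, pow_succ, mul_assoc]
        congr 1
        rw [hf, inv_mul_cancel_right]
    have h1 := hpow (orderOf l)
    rw [pow_orderOf_eq_one, MulAut.one_apply, right_eq_mul] at h1
    obtain ⟨j, hj⟩ := hV f
    have h3 := Nat.dvd_gcd (orderOf_dvd_of_pow_eq_one h1) (orderOf_dvd_of_pow_eq_one hj)
    rw [((Nat.coprime_two_right.2 ho).pow_right j).gcd_eq_one] at h3
    exact mul_inv_eq_one.1 (hf ▸ orderOf_eq_one_iff.1 (Nat.dvd_one.1 h3))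
  have hfaith : ∀ k ∈ G, (∀ v : V, k v * v⁻¹ ∈ F) → k = 1 := by
    set N : Subgroup (MulAut V) :=
      { carrier := {k | k ∈ G ∧ ∀ v : V, k v * v⁻¹ ∈ F}
        one_mem' := ⟨G.one_mem, fun v => by simp⟩
        mul_mem' := fun {k l} hk hl => ⟨G.mul_mem hk.1 hl.1, fun v => by
          have := F.mul_mem (hk.2 (l v)) (hl.2 v)
          rwa [mul_assoc, inv_mul_cancel_left] at this⟩
        inv_mem' := fun {k} hk => ⟨G.inv_mem hk.1, fun v => by
          have := F.inv_mem (hk.2 (k⁻¹ v))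
          rwa [MulAut.apply_inv_self, mul_inv_rev, inv_inv] at this⟩ }
    have hNn : ∀ g ∈ G, conjSub g N = N := fun g hg => by
      refine Subgroup.eq_of_le_of_card_ge ?_ (card_conjSub g N).ge
      rintro _ ⟨k, hk, rfl⟩
      refine ⟨G.mul_mem (G.mul_mem hg hk.1) (G.inv_mem hg), fun v => ?_⟩
      show g (k (g⁻¹ v)) * v⁻¹ ∈ F
      rw [show g (k (g⁻¹ v)) * v⁻¹ = g (k (g⁻¹ v) * (g⁻¹ v)⁻¹) by
        rw [map_mul, map_inv, MulAut.apply_inv_self]]
      exact (hFinv g hg).le ⟨_, hk.2 _, rfl⟩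
    have hN2 : IsPGroup 2 N := by
      intro k
      obtain ⟨i, l, hl, hk⟩ := Nat.exists_eq_two_pow_mul_odd (orderOf_pos k).ne'
      refine ⟨i, Subtype.ext ?_⟩
      show ((k ^ 2 ^ i : N) : MulAut V) = 1
      have ho : Odd (orderOf ((k ^ 2 ^ i : N) : MulAut V)) := by
        rw [Subgroup.orderOf_coe, orderOf_pow_of_dvd (by positivity) (hk ▸ Dvd.intro _ rfl), hk,
          Nat.mul_div_cancel_left _ (by positivity)]
        exact hl
      exact MulEquiv.ext fun v => hodd _ (k ^ 2 ^ i : N).2.1 ho v ((k ^ 2 ^ i : N).2.2 v)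
    intro k hk hkv
    exact Subgroup.mem_bot.1 (hO2 N (fun k hk => hk.1) hN2 hNn ▸ (⟨hk, hkv⟩ : k ∈ N))
  -- the fixed points of `G` modulo `F`
  have hfixG : ∀ v : V, (∀ k ∈ G, k v * v⁻¹ ∈ F) → v ∈ F := fun v hv => by
    refine fun k hk => ?_
    have hle : G₀ ≤ stabElt v := (Subgroup.closure_le _).2 fun l hl => hodd l hl.1 hl.2 v (hv l hl.1)
    exact hle hk
  set C := fixOf B with hC
  set Cp := fixMod F B with hCp
  have hquad : ∀ v : V, ∀ d ∈ B, d v * v⁻¹ ∈ C := IsMinOff.quadratic hV hB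
  have hFB : ∀ b ∈ B, ∀ f ∈ F, b f ∈ F := fun b hb f hf =>
    (hFinv b (hBG hb)).le ⟨f, hf, rfl⟩
  have hFCp : F ≤ Cp := fun f hf b hb => F.mul_mem (hFB b hb f hf) (F.inv_mem hf)
  have hxC : x ∈ C := fun b hb => hSx b (hBS hb)
  have hnormM : ∀ h ∈ G, conjSub h B ≤ M → conjSub h M = M := by
    intro h hhG hhM
    have hMn : conjSub h M ≤ M := by
      refine hover _ (hPc h B hB) hhM _ (conjSub_mono (hBS.trans hSM)) ?_ ?_
      · rintro _ ⟨m, hm, rfl⟩
        exact G.mul_mem (G.mul_mem hhG (hMG hm)) (G.inv_mem hhG)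
      · intro he
        exact hMne (Subgroup.eq_of_le_of_card_ge hMG (by rw [← card_conjSub h M, he]))
    exact Subgroup.eq_of_le_of_card_ge hMn (card_conjSub h M).ge
  -- two conjugates with a common fixed point outside `F` have the same maximal overgroup
  have hconjeq : ∀ g₁ ∈ G, ∀ g₂ ∈ G, ∀ v, v ∉ F → v ∈ fixMod F (conjSub g₁ B) →
      v ∈ fixMod F (conjSub g₂ B) → conjSub g₁ M = conjSub g₂ M := by
    intro g₁ hg₁ g₂ hg₂ v hv h1 h2
    set h := g₁⁻¹ * g₂ with hh
    have hhG : h ∈ G := G.mul_mem (G.inv_mem hg₁) hg₂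
    by_cases hhM : conjSub h B ≤ M
    · calc conjSub g₁ M = conjSub g₁ (conjSub h M) := by rw [hnormM h hhG hhM]
        _ = conjSub g₂ M := by rw [← conjSub_mul, hh, mul_inv_cancel_left]
    · exfalso
      refine hv (hfixG v fun k hk => ?_)
      rw [← hgen2 h hhG hhM] at hk
      have h3 : conjSub g₁ (B ⊔ conjSub h B) = conjSub g₁ B ⊔ conjSub g₂ B := by
        rw [conjSub, Subgroup.map_sup]
        show conjSub g₁ B ⊔ conjSub g₁ (conjSub h B) = _
        congr 1
        rw [← conjSub_mul, hh, mul_inv_cancel_left]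
      have hkG : k ∈ G := by rwa [← hgen2 h hhG hhM]
      have hk' : g₁ * (g₁⁻¹ * k * g₁) * g₁⁻¹ ∈ conjSub g₁ (B ⊔ conjSub h B) := by
        refine conj_mem_conjSub ?_
        rw [hgen2 h hhG hhM]
        exact G.mul_mem (G.mul_mem (G.inv_mem hg₁) hkG) hg₁
      rw [h3, show g₁ * (g₁⁻¹ * k * g₁) * g₁⁻¹ = k by group] at hk'
      let St : Subgroup (MulAut V) :=
        { carrier := {k | k ∈ G ∧ k v * v⁻¹ ∈ F}
          one_mem' := ⟨G.one_mem, by simp⟩
          mul_mem' := fun {k l} hk hl => ⟨G.mul_mem hk.1 hl.1, by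
            have e : (k * l) v * v⁻¹ = k (l v * v⁻¹) * (k v * v⁻¹) := by
              rw [map_mul, map_inv, MulAut.mul_apply, mul_assoc, inv_mul_cancel_left]
            rw [e]
            exact F.mul_mem ((hFinv k hk.1).le ⟨_, hl.2, rfl⟩) hk.2⟩
          inv_mem' := fun {k} hk => ⟨G.inv_mem hk.1, by
            have e : k⁻¹ v * v⁻¹ = k⁻¹ ((k v * v⁻¹)⁻¹) := by
              rw [map_inv, map_mul, map_inv, MulAut.inv_apply_self, mul_inv_rev, inv_inv]
            rw [e]
            exact (hFinv k⁻¹ (G.inv_mem hk.1)).le ⟨_, F.inv_mem hk.2, rfl⟩⟩ }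
      have hle : conjSub g₁ B ⊔ conjSub g₂ B ≤ St := sup_le
        (fun b hb => ⟨(by
          obtain ⟨a, ha, rfl⟩ := hb
          exact G.mul_mem (G.mul_mem hg₁ (hBG ha)) (G.inv_mem hg₁)), h1 b hb⟩)
        (fun b hb => ⟨(by
          obtain ⟨a, ha, rfl⟩ := hb
          exact G.mul_mem (G.mul_mem hg₂ (hBG ha)) (G.inv_mem hg₂)), h2 b hb⟩)
      exact (hle hk').2
  have hCp' : ∀ k ∈ G, fixMod F (conjSub k B) = Cp.map k.toMonoidHom := fun k hk =>
    fixMod_conjSub (hFinv k hk) B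
  have hgB : ∀ h ∈ G, h x ∈ fixOf (conjSub h B) := fun h hh => by
    rw [fixOf_conjSub]; exact ⟨x, hxC, rfl⟩
  -- for `h` moving `B` out of `M`, `V` is `Cp ⊔ Cp^h`
  have hsum : ∀ h ∈ G, ¬ conjSub h B ≤ M →
      Cp ⊔ fixMod F (conjSub h B) = ⊤ ∧ Cp ⊓ fixMod F (conjSub h B) = F := by
    intro h hh hnot
    set C₂ := fixMod F (conjSub h B) with hC₂
    have hinv : ∀ k ∈ G, ∀ v ∈ Cp ⊔ C₂, k v ∈ Cp ⊔ C₂ := by
      intro k hk
      rw [← hgen2 h hh hnot] at hk
      have hquad₂ : ∀ b ∈ conjSub h B, ∀ v : V, b v * v⁻¹ ∈ C₂ := fun b hb v =>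
        fixOf_le_fixMod F _ (IsMinOff.quadratic hV (hPc h B hB) v b hb)
      have hboth : B ⊔ conjSub h B ≤ Subgroup.closure ((B : Set (MulAut V)) ∪ conjSub h B) := by
        rw [Subgroup.closure_union, Subgroup.closure_eq, Subgroup.closure_eq]
      have hk' := hboth hk
      clear hk
      induction hk' using Subgroup.closure_induction with
      | mem b hb =>
        intro v hv
        rcases hb with hb | hb
        · have := Subgroup.mul_mem _ (Subgroup.mem_sup_left (fixOf_le_fixMod F B (hquad v b hb)) :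
            b v * v⁻¹ ∈ Cp ⊔ C₂) hv
          rwa [inv_mul_cancel_right] at this
        · have := Subgroup.mul_mem _ (Subgroup.mem_sup_right (hquad₂ b hb v) :
            b v * v⁻¹ ∈ Cp ⊔ C₂) hv
          rwa [inv_mul_cancel_right] at this
      | one => exact fun v hv => hv
      | mul a b _ _ ha hb => exact fun v hv => ha _ (hb v hv)
      | inv a _ ha =>
        intro v hv
        have hm : (Cp ⊔ C₂).map a.toMonoidHom = Cp ⊔ C₂ :=
          Subgroup.eq_of_le_of_card_ge (by rintro _ ⟨w, hw, rfl⟩; exact ha w hw)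
            (Subgroup.card_map_of_injective a.injective).ge
        obtain ⟨w, hw, hwv⟩ := hm.ge hv
        rw [← hwv]
        show a⁻¹ (a w) ∈ _
        rwa [MulAut.inv_apply_self]
    refine ⟨top_le_iff.1 (hgen.ge.trans ((Subgroup.closure_le _).2 ?_)), le_antisymm (fun v hv => ?_)
      (le_inf hFCp fun f hf b hb => ?_)⟩
    · rintro _ ⟨k, hk, rfl⟩
      exact hinv k hk x (Subgroup.mem_sup_left (fixOf_le_fixMod F B hxC))
    · by_contra hvF
      have h1 : v ∈ fixMod F (conjSub 1 B) := by rw [conjSub_one]; exact hv.1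
      have h2 := hconjeq 1 G.one_mem h hh v hvF h1 hv.2
      rw [conjSub_one] at h2
      exact hnot (by rw [h2]; exact conjSub_mono (hBS.trans hSM))
    · obtain ⟨a, ha, rfl⟩ := hb
      have hm : MulAut.conj h a ∈ G := G.mul_mem (G.mul_mem hh (hBG ha)) (G.inv_mem hh)
      exact F.mul_mem ((hFinv _ hm).le ⟨f, hf, rfl⟩) (F.inv_mem hf)
  obtain ⟨hsup, hinf⟩ := hsum g hg hgM
  set Cg := fixMod F (conjSub g B) with hCg
  have hxF : x ∉ F := fun hxF => by
    refine hA₀.2.2.1 (le_bot_iff.1 (hA₀G.trans (hO2 G le_rfl (fun k => ?_)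
      fun k hk => Subgroup.mem_normalizer_iff_map_conj_eq.1 (Subgroup.le_normalizer hk)).le))
    obtain ⟨i, l, hl, hk⟩ := Nat.exists_eq_two_pow_mul_odd (orderOf_pos k).ne'
    refine ⟨i, Subtype.ext ?_⟩
    show ((k ^ 2 ^ i : G) : MulAut V) = 1
    have ho : Odd (orderOf ((k ^ 2 ^ i : G) : MulAut V)) := by
      rw [Subgroup.orderOf_coe, orderOf_pow_of_dvd (by positivity) (hk ▸ Dvd.intro _ rfl), hk,
        Nat.mul_div_cancel_left _ (by positivity)]
      exact hl
    refine hxgen _ fun m hm => ?_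
    exact ((hFinv m hm).le ⟨x, hxF, rfl⟩ : m x ∈ F) _
      (Subgroup.subset_closure ⟨(k ^ 2 ^ i : G).2, ho⟩)
  -- `B` moves every element of `Cg` outside `F`
  have hmove : ∀ y ∈ Cg, y ∉ F → ∀ e ∈ B, e y * y⁻¹ ∈ F → e = 1 := by
    intro y hy hyF e he hey
    obtain ⟨N, hNM, hNn, hNe⟩ := exists_core (G := G) M
    suffices h : e ∈ N by exact Subgroup.mem_bot.1 ((hcore N hNM hNn).le ⟨h, hBS he⟩)
    refine hNe e fun k hk => ?_
    show e ∈ conjSub k M
    by_cases hkM : conjSub k B ≤ M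
    · rw [hnormM k hk hkM]
      exact hSM (hBS he)
    · obtain ⟨hs, hi⟩ := hsum k hk hkM
      obtain ⟨a, ha, b, hb, hab⟩ := Subgroup.mem_sup.1 (hs.ge (Subgroup.mem_top y))
      have hbF : b ∉ F := fun hbF => hyF (hinf.le ⟨hab ▸ Cp.mul_mem ha (hFCp hbF), hy⟩)
      have heb : e b * b⁻¹ ∈ F := by
        have h1 := F.mul_mem hey (F.inv_mem (ha e he))
        rw [← hab, map_mul, mul_inv, mul_mul_mul_comm, mul_comm (e a * a⁻¹), mul_inv_cancel_right] at h1
        exact h1
      have hek : e * k ∈ G := G.mul_mem (hBG he) hk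
      have heb' : e b ∈ fixMod F (conjSub k B) := by
        have := (fixMod F (conjSub k B)).mul_mem ((hsum k hk hkM).2.ge heb).2 hb
        rwa [inv_mul_cancel_right] at this
      have hb' : e b ∈ fixMod F (conjSub (e * k) B) := by
        rw [conjSub_mul, fixMod_conjSub (hFinv e (hBG he))]
        exact ⟨b, hb, rfl⟩
      have hebF : e b ∉ F := fun h => hbF <| by
        have := F.mul_mem (F.inv_mem heb) h
        rwa [mul_inv_rev, inv_inv, mul_assoc, inv_mul_cancel, mul_one] at this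
      have := hconjeq k hk (e * k) hek (e b) hebF heb' hb'
      have h1 : conjSub (k⁻¹ * (e * k)) M = M := by
        rw [conjSub_mul, ← this, ← conjSub_mul, inv_mul_cancel, conjSub_one]
      have h2 := hself ⟨G.mul_mem (G.inv_mem hk) hek, Subgroup.mem_normalizer_iff_map_conj_eq.2 h1⟩
      have h3 := conj_mem_conjSub (g := k) h2
      simpa [mul_assoc] using h3
  -- an element of `Cp` moved by a conjugate
  have hFne : x ∉ Cg := fun hxg => hgM <| by
    have h2 := hconjeq 1 G.one_mem g hg x hxF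
      (by rw [conjSub_one]; exact fixOf_le_fixMod F B hxC) hxg
    rw [conjSub_one] at h2
    rw [h2]
    exact conjSub_mono (hBS.trans hSM)
  obtain ⟨b, hb, hbx⟩ : ∃ b ∈ conjSub g B, b x * x⁻¹ ∉ F := by
    by_contra hall
    push Not at hall
    exact hFne hall
  have hxCp : x ∈ Cp := fixOf_le_fixMod F B hxC
  set y := b x * x⁻¹ with hy
  have hyg : y ∈ Cg := fixOf_le_fixMod F _ (IsMinOff.quadratic hV (hPc g B hB) x b hb)
  -- the map `c ↦ [y, c]` onto `Cp / F`
  have hcard2 : Nat.card Cp ≤ Nat.card B * Nat.card F := by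
    have hCg_card : Nat.card Cg = Nat.card Cp := by
      rw [hCg, hCp' g hg, Subgroup.card_map_of_injective g.injective]
    have h1 := Subgroup.card_mul_index (F.subgroupOf Cg)
    have h2 := Subgroup.card_mul_index (Cp.subgroupOf (Cp ⊔ Cg))
    rw [Nat.card_congr (Subgroup.subgroupOfEquivOfLe (show F ≤ Cg from hinf ▸ inf_le_right)).toEquiv] at h1
    rw [Nat.card_congr (Subgroup.subgroupOfEquivOfLe (le_sup_left : Cp ≤ Cp ⊔ Cg)).toEquiv,
      hsup, Subgroup.card_top] at h2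
    have h3 : F.relIndex Cg = Cp.relIndex (⊤ : Subgroup V) := by
      conv_lhs => rw [← hinf]
      rw [Subgroup.inf_relIndex_right, ← hsup, Subgroup.relIndex_sup_left]
    rw [Subgroup.relIndex, Subgroup.relIndex] at h3
    have h4 : Nat.card V ≤ Nat.card B * Nat.card Cp :=
      hB.1.2.2.2.trans (Nat.mul_le_mul le_rfl (Subgroup.card_le_of_le (fixOf_le_fixMod F B)))
    rw [← h2, ← h3, mul_comm (Nat.card B) (Nat.card Cp)] at h4
    have h5 := Nat.le_of_mul_le_mul_left h4 Nat.card_pos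
    rw [← hCg_card, ← h1, mul_comm]
    exact Nat.mul_le_mul h5 le_rfl
  obtain ⟨c, hc, hcy⟩ : ∃ c ∈ B, c y * y⁻¹ * x⁻¹ ∈ F := by
    let ψ : B → Cp ⧸ F.subgroupOf Cp := fun c =>
      QuotientGroup.mk ⟨(c : MulAut V) y * y⁻¹, fixOf_le_fixMod F B (hquad y c c.2)⟩
    have hψ : Function.Injective ψ := fun c d hcd => by
      have h1 := QuotientGroup.eq.1 hcd
      rw [Subgroup.mem_subgroupOf] at h1
      refine Subtype.ext (inv_mul_eq_one.1 (hmove y hyg hbx _ (B.mul_mem (B.inv_mem c.2) d.2) ?_))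
      have h2 : ((c : MulAut V) y * y⁻¹)⁻¹ * ((d : MulAut V) y * y⁻¹) ∈ F := h1
      rw [mul_inv_rev, inv_inv, mul_comm y, mul_assoc, mul_comm ((d : MulAut V) y) y⁻¹,
        mul_inv_cancel_left] at h2
      have h3 := hFB _ (B.inv_mem c.2) _ h2
      rw [map_mul, map_inv, MulAut.inv_apply_self] at h3
      rw [MulAut.mul_apply, mul_comm]
      exact h3
    have hq : Nat.card (Cp ⧸ F.subgroupOf Cp) ≤ Nat.card B := by
      have h1 := Subgroup.card_mul_index (F.subgroupOf Cp)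
      rw [Nat.card_congr (Subgroup.subgroupOfEquivOfLe hFCp).toEquiv, Subgroup.index_eq_card] at h1
      rw [← h1, mul_comm (Nat.card B)] at hcard2
      exact Nat.le_of_mul_le_mul_left hcard2 Nat.card_pos
    haveI : Fintype B := Fintype.ofFinite _
    haveI : Fintype (Cp ⧸ F.subgroupOf Cp) := Fintype.ofFinite _
    have hbij : Function.Bijective ψ := (Fintype.bijective_iff_injective_and_card ψ).2
      ⟨hψ, le_antisymm (Fintype.card_le_of_injective ψ hψ)
        (by rwa [← Nat.card_eq_fintype_card, ← Nat.card_eq_fintype_card])⟩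
    obtain ⟨c, hc⟩ := hbij.2 (QuotientGroup.mk ⟨x, hxCp⟩)
    refine ⟨c, c.2, ?_⟩
    have h1 := QuotientGroup.eq.1 hc
    rw [Subgroup.mem_subgroupOf] at h1
    have h2 : ((c : MulAut V) y * y⁻¹)⁻¹ * x ∈ F := h1
    have h3 := F.inv_mem h2
    rwa [mul_inv_rev, inv_inv, mul_comm x⁻¹] at h3
  -- the symmetric group of degree three on `U / F`
  have hbG : b ∈ G := by
    obtain ⟨a, ha, rfl⟩ := hb
    exact G.mul_mem (G.mul_mem hg (hBG ha)) (G.inv_mem hg)
  have hcG := hBG hc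
  let q := QuotientGroup.mk' F
  have hq : ∀ {s t : V}, q s = q t ↔ s * t⁻¹ ∈ F := fun {s t} => by
    rw [← mul_inv_eq_one, ← map_inv, ← map_mul]
    exact QuotientGroup.eq_one_iff _
  have hqF : ∀ (k : MulAut V), k ∈ G → ∀ s t, q s = q t → q (k s) = q (k t) := fun k hk s t h => by
    rw [hq] at h ⊢
    rw [← map_inv, ← map_mul]
    exact (hFinv k hk).le ⟨_, h, rfl⟩
  have hsq : ∀ v : V, v * v ∈ F := fun v k hk => by
    have hle : (⊤ : Subgroup V) ≤ (fixOf G).comap (powMonoidHom 2) := by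
      rw [← hgen, Subgroup.closure_le]
      rintro _ ⟨m, hm, rfl⟩ l hl
      show l (m x ^ 2) = m x ^ 2
      rw [pow_two, ← map_mul, hx2 m hm, hx2 l hl]
    have h := hle (Subgroup.mem_top v) k (hG₀G hk)
    rwa [show (powMonoidHom 2 : V →* V) v = v * v from pow_two v] at h
  have hqs : ∀ v, q (v * v) = 1 := fun v => (QuotientGroup.eq_one_iff _).2 (hsq v)
  have hcx : c x = x := hxC c hc
  have hby : q (b y) = q y := hq.2 (hyg b hb)
  have hcy' : q (c y) = q (y * x) := hq.2 (by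
    rw [mul_inv, ← mul_assoc]
    exact hcy)
  have hbx' : q (b x) = q (y * x) := by rw [hy, inv_mul_cancel_right]
  set l := c * b with hl
  have hlG : l ∈ G := G.mul_mem hcG hbG
  have hlx : q (l x) = q y := by
    rw [hl, MulAut.mul_apply, hqF c hcG _ _ hbx', map_mul, map_mul, hcy', hcx, map_mul, mul_assoc,
      ← map_mul q x x, hqs, mul_one]
  have hly : q (l y) = q (y * x) := by rw [hl, MulAut.mul_apply, hqF c hcG _ _ hby, hcy']
  have hlyx : q (l (y * x)) = q x := by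
    rw [map_mul, map_mul, hlx, hly, map_mul, mul_comm (q y) (q x), mul_assoc, ← map_mul q y y, hqs, mul_one]
  set U := F ⊔ Subgroup.closure {x, y} with hU
  have hxU : x ∈ U := Subgroup.mem_sup_right (Subgroup.subset_closure (by simp))
  have hyU : y ∈ U := Subgroup.mem_sup_right (Subgroup.subset_closure (by simp))
  have hmemU : ∀ s t : V, q s = q t → t ∈ U → s ∈ U := fun s t h ht => by
    have := U.mul_mem (Subgroup.mem_sup_left (hq.1 h) : s * t⁻¹ ∈ U) ht
    rwa [inv_mul_cancel_right] at this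
  have hpres : ∀ k ∈ G, k x ∈ U → k y ∈ U → ∀ u ∈ U, k u ∈ U := fun k hk h1 h2 => by
    have hle : U ≤ U.comap k.toMonoidHom := sup_le
      (fun f hf => Subgroup.mem_sup_left ((hFinv k hk).le ⟨f, hf, rfl⟩))
      ((Subgroup.closure_le _).2 (by rintro s (rfl | rfl) <;> assumption))
    exact fun u hu => hle hu
  have htriv : ∀ k ∈ G, q (k x) = q x → q (k y) = q y → ∀ u ∈ U, k u * u⁻¹ ∈ F := by
    intro k hk h1 h2
    have hle : U ≤ (q.comp k.toMonoidHom).eqLocus q := sup_le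
      (fun f hf => by
        show q (k f) = q f
        exact hq.2 (F.mul_mem ((hFinv k hk).le ⟨f, hf, rfl⟩) (F.inv_mem hf)))
      ((Subgroup.closure_le _).2 (by rintro s (rfl | rfl) <;> assumption))
    exact fun u hu => hq.1 (hle hu)
  have hcyU : c y ∈ U := hmemU _ _ hcy' (U.mul_mem hyU hxU)
  have hcc : ∀ u ∈ U, (c * c) u * u⁻¹ ∈ F := htriv _ (G.mul_mem hcG hcG)
    (by rw [MulAut.mul_apply, hcx, hcx]) (by
      rw [MulAut.mul_apply, hqF c hcG _ _ hcy', map_mul, map_mul, hcy', hcx, map_mul, mul_assoc,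
        ← map_mul q x x, hqs, mul_one])
  have hl3 : ∀ u ∈ U, (l ^ 3) u * u⁻¹ ∈ F := by
    refine htriv _ (G.pow_mem hlG 3) ?_ ?_
    · rw [pow_succ, pow_succ, pow_one, MulAut.mul_apply, MulAut.mul_apply,
        hqF l hlG _ _ (hqF l hlG _ _ hlx), hqF l hlG _ _ hly, hlyx]
    · rw [pow_succ, pow_succ, pow_one, MulAut.mul_apply, MulAut.mul_apply,
        hqF l hlG _ _ (hqF l hlG _ _ hly), hqF l hlG _ _ hlyx, hlx]
  have hcinv_x : c⁻¹ x = x := by conv_lhs => rw [← hcx]; rw [MulAut.inv_apply_self]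
  have hcinv_y : q (c⁻¹ y) = q (y * x) := by
    have h1 := hqF c⁻¹ (G.inv_mem hcG) _ _ hcy'
    rw [MulAut.inv_apply_self, map_mul (c⁻¹), hcinv_x] at h1
    rw [map_mul q y x, h1, map_mul q (c⁻¹ y) x, mul_assoc, ← map_mul q x x, hqs, mul_one]
  have hdih : ∀ u ∈ U, (c * l * c⁻¹ * l) u * u⁻¹ ∈ F := by
    refine htriv _ (G.mul_mem (G.mul_mem (G.mul_mem hcG hlG) (G.inv_mem hcG)) hlG) ?_ ?_
    · rw [MulAut.mul_apply, MulAut.mul_apply, MulAut.mul_apply,
        hqF c hcG _ _ (hqF l hlG _ _ (hqF c⁻¹ (G.inv_mem hcG) _ _ hlx)),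
        hqF c hcG _ _ (hqF l hlG _ _ hcinv_y), hqF c hcG _ _ hlyx, hcx]
    · rw [MulAut.mul_apply, MulAut.mul_apply, MulAut.mul_apply,
        hqF c hcG _ _ (hqF l hlG _ _ (hqF c⁻¹ (G.inv_mem hcG) _ _ hly))]
      have h1 : q (c⁻¹ (y * x)) = q y := by
        rw [map_mul, map_mul, hcinv_y, hcinv_x, map_mul, mul_assoc, ← map_mul q x x, hqs,
          mul_one]
      rw [hqF c hcG _ _ (hqF l hlG _ _ h1), hqF c hcG _ _ hly, map_mul, map_mul, hcy', hcx,
        map_mul, mul_assoc, ← map_mul q x x, hqs, mul_one]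
  have hfinal := hfree U F c l hcG hlG le_sup_left (fun u _ => hsq u) (hpres c hcG (hcx.symm ▸ hxU) hcyU)
    (hpres l hlG (hmemU _ _ hlx hyU) (hmemU _ _ hly (U.mul_mem hyU hxU)))
    (fun f hf => (hFinv c hcG).le ⟨f, hf, rfl⟩) (fun f hf => (hFinv l hlG).le ⟨f, hf, rfl⟩)
    hcc hl3 hdih x hxU
  have h1 := hq.2 hfinal
  rw [hlx] at h1
  -- `y ≡ x` puts `y` into `Cp ⊓ Cg = F`
  refine hbx (hinf.le ⟨?_, hyg⟩)
  have h2 := Cp.mul_mem (hFCp (hq.1 h1)) hxCp
  rwa [inv_mul_cancel_right] at h2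


end Main

end CfsgLib.PLocal.FactorFour
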