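import Mathlib

/-!
# Elementary abelian 2-subgroups of maximal order in `GL(V)`, and a transfer criterion

An elementary abelian 2-group acting faithfully on an `n`-dimensional space has order at most
`2 ^ n`; in case of equality it contains `-1` and has commutative centralizer.
A central involution of a Sylow 2-subgroup which is fixed by the normalizer and is sent to `-1`
by a linear character forces a subgroup of index 2.
-/

set_option autoImplicit false

namespace CfsgLib.PLocal

open scoped Pointwise

section Sign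

universe v w

variable {k : Type*} [Field k]

private theorem sign_split (h2 : (2 : k) ≠ 0) {V : Type v} [AddCommGroup V] [Module k V]
    {t : Module.End k V} (ht : t * t = 1) :
    IsCompl (LinearMap.ker (t - 1)) (LinearMap.ker (t + 1)) := by
  have htt : ∀ v, t (t v) = v := fun v => by rw [← Module.End.mul_apply, ht, Module.End.one_apply]
  constructor
  · rw [Submodule.disjoint_def]
    intro v h1 h1'
    rw [LinearMap.mem_ker, LinearMap.sub_apply, Module.End.one_apply, sub_eq_zero] at h1
    rw [LinearMap.mem_ker, LinearMap.add_apply, Module.End.one_apply, h1] at h1'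
    have h : (2 : k) • v = 0 := by rw [two_smul]; exact h1'
    exact (smul_eq_zero.1 h).resolve_left h2
  · rw [codisjoint_iff, eq_top_iff]
    intro v _
    rw [Submodule.mem_sup]
    refine ⟨(2 : k)⁻¹ • (v + t v), ?_, (2 : k)⁻¹ • (v - t v), ?_, ?_⟩
    · rw [LinearMap.mem_ker, LinearMap.sub_apply, Module.End.one_apply, map_smul, map_add, htt,
        add_comm (t v) v, sub_self]
    · rw [LinearMap.mem_ker, LinearMap.add_apply, Module.End.one_apply, map_smul, map_sub, htt,
        ← smul_add]
      simp
    · rw [← smul_add, show v + t v + (v - t v) = (2 : k) • v by rw [two_smul]; abel, smul_smul,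
        inv_mul_cancel₀ h2, one_smul]

/-- Restriction of a representation to an invariant subspace. -/
private def restrictRep {V : Type v} [AddCommGroup V] [Module k V] {E : Type w} [Group E]
    (ρ : E →* Module.End k V) (U : Submodule k V) (h : ∀ e, ∀ u ∈ U, ρ e u ∈ U) :
    E →* Module.End k U where
  toFun e := (ρ e).restrict (h e)
  map_one' := by ext u; simp
  map_mul' a b := by ext u; simp

private theorem restrictRep_apply {V : Type v} [AddCommGroup V] [Module k V] {E : Type w} [Group E]
    (ρ : E →* Module.End k V) (U : Submodule k V) (h : ∀ e, ∀ u ∈ U, ρ e u ∈ U) (e : E) (u : U) :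
    ((restrictRep ρ U h e u : U) : V) = ρ e u := rfl

/-- The faithful representation of the quotient by the kernel. -/
private def faithLift {M : Type*} [Monoid M] {E : Type w} [Group E] (γ : E →* M) : E ⧸ γ.ker →* M :=
  QuotientGroup.lift γ.ker γ le_rfl

private theorem faithLift_mk {M : Type*} [Monoid M] {E : Type w} [Group E] (γ : E →* M) (a : E) :
    faithLift γ (QuotientGroup.mk a) = γ a := rfl

private theorem faithLift_injective {M : Type*} [Monoid M] {E : Type w} [Group E] (γ : E →* M) :
    Function.Injective (faithLift γ) := by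
  intro a b h
  induction a using QuotientGroup.induction_on with
  | H a =>
  induction b using QuotientGroup.induction_on with
  | H b =>
  rw [faithLift_mk, faithLift_mk] at h
  rw [QuotientGroup.eq, MonoidHom.mem_ker, map_mul, ← h, ← map_mul, inv_mul_cancel, map_one]

/-- Elementary abelian 2-groups in `GL(V)`: order bound and the case of equality. -/
theorem signGroup (h2 : (2 : k) ≠ 0) : ∀ (n : ℕ) (V : Type v) [AddCommGroup V] [Module k V]
    [FiniteDimensional k V], Module.finrank k V = n → ∀ (E : Type w) [Group E] [Finite E]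
    (ρ : E →* Module.End k V), Function.Injective ρ → (∀ a : E, a * a = 1) →
    Nat.card E ≤ 2 ^ n ∧ (Nat.card E = 2 ^ n → (∃ e, ρ e = -1) ∧
      ∀ x y : Module.End k V, (∀ e, Commute x (ρ e)) → (∀ e, Commute y (ρ e)) → x * y = y * x) := by
  intro n
  induction n using Nat.strong_induction_on with
  | _ n ih =>
  intro V _ _ _ hn E _ _ ρ hρ hE
  classical
  have := Fintype.ofFinite E
  by_cases hall : ∀ e, ρ e = 1 ∨ ρ e = -1
  · have h12 : Nat.card E ≤ 2 := by
      rw [Nat.card_eq_fintype_card]
      refine (Finset.card_le_card_of_injOn (t := ({1, -1} : Finset (Module.End k V))) ρ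
        (fun e _ => ?_) hρ.injOn).trans Finset.card_le_two
      rw [Finset.mem_coe, Finset.mem_insert, Finset.mem_singleton]
      exact hall e
    rcases Nat.eq_zero_or_pos n with hn0 | hn0
    · have : Subsingleton V := Module.finrank_zero_iff.1 (hn.trans hn0)
      have : Subsingleton E := ⟨fun a b => hρ (Subsingleton.elim _ _)⟩
      exact ⟨by rw [Nat.card_unique, hn0, pow_zero],
        fun _ => ⟨⟨1, Subsingleton.elim _ _⟩, fun x y _ _ => Subsingleton.elim _ _⟩⟩
    have hpow : 2 ≤ 2 ^ n := by
      calc 2 = 2 ^ 1 := rfl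
        _ ≤ 2 ^ n := Nat.pow_le_pow_right (by norm_num) hn0
    refine ⟨h12.trans hpow, fun heq => ?_⟩
    have hn1 : n = 1 := by
      by_contra hne
      have : 2 ^ 2 ≤ 2 ^ n := Nat.pow_le_pow_right (by norm_num) (by omega)
      omega
    subst hn1
    constructor
    · have : Nontrivial E := Finite.one_lt_card_iff_nontrivial.1 (by omega)
      obtain ⟨e, he⟩ := exists_ne (1 : E)
      exact ⟨e, (hall e).resolve_left fun h => he (hρ (by rw [h, map_one]))⟩
    · intro x y _ _
      obtain ⟨v, -, hv⟩ := finrank_eq_one_iff'.1 hn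
      ext w
      obtain ⟨a, ha⟩ := hv (x v)
      obtain ⟨b, hb⟩ := hv (y v)
      obtain ⟨c, rfl⟩ := hv w
      simp only [Module.End.mul_apply, map_smul, ← ha, ← hb, smul_smul]
      rw [mul_comm a b]
  push Not at hall
  obtain ⟨e₀, he1, he2⟩ := hall
  set t := ρ e₀
  have ht : t * t = 1 := by rw [← map_mul, hE, map_one]
  have hcomm : ∀ e, Commute (ρ e) t := by
    intro e
    have hinv : ∀ a : E, a⁻¹ = a := fun a => inv_eq_of_mul_eq_one_right (hE a)
    have : e * e₀ = e₀ * e := by rw [← hinv (e * e₀), mul_inv_rev, hinv, hinv]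
    exact ((map_mul ρ e e₀).symm.trans (congrArg ρ this)).trans (map_mul ρ e₀ e)
  have hmapsU : ∀ x : Module.End k V, Commute x t →
      ∀ u ∈ LinearMap.ker (t - 1), x u ∈ LinearMap.ker (t - 1) := by
    intro x hx u hu
    rw [LinearMap.mem_ker, LinearMap.sub_apply, Module.End.one_apply, sub_eq_zero] at hu ⊢
    rw [← Module.End.mul_apply, ← hx.eq, Module.End.mul_apply, hu]
  have hmapsW : ∀ x : Module.End k V, Commute x t →
      ∀ u ∈ LinearMap.ker (t + 1), x u ∈ LinearMap.ker (t + 1) := by
    intro x hx u hu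
    rw [LinearMap.mem_ker, LinearMap.add_apply, Module.End.one_apply] at hu ⊢
    rw [← Module.End.mul_apply, ← hx.eq, Module.End.mul_apply, eq_neg_of_add_eq_zero_left hu,
      map_neg, neg_add_cancel]
  set U := LinearMap.ker (t - 1)
  set W := LinearMap.ker (t + 1)
  have hc : IsCompl U W := sign_split h2 ht
  have hsum : Module.finrank k U + Module.finrank k W = n :=
    hn ▸ Submodule.finrank_add_eq_of_isCompl hc
  have hUn : Module.finrank k U < n := by
    rw [← hn]
    exact Submodule.finrank_lt fun h => he1 (sub_eq_zero.1 (LinearMap.ker_eq_top.1 h))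
  have hWn : Module.finrank k W < n := by
    rw [← hn]
    exact Submodule.finrank_lt fun h => he2 (eq_neg_of_add_eq_zero_left (LinearMap.ker_eq_top.1 h))
  set α := restrictRep ρ U fun e => hmapsU _ (hcomm e)
  set β := restrictRep ρ W fun e => hmapsW _ (hcomm e)
  have hq : ∀ {U' : Type v} [AddCommGroup U'] [Module k U'] (γ : E →* Module.End k U'),
      ∀ a : E ⧸ γ.ker, a * a = 1 := by
    intro U' _ _ γ a
    induction a using QuotientGroup.induction_on with
    | H a => rw [← QuotientGroup.mk_mul, hE, QuotientGroup.mk_one]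
  obtain ⟨hA, hA'⟩ := ih _ hUn U rfl (E ⧸ α.ker) (faithLift α)
    (faithLift_injective α) (hq α)
  obtain ⟨hB, hB'⟩ := ih _ hWn W rfl (E ⧸ β.ker) (faithLift β)
    (faithLift_injective β) (hq β)
  have hext : ∀ x y : Module.End k V, (∀ u ∈ U, x u = y u) → (∀ u ∈ W, x u = y u) → x = y := by
    intro x y hu hw
    ext v
    obtain ⟨u, hu', w, hw', rfl⟩ :=
      Submodule.mem_sup.1 (hc.sup_eq_top.ge (Submodule.mem_top (x := v)))
    rw [map_add, map_add, hu u hu', hw w hw']
  let μ : E → (E ⧸ α.ker) × (E ⧸ β.ker) :=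
    fun e => (QuotientGroup.mk e, QuotientGroup.mk e)
  have hμ : Function.Injective μ := by
    intro a b hab
    have h1 := congrArg (faithLift α) (congrArg Prod.fst hab)
    have h2' := congrArg (faithLift β) (congrArg Prod.snd hab)
    simp only [μ, faithLift_mk] at h1 h2'
    refine hρ (hext _ _ (fun u hu => ?_) fun u hu => ?_)
    · exact congrArg Subtype.val (LinearMap.congr_fun h1 ⟨u, hu⟩)
    · exact congrArg Subtype.val (LinearMap.congr_fun h2' ⟨u, hu⟩)
  have hle := Nat.card_le_card_of_injective μ hμ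
  rw [Nat.card_prod] at hle
  have hmul := Nat.mul_le_mul hA hB
  rw [← pow_add, hsum] at hmul
  refine ⟨hle.trans hmul, fun heq => ?_⟩
  have heq' : Nat.card (E ⧸ α.ker) * Nat.card (E ⧸ β.ker) = 2 ^ n := le_antisymm hmul (heq ▸ hle)
  have hAe : Nat.card (E ⧸ α.ker) = 2 ^ Module.finrank k U := by
    refine le_antisymm hA (Nat.le_of_mul_le_mul_right (c := 2 ^ Module.finrank k W) ?_ (Nat.two_pow_pos _))
    rw [← pow_add, hsum, ← heq']
    exact Nat.mul_le_mul_left _ hB
  have hBe : Nat.card (E ⧸ β.ker) = 2 ^ Module.finrank k W := by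
    refine le_antisymm hB (Nat.le_of_mul_le_mul_left (c := 2 ^ Module.finrank k U) ?_ (Nat.two_pow_pos _))
    rw [← pow_add, hsum, ← heq']
    exact Nat.mul_le_mul_right _ hA
  obtain ⟨⟨a, ha⟩, hcU⟩ := hA' hAe
  obtain ⟨⟨b, hb⟩, hcW⟩ := hB' hBe
  constructor
  · have : Fintype ((E ⧸ α.ker) × (E ⧸ β.ker)) := Fintype.ofFinite _
    have hbij : Function.Bijective μ := (Fintype.bijective_iff_injective_and_card μ).2 ⟨hμ, by
      rw [← Nat.card_eq_fintype_card, ← Nat.card_eq_fintype_card, Nat.card_prod, heq, heq']⟩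
    obtain ⟨e, he⟩ := hbij.2 (a, b)
    have h1 := congrArg (faithLift α) (congrArg Prod.fst he)
    have h2' := congrArg (faithLift β) (congrArg Prod.snd he)
    simp only [μ, faithLift_mk] at h1 h2'
    rw [ha] at h1; rw [hb] at h2'
    refine ⟨e, hext _ _ (fun u hu => ?_) fun u hu => ?_⟩
    · exact congrArg Subtype.val (LinearMap.congr_fun h1 ⟨u, hu⟩)
    · exact congrArg Subtype.val (LinearMap.congr_fun h2' ⟨u, hu⟩)
  · intro x y hx hy
    have hxt : Commute x t := hx e₀
    have hyt : Commute y t := hy e₀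
    have hU := hcU (x.restrict (hmapsU x hxt)) (y.restrict (hmapsU y hyt))
      (fun e => by
        induction e using QuotientGroup.induction_on with
        | H e => exact LinearMap.ext fun u => Subtype.ext (LinearMap.congr_fun (hx e).eq u.1))
      (fun e => by
        induction e using QuotientGroup.induction_on with
        | H e => exact LinearMap.ext fun u => Subtype.ext (LinearMap.congr_fun (hy e).eq u.1))
    have hW := hcW (x.restrict (hmapsW x hxt)) (y.restrict (hmapsW y hyt))
      (fun e => by
        induction e using QuotientGroup.induction_on with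
        | H e => exact LinearMap.ext fun u => Subtype.ext (LinearMap.congr_fun (hx e).eq u.1))
      (fun e => by
        induction e using QuotientGroup.induction_on with
        | H e => exact LinearMap.ext fun u => Subtype.ext (LinearMap.congr_fun (hy e).eq u.1))
    refine hext _ _ (fun u hu => ?_) fun u hu => ?_
    · exact congrArg Subtype.val (LinearMap.congr_fun hU ⟨u, hu⟩)
    · exact congrArg Subtype.val (LinearMap.congr_fun hW ⟨u, hu⟩)

end Sign

section Transfer

variable {G : Type*} [Group G] [Finite G]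

/-- If a linear character of a Sylow 2-subgroup sends a central involution fixed by the
normalizer to `-1`, then there is a subgroup of index 2. -/
theorem exists_index_two_of_central_sign {F : Type*} [Field F] [Finite F] (h2 : (2 : F) ≠ 0)
    (P : Sylow 2 G) (ψ : (P : Subgroup G) →* Fˣ) {w : G} (hw : w ∈ (P : Subgroup G))
    (hw2 : w * w = 1) (hwc : ∀ x ∈ (P : Subgroup G), x * w = w * x)
    (hN : ∀ g ∈ Subgroup.normalizer ((P : Subgroup G) : Set G), g⁻¹ * w * g = w)
    (hψ : ψ ⟨w, hw⟩ = -1) : ∃ H : Subgroup G, H.index = 2 := by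
  classical
  have : Fintype (G ⧸ (P : Subgroup G)) := Fintype.ofFinite _
  have hneg : (-1 : Fˣ) ≠ 1 := by
    intro h
    have h' := congrArg Units.val h
    push_cast at h'
    exact h2 (by linear_combination -h')
  have hV : MonoidHom.transfer ψ w = -1 := by
    let T : (P : Subgroup G).LeftTransversal := default
    obtain ⟨r, hr⟩ : ∃ r : G ⧸ (P : Subgroup G) → G, r = fun q => (T.2.leftQuotientEquiv q : G) := ⟨_, rfl⟩
    have hrq : ∀ q, (r q : G ⧸ (P : Subgroup G)) = q := by
      intro q
      rw [hr]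
      exact T.2.quotientGroupMk_leftQuotientEquiv q
    have hwinv : w⁻¹ = w := inv_eq_of_mul_eq_one_right hw2
    have hmem : ∀ q, (r q)⁻¹ * (w * r (w • q)) ∈ (P : Subgroup G) := by
      intro q
      rw [← QuotientGroup.eq, hrq, ← smul_eq_mul, ← MulAction.Quotient.smul_mk, hrq, ← mul_smul, hw2,
        one_smul]
    obtain ⟨F₀, hF₀⟩ : ∃ F₀ : G ⧸ (P : Subgroup G) → Fˣ, F₀ = fun q => ψ ⟨(r q)⁻¹ * (w * r (w • q)), hmem q⟩ :=
      ⟨_, rfl⟩
    have hdef : MonoidHom.transfer ψ w = ∏ q, F₀ q := by
      rw [MonoidHom.transfer_def ψ T w, Subgroup.leftTransversals.diff]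
      refine Finset.prod_congr (by ext q; simp) fun q _ => ?_
      rw [hF₀]
      refine congrArg ψ (Subtype.ext ?_)
      show _ * ((w • T).2.leftQuotientEquiv q : G) = (r q)⁻¹ * (w * r (w • q))
      rw [Subgroup.smul_apply_eq_smul_apply_inv_smul, hwinv, smul_eq_mul]
      simp only [hr]
    rw [hdef, ← Finset.prod_filter_mul_prod_filter_not Finset.univ (fun q => w • q = q)]
    have hrest : ∏ q ∈ Finset.univ.filter (fun q => ¬ w • q = q), F₀ q = 1 := by
      refine Finset.prod_involution (fun q _ => w • q) ?_ ?_ ?_ ?_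
      · intro q _
        rw [hF₀, ← map_mul]
        refine (congrArg ψ (Subtype.ext ?_)).trans (map_one ψ)
        simp only [Subgroup.coe_mul, Subgroup.coe_one, ← mul_smul, hw2, one_smul]
        rw [show (r q)⁻¹ * (w * r (w • q)) * ((r (w • q))⁻¹ * (w * r q)) = (r q)⁻¹ * (w * w) * r q by
          group, hw2, mul_one, inv_mul_cancel]
      · intro q hq _
        exact (Finset.mem_filter.1 hq).2
      · intro q hq
        rw [Finset.mem_filter] at hq ⊢
        refine ⟨Finset.mem_univ _, fun h => hq.2 ?_⟩
        rw [← mul_smul, hw2, one_smul] at h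
        exact h.symm
      · intro q _
        rw [← mul_smul, hw2, one_smul]
    rw [hrest, mul_one]
    obtain ⟨S, hS⟩ : ∃ S : Finset (G ⧸ (P : Subgroup G)), S =
        Finset.univ.filter (fun q => w • q = q ∧ F₀ q = -1) := ⟨_, rfl⟩
    have hsq : ∀ q, w • q = q → F₀ q = 1 ∨ F₀ q = -1 := by
      intro q hq
      have h : F₀ q * F₀ q = 1 := by
        rw [hF₀, ← map_mul]
        refine (congrArg ψ (Subtype.ext ?_)).trans (map_one ψ)
        simp only [Subgroup.coe_mul, Subgroup.coe_one, hq]
        rw [show (r q)⁻¹ * (w * r q) * ((r q)⁻¹ * (w * r q)) = (r q)⁻¹ * (w * w) * r q by group,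
          hw2, mul_one, inv_mul_cancel]
      have h' : ((F₀ q : Fˣ) : F) * (F₀ q : Fˣ) = 1 := by rw [← Units.val_mul, h, Units.val_one]
      rcases mul_self_eq_one_iff.1 h' with h1 | h1
      · exact Or.inl (Units.ext h1)
      · exact Or.inr (Units.ext (by rw [h1]; rfl))
    have hprod : ∏ q ∈ Finset.univ.filter (fun q => w • q = q), F₀ q = (-1) ^ S.card := by
      rw [← Finset.prod_filter_mul_prod_filter_not _ (fun q => F₀ q = -1), Finset.filter_filter,
        Finset.filter_filter, ← hS,
        Finset.prod_eq_one (s := Finset.univ.filter _) (fun q hq => ?_), mul_one,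
        Finset.prod_congr rfl (g := fun _ => (-1 : Fˣ)) (fun q hq => ?_), Finset.prod_const]
      · rw [hS, Finset.mem_filter] at hq
        exact hq.2.2
      · obtain ⟨-, h1, h2'⟩ := Finset.mem_filter.1 hq
        exact (hsq q h1).resolve_right h2'
    rw [hprod]
    refine Odd.neg_one_pow (Nat.odd_iff.2 ?_)
    -- `S` is stable under `(P : Subgroup G)`
    have hconj : ∀ (q : G ⧸ (P : Subgroup G)) (g : G), (g : G ⧸ (P : Subgroup G)) = q → w • q = q →
        ∀ (hg : g⁻¹ * w * g ∈ (P : Subgroup G)), F₀ q = ψ ⟨g⁻¹ * w * g, hg⟩ := by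
      intro q g hgq hq hg
      have hx : (r q)⁻¹ * g ∈ (P : Subgroup G) := QuotientGroup.eq.1 ((hrq q).trans hgq.symm)
      rw [hF₀]
      have e : (⟨g⁻¹ * w * g, hg⟩ : (P : Subgroup G)) = ⟨_, hx⟩⁻¹ * ⟨_, hmem q⟩ * ⟨_, hx⟩ := by
        refine Subtype.ext ?_
        simp only [Subgroup.coe_mul, Subgroup.coe_inv, hq]
        group
      rw [e, map_mul, map_mul, map_inv, mul_comm _ (ψ ⟨_, hmem q⟩), inv_mul_cancel_right]
    have hinv : ∀ x : (P : Subgroup G), ∀ q ∈ S, x • q ∈ S := by
      intro x q hq
      rw [hS, Finset.mem_filter] at hq ⊢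
      obtain ⟨-, h1, h2'⟩ := hq
      have hwx : w • (x : G) • q = (x : G) • q := by
        rw [← mul_smul, ← hwc _ x.2, mul_smul, h1]
      refine ⟨Finset.mem_univ _, hwx, ?_⟩
      have hm : (x * r q : G)⁻¹ * w * (x * r q) ∈ (P : Subgroup G) := by
        have := hmem q
        rw [h1] at this
        rw [show (x * r q : G)⁻¹ * w * (x * r q) = (r q)⁻¹ * ((x : G)⁻¹ * (w * x) * r q) by group,
          ← hwc _ x.2, inv_mul_cancel_left]
        exact this
      have hq' : ((x * r q : G) : G ⧸ (P : Subgroup G)) = x • q := by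
        rw [← smul_eq_mul, ← MulAction.Quotient.smul_mk, hrq]; rfl
      rw [hconj _ _ hq' hwx hm, ← h2', hF₀]
      refine congrArg ψ (Subtype.ext ?_)
      simp only [h1]
      rw [show (x * r q : G)⁻¹ * w * (x * r q) = (r q)⁻¹ * ((x : G)⁻¹ * (w * x) * r q) by group,
        ← hwc _ x.2, inv_mul_cancel_left]
    let S' : SubMulAction (P : Subgroup G) (G ⧸ (P : Subgroup G)) := ⟨↑S, fun x q hq => hinv x q hq⟩
    have hfix : Nat.card (MulAction.fixedPoints (P : Subgroup G) S') = Nat.card (MulAction.fixedPoints (P : Subgroup G) (G ⧸ (P : Subgroup G))) := by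
      have hmemS : ∀ q ∈ MulAction.fixedPoints (P : Subgroup G) (G ⧸ (P : Subgroup G)), q ∈ S := by
        intro q hq
        have hwq : w • q = q := hq ⟨w, hw⟩
        have hgN : r q ∈ Subgroup.normalizer ((P : Subgroup G) : Set G) := by
          have h := hq
          rw [← hrq q] at h
          exact (Sylow.mem_fixedPoints_mul_left_cosets_iff_mem_normalizer (H := (P : Subgroup G))).1 h
        have hm : (r q)⁻¹ * w * r q ∈ (P : Subgroup G) := by rw [hN _ hgN]; exact hw
        rw [hS, Finset.mem_filter]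
        refine ⟨Finset.mem_univ _, hwq, ?_⟩
        rw [hconj q _ (hrq q) hwq hm, ← hψ]
        refine congrArg ψ (Subtype.ext ?_)
        exact hN _ hgN
      refine Nat.card_congr
        { toFun := fun z => ⟨z.1.1, fun x => congrArg Subtype.val (z.2 x)⟩
          invFun := fun q => ⟨⟨q.1, hmemS q.1 q.2⟩, fun x => Subtype.ext (q.2 x)⟩
          left_inv := fun z => rfl
          right_inv := fun q => rfl }
    have hP : IsPGroup 2 (P : Subgroup G) := P.isPGroup'
    have e1 := hP.card_modEq_card_fixedPoints (p := 2) S'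
    have e2 := hP.card_modEq_card_fixedPoints (p := 2) (G ⧸ (P : Subgroup G))
    rw [hfix] at e1
    have e3 : Nat.card S' = S.card := by
      rw [← Nat.card_eq_finsetCard]; rfl
    have e4 : ¬ 2 ∣ Nat.card (G ⧸ (P : Subgroup G)) := by
      rw [← Subgroup.index_eq_card]; exact Sylow.not_dvd_index P
    rw [Nat.ModEq, e3] at e1
    rw [Nat.ModEq] at e2
    omega
  obtain ⟨ρ, hρ⟩ : ∃ ρ : G →* Fˣ, ρ = MonoidHom.transfer ψ := ⟨_, rfl⟩
  rw [← hρ] at hV
  have : IsCyclic ρ.range := inferInstance
  obtain ⟨c, hc⟩ := IsCyclic.exists_generator (α := ρ.range)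
  have h2d : 2 ∣ orderOf c := by
    rw [orderOf_eq_card_of_forall_mem_zpowers hc]
    refine dvd_trans ?_ (orderOf_dvd_natCard (⟨-1, w, hV⟩ : ρ.range))
    rw [orderOf_eq_prime (p := 2) (Subtype.ext (neg_one_sq)) (fun h => hneg (congrArg Subtype.val h))]
  refine ⟨(Subgroup.zpowers (c ^ 2)).comap ρ.rangeRestrict, ?_⟩
  rw [Subgroup.index_comap_of_surjective _ ρ.rangeRestrict_surjective]
  have h1 := (Subgroup.zpowers (c ^ 2)).card_mul_index
  rw [Nat.card_zpowers, orderOf_pow c, Nat.gcd_eq_right h2d,
    ← orderOf_eq_card_of_forall_mem_zpowers hc] at h1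
  have h0 : 0 < orderOf c := orderOf_pos c
  obtain ⟨m, hm⟩ := h2d
  rw [hm] at h1 h0
  rw [Nat.mul_div_cancel_left m (by norm_num)] at h1
  exact Nat.eq_of_mul_eq_mul_left (show 0 < m by omega) (h1.trans (mul_comm 2 m))

end Transfer

end CfsgLib.PLocal
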