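import Cfsg.Agent.Lib.Amalgam.CubicOfPair
import Cfsg.Agent.Lib.Solvable.Nilpotent

/-!
Cubic amalgams in which `Ω₁ Z` of an edge is centralized by one end: the vertex involutions.
-/

set_option autoImplicit false
set_option linter.unusedSectionVars false

namespace CfsgLib.PLocal.Gold

open Subgroup
open CfsgLib.Amalgam.Cubic (St E K Zc mem_Zc mem_K K_le_E mem_St_smul)

/-- A cubic amalgam graph with a distinguished class `B` of vertices centralizing `Ω₁ Z`. -/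
structure Amalg (G : Type*) [Group G] {Ω : Type*} [MulAction G Ω] (Γ : SimpleGraph Ω)
    (B : Ω → Prop) : Prop where
  conn : Γ.Connected
  adj_smul : ∀ (g : G) {x y : Ω}, Γ.Adj x y → Γ.Adj (g • x) (g • y)
  trans : ∀ {x y y' : Ω}, Γ.Adj x y → Γ.Adj x y' → ∃ g ∈ St G x, g • y = y'
  fin : ∀ {x y : Ω}, Γ.Adj x y → Finite ↥(St G x)
  two : ∀ {x y : Ω}, Γ.Adj x y → IsPGroup 2 ↥(E G x y)
  idx : ∀ {x y : Ω}, Γ.Adj x y → (E G x y).relIndex (St G x) = 3
  kidx : ∀ {x y : Ω}, Γ.Adj x y → (K G Γ x).relIndex (E G x y) = 2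
  char : ∀ {x y : Ω}, Γ.Adj x y → ∀ g ∈ St G x, (∀ k ∈ K G Γ x, g * k = k * g) → g ∈ K G Γ x
  gen : ∀ {x y : Ω}, Γ.Adj x y → St G x ⊔ St G y = ⊤
  faith : ∀ g : G, (∀ v : Ω, g • v = v) → g = 1
  bip : ∀ {x y : Ω}, Γ.Adj x y → (B x ↔ ¬ B y)
  B_smul : ∀ (g : G) (x : Ω), B (g • x) ↔ B x
  cent : ∀ {x y : Ω}, Γ.Adj x y → B x → ∀ z ∈ Zc G x y, ∀ g ∈ St G x, g * z = z * g

/-- A choice of vertex involutions. -/
structure Data (G : Type*) [Group G] {Ω : Type*} [MulAction G Ω] (Γ : SimpleGraph Ω)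
    (B : Ω → Prop) (z : Ω → G) : Prop extends Amalg G Γ B where
  z_sq : ∀ {y : Ω}, B y → z y * z y = 1
  z_ne : ∀ {y : Ω}, B y → z y ≠ 1
  z_smul : ∀ (g : G) {y : Ω}, B y → z (g • y) = g * z y * g⁻¹
  z_cent : ∀ {y : Ω}, B y → ∀ g ∈ St G y, g * z y = z y * g
  z_K : ∀ {y : Ω}, B y → z y ∈ K G Γ y
  z_three : ∀ {a y y' y'' : Ω}, ¬ B a → Γ.Adj a y → Γ.Adj a y' → Γ.Adj a y'' → y ≠ y' →
    y ≠ y'' → y' ≠ y'' → z y * z y' = z y''

variable {G : Type*} [Group G] {Ω : Type*} [MulAction G Ω] {Γ : SimpleGraph Ω} {B : Ω → Prop}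

theorem St_fix {g : G} {x : Ω} (h : g ∈ St G x) : g • x = x := h

theorem mul_conj (g a b : G) : g * (a * b) * g⁻¹ = (g * a * g⁻¹) * (g * b * g⁻¹) := by group

theorem le_normalizer_closure {s : Set G} {H : Subgroup G}
    (h : ∀ g ∈ H, ∀ x ∈ s, g * x * g⁻¹ ∈ closure s) : H ≤ normalizer (closure s : Set G) := by
  have h' : ∀ g ∈ H, ∀ x ∈ closure s, g * x * g⁻¹ ∈ closure s := by
    intro g hg x hx
    induction hx using closure_induction with
    | mem x hx => exact h g hg x hx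
    | one => rw [mul_one, mul_inv_cancel]; exact one_mem _
    | mul a b _ _ ha hb => rw [mul_conj]; exact mul_mem ha hb
    | inv a _ ha => rw [show g * a⁻¹ * g⁻¹ = (g * a * g⁻¹)⁻¹ by group]; exact inv_mem ha
  intro g hg
  refine mem_normalizer_iff.2 fun x => ⟨h' g hg x, fun hx => ?_⟩
  have := h' g⁻¹ (inv_mem hg) _ hx
  rwa [inv_inv, show g⁻¹ * (g * x * g⁻¹) * g = x by group] at this

theorem mem_of_conj_mem {s : Set G} {g : G} (hg : g * g = 1)
    (h : ∀ x ∈ s, g * x * g⁻¹ ∈ closure s) : g ∈ normalizer (closure s : Set G) := by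
  refine le_normalizer_closure (H := zpowers g) (fun k hk x hx => ?_) (mem_zpowers g)
  obtain ⟨n, rfl⟩ := mem_zpowers_iff.1 hk
  rcases Int.even_or_odd n with ⟨m, rfl⟩ | ⟨m, rfl⟩
  · rw [← two_mul, zpow_mul, zpow_ofNat, pow_two, hg, one_zpow, one_mul, inv_one, mul_one]
    exact subset_closure hx
  · rw [zpow_add, zpow_mul, zpow_ofNat, pow_two, hg, one_zpow, one_mul, zpow_one]
    exact h x hx

variable (A : Amalg G Γ B)
include A

namespace Amalg

theorem B_of_adj {x y : Ω} (h : Γ.Adj x y) (hx : ¬ B x) : B y :=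
  Classical.not_not.1 fun hy => hx ((A.bip h).2 hy)

theorem not_B_of_adj {x y : Ω} (h : Γ.Adj x y) (hx : B x) : ¬ B y := (A.bip h).1 hx

theorem smul_adj {g : G} {x y : Ω} (hg : g ∈ St G x) (h : Γ.Adj x y) : Γ.Adj x (g • y) := by
  have := A.adj_smul g h
  rwa [St_fix hg] at this

theorem K_smul {g h : G} {x : Ω} (hh : h ∈ K G Γ x) : g * h * g⁻¹ ∈ K G Γ (g • x) := by
  refine ⟨?_, fun y hy => ?_⟩
  · rw [mul_smul, mul_smul, inv_smul_smul, hh.1]
  · have h1 : Γ.Adj x (g⁻¹ • y) := by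
      have := A.adj_smul g⁻¹ hy
      rwa [inv_smul_smul] at this
    rw [mul_smul, mul_smul, hh.2 _ h1, smul_inv_smul]

theorem K_smul_iff {g h : G} {x : Ω} : g * h * g⁻¹ ∈ K G Γ (g • x) ↔ h ∈ K G Γ x := by
  refine ⟨fun hh => ?_, A.K_smul⟩
  have := A.K_smul (g := g⁻¹) hh
  rwa [inv_smul_smul, inv_inv, show g⁻¹ * (g * h * g⁻¹) * g = h by group] at this

theorem conj_mem_K {g h : G} {x : Ω} (hg : g ∈ St G x) (hh : h ∈ K G Γ x) :
    g * h * g⁻¹ ∈ K G Γ x := by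
  have := A.K_smul (g := g) hh
  rwa [St_fix hg] at this

theorem ncard_nbr {x y : Ω} (h : Γ.Adj x y) : (Γ.neighborSet x).ncard = 3 := by
  have e : Γ.neighborSet x = MulAction.orbit ↥(St G x) y := by
    ext z
    constructor
    · intro hz
      obtain ⟨g, hg, rfl⟩ := A.trans h hz
      exact ⟨⟨g, hg⟩, rfl⟩
    · rintro ⟨⟨g, hg⟩, rfl⟩
      exact A.smul_adj hg h
  rw [e, ← MulAction.index_stabilizer, ← A.idx h, Subgroup.relIndex]
  congr 1
  ext g
  simp only [MulAction.mem_stabilizer_iff, mem_subgroupOf, E, Subgroup.mem_inf]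
  exact ⟨fun hy => ⟨MulAction.mem_stabilizer_iff.1 g.2, hy⟩, fun hy => hy.2⟩

theorem eq_of_three {x a b c d : Ω} (ha : Γ.Adj x a) (hb : Γ.Adj x b) (hc : Γ.Adj x c)
    (hd : Γ.Adj x d) (hab : a ≠ b) (hac : a ≠ c) (hbc : b ≠ c) : d = a ∨ d = b ∨ d = c := by
  have h3 := A.ncard_nbr ha
  have hfin : (Γ.neighborSet x).Finite := Set.finite_of_ncard_ne_zero (by rw [h3]; norm_num)
  have hsub : ({a, b, c} : Set Ω) ⊆ Γ.neighborSet x := by
    rintro z (rfl | rfl | rfl) <;> assumption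
  have he : ({a, b, c} : Set Ω) = Γ.neighborSet x := by
    refine Set.eq_of_subset_of_ncard_le hsub ?_ hfin
    rw [h3, Set.ncard_eq_three.2 ⟨a, b, c, hab, hac, hbc, rfl⟩]
  have hd' : d ∈ Γ.neighborSet x := hd
  rw [← he] at hd'
  simpa using hd'

theorem exists_two {x y : Ω} (h : Γ.Adj x y) :
    ∃ z z', Γ.Adj x z ∧ Γ.Adj x z' ∧ z ≠ y ∧ z' ≠ y ∧ z ≠ z' := by
  obtain ⟨a, b, c, hab, hac, hbc, he⟩ := Set.ncard_eq_three.1 (A.ncard_nbr h)
  have hm : ∀ w, w ∈ ({a, b, c} : Set Ω) → Γ.Adj x w := fun w hw => by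
    rw [← he] at hw; exact hw
  have hy : y ∈ ({a, b, c} : Set Ω) := he ▸ h
  rcases hy with rfl | rfl | rfl
  · exact ⟨b, c, hm b (by simp), hm c (by simp), hab.symm, hac.symm, hbc⟩
  · exact ⟨a, c, hm a (by simp), hm c (by simp), hab, hbc.symm, hac⟩
  · exact ⟨a, b, hm a (by simp), hm b (by simp), hac, hbc, hab⟩

theorem exists_one {x y : Ω} (h : Γ.Adj x y) : ∃ z, Γ.Adj x z ∧ z ≠ y :=
  have ⟨z, _, hz, _, hne, _⟩ := A.exists_two h
  ⟨z, hz, hne⟩

theorem exists_third {x y y' : Ω} (h : Γ.Adj x y) (h' : Γ.Adj x y') :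
    ∃ z, Γ.Adj x z ∧ z ≠ y ∧ z ≠ y' := by
  obtain ⟨p, q, hp, hq, hpy, hqy, hpq⟩ := A.exists_two h
  by_cases e : p = y'
  · exact ⟨q, hq, hqy, fun e' => hpq (e.trans e'.symm)⟩
  · exact ⟨p, hp, hpy, e⟩

theorem mem_K_of_fix {x y y' : Ω} {g : G} (h : Γ.Adj x y) (h' : Γ.Adj x y') (hne : y ≠ y')
    (hgx : g • x = x) (hy : g • y = y) (hy' : g • y' = y') : g ∈ K G Γ x := by
  refine ⟨hgx, fun w hw => ?_⟩
  by_contra hgw
  have hgw' : Γ.Adj x (g • w) := A.smul_adj hgx hw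
  have hwy : w ≠ y := fun e => hgw (e ▸ hy)
  have hwy' : w ≠ y' := fun e => hgw (e ▸ hy')
  rcases A.eq_of_three h h' hw hgw' hne hwy.symm hwy'.symm with e | e | e
  · exact hwy (smul_left_cancel g (e.trans hy.symm))
  · exact hwy' (smul_left_cancel g (e.trans hy'.symm))
  · exact hgw e

theorem smul_ne {x y y' : Ω} {t : G} (h : Γ.Adj x y) (h' : Γ.Adj x y') (hne : y ≠ y')
    (htx : t • x = x) (hty : t • y = y) (htK : t ∉ K G Γ x) : t • y' ≠ y' :=
  fun e => htK (A.mem_K_of_fix h h' hne htx hty e)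

/-- An element outside the kernel fixing `y` exchanges the other two neighbours. -/
theorem smul_swap {x y y' y'' : Ω} {t : G} (h : Γ.Adj x y) (h' : Γ.Adj x y') (h'' : Γ.Adj x y'')
    (hne : y ≠ y') (hne2 : y ≠ y'') (hne3 : y' ≠ y'')
    (htx : t • x = x) (hty : t • y = y) (htK : t ∉ K G Γ x) : t • y' = y'' := by
  rcases A.eq_of_three h h' h'' (A.smul_adj htx h') hne hne2 hne3 with e | e | e
  · exact absurd (smul_left_cancel t (e.trans hty.symm)) hne.symm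
  · exact absurd e (A.smul_ne h h' hne htx hty htK)
  · exact e

theorem exists_not_mem_K {x y : Ω} (h : Γ.Adj x y) : ∃ t ∈ E G x y, t ∉ K G Γ x := by
  by_contra hc
  push_neg at hc
  have := Subgroup.relIndex_eq_one.2 (hc : E G x y ≤ K G Γ x)
  rw [A.kidx h] at this
  omega

theorem mul_mem_K {x y : Ω} {t t' : G} (h : Γ.Adj x y) (ht : t ∈ E G x y)
    (ht' : t' ∈ E G x y) (htK : t ∉ K G Γ x) (ht'K : t' ∉ K G Γ x) : t * t' ∈ K G Γ x := by
  have hi : ((K G Γ x).subgroupOf (E G x y)).index = 2 := A.kidx h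
  exact (Subgroup.mul_mem_iff_of_index_two hi (a := ⟨t, ht⟩) (b := ⟨t', ht'⟩)).2
    ⟨fun hh => absurd hh htK, fun hh => absurd hh ht'K⟩

theorem inv_mul_mem_K {x y : Ω} {t t' : G} (h : Γ.Adj x y) (ht : t ∈ E G x y)
    (ht' : t' ∈ E G x y) (htK : t ∉ K G Γ x) (ht'K : t' ∉ K G Γ x) : t⁻¹ * t' ∈ K G Γ x :=
  A.mul_mem_K h (inv_mem ht) ht' (fun e => htK (by simpa using inv_mem e)) ht'K

/-- An element moving `y` together with the edge stabilizer of `y` generates the vertex group. -/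
theorem St_le {x y : Ω} {H : Subgroup G} {g : G} (h : Γ.Adj x y) (hE : E G x y ≤ H)
    (hg : g ∈ H) (hgx : g ∈ St G x) (hgy : g • y ≠ y) : St G x ≤ H := by
  have hd : (H ⊓ St G x).relIndex (St G x) ∣ 3 :=
    A.idx h ▸ Subgroup.relIndex_dvd_of_le_left (St G x) (le_inf hE inf_le_left)
  rcases (Nat.dvd_prime Nat.prime_three).1 hd with e | e
  · exact (Subgroup.relIndex_eq_one.1 e).trans inf_le_left
  · exfalso
    have hm := Subgroup.relIndex_mul_relIndex (E G x y) (H ⊓ St G x) (St G x)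
      (le_inf hE inf_le_left) inf_le_right
    rw [A.idx h, e] at hm
    have hle : H ⊓ St G x ≤ E G x y := Subgroup.relIndex_eq_one.1 (by omega)
    exact hgy (hle ⟨hg, hgx⟩).2

/-- Two edges at `x` generate the vertex group. -/
theorem St_le' {x y y' : Ω} {H : Subgroup G} (h : Γ.Adj x y) (h' : Γ.Adj x y')
    (hne : y ≠ y') (hE : E G x y ≤ H) (hE' : E G x y' ≤ H) : St G x ≤ H := by
  obtain ⟨t, ht, htK⟩ := A.exists_not_mem_K h'
  exact A.St_le h hE (hE' ht) ht.1 (A.smul_ne h' h hne.symm ht.1 ht.2 htK)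

theorem exists_perm {x a b a' b' : Ω} (ha : Γ.Adj x a) (hb : Γ.Adj x b) (hab : a ≠ b)
    (ha' : Γ.Adj x a') (hb' : Γ.Adj x b') (hab' : a' ≠ b') :
    ∃ g ∈ St G x, g • a = a' ∧ g • b = b' := by
  obtain ⟨g, hg, hga⟩ := A.trans ha ha'
  by_cases e : g • b = b'
  · exact ⟨g, hg, hga, e⟩
  obtain ⟨t, ht, htK⟩ := A.exists_not_mem_K ha'
  have hgb : g • b ≠ a' := fun e' => hab (smul_left_cancel g (hga.trans e'.symm))
  refine ⟨t * g, mul_mem ht.1 hg, by rw [mul_smul, hga, St_fix ht.2], ?_⟩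
  rw [mul_smul, A.smul_swap ha' (A.smul_adj hg hb) hb' hgb.symm hab' e ht.1 ht.2 htK]

theorem orbit_cover {x y : Ω} (h : Γ.Adj x y) (v : Ω) :
    ∃ g : G, v = g • x ∨ v = g • y := by
  obtain ⟨w⟩ := A.conn.preconnected x v
  suffices H : ∀ {a b : Ω} (w : Γ.Walk a b), (∃ g : G, a = g • x ∨ a = g • y) →
      ∃ g : G, b = g • x ∨ b = g • y from H w ⟨1, Or.inl (one_smul _ _).symm⟩
  intro a b w
  induction w with
  | nil => exact id
  | @cons a c b hac w ih =>
    rintro ⟨g, ha | ha⟩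
    · subst ha
      obtain ⟨k, -, hk⟩ := A.trans (A.adj_smul g h) hac
      exact ih ⟨k * g, Or.inr (by rw [mul_smul, hk])⟩
    · subst ha
      obtain ⟨k, -, hk⟩ := A.trans (A.adj_smul g h).symm hac
      exact ih ⟨k * g, Or.inl (by rw [mul_smul, hk])⟩

theorem exists_smul_eq {x y v : Ω} (h : Γ.Adj x y) (hx : B x) (hv : B v) :
    ∃ g : G, g • x = v := by
  obtain ⟨g, e | e⟩ := A.orbit_cover h v
  · exact ⟨g, e.symm⟩
  · exact absurd (((A.B_smul g y)).1 (e ▸ hv)) (A.not_B_of_adj h hx)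

/-- A subgroup of an edge group normalized by both ends is trivial. -/
theorem eq_bot_of_normalized {x y : Ω} (h : Γ.Adj x y) {N : Subgroup G} (hN : N ≤ E G x y)
    (hx : St G x ≤ normalizer (N : Set G)) (hy : St G y ≤ normalizer (N : Set G)) : N = ⊥ := by
  have hn : N.Normal := Subgroup.normalizer_eq_top_iff.1 (top_le_iff.1 (A.gen h ▸ sup_le hx hy))
  rw [eq_bot_iff_forall]
  intro n hn'
  refine A.faith n fun v => ?_
  obtain ⟨g, hv⟩ := A.orbit_cover h v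
  have hm := hN (hn.conj_mem n hn' g⁻¹)
  rw [inv_inv] at hm
  rcases hv with rfl | rfl
  · have h1 : (g⁻¹ * n * g) • x = x := hm.1
    rw [mul_smul, mul_smul, inv_smul_eq_iff] at h1; exact h1
  · have h1 : (g⁻¹ * n * g) • y = y := hm.2
    rw [mul_smul, mul_smul, inv_smul_eq_iff] at h1; exact h1

theorem eq_one_of_central {x y : Ω} (h : Γ.Adj x y) {z : G} (hz : z ∈ E G x y)
    (hx : ∀ g ∈ St G x, g * z = z * g) (hy : ∀ g ∈ St G y, g * z = z * g) : z = 1 := by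
  have key : ∀ S : Subgroup G, (∀ g ∈ S, g * z = z * g) →
      S ≤ normalizer ((Subgroup.zpowers z : Subgroup G) : Set G) := by
    intro S hS g hg
    exact centralizer_le_normalizer _ (mem_centralizer_iff.2 fun k hk => by
      obtain ⟨n, rfl⟩ := Subgroup.mem_zpowers_iff.1 hk
      exact ((Commute.zpow_right (hS g hg) n).eq).symm)
  have := A.eq_bot_of_normalized h (N := Subgroup.zpowers z)
    ((Subgroup.zpowers_le).2 hz) (key _ hx) (key _ hy)
  exact Subgroup.zpowers_eq_bot.1 this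

theorem K_ne {x y : Ω} (h : Γ.Adj x y) : K G Γ x ≠ K G Γ y := by
  intro e
  have key : ∀ v, St G v ≤ normalizer (K G Γ v : Set G) := fun v g hg =>
    mem_normalizer_iff.2 fun n => ⟨A.conj_mem_K hg, fun hn => by
      have := A.conj_mem_K (inv_mem hg) hn
      rwa [inv_inv, show g⁻¹ * (g * n * g⁻¹) * g = n by group] at this⟩
  have hb := A.eq_bot_of_normalized h (N := K G Γ x) (K_le_E h) (key x)
    (by rw [e]; exact key y)
  obtain ⟨t, ht, htK⟩ := A.exists_not_mem_K h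
  exact htK (A.char h t ht.1 fun k hk => by
    rw [hb, Subgroup.mem_bot] at hk
    rw [hk, mul_one, one_mul])

/-- An involution of an edge group centralized by that group and by the `B`-free end is trivial. -/
theorem eq_one_of_central' {a y : Ω} (h : Γ.Adj a y) (ha : ¬ B a) {q : G} (hq : q ∈ E G a y)
    (h2 : q * q = 1) (hc : ∀ g ∈ St G a, g * q = q * g) : q = 1 := by
  refine A.eq_one_of_central h hq hc (A.cent h.symm (A.B_of_adj h ha) q ?_)
  exact mem_Zc.2 ⟨⟨hq.2, hq.1⟩, h2, fun e he => hc e he.2⟩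

/-- The edge group is a nontrivial `2`-group, hence has a central involution. -/
theorem exists_Zc {x y : Ω} (h : Γ.Adj x y) {N : Subgroup G} (hN : N ≤ E G x y) (hne : N ≠ ⊥)
    (hn : E G x y ≤ normalizer (N : Set G)) : ∃ u ∈ Zc G x y, u ∈ N ∧ u ≠ 1 := by
  haveI := A.fin h
  haveI : Finite ↥(E G x y) := Finite.of_injective _ (Subgroup.inclusion_injective inf_le_left)
  haveI : (N.subgroupOf (E G x y)).Normal := Subgroup.normal_subgroupOf_of_le_normalizer hn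
  haveI := Fact.mk Nat.prime_two
  haveI : Nontrivial ↥(N.subgroupOf (E G x y)) := by
    rw [Subgroup.nontrivial_iff_ne_bot]
    exact fun e => hne ((Subgroup.subgroupOf_eq_bot.1 e).eq_bot_of_le hN)
  have hne' : Subgroup.center ↥(E G x y) ⊓ N.subgroupOf (E G x y) ≠ ⊥ := by
    haveI : Group.IsNilpotent ↥(E G x y) := IsPGroup.isNilpotent (A.two h)
    rw [inf_comm]
    exact CfsgLib.Solvable.normal_inf_center_ne_bot _
      (Subgroup.nontrivial_iff_ne_bot _ |>.1 inferInstance)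
  have hpos : 2 ∣ Nat.card ↥(Subgroup.center ↥(E G x y) ⊓ N.subgroupOf (E G x y)) := by
    obtain ⟨k, hk⟩ := IsPGroup.iff_card.1 ((A.two h).to_subgroup
      (Subgroup.center ↥(E G x y) ⊓ N.subgroupOf (E G x y)))
    rcases k with - | k
    · exact absurd (Subgroup.card_eq_one.1 (by simpa using hk)) hne'
    · exact hk ▸ dvd_pow_self 2 k.succ_ne_zero
  obtain ⟨u, hu⟩ := exists_prime_orderOf_dvd_card' 2 hpos
  refine ⟨((u : ↥(E G x y)) : G), mem_Zc.2 ⟨(u : ↥(E G x y)).2, ?_, fun e he => ?_⟩, u.2.2, ?_⟩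
  · have := pow_orderOf_eq_one u
    rw [hu, pow_two] at this
    exact congrArg Subtype.val (congrArg Subtype.val this)
  · exact congrArg Subtype.val (Subgroup.mem_center_iff.1 u.2.1 ⟨e, he⟩)
  · intro e
    have : u = 1 := Subtype.ext (Subtype.ext e)
    rw [this, orderOf_one] at hu
    omega

end Amalg

end CfsgLib.PLocal.Gold
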