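import Cfsg.Agent.Lib.PLocal.GoldBasic

/-!
Vertex involutions, the radius of their fixed balls and non-backtracking sequences.
-/

set_option autoImplicit false
set_option linter.unusedSectionVars false

namespace CfsgLib.PLocal.Gold

open Subgroup
open CfsgLib.Amalgam.Cubic (St E K Zc mem_Zc mem_K K_le_E mem_St_smul mem_Zc_smul)

variable {G : Type*} [Group G] {Ω : Type*} [MulAction G Ω] {Γ : SimpleGraph Ω} {B : Ω → Prop}

theorem comm_inv_eq {a b : G} (h : a * b = b * a) : a * b * a⁻¹ = b := by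
  rw [h, mul_inv_cancel_right]

theorem Amalg.exists_data (A : Amalg G Γ B) {x₀ y₀ : Ω} (h₀ : Γ.Adj x₀ y₀) (hB : B x₀) :
    ∃ z : Ω → G, Data G Γ B z := by
  classical
  have hne : E G x₀ y₀ ≠ ⊥ := by
    intro e
    obtain ⟨t, ht, htK⟩ := A.exists_not_mem_K h₀
    rw [e, Subgroup.mem_bot] at ht
    exact htK (ht ▸ one_mem _)
  obtain ⟨u, hu, -, hu1⟩ := A.exists_Zc h₀ le_rfl hne Subgroup.le_normalizer
  have hu' := mem_Zc.1 hu
  have hcu := A.cent h₀ hB u hu
  let z : Ω → G := fun y =>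
    if hy : B y then Classical.choose (A.exists_smul_eq h₀ hB hy) * u *
      (Classical.choose (A.exists_smul_eq h₀ hB hy))⁻¹ else 1
  have hz : ∀ g : G, z (g • x₀) = g * u * g⁻¹ := by
    intro g
    have hy : B (g • x₀) := (A.B_smul g x₀).2 hB
    simp only [z, dif_pos hy]
    generalize hk : Classical.choose (A.exists_smul_eq h₀ hB hy) = k
    have hkx : k • x₀ = g • x₀ := hk ▸ Classical.choose_spec (A.exists_smul_eq h₀ hB hy)
    have hmem : g⁻¹ * k ∈ St G x₀ := by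
      show (g⁻¹ * k) • x₀ = x₀
      rw [mul_smul, hkx, inv_smul_smul]
    calc k * u * k⁻¹ = g * ((g⁻¹ * k) * u * (g⁻¹ * k)⁻¹) * g⁻¹ := by group
      _ = g * u * g⁻¹ := by rw [comm_inv_eq (hcu _ hmem)]
  have hgen : ∀ y, B y → ∃ g : G, y = g • x₀ :=
    fun y hy => (A.exists_smul_eq h₀ hB hy).imp fun _ h => h.symm
  have huK : u ∈ K G Γ x₀ := by
    refine ⟨hu'.1.1, fun w hw => ?_⟩
    obtain ⟨g, hg, rfl⟩ := A.trans h₀ hw
    rw [← mul_smul, ← hcu g hg, mul_smul, St_fix hu'.1.2]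
  have zsmul : ∀ (g : G) {y : Ω}, B y → z (g • y) = g * z y * g⁻¹ := by
    intro g y hy
    obtain ⟨k, rfl⟩ := hgen y hy
    rw [← mul_smul, hz, hz]; group
  have zsq : ∀ {y : Ω}, B y → z y * z y = 1 := by
    intro y hy
    obtain ⟨k, rfl⟩ := hgen y hy
    rw [hz, ← mul_conj, hu'.2.1]; group
  have zne : ∀ {y : Ω}, B y → z y ≠ 1 := by
    intro y hy
    obtain ⟨k, rfl⟩ := hgen y hy
    rw [hz]
    simpa [conj_eq_one_iff] using hu1
  have zcent : ∀ {y : Ω}, B y → ∀ g ∈ St G y, g * z y = z y * g := by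
    intro y hy g hg
    have h1 := zsmul g hy
    rw [St_fix hg] at h1
    conv_rhs => rw [h1]
    group
  have zK : ∀ {y : Ω}, B y → z y ∈ K G Γ y := by
    intro y hy
    obtain ⟨k, rfl⟩ := hgen y hy
    rw [hz]
    exact A.K_smul huK
  have zKa : ∀ {a y : Ω}, ¬ B a → Γ.Adj a y → z y ∈ K G Γ a := by
    intro a y ha hy
    have hyB := A.B_of_adj hy ha
    exact A.char hy _ ((zK hyB).2 a hy.symm) fun k hk => (zcent hyB k (hk.2 y hy)).symm
  refine ⟨z, ⟨A, zsq, zne, zsmul, zcent, zK, ?_⟩⟩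
  intro a y y' y'' ha hy hy' hy'' hne hne' hne''
  have hyB := A.B_of_adj hy ha
  have hyB' := A.B_of_adj hy' ha
  have hyB'' := A.B_of_adj hy'' ha
  have hcom : ∀ {p q : Ω}, Γ.Adj a p → Γ.Adj a q → z p * z q = z q * z p := fun hp hq =>
    zcent (A.B_of_adj hq ha) (z _) ((zKa ha hp).2 _ hq)
  obtain ⟨t, ht, htK⟩ := A.exists_not_mem_K hy'
  have e1 : t • y = y'' := A.smul_swap hy' hy hy'' hne.symm hne'' hne' ht.1 ht.2 htK
  have e2 : t • y'' = y := A.smul_swap hy' hy'' hy hne'' hne.symm hne'.symm ht.1 ht.2 htK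
  have hqK : z y * z y'' ∈ K G Γ a := mul_mem (zKa ha hy) (zKa ha hy'')
  have hqc : ∀ e ∈ K G Γ a, e * (z y * z y'') = z y * z y'' * e := fun e he => by
    rw [← mul_assoc, zcent hyB e (he.2 _ hy), mul_assoc, zcent hyB'' e (he.2 _ hy''), mul_assoc]
  have hqt : t * (z y * z y'') = z y * z y'' * t := by
    have h1 : t * (z y * z y'') * t⁻¹ = z y * z y'' := by
      rw [mul_conj, ← zsmul t hyB, ← zsmul t hyB'', e1, e2]
      exact hcom hy'' hy
    conv_rhs => rw [← h1]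
    group
  have hq2 : z y * z y'' * (z y * z y'') = 1 := by
    rw [show z y * z y'' * (z y * z y'') = z y * (z y'' * z y) * z y'' by group, ← hcom hy hy'',
      show z y * (z y * z y'') * z y'' = (z y * z y) * (z y'' * z y'') by group, zsq hyB, zsq hyB'',
      one_mul]
  have hqE : ∀ e ∈ E G a y', e * (z y * z y'') = z y * z y'' * e := by
    intro e he
    by_cases heK : e ∈ K G Γ a
    · exact hqc e heK
    · have hk := hqc _ (A.inv_mul_mem_K hy' ht he htK heK)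
      calc e * (z y * z y'') = t * ((t⁻¹ * e) * (z y * z y'')) := by group
        _ = t * (z y * z y'' * (t⁻¹ * e)) := by rw [hk]
        _ = (t * (z y * z y'')) * (t⁻¹ * e) := by group
        _ = (z y * z y'' * t) * (t⁻¹ * e) := by rw [hqt]
        _ = z y * z y'' * e := by group
  have hqS : ∀ g ∈ St G y', g * (z y * z y'') = z y * z y'' * g :=
    A.cent hy'.symm hyB' _ (mem_Zc.2 ⟨⟨hqK.2 _ hy', hqK.1⟩, hq2,
      fun e he => hqE e ⟨he.2, he.1⟩⟩)
  -- the product of the three involutions is central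
  let v := z y * z y'' * z y'
  have hvK : v ∈ K G Γ a := mul_mem hqK (zKa ha hy')
  have hv1 : ∀ g ∈ St G y', g * v = v * g := fun g hg => by
    calc g * (z y * z y'' * z y') = (g * (z y * z y'')) * z y' := (mul_assoc _ _ _).symm
      _ = (z y * z y'' * g) * z y' := by rw [hqS g hg]
      _ = z y * z y'' * (g * z y') := mul_assoc _ _ _
      _ = z y * z y'' * (z y' * g) := by rw [zcent hyB' g hg]
      _ = z y * z y'' * z y' * g := (mul_assoc _ _ _).symm
  obtain ⟨t', ht', ht'K⟩ := A.exists_not_mem_K hy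
  have e3 : t' • y' = y'' := A.smul_swap hy hy' hy'' hne hne' hne'' ht'.1 ht'.2 ht'K
  have e4 : t' • y'' = y' := A.smul_swap hy hy'' hy' hne' hne hne''.symm ht'.1 ht'.2 ht'K
  have e5 : t' • y = y := ht'.2
  have hvt : t' * v = v * t' := by
    have h1 : t' * v * t'⁻¹ = v := by
      show t' * (z y * z y'' * z y') * t'⁻¹ = z y * z y'' * z y'
      rw [mul_conj, mul_conj, ← zsmul t' hyB, ← zsmul t' hyB'', ← zsmul t' hyB', e3, e4, e5,
        mul_assoc, mul_assoc, hcom hy' hy'']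
    conv_rhs => rw [← h1]
    group
  have hle : St G a ≤ centralizer ({v} : Set G) :=
    A.St_le hy' (fun e he => mem_centralizer_singleton_iff.2 (hv1 e he.2))
      (mem_centralizer_singleton_iff.2 hvt) ht'.1 (by rw [e3]; exact hne''.symm)
  have hv := A.eq_one_of_central hy' (K_le_E hy' hvK)
    (fun g hg => mem_centralizer_singleton_iff.1 (hle hg)) hv1
  calc z y * z y' = z y'' * (z y'' * z y * z y') * 1 := by
        rw [show z y'' * (z y'' * z y * z y') * 1 = (z y'' * z y'') * (z y * z y') by group,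
          zsq hyB'', one_mul]
    _ = z y'' := by
        rw [hcom hy'' hy, show z y * z y'' * z y' = v from rfl, hv, mul_one, mul_one]

variable {z : Ω → G}

namespace Data

variable (D : Data G Γ B z)
include D

theorem z_conj (g : G) {y : Ω} (hy : B y) : g * z y * g⁻¹ = z (g • y) := (D.z_smul g hy).symm

theorem z_inv {y : Ω} (hy : B y) : (z y)⁻¹ = z y := inv_eq_of_mul_eq_one_right (D.z_sq hy)

theorem conj_eq_of_fix {g : G} {y : Ω} (hy : B y) (h : g • y = y) : g * z y * g⁻¹ = z y :=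
  comm_inv_eq (D.z_cent hy g h)

theorem z_comm_of_fix {u v : Ω} (hv : B v) (h : z u • v = v) : z u * z v = z v * z u :=
  D.z_cent hv (z u) h

theorem z_mem_Ka {a y : Ω} (ha : ¬ B a) (hy : Γ.Adj a y) : z y ∈ K G Γ a := by
  have hyB := D.B_of_adj hy ha
  exact D.char hy _ ((D.z_K hyB).2 a hy.symm) fun k hk => (D.z_cent hyB k (hk.2 y hy)).symm

theorem z_inj {a y y' : Ω} (ha : ¬ B a) (hy : Γ.Adj a y) (hy' : Γ.Adj a y') (h : z y = z y') :
    y = y' := by
  by_contra hne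
  obtain ⟨y'', h'', hn1, hn2⟩ := D.exists_third hy hy'
  refine D.z_ne (D.B_of_adj h'' ha) ?_
  rw [← D.z_three ha hy hy' h'' hne hn1.symm hn2.symm, h, D.z_sq (D.B_of_adj hy' ha)]

theorem fix_of_comm {a y : Ω} {g : G} (ha : ¬ B a) (hy : Γ.Adj a y) (hg : g • a = a)
    (h : g * z y = z y * g) : g • y = y :=
  D.z_inj ha (D.smul_adj hg hy) hy (by rw [D.z_smul g (D.B_of_adj hy ha), comm_inv_eq h])

/-- The involutions of a vertex and of its neighbours' outer neighbours differ. -/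
theorem D4 {y a a' v v' : Ω} (hy : B y) (ha : Γ.Adj y a) (ha' : Γ.Adj y a') (hne : a ≠ a')
    (hv : Γ.Adj a v) (hv' : Γ.Adj a' v') (hvy : v ≠ y) (hvy' : v' ≠ y) : z v ≠ z v' := by
  intro e
  have key : ∀ {a a' v v' : Ω}, Γ.Adj y a → Γ.Adj y a' → Γ.Adj a v → Γ.Adj a' v' → v ≠ y →
      v' ≠ y → z v = z v' →
      closure {x | ∃ w, Γ.Adj a' w ∧ x = z w} ≤ closure {x | ∃ w, Γ.Adj a w ∧ x = z w} := by
    intro a a' v v' ha ha' hv hv' hvy hvy' e
    rw [closure_le]
    rintro _ ⟨w, hw, rfl⟩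
    have h1 : z v' ∈ closure {x | ∃ w, Γ.Adj a w ∧ x = z w} := e ▸ subset_closure ⟨v, hv, rfl⟩
    have h2 : z y ∈ closure {x | ∃ w, Γ.Adj a w ∧ x = z w} := subset_closure ⟨y, ha.symm, rfl⟩
    by_cases e1 : w = y
    · exact e1 ▸ h2
    by_cases e2 : w = v'
    · exact e2 ▸ h1
    rw [← D.z_three (D.not_B_of_adj ha' hy) ha'.symm hv' hw hvy'.symm (Ne.symm e1) (Ne.symm e2)]
    exact mul_mem h2 h1
  let N := closure {x | ∃ w, Γ.Adj a w ∧ x = z w}
  have haB := D.not_B_of_adj ha hy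
  have haB' := D.not_B_of_adj ha' hy
  have heq : closure {x | ∃ w, Γ.Adj a' w ∧ x = z w} = N :=
    le_antisymm (key ha ha' hv hv' hvy hvy' e) (key ha' ha hv' hv hvy' hvy e.symm)
  have hnorm : ∀ {b : Ω}, ¬ B b → St G b ≤
      normalizer (closure {x | ∃ w, Γ.Adj b w ∧ x = z w} : Set G) := by
    intro b hb
    refine le_normalizer_closure ?_
    rintro g hg _ ⟨w, hw, rfl⟩
    exact subset_closure ⟨g • w, D.smul_adj hg hw, (D.z_smul g (D.B_of_adj hw hb)).symm⟩
  have hna : St G a ≤ normalizer (N : Set G) := hnorm haB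
  have hna' : St G a' ≤ normalizer (N : Set G) := heq ▸ hnorm haB'
  have hny : St G y ≤ normalizer (N : Set G) :=
    D.St_le' ha ha' hne (fun g hg => hna hg.2) (fun g hg => hna' hg.2)
  have hle : N ≤ E G a y := by
    rw [closure_le]
    rintro _ ⟨w, hw, rfl⟩
    exact K_le_E ha.symm (D.z_mem_Ka haB hw)
  have h1 := D.eq_bot_of_normalized ha.symm hle hna hny
  exact D.z_ne hy (Subgroup.mem_bot.1 (h1 ▸ subset_closure ⟨y, ha.symm, rfl⟩))

end Data

/-- Consecutive vertices are adjacent. -/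
def Wlk (Γ : SimpleGraph Ω) (k : ℕ) (p : ℕ → Ω) : Prop := ∀ i < k, Γ.Adj (p i) (p (i + 1))

/-- A non-backtracking sequence of `k` steps. -/
def NB (Γ : SimpleGraph Ω) (k : ℕ) (p : ℕ → Ω) : Prop :=
  Wlk Γ k p ∧ ∀ i, i + 2 ≤ k → p i ≠ p (i + 2)

/-- Prefix a vertex to a sequence. -/
def pre (x : Ω) (p : ℕ → Ω) : ℕ → Ω
  | 0 => x
  | i + 1 => p i

@[simp] theorem pre_zero (x : Ω) (p : ℕ → Ω) : pre x p 0 = x := rfl

@[simp] theorem pre_succ (x : Ω) (p : ℕ → Ω) (i : ℕ) : pre x p (i + 1) = p i := rfl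

theorem NB.adj {k : ℕ} {p : ℕ → Ω} (h : NB Γ k p) {i j : ℕ} (hj : j = i + 1) (hk : j ≤ k) :
    Γ.Adj (p i) (p j) := by subst hj; exact h.1 i (by omega)

theorem NB.ne {k : ℕ} {p : ℕ → Ω} (h : NB Γ k p) {i j : ℕ} (hj : j = i + 2) (hk : j ≤ k) :
    p i ≠ p j := by subst hj; exact h.2 i hk

theorem NB.sub {k : ℕ} {p : ℕ → Ω} (h : NB Γ k p) {m j : ℕ} (hm : m + j ≤ k) :
    NB Γ j fun i => p (m + i) :=
  ⟨fun i hi => h.1 (m + i) (by omega), fun i hi => h.2 (m + i) (by omega)⟩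

theorem NB.mono {k j : ℕ} {p : ℕ → Ω} (h : NB Γ k p) (hj : j ≤ k) : NB Γ j p :=
  ⟨fun i hi => h.1 i (by omega), fun i hi => h.2 i (by omega)⟩

theorem NB.rev {k : ℕ} {p : ℕ → Ω} (h : NB Γ k p) : NB Γ k fun i => p (k - i) :=
  ⟨fun i hi => (h.adj (i := k - (i + 1)) (j := k - i) (by omega) (by omega)).symm,
    fun i hi => (h.ne (i := k - (i + 2)) (j := k - i) (by omega) (by omega)).symm⟩

theorem NB.pre' {k : ℕ} {p : ℕ → Ω} (h : NB Γ k p) {x : Ω} (hx : Γ.Adj x (p 0))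
    (hne : 1 ≤ k → x ≠ p 1) : NB Γ (k + 1) (pre x p) :=
  ⟨fun i hi => match i with
    | 0 => hx
    | i + 1 => h.1 i (by omega),
  fun i hi => match i with
    | 0 => hne (by omega)
    | i + 1 => h.2 i (by omega)⟩

theorem Wlk.dist_le (hc : Γ.Connected) {k : ℕ} {p : ℕ → Ω} (h : Wlk Γ k p) :
    ∀ {j i : ℕ}, i ≤ j → j ≤ k → Γ.dist (p i) (p j) ≤ j - i := by
  intro j
  induction j with
  | zero => intro i hi _; rw [Nat.le_zero.1 hi, SimpleGraph.dist_self]
  | succ j ih =>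
    intro i hi hj
    rcases eq_or_lt_of_le hi with rfl | hlt
    · simp
    · refine (hc.dist_triangle (v := p j)).trans ?_
      have h1 := ih (i := i) (by omega) (by omega)
      have h2 : Γ.dist (p j) (p (j + 1)) = 1 := SimpleGraph.dist_eq_one_iff_adj.2 (h j (by omega))
      omega

theorem NB.dist_le (hc : Γ.Connected) {k : ℕ} {p : ℕ → Ω} (h : NB Γ k p) {i j : ℕ} (hi : i ≤ k)
    (hj : j ≤ k) {n : ℕ} (h1 : i ≤ j + n) (h2 : j ≤ i + n) : Γ.dist (p i) (p j) ≤ n := by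
  rcases le_total i j with hij | hij
  · have := h.1.dist_le hc hij hj; omega
  · have := h.1.dist_le hc hij hi
    rw [SimpleGraph.dist_comm]; omega

theorem dist_le_succ (hc : Γ.Connected) {x y u : Ω} (h : Γ.Adj x y) {n : ℕ}
    (hn : Γ.dist y u ≤ n) : Γ.dist x u ≤ n + 1 := by
  refine (hc.dist_triangle (v := y)).trans ?_
  rw [SimpleGraph.dist_eq_one_iff_adj.2 h]; omega

theorem dist_le_succ' (hc : Γ.Connected) {x y u : Ω} (h : Γ.Adj x y) {n : ℕ}
    (hn : Γ.dist u y ≤ n) : Γ.dist u x ≤ n + 1 := by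
  rw [SimpleGraph.dist_comm] at hn ⊢
  exact dist_le_succ hc h hn

theorem exists_step (hc : Γ.Connected) {x u : Ω} {n : ℕ} (h : Γ.dist x u = n + 1) :
    ∃ w, Γ.Adj x w ∧ Γ.dist w u = n := by
  obtain ⟨w, hw⟩ := hc.exists_walk_length_eq_dist x u
  cases w with
  | nil => simp at h
  | cons hxv w' =>
    refine ⟨_, hxv, ?_⟩
    have h1 := SimpleGraph.dist_le w'
    have h2 : Γ.dist x u ≤ Γ.dist _ u + 1 := dist_le_succ hc hxv le_rfl
    simp at hw
    omega

theorem NB.B_iff (A : Amalg G Γ B) {k : ℕ} {p : ℕ → Ω} (h : NB Γ k p) (hB : B (p 0)) :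
    ∀ {i : ℕ}, i ≤ k → (B (p i) ↔ Even i) := by
  intro i
  induction i with
  | zero => intro _; simp [hB]
  | succ i ih =>
    intro hi
    have h1 := A.bip (h.1 i (by omega))
    have h2 := ih (by omega)
    rw [Nat.even_add_one, ← h2, h1]
    tauto

/-- The involutions fix every vertex nearer than `r`, together with its neighbours. -/
def Rad (Γ : SimpleGraph Ω) (B : Ω → Prop) (z : Ω → G) (r : ℕ) : Prop :=
  ∀ y γ : Ω, B y → Γ.dist y γ < r → z y ∈ K G Γ γ

/-- A critical sequence: the involution at its start acts on the neighbours of its end. -/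
def Crit (Γ : SimpleGraph Ω) (B : Ω → Prop) (z : Ω → G) (r : ℕ) (p : ℕ → Ω) : Prop :=
  NB Γ r p ∧ B (p 0) ∧ z (p 0) ∉ K G Γ (p r)

namespace Data

variable {r : ℕ} (D : Data G Γ B z) (hR : Rad Γ B z r)
include D hR

theorem fix {y v : Ω} (hy : B y) (hd : Γ.dist y v ≤ r) : z y • v = v := by
  rcases Nat.eq_zero_or_pos (Γ.dist v y) with h0 | h0
  · rw [(D.conn.dist_eq_zero_iff).1 h0]; exact (D.z_K hy).1
  · obtain ⟨n, hn⟩ := Nat.exists_eq_succ_of_ne_zero h0.ne'
    obtain ⟨w, hw, hwd⟩ := exists_step D.conn hn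
    exact (hR y w hy (by rw [SimpleGraph.dist_comm] at hd hwd; omega)).2 v hw.symm

theorem comm {u v : Ω} (hu : B u) (hv : B v) (hd : Γ.dist u v ≤ r) : z u * z v = z v * z u :=
  D.z_comm_of_fix hv (D.fix hR hu hd)

end Data

/-- The least radius is at least two, and it comes with a critical sequence. -/
theorem Data.exists_rad (D : Data G Γ B z) {x₀ : Ω} (hB : B x₀) :
    ∃ r, 2 ≤ r ∧ Rad Γ B z r ∧ ∃ p, Crit Γ B z r p := by
  classical
  have hex : ∃ n, ∃ y γ, B y ∧ Γ.dist y γ = n ∧ z y ∉ K G Γ γ := by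
    by_contra hc
    push_neg at hc
    refine D.z_ne hB (D.faith _ fun v => ?_)
    exact (hc _ x₀ v hB rfl).1
  obtain ⟨y, γ, hy, hd, hK⟩ := Nat.find_spec hex
  have hR : Rad Γ B z (Nat.find hex) := fun y γ hy hlt => by
    by_contra hc
    exact Nat.find_min hex hlt ⟨y, γ, hy, rfl, hc⟩
  refine ⟨_, ?_, hR, ?_⟩
  · by_contra hlt
    rcases Nat.eq_zero_or_pos (Nat.find hex) with h0 | h0
    · rw [h0] at hd
      exact hK ((D.conn.dist_eq_zero_iff.1 hd) ▸ D.z_K hy)
    · have h1 : Γ.dist y γ = 1 := by omega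
      have ha := SimpleGraph.dist_eq_one_iff_adj.1 h1
      exact hK (D.z_mem_Ka (D.not_B_of_adj ha hy) ha.symm)
  · obtain ⟨w, hw⟩ := D.conn.exists_walk_length_eq_dist y γ
    rw [hd] at hw
    have hW : Wlk Γ (Nat.find hex) w.getVert := fun i hi => w.adj_getVert_succ (by omega)
    refine ⟨w.getVert, ⟨hW, fun i hi e => ?_⟩, by simpa using hy, ?_⟩
    · have h1 := hW.dist_le D.conn (i := 0) (j := i) (by omega) (by omega)
      have h2 := hW.dist_le D.conn (i := i + 2) (j := Nat.find hex) hi le_rfl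
      have h3 := D.conn.dist_triangle (u := w.getVert 0) (v := w.getVert i)
        (w := w.getVert (Nat.find hex))
      rw [show w.getVert (Nat.find hex) = γ from hw ▸ w.getVert_length] at h2 h3
      rw [← e] at h2
      rw [SimpleGraph.Walk.getVert_zero] at h1 h3
      omega
    · rwa [SimpleGraph.Walk.getVert_zero, show w.getVert (Nat.find hex) = γ from
        hw ▸ w.getVert_length]

end CfsgLib.PLocal.Gold
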