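import Cfsg.Agent.Lib.PLocal.GoldPath

/-!
Even radius: critical sequences reverse and slide in both directions.
-/

set_option autoImplicit false
set_option linter.unusedSectionVars false

namespace CfsgLib.PLocal.Gold

open Subgroup
open CfsgLib.Amalgam.Cubic (St E K Zc mem_Zc mem_K K_le_E K_le_St mem_St_smul)

variable {G : Type*} [Group G] {Ω : Type*} [MulAction G Ω] {Γ : SimpleGraph Ω} {B : Ω → Prop}
  {z : Ω → G} {r : ℕ}

theorem Amalg.exists_K_not_mem (A : Amalg G Γ B) {x y : Ω} (h : Γ.Adj x y) :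
    ∃ k ∈ K G Γ y, k ∉ K G Γ x := by
  by_contra hc
  push_neg at hc
  haveI := A.fin h
  have hle : K G Γ y ≤ K G Γ x := hc
  have hxy : E G y x ≤ E G x y := fun g hg => ⟨hg.2, hg.1⟩
  have h1 := Subgroup.relIndex_mul_relIndex (K G Γ y) (K G Γ x) (E G x y) hle (K_le_E h)
  rw [A.kidx h, show (K G Γ y).relIndex (E G x y) = 2 from by
    rw [show E G x y = E G y x from le_antisymm (fun g hg => ⟨hg.2, hg.1⟩) hxy]
    exact A.kidx h.symm] at h1
  exact A.K_ne h (le_antisymm (Subgroup.relIndex_eq_one.1 (by omega)) hle)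

theorem dist_smul_le (A : Amalg G Γ B) (g : G) {x y : Ω} {n : ℕ} (h : Γ.dist x y ≤ n) :
    Γ.dist (g • x) (g • y) ≤ n := by
  obtain ⟨w, hw⟩ := A.conn.exists_walk_length_eq_dist x y
  let f : Γ →g Γ := ⟨fun x => g • x, fun h => A.adj_smul g h⟩
  have hl := SimpleGraph.dist_le (w.map f)
  rw [SimpleGraph.Walk.length_map] at hl
  exact hl.trans (hw ▸ h)

theorem dist_fix_le (A : Amalg G Γ B) {g : G} {x y : Ω} (hx : g • x = x) {n : ℕ}
    (h : Γ.dist x y ≤ n) : Γ.dist x (g • y) ≤ n := by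
  have := dist_smul_le A g h
  rwa [hx] at this

theorem Crit.congr {p q : ℕ → Ω} (h : Crit Γ B z r p) (e : ∀ i ≤ r, q i = p i) :
    Crit Γ B z r q := by
  obtain ⟨hN, h0, hK⟩ := h
  refine ⟨⟨fun i hi => ?_, fun i hi => ?_⟩, ?_, ?_⟩
  · rw [e i (by omega), e (i + 1) (by omega)]; exact hN.1 i hi
  · rw [e i (by omega), e (i + 2) hi]; exact hN.2 i hi
  · rw [e 0 (Nat.zero_le _)]; exact h0
  · rw [e 0 (Nat.zero_le _), e r le_rfl]; exact hK

variable (D : Data G Γ B z) (hR : Rad Γ B z r) (he : Even r) (h4 : 4 ≤ r)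
include D hR he h4

/-- Elements of a `B`-kernel separate two neighbours. -/
theorem exists_mixed {y a a' : Ω} (hy : B y) (ha : Γ.Adj y a) (ha' : Γ.Adj y a') (hne : a ≠ a') :
    ∃ k ∈ K G Γ y, k ∈ K G Γ a ∧ k ∉ K G Γ a' := by
  suffices hsome : ∃ c c', Γ.Adj y c ∧ Γ.Adj y c' ∧ c ≠ c' ∧
      ∃ k ∈ K G Γ y, k ∈ K G Γ c ∧ k ∉ K G Γ c' by
    obtain ⟨c, c', hc, hc', hcc, k, hk, hk1, hk2⟩ := hsome
    obtain ⟨g, hg, e1, e2⟩ := D.exists_perm hc hc' hcc ha ha' hne
    exact ⟨g * k * g⁻¹, D.conj_mem_K hg hk, e1 ▸ D.K_smul hk1,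
      e2 ▸ fun h => hk2 (D.K_smul_iff.1 h)⟩
  by_contra hno
  push_neg at hno
  obtain ⟨b, c, hb, hc, hba, hca, hbc⟩ := D.exists_two ha
  obtain ⟨t, htK, hty⟩ := D.exists_K_not_mem ha
  have htE : t ∈ E G y a := ⟨htK.2 _ ha.symm, htK.1⟩
  have htb : t • b = c := D.smul_swap ha hb hc hba.symm hca.symm hbc htE.1 htE.2 hty
  have htc : t • c = b := D.smul_swap ha hc hb hca.symm hba.symm hbc.symm htE.1 htE.2 hty
  obtain ⟨v, hv, hvy⟩ := D.exists_one hb.symm
  let w := t • v
  have hw : Γ.Adj c w := htb ▸ D.adj_smul t hv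
  have hwy : w ≠ y := fun e => hvy (smul_left_cancel t (e.trans htE.1.symm))
  have hvB := D.B_of_adj hv (D.not_B_of_adj hb hy)
  have hwB := D.B_of_adj hw (D.not_B_of_adj hc hy)
  have ht2 : (t * t) • v = v :=
    (hno a b ha hb hba.symm (t * t) (D.mul_mem_K ha htE htE hty hty) (mul_mem htK htK)).2 v hv
  have hdy : ∀ {b v : Ω}, Γ.Adj y b → Γ.Adj b v → Γ.dist v y ≤ 2 := fun hb hv =>
    dist_le_succ D.conn hv.symm (SimpleGraph.dist_eq_one_iff_adj.2 hb.symm).le
  have hvw : Γ.dist v w ≤ 4 := dist_le_succ D.conn hv.symm (dist_le_succ D.conn hb.symm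
    (dist_le_succ D.conn hc (SimpleGraph.dist_eq_one_iff_adj.2 hw).le))
  have hvy' : z v * z y = z y * z v :=
    D.comm hR hvB hy ((hdy hb hv).trans (by omega))
  have hwy' : z w * z y = z y * z w := D.comm hR hwB hy ((hdy hc hw).trans (by omega))
  have hcomm : z v * z w = z w * z v := D.comm hR hvB hwB (hvw.trans h4)
  let q := z v * z w
  have hqK : ∀ k ∈ K G Γ y, k * q = q * k := by
    intro k hk
    suffices h : k * q * k⁻¹ = q by (conv_rhs => rw [← h]); group
    show k * (z v * z w) * k⁻¹ = z v * z w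
    rw [mul_conj]
    by_cases hkb : k ∈ K G Γ b
    · rw [D.conj_eq_of_fix hvB (hkb.2 v hv),
        D.conj_eq_of_fix hwB ((hno b c hb hc hbc k hk hkb).2 w hw)]
    · have key : ∀ {b v : Ω}, Γ.Adj y b → Γ.Adj b v → v ≠ y → k ∉ K G Γ b →
          k * z v * k⁻¹ = z y * z v := by
        intro b v hb hv hvy hkb
        have hbB := D.not_B_of_adj hb hy
        obtain ⟨v', hv', hn1, hn2⟩ := D.exists_third hb.symm hv
        rw [D.z_conj _ (D.B_of_adj hv hbB), D.smul_swap hb.symm hv hv' hvy.symm hn1.symm hn2.symm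
          (hk.2 _ hb) hk.1 hkb, D.z_three hbB hb.symm hv hv' hvy.symm hn1.symm hn2.symm]
      have hkc : k ∉ K G Γ c := fun h => hkb (hno c b hc hb hbc.symm k hk h)
      rw [key hb hv hvy hkb, key hc hw hwy hkc, mul_assoc (z y), ← mul_assoc (z v), hvy',
        ← mul_assoc (z y), ← mul_assoc (z y), D.z_sq hy, one_mul]
  have hqt : t * q = q * t := by
    suffices h : t * q * t⁻¹ = q by (conv_rhs => rw [← h]); group
    show t * (z v * z w) * t⁻¹ = z v * z w
    rw [mul_conj, D.z_conj t hvB, D.z_conj t hwB, show t • w = v by rw [← mul_smul]; exact ht2]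
    exact hcomm.symm
  have hqE : ∀ e ∈ E G y a, e * q = q * e := by
    intro e he
    by_cases heK : e ∈ K G Γ y
    · exact hqK e heK
    · have hk := hqK _ (D.inv_mul_mem_K ha htE he hty heK)
      calc e * q = t * ((t⁻¹ * e) * q) := by group
        _ = t * (q * (t⁻¹ * e)) := by rw [hk]
        _ = (t * q) * (t⁻¹ * e) := by group
        _ = (q * t) * (t⁻¹ * e) := by rw [hqt]
        _ = q * e := by group
  have hfix : ∀ {b v : Ω}, Γ.Adj y b → Γ.Adj b v → B v → z v ∈ E G y a := fun hb hv hv' =>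
    ⟨D.fix hR hv' ((hdy hb hv).trans (by omega)), D.fix hR hv'
      ((dist_le_succ' D.conn ha.symm (hdy hb hv)).trans (by omega))⟩
  have hq2 : q * q = 1 := by
    show z v * z w * (z v * z w) = 1
    rw [show z v * z w * (z v * z w) = z v * (z w * z v) * z w by group, ← hcomm,
      show z v * (z v * z w) * z w = (z v * z v) * (z w * z w) by group, D.z_sq hvB, D.z_sq hwB,
      one_mul]
  have hqS := D.cent ha hy q (mem_Zc.2 ⟨mul_mem (hfix hb hv hvB) (hfix hc hw hwB), hq2, hqE⟩)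
  obtain ⟨g, hg, hgb, hgc⟩ := D.exists_perm hb hc hbc ha hc hca.symm
  have hg1 : Γ.Adj a (g • v) := hgb ▸ D.adj_smul g hv
  have hg2 : Γ.Adj c (g • w) := hgc ▸ D.adj_smul g hw
  have hgy : ∀ {v : Ω}, v ≠ y → g • v ≠ y := fun h e =>
    h (smul_left_cancel g (e.trans (St_fix hg).symm))
  have heq : z (g • v) * z (g • w) = z v * z w := by
    rw [← D.z_conj g hvB, ← D.z_conj g hwB, ← mul_conj]
    exact comm_inv_eq (hqS g hg)
  have haB := D.not_B_of_adj ha hy
  have hcB := D.not_B_of_adj hc hy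
  obtain ⟨v1, hv1, hn1, hn2⟩ := D.exists_third ha.symm hg1
  by_cases e : g • w = w
  · rw [e] at heq
    exact D.D4 hy ha hb hba.symm hg1 hv (hgy hvy) hvy (mul_right_cancel heq)
  · rw [← D.z_three hcB hc.symm hw hg2 hwy.symm (hgy hwy).symm (Ne.symm e), ← mul_assoc] at heq
    refine D.D4 hy ha hb hba.symm hv1 hv hn1 hvy ?_
    rw [← D.z_three haB hg1 ha.symm hv1 (hgy hvy) hn2.symm hn1.symm]
    exact mul_right_cancel heq

/-- A mover of length `r + 1` makes every sequence of length `r` critical. -/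
theorem crit_of_mover {p : ℕ → Ω} (hp : Crit Γ B z r p) {m : ℕ → Ω} (hm : NB Γ (r + 1) m)
    (hm0 : B (m 0)) {g : G} (hg : Moves G Γ (r + 1) m g) {q : ℕ → Ω} (hq : NB Γ r q)
    (hq0 : B (q 0)) : Crit Γ B z r q := by
  obtain ⟨hN, h0, hK⟩ := id hp
  refine D.crit_of_tr ?_ hp hq hq0
  have hz0M : Moves G Γ r p (z (p 0)) :=
    ⟨fun i hi => D.fix hR h0 ((hN.dist_le D.conn (by omega) hi (n := i) (by omega) (by omega)).trans
      hi), hK⟩
  refine D.tr_of_movers (hN.adj (i := 0) (j := 1) rfl (by omega)) h0 fun k hk hk' => ?_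
  rcases Nat.even_or_odd k with hev | hodd
  · refine ⟨fun i => p (r - k + i), z (p 0), hN.sub (by omega), ?_, hz0M.sub (by omega)⟩
    exact (hN.B_iff D.toAmalg h0 (by omega)).2 (by
      rcases he with ⟨a, ha⟩; rcases hev with ⟨b, hb⟩; exact ⟨a - b, by omega⟩)
  · refine ⟨fun i => m (r + 1 - k + i), g, hm.sub (by omega), ?_, hg.sub (by omega)⟩
    exact (hm.B_iff D.toAmalg hm0 (by omega)).2 (by
      rcases he with ⟨a, ha⟩; rcases hodd with ⟨b, hb⟩; exact ⟨a - b, by omega⟩)

/-- A critical sequence, extended twice, is critical backwards. -/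
theorem crit_rev {e : ℕ → Ω} (hN : NB Γ (r + 2) e) (hC : Crit Γ B z r e) :
    Crit Γ B z r fun i => e (r + 2 - i) := by
  have h0 : B (e 0) := hC.2.1
  have hBr : B (e r) := (hN.B_iff D.toAmalg h0 (by omega)).2 he
  have hBq : B (e (r + 2)) := (hN.B_iff D.toAmalg h0 le_rfl).2 (Even.add he even_two)
  refine ⟨hN.rev.mono (by omega), by simpa using hBq, fun hk => ?_⟩
  simp only [Nat.sub_zero, show r + 2 - r = 2 by omega] at hk
  have hf1 : z (e (r + 2)) • e 1 = e 1 := hk.2 _ (hN.adj (i := 1) (j := 2) rfl (by omega)).symm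
  by_cases hk1 : z (e (r + 2)) ∈ K G Γ (e 1)
  · have hf0 : z (e (r + 2)) • e 0 = e 0 := hk1.2 _ (hN.adj (i := 0) (j := 1) rfl (by omega)).symm
    have hc := D.z_comm_of_fix h0 hf0
    have hfr : z (e 0) • e r = e r :=
      D.fix hR h0 (hN.dist_le D.conn (by omega) (by omega) (by omega) (by omega))
    have ha := hN.adj (i := r) (j := r + 1) rfl (by omega)
    have hmv : z (e 0) • e (r + 1) ≠ e (r + 1) :=
      D.smul_ne (hN.adj (i := r - 1) (j := r) (by omega) (by omega)).symm ha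
        (hN.ne (by omega) (by omega)) hfr (D.fix hR h0 (hN.dist_le D.conn (by omega) (by omega)
          (by omega) (by omega))) hC.2.2
    refine D.D4 hBr (D.smul_adj hfr ha) ha hmv
      (D.adj_smul (z (e 0)) (hN.adj (i := r + 1) (j := r + 2) rfl le_rfl))
      (hN.adj (i := r + 1) (j := r + 2) rfl le_rfl)
      (fun e' => hN.ne (i := r) (j := r + 2) rfl le_rfl
        (smul_left_cancel (z (e 0)) (e'.trans hfr.symm)).symm)
      (hN.ne (i := r) (j := r + 2) rfl le_rfl).symm ?_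
    rw [D.z_smul _ hBq, comm_inv_eq hc.symm]
  · have hM : Moves G Γ (r + 1) (fun i => e (r + 2 - i)) (z (e (r + 2))) :=
      ⟨fun i hi => by
        rcases eq_or_lt_of_le hi with rfl | hlt
        · show z (e (r + 2)) • e (r + 2 - (r + 1)) = e (r + 2 - (r + 1))
          rw [show r + 2 - (r + 1) = 1 by omega]; exact hf1
        · exact D.fix hR hBq (hN.dist_le D.conn le_rfl (by omega) (by omega) (by omega)),
      by show _ ∉ K G Γ (e (r + 2 - (r + 1))); rw [show r + 2 - (r + 1) = 1 by omega]; exact hk1⟩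
    have := (crit_of_mover D hR he h4 hC (hN.rev.mono (by omega)) (by simpa using hBq) hM
      (hN.rev.mono (by omega)) (by simpa using hBq)).2.2
    simp only [Nat.sub_zero, show r + 2 - r = 2 by omega] at this
    exact this hk

/-- Some backward extension of a critical sequence is critical. -/
theorem crit_back_exists {e : ℕ → Ω} (hN : NB Γ (r + 2) e) (hC : Crit Γ B z r e) :
    ∃ x y, NB Γ (r + 2) (pre x (pre y e)) ∧ Crit Γ B z r (pre x (pre y e)) := by
  have h0 : B (e 0) := hC.2.1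
  have hBr : B (e r) := (hN.B_iff D.toAmalg h0 (by omega)).2 he
  have hB2 : B (e 2) := (hN.B_iff D.toAmalg h0 (by omega)).2 even_two
  have hBq : B (e (r + 2)) := (hN.B_iff D.toAmalg h0 le_rfl).2 (Even.add he even_two)
  have hp1 : ¬ B (e 1) := (hN.B_iff D.toAmalg h0 (by omega)).not.2 (by decide)
  have h01 := (hN.adj (i := 0) (j := 1) rfl (by omega)).symm
  have h12 := hN.adj (i := 1) (j := 2) rfl (by omega)
  have h23 := hN.adj (i := 2) (j := 3) rfl (by omega)
  have hrK := (crit_rev D hR he h4 hN hC).2.2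
  simp only [Nat.sub_zero, show r + 2 - r = 2 by omega] at hrK
  obtain ⟨ze, hze⟩ : ∃ ze, ze = z (e (r + 2)) := ⟨_, rfl⟩
  rw [← hze] at hrK
  have hf : ∀ i, 2 ≤ i → i ≤ r + 2 → ze • e i = e i := fun i hi hi' => hze ▸
    D.fix hR hBq (hN.dist_le D.conn le_rfl hi' (by omega) (by omega))
  have hze1 : ze • e 1 ≠ e 1 :=
    D.smul_ne h23 h12.symm (hN.ne (i := 1) (j := 3) rfl (by omega)).symm
      (hf 2 le_rfl (by omega)) (hf 3 (by omega) (by omega)) hrK
  have hsq : ze * ze = 1 := hze ▸ D.z_sq hBq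
  have hzinv : ze⁻¹ = ze := inv_eq_of_mul_eq_one_right hsq
  by_contra hno
  push_neg at hno
  let S : Set G := {w | ∃ v, B v ∧ (Γ.dist (e 0) v ≤ 2 ∨ Γ.dist (e 2) v ≤ 2) ∧ w = z v}
  -- the near end of `S` is carried into `S` up to the product of two generators
  have h02 : ze * z (e 0) * ze⁻¹ ∈ closure S := by
    rw [D.z_conj _ h0]
    refine subset_closure ⟨_, (D.B_smul _ _).2 h0, Or.inr ?_, rfl⟩
    exact dist_fix_le D.toAmalg (hf 2 le_rfl (by omega))
      (hN.dist_le D.conn (by omega) (by omega) (by omega) (by omega))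
  have hgen : ∀ w ∈ S, ze * w * ze⁻¹ ∈ closure S := by
    rintro _ ⟨v, hv, hd, rfl⟩
    by_cases hd2 : Γ.dist (e 2) v ≤ 2
    · rw [D.z_conj _ hv]
      exact subset_closure ⟨_, (D.B_smul _ _).2 hv,
        Or.inr (dist_fix_le D.toAmalg (hf 2 le_rfl (by omega)) hd2), rfl⟩
    have hd0 : Γ.dist (e 0) v ≤ 2 := hd.resolve_right hd2
    rcases Nat.eq_zero_or_pos (Γ.dist (e 0) v) with e0 | e0
    · rwa [← D.conn.dist_eq_zero_iff.1 e0]
    obtain ⟨m, hm⟩ := Nat.exists_eq_succ_of_ne_zero e0.ne'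
    obtain ⟨y, hy, hyd⟩ := exists_step D.conn hm
    have hyv : Γ.Adj y v := by
      rcases Nat.eq_zero_or_pos m with rfl | hm0
      · exact absurd hv ((D.conn.dist_eq_zero_iff.1 hyd) ▸ D.not_B_of_adj hy h0)
      · exact SimpleGraph.dist_eq_one_iff_adj.1 (by omega)
    by_cases hy1 : y = e 1
    · subst hy1
      exact absurd (dist_le_succ D.conn h12.symm (SimpleGraph.dist_eq_one_iff_adj.2 hyv).le) hd2
    by_cases hv0 : v = e 0
    · rwa [hv0]
    have hs : NB Γ (r + 2) (pre v (pre y e)) :=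
      (((hN.mono (j := r) (by omega))).pre' hy.symm fun _ => hy1).pre' hyv.symm fun _ => hv0
    have hC' := hno v y hs
    obtain ⟨m', rfl⟩ : ∃ m', r = m' + 2 := ⟨r - 2, by omega⟩
    have hfixs : ∀ i, i ≤ m' + 2 → z v • pre v (pre y e) i = pre v (pre y e) i := fun i hi =>
      D.fix hR hv (by
        have := hs.dist_le D.conn (i := 0) (j := i) (by omega) (by omega) (n := i) (by omega)
          (by omega)
        simp at this; omega)
    have hk0 : z v ∈ K G Γ (e m') := by
      by_contra hc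
      exact hC' ⟨hs.mono (by omega), hv, by simpa using hc⟩
    have hf3 : z v • e (m' + 1) = e (m' + 1) := hk0.2 _ (hN.adj rfl (by omega))
    have hk1 : z v ∈ K G Γ (e (m' + 1)) := by
      by_contra hc
      refine hC' (crit_of_mover D hR he h4 hC (m := pre v (pre y e)) (hs.mono (by omega)) hv
        ⟨fun i hi => ?_, by simpa using hc⟩ (hs.mono (by omega)) hv)
      rcases eq_or_lt_of_le hi with rfl | hlt
      · simpa using hf3
      · exact hfixs i (by omega)
    have hfv : ∀ i, i ≤ m' + 2 → z v • e i = e i := fun i hi => by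
      rcases Nat.lt_or_ge i (m' + 1) with hlt | hge
      · have := hfixs (i + 2) (by omega); simpa using this
      · rcases eq_or_lt_of_le hge with rfl | hlt
        · exact hf3
        · rw [show i = m' + 2 by omega]; exact hk1.2 _ (hN.adj rfl (by omega))
    have hfz : ∀ i, i ≤ m' + 2 → z (e 0) • e i = e i := fun i hi =>
      D.fix hR h0 (hN.dist_le D.conn (by omega) (by omega) (by omega) (by omega))
    -- an element fixing the sequence and its first extension commutes with `ze`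
    have main : ∀ c, (∀ i, i ≤ m' + 2 → c • e i = e i) → c ∈ K G Γ (e (m' + 2)) →
        c * ze = ze * c := by
      intro c hcf hcK
      have hc3 : c • e (m' + 3) = e (m' + 3) := hcK.2 _ (hN.adj rfl (by omega))
      by_cases hck : c ∈ K G Γ (e (m' + 3))
      · exact hze ▸ D.z_cent hBq c (hck.2 _ (hN.adj rfl (by omega)))
      · refine absurd (crit_of_mover D hR he h4 hC (m := e) (hN.mono (by omega)) h0
          ⟨fun i hi => ?_, hck⟩ (hs.mono (by omega)) hv) hC'
        rcases eq_or_lt_of_le hi with rfl | hlt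
        · exact hc3
        · exact hcf i (by omega)
    by_cases hkr : z v ∈ K G Γ (e (m' + 2))
    · rw [comm_inv_eq (main _ hfv hkr).symm]
      exact subset_closure ⟨v, hv, hd, rfl⟩
    · have hprod : z v * z (e 0) ∈ K G Γ (e (m' + 2)) :=
        D.mul_mem_K (y := e (m' + 1)) (hN.adj (i := m' + 1) rfl (by omega)).symm
          ⟨hfv _ le_rfl, hfv _ (by omega)⟩ ⟨hfz _ le_rfl, hfz _ (by omega)⟩ hkr hC.2.2
      have hc := main (z v * z (e 0))
        (fun i hi => by rw [mul_smul, hfz i hi, hfv i hi]) hprod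
      have he2 : ze * z v * ze⁻¹ = z v * z (e 0) * (ze * z (e 0) * ze⁻¹) := by
        calc ze * z v * ze⁻¹ = ze * (z v * z (e 0) * z (e 0)) * ze⁻¹ := by
              rw [mul_assoc (z v), D.z_sq h0, mul_one]
          _ = (ze * (z v * z (e 0))) * z (e 0) * ze⁻¹ := by group
          _ = ((z v * z (e 0)) * ze) * z (e 0) * ze⁻¹ := by rw [hc]
          _ = z v * z (e 0) * (ze * z (e 0) * ze⁻¹) := by group
      rw [he2]
      exact mul_mem (mul_mem (subset_closure ⟨v, hv, hd, rfl⟩)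
        (subset_closure ⟨e 0, h0, Or.inl (by simp), rfl⟩)) h02
  have hnz : ze ∈ normalizer (closure S : Set G) := mem_of_conj_mem hsq hgen
  have hnK : K G Γ (e 1) ≤ normalizer (closure S : Set G) := by
    refine le_normalizer_closure ?_
    rintro g hg _ ⟨v, hv, hd, rfl⟩
    rw [D.z_conj _ hv]
    refine subset_closure ⟨_, (D.B_smul _ _).2 hv, ?_, rfl⟩
    rcases hd with hd | hd
    · exact Or.inl (dist_fix_le D.toAmalg (hg.2 _ h01) hd)
    · exact Or.inr (dist_fix_le D.toAmalg (hg.2 _ h12) hd)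
  obtain ⟨t, ht1, ht2⟩ := D.exists_K_not_mem h12.symm
  have htE : t ∈ E G (e 2) (e 1) := ⟨ht1.2 _ h12, ht1.1⟩
  obtain ⟨c, hc, hn1, hn3⟩ := D.exists_third h12.symm h23
  have hzec : ze • e 1 = c :=
    D.smul_swap h23 h12.symm hc (hN.ne (i := 1) (j := 3) rfl (by omega)).symm hn3.symm hn1.symm
      (hf 2 le_rfl (by omega)) (hf 3 (by omega) (by omega)) hrK
  have htc : t • c = e 3 := D.smul_swap h12.symm hc h23 hn1.symm
    (hN.ne (i := 1) (j := 3) rfl (by omega)) hn3 htE.1 htE.2 ht2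
  have hn3' : K G Γ (e 3) ≤ normalizer (closure S : Set G) := by
    intro g hg
    have e3 : (t * ze) • e 1 = e 3 := by rw [mul_smul, hzec, htc]
    have h1 : (t * ze)⁻¹ * g * (t * ze) ∈ K G Γ (e 1) := by
      have := D.K_smul (g := (t * ze)⁻¹) (h := g) (x := (t * ze) • e 1) (by rw [e3]; exact hg)
      rwa [inv_inv, inv_smul_smul] at this
    have hm := mul_mem (hnK ht1) hnz
    have := mul_mem (mul_mem hm (hnK h1)) (inv_mem hm)
    rwa [show t * ze * ((t * ze)⁻¹ * g * (t * ze)) * (t * ze)⁻¹ = g by group] at this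
  have hnE : E G (e 2) (e 1) ≤ normalizer (closure S : Set G) := by
    obtain ⟨k, hk, hk3, hk1⟩ := exists_mixed D hR he h4 hB2 h23 h12.symm
      (hN.ne (i := 1) (j := 3) rfl (by omega)).symm
    have hk2 : K G Γ (e 2) ≤ normalizer (closure S : Set G) := by
      intro g hg
      by_cases hg1 : g ∈ K G Γ (e 1)
      · exact hnK hg1
      have := mul_mem (hn3' hk3) (hnK (D.inv_mul_mem_K (y := e 2) h12 ⟨hk.2 _ h12.symm, hk.1⟩
        ⟨hg.2 _ h12.symm, hg.1⟩ hk1 hg1))
      rwa [mul_inv_cancel_left] at this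
    intro g hg
    by_cases hg2 : g ∈ K G Γ (e 2)
    · exact hk2 hg2
    have := mul_mem (hnK ht1) (hk2 (D.inv_mul_mem_K h12.symm htE hg ht2 hg2))
    rwa [mul_inv_cancel_left] at this
  have hn2 : St G (e 2) ≤ normalizer (closure S : Set G) :=
    D.St_le h12.symm hnE hnz (hf 2 le_rfl (by omega)) hze1
  obtain ⟨p0, hp0, hm0, hm2⟩ := D.exists_third h01 h12
  let T : Set G := {w | ∃ v, B v ∧ Γ.dist (e 1) v ≤ 3 ∧ w = z v}
  have hTS : closure T = closure S := by
    refine le_antisymm ?_ ((closure_le _).2 ?_)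
    · rw [closure_le]
      rintro _ ⟨v, hv, hd, rfl⟩
      rcases Nat.eq_zero_or_pos (Γ.dist (e 1) v) with e0 | e0
      · exact absurd hv ((D.conn.dist_eq_zero_iff.1 e0) ▸ hp1)
      obtain ⟨m, hm⟩ := Nat.exists_eq_succ_of_ne_zero e0.ne'
      obtain ⟨y, hy, hyd⟩ := exists_step D.conn hm
      rcases D.eq_of_three h01 h12 hp0 hy (hN.ne (i := 0) (j := 2) rfl (by omega)) hm0.symm
        hm2.symm with rfl | rfl | rfl
      · exact subset_closure ⟨v, hv, Or.inl (by omega), rfl⟩
      · exact subset_closure ⟨v, hv, Or.inr (by omega), rfl⟩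
      · obtain ⟨g, hgE, hgK⟩ := D.exists_not_mem_K h12
        have hsw : g • e 0 = y := D.smul_swap h12 h01 hy
          (hN.ne (i := 0) (j := 2) rfl (by omega)).symm hm2.symm hm0.symm hgE.1 hgE.2 hgK
        have hd' : Γ.dist (e 0) (g⁻¹ • v) ≤ 2 := by
          have := dist_smul_le D.toAmalg g⁻¹ (x := g • e 0) (y := v) (n := 2)
            (by rw [hsw]; omega)
          rwa [inv_smul_smul] at this
        have hm' : z (g⁻¹ • v) ∈ closure S :=
          subset_closure ⟨_, (D.B_smul _ _).2 hv, Or.inl hd', rfl⟩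
        have hgn := hnE ⟨hgE.2, hgE.1⟩
        have := (mem_normalizer_iff.1 hgn (z (g⁻¹ • v))).1 hm'
        rwa [D.z_conj _ ((D.B_smul _ _).2 hv), smul_inv_smul] at this
    · rintro _ ⟨v, hv, hd, rfl⟩
      refine subset_closure ⟨v, hv, ?_, rfl⟩
      rcases hd with hd | hd
      · exact dist_le_succ D.conn h01 hd
      · exact dist_le_succ D.conn h12 hd
  have hn1' : St G (e 1) ≤ normalizer (closure S : Set G) := by
    rw [← hTS]
    refine le_normalizer_closure ?_
    rintro g hg _ ⟨v, hv, hd, rfl⟩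
    rw [D.z_conj _ hv]
    exact subset_closure ⟨_, (D.B_smul _ _).2 hv, dist_fix_le D.toAmalg hg hd, rfl⟩
  have hle : closure S ≤ E G (e 1) (e 2) := by
    rw [← hTS, closure_le]
    rintro _ ⟨v, hv, hd, rfl⟩
    rw [SimpleGraph.dist_comm] at hd
    exact ⟨D.fix hR hv (hd.trans (by omega)),
      D.fix hR hv ((dist_le_succ' D.conn h12.symm hd).trans (by omega))⟩
  have hbot := D.eq_bot_of_normalized h12 hle hn1' hn2
  exact D.z_ne h0 (Subgroup.mem_bot.1 (hbot ▸ subset_closure ⟨e 0, h0, Or.inl (by simp), rfl⟩))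

end CfsgLib.PLocal.Gold
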