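import Cfsg.Agent.Lib.PLocal.GoldNatural

/-!
Even radii from six on are impossible.
-/

set_option autoImplicit false
set_option linter.unusedSectionVars false

namespace CfsgLib.PLocal.Gold

open Subgroup
open CfsgLib.Amalgam.Cubic (St E K Zc mem_Zc mem_K K_le_E K_le_St mem_St_smul)

variable {G : Type*} [Group G] {Ω : Type*} [MulAction G Ω] {Γ : SimpleGraph Ω} {B : Ω → Prop}
  {z : Ω → G} {r : ℕ} (D : Data G Γ B z) (hR : Rad Γ B z r) (he : Even r)

theorem pre_two_eq (x y : Ω) (p : ℕ → Ω) {n i : ℕ} (h : n = i + 2) :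
    pre x (pre y p) n = p i := by subst h; rfl

include D hR he

/-- With the natural shape, the commutator along a sequence is a middle involution. -/
theorem mid_eq (h6 : 6 ≤ r) (hNat : Natural Γ B z) {s : ℕ → Ω} (hN : NB Γ (r + 2) s)
    (hC : Crit Γ B z r s) :
    z (s 0) * (z (s (r + 2)) * z (s 0) * z (s (r + 2))) = z (s 4) ∧
      ∃ w, Γ.Adj (s (r - 1)) w ∧ z (s 4) = z w := by
  have h4 : 4 ≤ r := by omega
  have h0 : B (s 0) := hC.2.1
  have hBq : B (s (r + 2)) := (hN.B_iff D.toAmalg h0 le_rfl).2 (Even.add he even_two)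
  have hB2 : B (s 2) := (hN.B_iff D.toAmalg h0 (by omega)).2 even_two
  have hBr : B (s r) := (hN.B_iff D.toAmalg h0 (by omega)).2 he
  have hs3 : ¬ B (s 3) := (hN.B_iff D.toAmalg h0 (by omega)).not.2 (by decide)
  have hrev := (crit_rev D hR he h4 hN hC).2.2
  simp only [Nat.sub_zero, show r + 2 - r = 2 by omega] at hrev
  obtain ⟨u, hu⟩ : ∃ u, u = z (s 0) := ⟨_, rfl⟩
  obtain ⟨v, hv⟩ : ∃ v, v = z (s (r + 2)) := ⟨_, rfl⟩
  have hfu : ∀ i, i ≤ r → u • s i = s i := fun i hi => hu ▸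
    D.fix hR h0 (hN.dist_le D.conn (by omega) (by omega) (by omega) (by omega))
  have hfv : ∀ i, 2 ≤ i → i ≤ r + 2 → v • s i = s i := fun i hi hi' => hv ▸
    D.fix hR hBq (hN.dist_le D.conn le_rfl hi' (by omega) (by omega))
  rw [← hv] at hrev
  rw [← hu, ← hv]
  have h01 := (hN.adj (i := 0) (j := 1) rfl (by omega)).symm
  have h12 := (hN.adj (i := 1) (j := 2) rfl (by omega)).symm
  have h23 := hN.adj (i := 2) (j := 3) rfl (by omega)
  have h34 := hN.adj (i := 3) (j := 4) rfl (by omega)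
  have hn13 := hN.ne (i := 1) (j := 3) rfl (by omega)
  have hv1 : v • s 1 ≠ s 1 :=
    D.smul_ne h23 h12 hn13.symm (hfv 2 le_rfl (by omega)) (hfv 3 (by omega) (by omega)) hrev
  have hv3 : v • s 1 ≠ s 3 := fun e =>
    hn13 (smul_left_cancel v (e.trans (hfv 3 (by omega) (by omega)).symm))
  have hA : Γ.Adj (v • s 1) (v • s 0) := D.adj_smul v h01
  have hv0 : v • s 0 ≠ s 2 := fun e => (hN.ne (i := 0) (j := 2) rfl (by omega))
    (smul_left_cancel v (e.trans (hfv 2 le_rfl (by omega)).symm))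
  have ef : u * (v * u * v) = z (s 0) * z (v • s 0) := by
    rw [← hu, D.z_smul v h0, ← hu, show v⁻¹ = v from hv ▸ D.z_inv hBq]
  -- the near end
  obtain ⟨w, hw, hwne, hweq⟩ := hNat (s 2) (s 1) (v • s 1) (s 3) (s 0) (v • s 0) hB2 h12
    (D.smul_adj (hfv 2 le_rfl (by omega)) h12) h23 hv1.symm hn13 hv3 h01
    (hN.ne (i := 0) (j := 2) rfl (by omega)) hA hv0
  -- the far end
  have hr1 := hN.adj (i := r - 1) (j := r) (by omega) (by omega)
  have hra := hN.adj (i := r) (j := r + 1) rfl (by omega)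
  have hab := hN.adj (i := r + 1) (j := r + 2) rfl le_rfl
  have hna : s (r + 1) ≠ s (r - 1) := (hN.ne (by omega) (by omega)).symm
  have hu1 : u • s (r + 1) ≠ s (r + 1) :=
    D.smul_ne hr1.symm hra hna.symm (hfu r le_rfl) (hfu _ (by omega)) (hu ▸ hC.2.2)
  have hu3 : u • s (r + 1) ≠ s (r - 1) := fun e =>
    hna (smul_left_cancel u (e.trans (hfu _ (by omega)).symm))
  have hu0 : u • s (r + 2) ≠ s r := fun e => (hN.ne (i := r) (j := r + 2) rfl le_rfl).symm
    (smul_left_cancel u (e.trans (hfu r le_rfl).symm))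
  obtain ⟨w', hw', hwne', hweq'⟩ := hNat (s r) (u • s (r + 1)) (s (r + 1)) (s (r - 1))
    (u • s (r + 2)) (s (r + 2)) hBr (D.smul_adj (hfu r le_rfl) hra) hra hr1.symm hu1 hu3 hna
    (D.adj_smul u hab) hu0 hab (hN.ne (i := r) (j := r + 2) rfl le_rfl).symm
  have ef' : u * (v * u * v) = z (u • s (r + 2)) * z (s (r + 2)) := by
    rw [D.z_smul u hBq, ← hv, show u⁻¹ = u from hu ▸ D.z_inv h0]; group
  rw [ef] at ef'
  have key : z (s 4) = z w := by
    by_cases e : w = s 4
    · rw [e]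
    exfalso
    have hn24 := hN.ne (i := 2) (j := 4) rfl (by omega)
    have he3 : z (s 2) * z (s 4) = z w :=
      D.z_three hs3 h23.symm h34 hw hn24 hwne.symm (Ne.symm e)
    have hC2 := (crit_fwd D hR he h4 hN hC).2.2
    simp only [Nat.add_zero, Nat.add_comm 2 r] at hC2
    refine hC2 ?_
    have h1 : z w' ∈ K G Γ (s (r + 2)) := hR _ _ (B_outer D hBr hr1.symm hw')
      (lt_of_le_of_lt (dist_le_succ D.conn hw'.symm
        (hN.dist_le D.conn (i := r - 1) (j := r + 2) (n := 3) (by omega) le_rfl (by omega)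
          (by omega))) (by omega))
    have h2 : z (s 4) ∈ K G Γ (s (r + 2)) :=
      hR _ _ ((hN.B_iff D.toAmalg h0 (by omega)).2 (by decide))
        (lt_of_le_of_lt (hN.dist_le D.conn (i := 4) (j := r + 2) (n := r - 2) (by omega) le_rfl
          (by omega) (by omega)) (by omega))
    rw [← hweq', ← ef', hweq] at h1
    have := mul_mem h1 (inv_mem h2)
    rwa [← he3, mul_inv_cancel_right] at this
  refine ⟨?_, w', hw', ?_⟩
  · rw [ef, hweq, key]
  · rw [key, ← hweq, ef', hweq']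

theorem not_rad_even_large (h8 : 8 ≤ r) (hNat : Natural Γ B z) {p : ℕ → Ω}
    (hp : Crit Γ B z r p) : False := by
  have h4 : 4 ≤ r := by omega
  obtain ⟨e, hN, heq⟩ := D.extend_two (by omega) hp.1
  have hC : Crit Γ B z r e := hp.congr heq
  -- slide backwards twice, so that `e 0` is in the middle
  have hB : ¬ B (e 1) := (hN.B_iff D.toAmalg hC.2.1 (by omega)).not.2 (by decide)
  obtain ⟨y, hy, hyne⟩ := D.exists_one (hN.adj (i := 0) (j := 1) rfl (by omega))
  obtain ⟨x, hx, hxne⟩ := D.exists_one hy.symm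
  have hs : NB Γ (r + 2) (pre x (pre y e)) :=
    ((hN.mono (j := r) (by omega)).pre' hy.symm fun _ => hyne).pre' hx.symm fun _ => hxne
  have hsC : Crit Γ B z r (pre x (pre y e)) :=
    crit_back D hR he h4 hs (hC.congr fun i _ => by simp [Nat.add_comm 2 i])
  obtain ⟨-, w', hw', hweq⟩ := mid_eq D hR he (by omega) hNat hs hsC
  rw [pre_two_eq x y e (show r - 1 = r - 3 + 2 by omega), pre_two_eq x y e (show 4 = 2 + 2 from rfl)]
    at *
  have hfwd := (crit_fwd D hR he h4 hN hC).2.2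
  simp only [Nat.add_zero, Nat.add_comm 2 r] at hfwd
  refine hfwd ?_
  have hB3 : ¬ B (e (r - 3)) := (hN.B_iff D.toAmalg hC.2.1 (by omega)).not.2 (by
    rcases he with ⟨a, ha⟩; rintro ⟨b, hb⟩; omega)
  rw [hweq]
  exact hR _ _ (D.B_of_adj hw' hB3) (lt_of_le_of_lt (dist_le_succ D.conn hw'.symm
    (hN.dist_le D.conn (i := r - 3) (j := r + 2) (n := 5) (by omega) le_rfl (by omega)
      (by omega))) (by omega))

omit he in
theorem not_rad_six (hr : r = 6) (hNat : Natural Γ B z) {p : ℕ → Ω} (hp : Crit Γ B z r p) :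
    False := by
  subst hr
  have he : Even 6 := by decide
  have h4 : 4 ≤ 6 := by norm_num
  obtain ⟨e, hN, heq⟩ := D.extend_two (by norm_num) hp.1
  have hC : Crit Γ B z 6 e := hp.congr heq
  have hC2 := crit_fwd D hR he h4 hN hC
  obtain ⟨e', hN', heq'⟩ := D.extend_two (by norm_num) hC2.1
  have hC2' : Crit Γ B z 6 e' := hC2.congr heq'
  -- a sequence of length ten whose three windows are critical
  let q : ℕ → Ω := pre (e 0) (pre (e 1) e')
  have e'0 : e' 0 = e 2 := heq' 0 (Nat.zero_le _)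
  have e'1 : e' 1 = e 3 := heq' 1 (by norm_num)
  have hq : NB Γ 10 q := by
    refine (hN'.pre' ?_ fun _ => ?_).pre' (hN.adj (i := 0) (j := 1) rfl (by norm_num)) fun _ => ?_
    · rw [e'0]; exact hN.adj rfl (by norm_num)
    · rw [e'1]; exact hN.ne rfl (by norm_num)
    · show e 0 ≠ pre (e 1) e' 1
      rw [show pre (e 1) e' 1 = e' 0 from rfl, e'0]; exact hN.ne rfl (by norm_num)
  have hq0 : Crit Γ B z 6 q := hC.congr fun i hi => by
    match i, hi with
    | 0, _ => rfl
    | 1, _ => rfl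
    | j + 2, hj => show e' j = e (j + 2); rw [heq' j (by omega), Nat.add_comm]
  have key : ∀ q : ℕ → Ω, NB Γ 10 q → Crit Γ B z 6 q →
      Crit Γ B z 6 (fun i => q (10 - i)) ∧
        z (q 0) * ((z (q 10) * z (q 0) * z (q 10)) * z (q 0) * (z (q 10) * z (q 0) * z (q 10))) =
          z (q 4) := by
    intro q hq hq0
    have hB : ∀ i, i ≤ 10 → Even i → B (q i) := fun i hi hev =>
      (hq.B_iff D.toAmalg hq0.2.1 hi).2 hev
    have h2 := crit_fwd D hR he h4 (hq.mono (by norm_num)) hq0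
    have h4' := crit_fwd D hR he h4 (e := fun i => q (2 + i)) (hq.sub (by norm_num)) h2
    have hrev : Crit Γ B z 6 (fun i => q (10 - i)) :=
      (crit_symm D hR he h4 h4').congr fun i hi => by
        show q (10 - i) = q (2 + (2 + (6 - i)))
        congr 1; omega
    refine ⟨hrev, ?_⟩
    have hK : z (q 10) ∉ K G Γ (q 4) := by simpa using hrev.2.2
    obtain ⟨y, hy⟩ : ∃ y, y = z (q 10) := ⟨_, rfl⟩
    rw [← hy] at hK
    have hfy : ∀ i, 4 ≤ i → i ≤ 10 → y • q i = q i := fun i hi hi' => hy ▸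
      D.fix hR (hB 10 le_rfl (by decide))
        (hq.dist_le D.conn le_rfl hi' (by omega) (by omega))
    have hy3 : y • q 3 ≠ q 3 :=
      D.smul_ne (hq.adj (i := 4) (j := 5) rfl (by norm_num))
        (hq.adj (i := 3) (j := 4) rfl (by norm_num)).symm (hq.ne rfl (by norm_num)).symm
        (hfy 4 le_rfl (by norm_num)) (hfy 5 (by norm_num) (by norm_num)) hK
    obtain ⟨a, ha, hane⟩ := D.exists_one (hq.adj (i := 0) (j := 1) rfl (by norm_num))
    obtain ⟨x, hx, hxne⟩ := D.exists_one ha.symm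
    -- fold the sequence at `q 4`
    let t : ℕ → Ω := fun i => if i ≤ 4 then q i else y • q (8 - i)
    have ht4 : ∀ i, i ≤ 4 → t i = q i := fun i hi => if_pos hi
    have ht5 : ∀ i, 4 ≤ i → i ≤ 8 → t i = y • q (8 - i) := fun i hi hi' => by
      rcases eq_or_lt_of_le hi with rfl | hlt
      · rw [ht4 _ le_rfl]; exact (hfy 4 le_rfl (by norm_num)).symm
      · exact if_neg (by omega)
    have htN : NB Γ 8 t := by
      refine ⟨fun i hi => ?_, fun i hi => ?_⟩
      · rcases Nat.lt_or_ge i 4 with h | h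
        · rw [ht4 i h.le, ht4 _ (by omega)]; exact hq.1 i (by omega)
        · rw [ht5 i h (by omega), ht5 _ (by omega) (by omega)]
          exact D.adj_smul y (hq.adj (i := 8 - (i + 1)) (j := 8 - i) (by omega) (by omega)).symm
      · rcases Nat.lt_or_ge i 3 with h | h
        · rw [ht4 i (by omega), ht4 _ (by omega)]; exact hq.2 i (by omega)
        · rcases eq_or_lt_of_le h with rfl | h
          · rw [ht4 3 (by norm_num), ht5 _ (by norm_num) (by norm_num)]
            exact hy3.symm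
          · rw [ht5 i (by omega) (by omega), ht5 _ (by omega) (by omega)]
            exact fun e => hq.ne (i := 8 - (i + 2)) (j := 8 - i) (by omega) (by omega)
              (smul_left_cancel y e).symm
    have hsN : NB Γ 8 (pre x (pre a t)) := by
      refine ((htN.mono (j := 6) (by norm_num)).pre' ?_ fun _ => ?_).pre' hx.symm fun _ => ?_
      · rw [ht4 0 (by norm_num)]; exact ha.symm
      · rw [ht4 1 (by norm_num)]; exact hane
      · show x ≠ pre a t 1
        rw [pre_succ, ht4 0 (by norm_num)]; exact hxne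
    have hpre : Crit Γ B z 6 (pre x (pre a q)) :=
      crit_back D hR he h4
        (((hq.mono (j := 6) (by norm_num)).pre' ha.symm fun _ => hane).pre' hx.symm fun _ => hxne)
        (hq0.congr fun i _ => by simp [Nat.add_comm 2 i])
    have hsC : Crit Γ B z 6 (pre x (pre a t)) := hpre.congr fun i hi => by
      match i, hi with
      | 0, _ => rfl
      | 1, _ => rfl
      | j + 2, hj => exact ht4 j (by omega)
    have htC : Crit Γ B z 6 t :=
      (crit_fwd D hR he h4 hsN hsC).congr fun i _ => (pre_two_eq x a t (by omega)).symm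
    have := (mid_eq D hR he le_rfl hNat htN htC).1
    rw [ht4 0 (by norm_num), ht4 4 le_rfl, ht5 (6 + 2) (by norm_num) le_rfl,
      show 8 - (6 + 2) = 0 from rfl, D.z_smul y hq0.2.1,
      show y⁻¹ = y from hy ▸ D.z_inv (hB 10 le_rfl (by decide))] at this
    rw [← hy]
    exact this
  obtain ⟨hrev, h1⟩ := key q hq hq0
  have h2 := (key _ hq.rev hrev).2
  simp only [Nat.sub_zero, Nat.sub_self, show 10 - 4 = 6 from rfl] at h2
  have hB : ∀ i, i ≤ 10 → Even i → B (q i) := fun i hi hev =>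
    (hq.B_iff D.toAmalg hq0.2.1 hi).2 hev
  obtain ⟨u, hu⟩ : ∃ u, u = z (q 0) := ⟨_, rfl⟩
  obtain ⟨y, hy⟩ : ∃ y, y = z (q 10) := ⟨_, rfl⟩
  have hu2 : u⁻¹ = u := hu ▸ D.z_inv (hB 0 (Nat.zero_le _) (by decide))
  have hy2 : y⁻¹ = y := hy ▸ D.z_inv (hB 10 le_rfl (by decide))
  rw [← hu, ← hy] at h1 h2
  have h : z (q 6) = (z (q 4))⁻¹ := by
    rw [← h1, ← h2]
    simp only [mul_inv_rev, hu2, hy2, mul_assoc]
  rw [D.z_inv (hB 4 (by norm_num) (by decide))] at h
  exact hq.ne (i := 4) (j := 6) rfl (by norm_num) (D.z_inj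
    ((hq.B_iff D.toAmalg hq0.2.1 (by norm_num)).not.2 (by decide))
    (hq.adj (i := 4) (j := 5) rfl (by norm_num)).symm (hq.adj (i := 5) (j := 6) rfl (by norm_num))
    h.symm)

end CfsgLib.PLocal.Gold
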