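import Cfsg.Agent.Lib.PLocal.GoldFourTurn

/-!
Radius four: the edge group has order at most `2 ^ 7`.
-/

set_option autoImplicit false
set_option linter.unusedSectionVars false

namespace CfsgLib.PLocal.Gold

open Subgroup
open CfsgLib.Amalgam.Cubic (St E K Zc mem_Zc mem_K K_le_E K_le_St mem_St_smul)

variable {G : Type*} [Group G] {Ω : Type*} [MulAction G Ω] {Γ : SimpleGraph Ω} {B : Ω → Prop}
  {z : Ω → G}

variable (D : Data G Γ B z) (hR : Rad Γ B z 4) (hNat : Natural Γ B z)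
include D hR hNat

/-- The ball of radius three about a vertex outside `B` holds only its four involutions. -/
theorem inZ_of_ball3 {p : ℕ → Ω} (hp : Crit Γ B z 4 p) {a : Ω} (ha : ¬ B a) {y₀ : Ω}
    (hay : Γ.Adj a y₀) {e₀ : G} (he₀ : ∀ y, Γ.Adj a y → e₀ ∈ Ball2 G Γ y) : InZ Γ z a e₀ := by
  by_contra hne
  let N : Subgroup G := ⨅ (y : Ω) (_ : Γ.Adj a y), Ball2 G Γ y
  have hN : ∀ {e}, e ∈ N ↔ ∀ y, Γ.Adj a y → e ∈ Ball2 G Γ y := by
    intro e; simp [N, Subgroup.mem_iInf]
  let Z : Subgroup G :=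
    { carrier := {g | InZ Γ z a g}
      one_mem' := Or.inl rfl
      mul_mem' := fun h h' => h.mul D ha h'
      inv_mem' := fun h => h.inv D ha }
  have hB : ∀ {y}, Γ.Adj a y → B y := fun h => D.B_of_adj h ha
  have hNn : ∀ {g}, g • a = a → ∀ {e}, e ∈ N → g * e * g⁻¹ ∈ N := by
    intro g hg e he
    refine hN.2 fun y hy => ?_
    have hy' : Γ.Adj a (g⁻¹ • y) := D.smul_adj (inv_mem (show g ∈ St G a from hg)) hy
    have := D.Ball2_smul (g := g) (hN.1 he _ hy')
    rwa [smul_inv_smul] at this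
  have hfixN : ∀ {e}, e ∈ N → ∀ {u}, Γ.Adj a u → e • u = u :=
    fun he _ hu => (mem_Ball2.1 (hN.1 he _ hu)).1.1
  have hcommX : ∀ {e X}, e ∈ N → InZ Γ z a X → e * X = X * e := fun he hX =>
    hX.comm D ha fun u hu => hfixN he hu
  have hNK : ∀ {e}, e ∈ N → e ∈ K G Γ a := fun he =>
    (mem_Ball2.1 (hN.1 he _ hay)).2 a hay.symm
  -- the turning element acts on `N` through the involution of the fixed neighbour
  have turnN : ∀ {y y' y''}, Γ.Adj a y → Γ.Adj a y' → Γ.Adj a y'' → y ≠ y' → y ≠ y'' → y' ≠ y'' →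
      ∃ h : G, h • y = y ∧ h • a = a ∧ h • y' = y'' ∧
        ∀ e ∈ N, h * e * h⁻¹ = e ∨ h * e * h⁻¹ = e * z y := by
    intro y y' y'' hy hy' hy'' n1 n2 n3
    obtain ⟨a0, t, g, h, ha0, hne0, -, -, -, -, -, -, -, -, hhy, hha, hhy', hhd⟩ :=
      exists_turn D hR hNat hp (hB hy) hy hy' hy'' n1 n2 n3
    refine ⟨h, hhy, hha, hhy', fun e he => ?_⟩
    obtain ⟨X, hX, hXe⟩ := hhd e (hN.1 he y hy)
    have hXN : X ∈ N := by
      have := mul_mem (inv_mem he) (hNn hha he)
      rwa [hXe, inv_mul_cancel_left] at this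
    rcases hX with rfl | ⟨u, hu, rfl⟩
    · exact Or.inl (by rw [hXe, mul_one])
    by_cases hu' : u = y
    · exact Or.inr (by rw [hXe, hu'])
    exfalso
    let s : ℕ → Ω := pre u (pre a0 (pre y (pre a fun _ => y')))
    have hs : NB Γ 4 s := ⟨fun i hi => by
        match i, hi with
        | 0, _ => exact hu.symm
        | 1, _ => exact ha0.symm
        | 2, _ => exact hy.symm
        | 3, _ => exact hy'
        | j + 4, hj => omega,
      fun i hi => by
        match i, hi with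
        | 0, _ => exact hu'
        | 1, _ => exact hne0
        | 2, _ => exact n1
        | j + 3, hj => omega⟩
    exact (all_crit_four D hR hp hs (B_outer D (hB hy) ha0 hu)).2.2
      (mem_Ball2.1 (hN.1 hXN y' hy')).1
  -- an element central modulo `Z`
  haveI := D.fin hay.symm
  haveI : Finite ↥(E G y₀ a) := Finite.of_injective _ (Subgroup.inclusion_injective inf_le_left)
  obtain ⟨e, he, heZ, hcen₀⟩ : ∃ e, e ∈ N ∧ ¬ InZ Γ z a e ∧
      ∀ k ∈ E G y₀ a, InZ Γ z a (e⁻¹ * (k * e * k⁻¹)) := by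
    haveI : (Z.subgroupOf (E G y₀ a)).Normal :=
      ⟨fun n hn k => InZ.conj D ha hn (St_fix k.2.2)⟩
    haveI : (N.subgroupOf (E G y₀ a)).Normal :=
      ⟨fun n hn k => hNn (St_fix k.2.2) hn⟩
    let π := QuotientGroup.mk' (Z.subgroupOf (E G y₀ a))
    haveI : ((N.subgroupOf (E G y₀ a)).map π).Normal :=
      Subgroup.Normal.map inferInstance π (QuotientGroup.mk'_surjective _)
    have hne' : (N.subgroupOf (E G y₀ a)).map π ≠ ⊥ := by
      intro h
      have heN := hN.2 he₀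
      have hmem : (⟨e₀, (mem_Ball2.1 (he₀ _ hay)).1.1, (hNK heN).1⟩ : ↥(E G y₀ a)) ∈
          N.subgroupOf (E G y₀ a) := heN
      have := Subgroup.mem_map_of_mem π hmem
      rw [h, Subgroup.mem_bot] at this
      exact hne ((QuotientGroup.eq_one_iff _).1 this)
    haveI := Fact.mk Nat.prime_two
    haveI : Group.IsNilpotent (↥(E G y₀ a) ⧸ Z.subgroupOf (E G y₀ a)) :=
      ((D.two hay.symm).to_quotient _).isNilpotent
    obtain ⟨q, hq, hq1⟩ := (Subgroup.bot_or_exists_ne_one _).resolve_left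
      (CfsgLib.Solvable.normal_inf_center_ne_bot _ hne')
    obtain ⟨hqN, hqc⟩ := Subgroup.mem_inf.1 hq
    obtain ⟨x, hx, rfl⟩ := Subgroup.mem_map.1 hqN
    refine ⟨x, hx, fun h => hq1 ((QuotientGroup.eq_one_iff _).2 h), fun k hk => ?_⟩
    have h1 := Subgroup.mem_center_iff.1 hqc (π ⟨k, hk⟩)
    have h2 : x⁻¹ * (⟨k, hk⟩ * x * (⟨k, hk⟩ : ↥(E G y₀ a))⁻¹) ∈ Z.subgroupOf (E G y₀ a) := by
      refine (QuotientGroup.eq_one_iff _).1 ?_
      show π _ = 1
      rw [map_mul, map_inv, map_mul, map_mul, map_inv, h1, mul_inv_cancel_right, inv_mul_cancel]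
    exact h2
  have hcen : ∀ {y}, Γ.Adj a y → ∀ k ∈ E G y a, InZ Γ z a (e⁻¹ * (k * e * k⁻¹)) := by
    intro y hy k hk
    by_cases hkK : k ∈ K G Γ a
    · exact hcen₀ k ⟨hkK.2 _ hay, hkK.1⟩
    obtain ⟨y', y'', hy', hy'', n1, n2, n3⟩ := D.exists_two hy
    obtain ⟨h, hhy, hha, hhy', hhe⟩ := turnN hy hy' hy'' n1.symm n2.symm n3
    have hhK : h ∉ K G Γ a := fun hK => n3 ((hK.2 _ hy').symm.trans hhy')
    have hk' := D.inv_mul_mem_K hy ⟨hha, hhy⟩ ⟨hk.2, hk.1⟩ hhK hkK
    have hX := hcen₀ _ ⟨hk'.2 _ hay, hk'.1⟩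
    have hY : InZ Γ z a (e⁻¹ * (h * e * h⁻¹)) := by
      rcases hhe e he with h' | h' <;> rw [h']
      · exact Or.inl (inv_mul_cancel _)
      · rw [inv_mul_cancel_left]; exact Or.inr ⟨y, hy, rfl⟩
    have := hY.mul D ha (hX.conj D ha hha)
    rwa [show e⁻¹ * (h * e * h⁻¹) * (h * (e⁻¹ * (h⁻¹ * k * e * (h⁻¹ * k)⁻¹)) * h⁻¹) =
      e⁻¹ * (k * e * k⁻¹) by group] at this
  -- it commutes with the kernel
  have hK : ∀ k ∈ K G Γ a, k * e = e * k := by
    have key : ∀ {y y' y''}, Γ.Adj a y → Γ.Adj a y' → Γ.Adj a y'' → y ≠ y' → y ≠ y'' → y' ≠ y'' →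
        ∀ k ∈ K G Γ a, e⁻¹ * (k * e * k⁻¹) = 1 ∨ e⁻¹ * (k * e * k⁻¹) = z y := by
      intro y y' y'' hy hy' hy'' n1 n2 n3
      have hyB := hB hy
      have main : ∀ k ∈ K G Γ y, e⁻¹ * (k * e * k⁻¹) = 1 ∨ e⁻¹ * (k * e * k⁻¹) = z y := by
        intro k hk
        have hkE : k ∈ E G y a := ⟨hk.1, hk.2 _ hy.symm⟩
        obtain ⟨a0, t, g, -, ha0, hne0, ht, hty, hgy, hg2, hgzy, hgz', hgz'', hgd, -, -, -, -⟩ :=
          exists_turn D hR hNat hp hyB hy hy' hy'' n1 n2 n3
        have ha0B := D.not_B_of_adj ha0 hyB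
        have hgi : g⁻¹ = g := inv_eq_of_mul_eq_one_right hg2
        obtain ⟨X1, hX1, e1⟩ := hgd e (hN.1 he y hy)
        have hk' : g * k * g ∈ K G Γ y := by
          have := D.conj_mem_K (show g ∈ St G y from hgy) hk
          rwa [hgi] at this
        have hX := hcen hy k hkE
        have hX' := hcen hy (g * k * g) ⟨hk'.1, hk'.2 _ hy.symm⟩
        have hkX1 : (g * k * g) * X1 * (g * k * g)⁻¹ = X1 ∨
            (g * k * g) * X1 * (g * k * g)⁻¹ = X1 * z y := by
          rcases hX1 with rfl | ⟨u, hu, rfl⟩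
          · exact Or.inl (by group)
          rw [D.z_conj _ (B_outer D hyB ha0 hu)]
          by_cases hu' : u = y
          · subst hu'; exact Or.inl (by rw [hk'.1])
          rcases outer_alt D hyB ha0 hu (D.smul_adj (hk'.2 _ ha0) hu) hu'
            (fun e' => hu' (smul_left_cancel _ (e'.trans hk'.1.symm))) with h | h
          · exact Or.inl (by rw [h])
          · exact Or.inr h
        have hZy : InZ Γ z a (z y) := Or.inr ⟨y, hy, rfl⟩
        obtain ⟨X', hX'def⟩ : ∃ X', X' = e⁻¹ * ((g * k * g) * e * (g * k * g)⁻¹) := ⟨_, rfl⟩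
        have hcom : X' * X1 = X1 * X' := by
          rw [← hX'def] at hX'
          refine (hX'.comm D ha fun u hu => ?_).symm
          rcases hX1 with rfl | ⟨v, hv, rfl⟩
          · exact one_smul _ u
          · exact D.fix hR (B_outer D hyB ha0 hv) (dist_le_succ D.conn hv.symm
              (dist_le_succ D.conn ha0.symm (dist_le_succ D.conn hy.symm
                (SimpleGraph.dist_eq_one_iff_adj.2 hu).le)))
        have hX1sq : X1 * X1 = 1 := by
          rcases hX1 with rfl | ⟨u, hu, rfl⟩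
          · exact one_mul 1
          · exact D.z_sq (B_outer D hyB ha0 hu)
        have eqn : g * (e⁻¹ * (k * e * k⁻¹)) * g =
            X1 * X' * ((g * k * g) * X1 * (g * k * g)⁻¹) := by
          calc g * (e⁻¹ * (k * e * k⁻¹)) * g
              = (g * e * g⁻¹)⁻¹ * ((g * k * g⁻¹) * (g * e * g⁻¹) * (g * k * g⁻¹)⁻¹) *
                  (g * g) := by group
            _ = (e * X1)⁻¹ * ((g * k * g) * (e * X1) * (g * k * g)⁻¹) := by
                rw [hgi, hg2, e1, mul_one]
            _ = X1⁻¹ * X' * ((g * k * g) * X1 * (g * k * g)⁻¹) := by rw [hX'def]; group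
            _ = X1 * X' * ((g * k * g) * X1 * (g * k * g)⁻¹) := by
                rw [inv_eq_of_mul_eq_one_right hX1sq]
        have hgX : InZ Γ z a (g * (e⁻¹ * (k * e * k⁻¹)) * g) := by
          rw [eqn, ← hcom, mul_assoc]
          rw [← hX'def] at hX'
          refine hX'.mul D ha ?_
          rcases hkX1 with h | h <;> rw [h]
          · rw [hX1sq]; exact Or.inl rfl
          · rw [← mul_assoc, hX1sq, one_mul]; exact hZy
        have bad : ∀ {v}, Γ.Adj a v → ¬ InZ Γ z a (z v * z t) := by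
          intro v hv h
          have h2 : InZ Γ z a (z t) := by
            have := InZ.mul D ha (Or.inr ⟨v, hv, rfl⟩) h
            rwa [← mul_assoc, D.z_sq (hB hv), one_mul] at this
          rcases h2 with h2 | ⟨w, hw, hw'⟩
          · exact D.z_ne (B_outer D hyB ha0 ht) h2
          · by_cases hwy : w = y
            · exact hty (D.z_inj ha0B ht ha0.symm (hwy ▸ hw'))
            · exact D.D4 hyB ha0 hy.symm hne0 ht hw hty hwy hw'
        rcases hX with h | ⟨u, hu, h⟩
        · exact Or.inl h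
        rw [h] at hgX
        rcases D.eq_of_three hy hy' hy'' hu n1 n2 n3 with rfl | rfl | rfl
        · exact Or.inr h
        · rw [hgz'] at hgX; exact absurd hgX (bad hy')
        · rw [hgz''] at hgX; exact absurd hgX (bad hy'')
      intro k hk
      obtain ⟨c, hc, hca⟩ := D.exists_one hy'.symm
      obtain ⟨w, hw, hwy⟩ := D.exists_one hc.symm
      have hwB := B_outer D (hB hy') hc hw
      let s : ℕ → Ω := pre w (pre c (pre y' (pre a fun _ => y)))
      have hs : NB Γ 4 s := ⟨fun i hi => by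
          match i, hi with
          | 0, _ => exact hw.symm
          | 1, _ => exact hc.symm
          | 2, _ => exact hy'.symm
          | 3, _ => exact hy
          | j + 4, hj => omega,
        fun i hi => by
          match i, hi with
          | 0, _ => exact hwy
          | 1, _ => exact hca
          | 2, _ => exact n1.symm
          | j + 3, hj => omega⟩
      have hwa : z w • a = a := D.fix hR hwB
        ((hs.dist_le D.conn (i := 0) (j := 3) (n := 3) (by omega) (by omega) (by omega)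
          (by omega)).trans (by omega))
      have hwy0 : z w • y = y := D.fix hR hwB
        (hs.dist_le D.conn (i := 0) (j := 4) (n := 4) (by omega) (by omega) (by omega) (by omega))
      by_cases hky : k ∈ K G Γ y
      · exact main k hky
      have hzk := D.mul_mem_K hy.symm (t := z w) (t' := k) ⟨hwy0, hwa⟩ ⟨hk.2 _ hy, hk.1⟩
        ((all_crit_four D hR hp hs hwB).2.2) hky
      have := main _ hzk
      have hX := hcen hy k ⟨hk.2 _ hy, hk.1⟩
      have hwe : z w * e * (z w)⁻¹ = e :=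
        comm_inv_eq (D.z_cent hwB e (Ball2.fix (hN.1 he y' hy') hc hw)).symm
      have hwX : z w * (e⁻¹ * (k * e * k⁻¹)) * (z w)⁻¹ = e⁻¹ * (k * e * k⁻¹) :=
        comm_inv_eq (hX.comm D ha fun u hu => D.fix hR hwB (dist_le_succ' D.conn hu.symm
          (hs.dist_le D.conn (i := 0) (j := 3) (n := 3) (by omega) (by omega) (by omega)
            (by omega))))
      have heq : e⁻¹ * ((z w * k) * e * (z w * k)⁻¹) = e⁻¹ * (k * e * k⁻¹) := by
        calc e⁻¹ * ((z w * k) * e * (z w * k)⁻¹)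
            = e⁻¹ * (z w * e * (z w)⁻¹) * (z w * (e⁻¹ * (k * e * k⁻¹)) * (z w)⁻¹) := by group
          _ = e⁻¹ * (k * e * k⁻¹) := by rw [hwe, hwX, inv_mul_cancel, one_mul]
      rwa [heq] at this
    obtain ⟨y', y'', hy', hy'', n1, n2, n3⟩ := D.exists_two hay
    intro k hk
    have h1 := key hay hy' hy'' n1.symm n2.symm n3 k hk
    have h2 := key hy' hay hy'' n1 n3 n2.symm k hk
    have h : e⁻¹ * (k * e * k⁻¹) = 1 := by
      rcases h1 with h | h
      · exact h
      rcases h2 with h' | h'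
      · exact h'
      exact absurd (D.z_inj ha hay hy' (h.symm.trans h')) n1.symm
    calc k * e = e * (e⁻¹ * (k * e * k⁻¹)) * k := by group
      _ = e * k := by rw [h, mul_one]
  -- it is an involution
  obtain ⟨y', y'', hy', hy'', n1, n2, n3⟩ := D.exists_two hay
  have hsqE : ∀ {y}, Γ.Adj a y → ∀ g ∈ E G a y, g * (e * e) = e * e * g := by
    intro y hy g hg
    have hKK : ∀ k ∈ K G Γ a, k * (e * e) = e * e * k := fun k hk => by
      rw [← mul_assoc, hK k hk, mul_assoc, hK k hk, mul_assoc]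
    by_cases hgK : g ∈ K G Γ a
    · exact hKK g hgK
    obtain ⟨u', u'', hu', hu'', m1, m2, m3⟩ := D.exists_two hy
    obtain ⟨h, hhy, hha, hhy', hhe⟩ := turnN hy hu' hu'' m1.symm m2.symm m3
    have hh : h * (e * e) = e * e * h := by
      have : h * (e * e) * h⁻¹ = e * e := by
        rw [mul_conj]
        rcases hhe e he with h' | h' <;> rw [h']
        have hZy : InZ Γ z a (z y) := Or.inr ⟨y, hy, rfl⟩
        rw [mul_assoc, ← mul_assoc (z y), ← hcommX he hZy, mul_assoc e (z y), D.z_sq (hB hy),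
          mul_one]
      conv_rhs => rw [← this]
      group
    have hk := hKK _ (D.inv_mul_mem_K hy ⟨hha, hhy⟩ hg
      (fun hK => m3 ((hK.2 _ hu').symm.trans hhy')) hgK)
    calc g * (e * e) = h * ((h⁻¹ * g) * (e * e)) := by group
      _ = h * (e * e) * (h⁻¹ * g) := by rw [hk, ← mul_assoc]
      _ = e * e * g := by rw [hh]; group
  have he2 : e * e = 1 := by
    by_contra hc
    have hz : St G a ≤ centralizer ({e * e} : Set G) :=
      D.St_le' hay hy' n1.symm (fun g hg => mem_centralizer_singleton_iff.2 (hsqE hay g hg))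
        (fun g hg => mem_centralizer_singleton_iff.2 (hsqE hy' g hg))
    have hle : zpowers (e * e) ≤ E G a y₀ :=
      zpowers_le.2 (mul_mem ⟨(hNK he).1, hfixN he hay⟩ ⟨(hNK he).1, hfixN he hay⟩)
    have hcomm : ∀ g ∈ St G a, ∀ w ∈ zpowers (e * e), g * w = w * g := by
      intro g hg w hw
      obtain ⟨n, rfl⟩ := mem_zpowers_iff.1 hw
      exact (Commute.zpow_right (show Commute g (e * e) from
        mem_centralizer_singleton_iff.1 (hz hg)) n).eq
    obtain ⟨u, hu, huz, hu1⟩ := D.exists_Zc hay hle (zpowers_ne_bot.2 hc) fun g hg =>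
      centralizer_le_normalizer _ (mem_centralizer_iff.2 fun w hw => (hcomm g hg.1 w hw).symm)
    exact hu1 (D.eq_one_of_central' hay ha (mem_Zc.1 hu).1 (mem_Zc.1 hu).2.1
      fun g hg => hcomm g hg u huz)
  -- each neighbour centralizes some element of `e Z`
  have hf : ∀ {y}, Γ.Adj a y →
      ∃ f, InZ Γ z a (e⁻¹ * f) ∧ f ∈ E G a y ∧ ∀ g ∈ St G y, g * f = f * g := by
    intro y hy
    obtain ⟨y', y'', hy', hy'', m1, m2, m3⟩ := D.exists_two hy
    obtain ⟨h, hhy, hha, hhy', hhe⟩ := turnN hy hy' hy'' m1.symm m2.symm m3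
    have hfin : ∀ X, InZ Γ z a X → (∀ k ∈ K G Γ a, k * X = X * k) → X ∈ E G a y →
        h * (e * X) * h⁻¹ = e * X → ∃ f, InZ Γ z a (e⁻¹ * f) ∧ f ∈ E G a y ∧
          ∀ g ∈ St G y, g * f = f * g := by
      intro X hX hXK hXE hh
      have hmem : e * X ∈ E G a y := mul_mem ⟨(hNK he).1, hfixN he hy⟩ hXE
      have hXsq : X * X = 1 := by
        rcases hX with rfl | ⟨u, hu, rfl⟩
        · exact one_mul 1
        · exact D.z_sq (hB hu)
      have hsq : e * X * (e * X) = 1 := by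
        rw [show e * X * (e * X) = e * (X * e) * X by group, ← hcommX he hX,
          show e * (e * X) * X = (e * e) * (X * X) by group, he2, hXsq, one_mul]
      refine ⟨e * X, by rw [inv_mul_cancel_left]; exact hX, hmem,
        D.cent hy.symm (hB hy) _ (mem_Zc.2 ⟨⟨hmem.2, hmem.1⟩, hsq, fun g hg => ?_⟩)⟩
      have hKX : ∀ k ∈ K G Γ a, k * (e * X) = e * X * k := fun k hk => by
        rw [← mul_assoc, hK k hk, mul_assoc, hXK k hk, mul_assoc]
      by_cases hgK : g ∈ K G Γ a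
      · exact hKX g hgK
      have hk := hKX _ (D.inv_mul_mem_K hy ⟨hha, hhy⟩ ⟨hg.2, hg.1⟩
        (fun hK => m3 ((hK.2 _ hy').symm.trans hhy')) hgK)
      calc g * (e * X) = h * ((h⁻¹ * g) * (e * X)) := by group
        _ = h * (e * X) * (h⁻¹ * g) := by rw [hk, ← mul_assoc]
        _ = (h * (e * X) * h⁻¹) * g := by group
        _ = e * X * g := by rw [hh]
    rcases hhe e he with h' | h'
    · exact hfin 1 (Or.inl rfl) (fun k _ => by rw [mul_one, one_mul]) (one_mem _)
        (by rw [mul_one, h'])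
    · refine hfin (z y') (Or.inr ⟨y', hy', rfl⟩)
        (fun k hk => D.z_cent (hB hy') k (hk.2 _ hy'))
        ⟨(D.z_mem_Ka ha hy').1, (D.z_mem_Ka ha hy').2 _ hy⟩ ?_
      rw [mul_conj, h', D.z_conj h (hB hy'), hhy', mul_assoc,
        D.z_three ha hy hy'' hy' m2.symm m1.symm m3.symm]
  obtain ⟨f, hfZ, hfE, hfc⟩ := hf hay
  obtain ⟨f', hfZ', -, hfc'⟩ := hf hy'
  have hone : ∀ x, x ∈ E G a y₀ → (∀ g ∈ St G y₀, g * x = x * g) →
      (∀ g ∈ St G y', g * x = x * g) → x = 1 := by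
    intro x hx hx1 hx2
    have hle : St G a ≤ centralizer ({x} : Set G) :=
      D.St_le' hay hy' n1.symm (fun g hg => mem_centralizer_singleton_iff.2 (hx1 g hg.2))
        (fun g hg => mem_centralizer_singleton_iff.2 (hx2 g hg.2))
    exact D.eq_one_of_central hay hx (fun g hg => mem_centralizer_singleton_iff.1 (hle hg)) hx1
  have hcm : ∀ {g u v : G}, g * u = u * g → g * v = v * g → g * (u * v) = u * v * g :=
    fun h1 h2 => by rw [← mul_assoc, h1, mul_assoc, h2, mul_assoc]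
  have hzy : z y₀ ∈ E G a y₀ := ⟨(D.z_mem_Ka ha hay).1, (D.z_K (hB hay)).1⟩
  have fin : InZ Γ z a f := by
    have hd := (hfZ.inv D ha).mul D ha hfZ'
    rw [show (e⁻¹ * f)⁻¹ * (e⁻¹ * f') = f⁻¹ * f' by group] at hd
    rcases hd with h | ⟨u, hu, h⟩
    · rw [inv_mul_eq_one.1 h] at hfE hfc ⊢
      exact Or.inl (hone f' hfE hfc hfc')
    have hf' : f' = f * z u := by rw [← h, mul_inv_cancel_left]
    rcases D.eq_of_three hay hy' hy'' hu n1.symm n2.symm n3 with rfl | rfl | rfl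
    · have := hone f' (hf' ▸ mul_mem hfE hzy)
        (fun g hg => hf' ▸ hcm (hfc g hg) (D.z_cent (hB hay) g hg)) hfc'
      rw [hf'] at this
      exact Or.inr ⟨_, hay, (eq_inv_of_mul_eq_one_left this).trans (D.z_inv (hB hay))⟩
    · refine Or.inl (hone f hfE hfc fun g hg => ?_)
      rw [show f = f' * z u by rw [hf', mul_assoc, D.z_sq (hB hy'), mul_one]]
      exact hcm (hfc' g hg) (D.z_cent (hB hy') g hg)
    · have he' : f' * z y' = f * z y₀ := by
        rw [hf', mul_assoc, D.z_three ha hu hy' hay n3.symm n2 n1]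
      have := hone (f * z y₀) (mul_mem hfE hzy)
        (fun g hg => hcm (hfc g hg) (D.z_cent (hB hay) g hg))
        (fun g hg => he' ▸ hcm (hfc' g hg) (D.z_cent (hB hy') g hg))
      exact Or.inr ⟨_, hay, (eq_inv_of_mul_eq_one_left this).trans (D.z_inv (hB hay))⟩
  refine heZ ?_
  have := fin.mul D ha (hfZ.inv D ha)
  rwa [show f * (e⁻¹ * f)⁻¹ = e by group] at this

/-- Radius four: the edge group has order at most `2 ^ 7`. -/
theorem bound_four {p : ℕ → Ω} (hp : Crit Γ B z 4 p) {y a : Ω} (hy : B y) (h : Γ.Adj y a) :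
    Nat.card ↥(E G y a) ≤ 2 ^ 7 := by
  classical
  have haB := D.not_B_of_adj h hy
  obtain ⟨y', y'', hy', hy'', hn', hn'', hnn⟩ := D.exists_two h.symm
  have hy'B := D.B_of_adj hy' haB
  have hy''B := D.B_of_adj hy'' haB
  obtain ⟨b, b', hb, hb', hba, hb'a, hbb⟩ := D.exists_two h
  obtain ⟨c, hc, hca⟩ := D.exists_one hy'.symm
  obtain ⟨w, hw, hwy⟩ := D.exists_one hc.symm
  let F : Finset G := {1, z y, z y', z y''}
  have hInF : ∀ g, InZ Γ z a g → g ∈ F := by
    rintro g (rfl | ⟨u, hu, rfl⟩)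
    · simp [F]
    · rcases D.eq_of_three h.symm hy' hy'' hu hn'.symm hn''.symm hnn with rfl | rfl | rfl <;>
        simp [F]
  have hF4 : Fintype.card ↥F ≤ 4 := by
    rw [Fintype.card_coe]
    exact Finset.card_le_four
  have hKy : (Ball2 G Γ y).relIndex (K G Γ y) ≤ 4 := by
    refine (relIndex_le_card (β := Bool × Bool)
      (fun g => (decide (g ∈ K G Γ a), decide (g ∈ K G Γ b))) fun x hx w hw e => ?_).trans (by simp)
    simp only [Prod.mk.injEq, decide_eq_decide] at e
    exact mem_Ball2_two D hNat hy (mul_mem (inv_mem hx) hw) h hb hba.symm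
      (D.inv_mul_mem_K' h.symm ⟨hx.2 _ h, hx.1⟩ ⟨hw.2 _ h, hw.1⟩ e.1)
      (D.inv_mul_mem_K' hb.symm ⟨hx.2 _ hb, hx.1⟩ ⟨hw.2 _ hb, hw.1⟩ e.2)
  have hkey : ∀ d ∈ Ball2 G Γ y, InZ Γ z a ((z w)⁻¹ * (d * z w * d⁻¹)) := by
    intro d hd
    have hKa := (mem_Ball2.1 hd).2 a h
    obtain ⟨X, hX, he⟩ :=
      conj_outer D hNat hy'B (hKa.2 _ hy') hKa.1 hy'.symm hc hca hw hwy
    rw [he, inv_mul_cancel_left]; exact hX
  have hBB : (Ball2 G Γ y ⊓ Ball2 G Γ y').relIndex (Ball2 G Γ y) ≤ 4 := by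
    refine (relIndex_le_card (β := ↥F) (fun g =>
      if hg : (z w)⁻¹ * (g * z w * g⁻¹) ∈ F then ⟨_, hg⟩ else ⟨1, by simp [F]⟩)
      fun x hx w₂ hw₂ e => ?_).trans hF4
    rw [dif_pos (hInF _ (hkey x hx)), dif_pos (hInF _ (hkey w₂ hw₂))] at e
    have e' := mul_left_cancel (Subtype.mk.inj e)
    refine Subgroup.mem_inf.2 ⟨mul_mem (inv_mem hx) hw₂, mem_Ball2_of_comm D hNat hy'B
      (mul_mem (inv_mem hx) hw₂) h hy'.symm hc hca hw hwy ?_⟩
    calc x⁻¹ * w₂ * z w = x⁻¹ * (w₂ * z w * w₂⁻¹) * w₂ := by group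
      _ = x⁻¹ * (x * z w * x⁻¹) * w₂ := by rw [← e']
      _ = z w * (x⁻¹ * w₂) := by group
  have hsmall : Nat.card ↥(Ball2 G Γ y ⊓ Ball2 G Γ y' : Subgroup G) ≤ 4 := by
    have hN : ∀ d ∈ Ball2 G Γ y ⊓ Ball2 G Γ y', InZ Γ z a d := by
      intro d hd
      refine inZ_of_ball3 D hR hNat hp haB h.symm fun u hu => ?_
      rcases D.eq_of_three h.symm hy' hy'' hu hn'.symm hn''.symm hnn with rfl | rfl | rfl
      · exact hd.1
      · exact hd.2
      obtain ⟨c'', hc'', hca''⟩ := D.exists_one hy''.symm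
      obtain ⟨w'', hw'', hwy''⟩ := D.exists_one hc''.symm
      refine mem_Ball2_of_comm D hNat hy''B hd.1 h hy''.symm hc'' hca'' hw'' hwy'' ?_
      have e : d * z w'' * d⁻¹ = z w'' := by
        rcases conj_third D hR hNat hp hy h.symm hy' hy'' hn'.symm hn''.symm hnn hc'' hca'' hw''
          hwy'' hd.1 hd.2 with e | e
        · exact e
        rcases conj_third D hR hNat hp hy'B hy' h.symm hy'' hn' hnn hn''.symm hc'' hca'' hw''
          hwy'' hd.2 hd.1 with e' | e'
        · exact e'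
        exact absurd (D.z_inj haB hy' h.symm (mul_left_cancel (e.symm.trans e'))) hn'
      conv_rhs => rw [← e]
      group
    refine le_trans ?_ hF4
    rw [← Nat.card_eq_fintype_card]
    exact Nat.card_le_card_of_injective (fun d => (⟨d.1, hInF _ (hN d.1 d.2)⟩ : ↥F))
      fun a b hab => Subtype.ext (congrArg Subtype.val hab :)
  have e2 := CfsgLib.Amalgam.Cubic.relIndex_mul_card
    (inf_le_left : Ball2 G Γ y ⊓ Ball2 G Γ y' ≤ Ball2 G Γ y)
  have e3 := CfsgLib.Amalgam.Cubic.relIndex_mul_card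
    (show Ball2 G Γ y ≤ K G Γ y from fun g hg => (mem_Ball2.1 hg).1)
  calc Nat.card ↥(E G y a) = 2 * Nat.card ↥(K G Γ y) := D.card_edge_eq h
    _ = 2 * ((Ball2 G Γ y).relIndex (K G Γ y) * ((Ball2 G Γ y ⊓ Ball2 G Γ y').relIndex (Ball2 G Γ y) *
        Nat.card ↥(Ball2 G Γ y ⊓ Ball2 G Γ y' : Subgroup G))) := by rw [e2, e3]
    _ ≤ 2 * (4 * (4 * 4)) := by gcongr
    _ = 2 ^ 7 := by norm_num

end CfsgLib.PLocal.Gold
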