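import Cfsg.Agent.Lib.PLocal.GoldNatural

/-!
Radius four: the natural shape and the middle involution of a sequence of length six.
-/

set_option autoImplicit false
set_option linter.unusedSectionVars false

namespace CfsgLib.PLocal.Gold

open Subgroup
open CfsgLib.Amalgam.Cubic (St E K Zc mem_Zc mem_K K_le_E K_le_St mem_St_smul)

variable {G : Type*} [Group G] {Ω : Type*} [MulAction G Ω] {Γ : SimpleGraph Ω} {B : Ω → Prop}
  {z : Ω → G} (D : Data G Γ B z) (hR : Rad Γ B z 4)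
include D hR

theorem all_crit_four {p : ℕ → Ω} (hp : Crit Γ B z 4 p) {q : ℕ → Ω} (hq : NB Γ 4 q)
    (hq0 : B (q 0)) : Crit Γ B z 4 q := by
  have he : Even 4 := by decide
  obtain ⟨hN, h0, -⟩ := id hp
  have hp2 : B (p 2) := (hN.B_iff D.toAmalg h0 (by norm_num)).2 even_two
  have hq2 : B (q 2) := (hq.B_iff D.toAmalg hq0 (by norm_num)).2 even_two
  have h23 := hN.adj (i := 2) (j := 3) rfl (by norm_num)
  obtain ⟨g, hg⟩ := D.exists_smul_eq h23 hp2 hq2
  obtain ⟨k, hk, hk3⟩ := D.trans (hg ▸ D.adj_smul g h23) (hq.adj (i := 2) (j := 3) rfl (by norm_num))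
  have e2 : (k * g) • p 2 = q 2 := by rw [mul_smul, hg, St_fix hk]
  have e3 : (k * g) • p 3 = q 3 := by rw [mul_smul, hk3]
  obtain ⟨l, hl, hl2, hl4⟩ := D.exists_perm
    (hq.adj (i := 2) (j := 3) rfl (by norm_num)).symm
    (e3 ▸ D.adj_smul (k * g) (hN.adj (i := 3) (j := 4) rfl le_rfl))
    (fun e => hN.ne (i := 2) (j := 4) rfl le_rfl (smul_left_cancel (k * g) (e2.trans e)))
    (hq.adj (i := 2) (j := 3) rfl (by norm_num)).symm (hq.adj (i := 3) (j := 4) rfl le_rfl)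
    (hq.ne (i := 2) (j := 4) rfl le_rfl)
  have hC := Crit.smul D hp (l * (k * g))
  obtain ⟨e, heN, heq⟩ := D.extend_two (by norm_num) hC.1
  have hC2 := crit_fwd D hR he le_rfl heN (hC.congr heq)
  have a2 : e 2 = q 2 := by rw [heq 2 (by norm_num)]; show _ • p 2 = _; rw [mul_smul, e2, hl2]
  have a3 : e 3 = q 3 := by rw [heq 3 (by norm_num)]; show _ • p 3 = _; rw [mul_smul, e3, St_fix hl]
  have a4 : e 4 = q 4 := by rw [heq 4 le_rfl]; show _ • p 4 = _; rw [mul_smul, hl4]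
  let e' : ℕ → Ω := pre (q 0) (pre (q 1) fun i => e (2 + i))
  have hN' : NB Γ (4 + 2) e' := by
    refine (((heN.sub (m := 2) (j := 4) le_rfl).pre' ?_ fun _ => ?_)).pre'
      (hq.adj (i := 0) (j := 1) rfl (by norm_num)) fun _ => ?_
    · show Γ.Adj (q 1) (e 2); rw [a2]; exact hq.adj rfl (by norm_num)
    · show q 1 ≠ e 3; rw [a3]; exact hq.ne rfl (by norm_num)
    · show q 0 ≠ e 2; rw [a2]; exact hq.ne rfl (by norm_num)
  refine (crit_back D hR he le_rfl hN' (hC2.congr fun i _ =>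
    pre_two_eq' (q 0) (q 1) _ i)).congr fun i hi => ?_
  match i, hi with
  | 0, _ => rfl
  | 1, _ => rfl
  | 2, _ => exact a2.symm
  | 3, _ => exact a3.symm
  | 4, _ => exact a4.symm
  | j + 5, hj => omega
where
  pre_two_eq' (x y : Ω) (p : ℕ → Ω) (i : ℕ) : pre x (pre y p) (2 + i) = p i := by
    rw [Nat.add_comm 2 i]; rfl

/-- Both ends of a sequence of length six put their commutator into their cosets. -/
theorem co_six {p : ℕ → Ω} (hp : Crit Γ B z 4 p) {s : ℕ → Ω} (hs : NB Γ 6 s) (h0 : B (s 0)) :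
    Co Γ z (s 2) (s 3) (z (s 0) * (z (s 6) * z (s 0) * z (s 6))) ∧
      Co Γ z (s 4) (s 3) (z (s 0) * (z (s 6) * z (s 0) * z (s 6))) := by
  have he : Even 4 := by decide
  have hC := all_crit_four D hR hp (hs.mono (by norm_num)) h0
  have h6 : B (s 6) := (hs.B_iff D.toAmalg h0 le_rfl).2 (by decide)
  have hrev : z (s 6) ∉ K G Γ (s 2) := by
    simpa using (crit_rev D hR he le_rfl hs hC).2.2
  have hfu : ∀ i, i ≤ 4 → z (s 0) • s i = s i := fun i hi =>
    D.fix hR h0 (hs.dist_le D.conn (by omega) (by omega) (by omega) (by omega))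
  have hfv : ∀ i, 2 ≤ i → i ≤ 6 → z (s 6) • s i = s i := fun i hi hi' =>
    D.fix hR h6 (hs.dist_le D.conn le_rfl hi' (by omega) (by omega))
  have h21 := (hs.adj (i := 1) (j := 2) rfl (by norm_num)).symm
  have h45 := hs.adj (i := 4) (j := 5) rfl (by norm_num)
  have h13 := hs.ne (i := 1) (j := 3) rfl (by norm_num)
  have h35 := hs.ne (i := 3) (j := 5) rfl (by norm_num)
  constructor
  · refine ⟨s 1, z (s 6) • s 1, s 0, z (s 6) • s 0, h21, D.smul_adj (hfv 2 le_rfl (by norm_num)) h21,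
      h13, fun e => h13 (smul_left_cancel _ (e.trans (hfv 3 (by norm_num) (by norm_num)).symm)),
      (D.smul_ne (hs.adj (i := 2) (j := 3) rfl (by norm_num)) h21 h13.symm
        (hfv 2 le_rfl (by norm_num)) (hfv 3 (by norm_num) (by norm_num)) hrev).symm,
      (hs.adj (i := 0) (j := 1) rfl (by norm_num)).symm, hs.ne rfl (by norm_num),
      D.adj_smul _ (hs.adj (i := 0) (j := 1) rfl (by norm_num)).symm,
      fun e => hs.ne (i := 0) (j := 2) rfl (by norm_num)
        (smul_left_cancel _ (e.trans (hfv 2 le_rfl (by norm_num)).symm)), ?_⟩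
    rw [D.z_smul _ h0, D.z_inv h6]
  · refine ⟨z (s 0) • s 5, s 5, z (s 0) • s 6, s 6, D.smul_adj (hfu 4 le_rfl) h45, h45,
      fun e => h35.symm (smul_left_cancel _ (e.trans (hfu 3 (by norm_num)).symm)), h35.symm,
      D.smul_ne (hs.adj (i := 3) (j := 4) rfl (by norm_num)).symm h45 h35 (hfu 4 le_rfl)
        (hfu 3 (by norm_num)) hC.2.2,
      D.adj_smul _ (hs.adj (i := 5) (j := 6) rfl le_rfl),
      fun e => hs.ne (i := 4) (j := 6) rfl le_rfl
        (smul_left_cancel _ ((hfu 4 le_rfl).trans e.symm)),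
      hs.adj rfl le_rfl, (hs.ne rfl le_rfl).symm, ?_⟩
    rw [D.z_smul _ h6, D.z_inv h0]; group

theorem natural_four {p : ℕ → Ω} (hp : Crit Γ B z 4 p) : Natural Γ B z := by
  have he : Even 4 := by decide
  obtain ⟨hN, h0, -⟩ := id hp
  have ha : ¬ B (p 3) := (hN.B_iff D.toAmalg h0 (by norm_num)).not.2 (by decide)
  have h32 := (hN.adj (i := 2) (j := 3) rfl (by norm_num)).symm
  have hex : ∀ {y y'}, Γ.Adj (p 3) y → Γ.Adj (p 3) y' → y ≠ y' →
      ∃ g, Co Γ z y (p 3) g ∧ Co Γ z y' (p 3) g := by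
    intro y y' hy hy' hne
    obtain ⟨b, hb, hba⟩ := D.exists_one hy.symm
    obtain ⟨v, hv, hvy⟩ := D.exists_one hb.symm
    obtain ⟨c, hc, hca⟩ := D.exists_one hy'.symm
    obtain ⟨q, hq, hqy⟩ := D.exists_one hc.symm
    let s : ℕ → Ω := pre v (pre b (pre y (pre (p 3) (pre y' (pre c fun _ => q)))))
    have hs : NB Γ 6 s := ⟨fun i hi => by
        match i, hi with
        | 0, _ => exact hv.symm
        | 1, _ => exact hb.symm
        | 2, _ => exact hy.symm
        | 3, _ => exact hy'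
        | 4, _ => exact hc
        | 5, _ => exact hq
        | j + 6, hj => omega,
      fun i hi => by
        match i, hi with
        | 0, _ => exact hvy
        | 1, _ => exact hba
        | 2, _ => exact hne
        | 3, _ => exact hca.symm
        | 4, _ => exact hqy.symm
        | j + 5, hj => omega⟩
    exact ⟨_, co_six D hR hp hs (B_outer D (D.B_of_adj hy ha) hb hv)⟩
  have huniq : ∀ {y y' g g'}, Γ.Adj (p 3) y → Γ.Adj (p 3) y' → y ≠ y' → Co Γ z y (p 3) g →
      Co Γ z y' (p 3) g → Co Γ z y (p 3) g' → Co Γ z y' (p 3) g' → g = g' := by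
    intro y y' g g' hy hy' hne h1 h2 h3 h4
    by_contra e
    refine hne (D.z_inj ha hy hy' (mul_left_cancel (a := g) ?_))
    rw [← (co_dich D hR he le_rfl (D.B_of_adj hy ha) hy.symm h1 h3).resolve_left (Ne.symm e),
      ← (co_dich D hR he le_rfl (D.B_of_adj hy' ha) hy'.symm h2 h4).resolve_left (Ne.symm e)]
  have hconj : ∀ {k y g}, k ∈ St G (p 3) → Γ.Adj (p 3) y → Co Γ z y (p 3) g →
      Γ.Adj (p 3) (k • y) ∧ Co Γ z (k • y) (p 3) (k * g * k⁻¹) := fun {k y g} hk hy hg => by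
    have := co_conj D hR he le_rfl (D.B_of_adj hy ha) hg k
    rw [St_fix hk] at this
    exact ⟨D.smul_adj hk hy, this⟩
  obtain ⟨y, y', y'', hy, hy', hy'', n1, n2, n3⟩ : ∃ y y' y'', Γ.Adj (p 3) y ∧ Γ.Adj (p 3) y' ∧
      Γ.Adj (p 3) y'' ∧ y ≠ y' ∧ y ≠ y'' ∧ y' ≠ y'' := by
    obtain ⟨y', y'', hy', hy'', n1, n2, n3⟩ := D.exists_two h32
    exact ⟨p 2, y', y'', h32, hy', hy'', n1.symm, n2.symm, n3⟩
  have hstep : ∀ {y y' y'' g g'}, Γ.Adj (p 3) y → Γ.Adj (p 3) y' → Γ.Adj (p 3) y'' → y ≠ y' →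
      y ≠ y'' → y' ≠ y'' → Co Γ z y (p 3) g → Co Γ z y' (p 3) g → Co Γ z y (p 3) g' →
      Co Γ z y'' (p 3) g' → g' = g * z y := by
    intro y y' y'' g g' hy hy' hy'' n1 n2 n3 h1 h2 h3 h4
    rcases co_dich D hR he le_rfl (D.B_of_adj hy ha) hy.symm h1 h3 with rfl | e
    · exfalso
      have hall : ∀ w, Γ.Adj (p 3) w → Co Γ z w (p 3) g' := fun w hw => by
        rcases D.eq_of_three hy hy' hy'' hw n1 n2 n3 with rfl | rfl | rfl <;> assumption
      refine (co_ne D hR he le_rfl (D.B_of_adj hy ha) h1).1 (D.eq_one_of_central' hy ha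
        ⟨co_fix D hR he le_rfl (D.B_of_adj hy ha) h1
          (by rw [SimpleGraph.dist_eq_one_iff_adj.2 hy.symm]; omega),
        co_fix D hR he le_rfl (D.B_of_adj hy ha) h1 (by rw [SimpleGraph.dist_self]; omega)⟩
        (co_sq D hR he le_rfl (D.B_of_adj hy ha) h1) fun k hk => ?_)
      have key : ∀ w, Γ.Adj (p 3) w → Co Γ z w (p 3) (k * g' * k⁻¹) := fun w hw => by
        have hw' : Γ.Adj (p 3) (k⁻¹ • w) := D.smul_adj (inv_mem hk) hw
        have := (hconj hk hw' (hall _ hw')).2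
        rwa [smul_inv_smul] at this
      have heq := huniq hy hy' n1 (key y hy) (key y' hy') h1 h2
      conv_rhs => rw [← heq]
      group
    · exact e
  obtain ⟨g12, i1, i2⟩ := hex hy hy' n1
  have hyB := D.B_of_adj hy ha
  have hy'B := D.B_of_adj hy' ha
  have hy''B := D.B_of_adj hy'' ha
  have hval : ∀ {u u' u'' g}, Γ.Adj (p 3) u → Γ.Adj (p 3) u' → Γ.Adj (p 3) u'' → u ≠ u' → u ≠ u'' →
      u' ≠ u'' → Co Γ z u (p 3) g → Co Γ z u' (p 3) g → g * z u'' = g12 * z y'' := by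
    obtain ⟨g13, j1, j3⟩ := hex hy hy'' n2
    obtain ⟨g23, k2, k3⟩ := hex hy' hy'' n3
    have e13 := hstep hy hy' hy'' n1 n2 n3 i1 i2 j1 j3
    have e23 := hstep hy' hy hy'' n1.symm n3 n2 i2 i1 k2 k3
    have f13 : g13 * z y' = g12 * z y'' := by
      rw [e13, mul_assoc, D.z_three ha hy hy' hy'' n1 n2 n3]
    have f23 : g23 * z y = g12 * z y'' := by
      rw [e23, mul_assoc, D.z_three ha hy' hy hy'' n1.symm n3 n2]
    intro u u' u'' g hu hu' hu'' m1 m2 m3 h1 h2
    rcases D.eq_of_three hy hy' hy'' hu n1 n2 n3 with rfl | rfl | rfl <;>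
      rcases D.eq_of_three hy hy' hy'' hu' n1 n2 n3 with rfl | rfl | rfl <;>
      rcases D.eq_of_three hy hy' hy'' hu'' n1 n2 n3 with rfl | rfl | rfl <;>
      first
        | exact absurd rfl m1
        | exact absurd rfl m2
        | exact absurd rfl m3
        | rw [huniq hy hy' n1 h1 h2 i1 i2]
        | rw [huniq hy hy' n1 h2 h1 i1 i2]
        | (rw [huniq hy hy'' n2 h1 h2 j1 j3]; exact f13)
        | (rw [huniq hy hy'' n2 h2 h1 j1 j3]; exact f13)
        | (rw [huniq hy' hy'' n3 h1 h2 k2 k3]; exact f23)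
        | (rw [huniq hy' hy'' n3 h2 h1 k2 k3]; exact f23)
  have hfix : ∀ {w}, Γ.dist y w + 2 ≤ 4 → g12 • w = w := fun h =>
    co_fix D hR he le_rfl hyB i1 h
  have hq : g12 * z y'' = 1 := by
    have hc : g12 * z y'' = z y'' * g12 := D.z_cent hy''B g12 (hfix (by
      have := dist_le_succ D.conn hy.symm (SimpleGraph.dist_eq_one_iff_adj.2 hy'').le
      omega))
    refine D.eq_one_of_central' hy ha (mul_mem ⟨hfix (by
      rw [SimpleGraph.dist_eq_one_iff_adj.2 hy.symm]; omega), hfix (by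
        rw [SimpleGraph.dist_self]; omega)⟩ ?_) ?_ fun k hk => ?_
    · exact ⟨(D.z_mem_Ka ha hy'').1, (D.z_mem_Ka ha hy'').2 _ hy⟩
    · rw [mul_assoc, ← mul_assoc (z y''), ← hc, mul_assoc, D.z_sq hy''B, mul_one,
        co_sq D hR he le_rfl hyB i1]
    · have hk'' := hconj hk hy i1
      have hk' := hconj hk hy' i2
      have hi : Function.Injective fun w : Ω => k • w := MulAction.injective k
      have := hval hk''.1 hk'.1 (D.smul_adj hk hy'') (hi.ne n1) (hi.ne n2) (hi.ne n3) hk''.2 hk'.2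
      conv_rhs => rw [← this, D.z_smul k hy''B]
      group
  obtain ⟨b, b', x, x', hb, hb', hba, hb'a, hbb, hx, hxv, hx', hxv', e⟩ := i1
  exact natural_of D hR he le_rfl hyB hb hb' hy.symm hbb hba hb'a hx hxv hx' hxv' hy'' n2.symm
    (e.symm.trans ((eq_inv_of_mul_eq_one_left hq).trans (D.z_inv hy''B)))

/-- The commutator along a sequence of length six is the third involution at its middle. -/
theorem mid4 (hNat : Natural Γ B z) {p : ℕ → Ω} (hp : Crit Γ B z 4 p) {s : ℕ → Ω}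
    (hs : NB Γ 6 s) (h0 : B (s 0)) {t : Ω} (ht : Γ.Adj (s 3) t) (h2 : t ≠ s 2) (h4 : t ≠ s 4) :
    z (s 0) * z (s 6) * z (s 0) = z (s 6) * z t := by
  have hB2 : B (s 2) := (hs.B_iff D.toAmalg h0 (by norm_num)).2 even_two
  have hB4 : B (s 4) := (hs.B_iff D.toAmalg h0 (by norm_num)).2 (by decide)
  have hB6 : B (s 6) := (hs.B_iff D.toAmalg h0 le_rfl).2 (by decide)
  have hs3 : ¬ B (s 3) := (hs.B_iff D.toAmalg h0 (by norm_num)).not.2 (by decide)
  have h32 := (hs.adj (i := 2) (j := 3) rfl (by norm_num)).symm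
  have h34 := hs.adj (i := 3) (j := 4) rfl (by norm_num)
  have h24 := hs.ne (i := 2) (j := 4) rfl (by norm_num)
  obtain ⟨c1, c2⟩ := co_six D hR hp hs h0
  have key : ∀ {y}, B y → Γ.Adj y (s 3) → ∀ {g}, Co Γ z y (s 3) g →
      ∃ w, Γ.Adj (s 3) w ∧ w ≠ y ∧ g = z w := by
    rintro y hy hadj g ⟨b, b', x, x', hb, hb', hba, hb'a, hbb, hx, hxv, hx', hxv', rfl⟩
    exact hNat y b b' (s 3) x x' hy hb hb' hadj hbb hba hb'a hx hxv hx' hxv'
  obtain ⟨w, hw, hw2, ew⟩ := key hB2 h32.symm c1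
  obtain ⟨w', hw', hw4, ew'⟩ := key hB4 h34.symm c2
  obtain rfl := D.z_inj hs3 hw hw' (ew.symm.trans ew')
  have : w = t := by
    rcases D.eq_of_three h32 h34 ht hw h24 h2.symm h4.symm with e | e | e
    · exact absurd e hw2
    · exact absurd e hw4
    · exact e
  subst this
  have hc : z w * z (s 6) = z (s 6) * z w :=
    (D.comm hR hB6 (D.B_of_adj hw hs3) ((dist_le_succ' D.conn hw.symm
      (hs.dist_le D.conn (i := 6) (j := 3) (n := 3) le_rfl (by norm_num) (by norm_num)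
        (by norm_num))).trans le_rfl)).symm
  have e := hc.symm
  rw [← ew] at e ⊢
  rw [e]
  calc z (s 0) * z (s 6) * z (s 0)
      = z (s 0) * z (s 6) * z (s 0) * (z (s 6) * z (s 6)) := by rw [D.z_sq hB6, mul_one]
    _ = z (s 0) * (z (s 6) * z (s 0) * z (s 6)) * z (s 6) := by group

end CfsgLib.PLocal.Gold
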