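import Cfsg.Agent.Lib.PLocal.GoldFourBase

/-!
Radius four: elements turning around an edge.
-/

set_option autoImplicit false
set_option linter.unusedSectionVars false

namespace CfsgLib.PLocal.Gold

open Subgroup
open CfsgLib.Amalgam.Cubic (St E K Zc mem_Zc mem_K K_le_E K_le_St mem_St_smul)

variable {G : Type*} [Group G] {Ω : Type*} [MulAction G Ω] {Γ : SimpleGraph Ω} {B : Ω → Prop}
  {z : Ω → G}

/-- The identity and the involutions of the neighbours of `a`. -/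
def InZ (Γ : SimpleGraph Ω) (z : Ω → G) (a : Ω) (g : G) : Prop :=
  g = 1 ∨ ∃ u, Γ.Adj a u ∧ g = z u

theorem InZ.mul (D : Data G Γ B z) {a : Ω} (ha : ¬ B a) {g g' : G} (hg : InZ Γ z a g)
    (hg' : InZ Γ z a g') : InZ Γ z a (g * g') := by
  rcases hg with rfl | ⟨u, hu, rfl⟩
  · rwa [one_mul]
  rcases hg' with rfl | ⟨u', hu', rfl⟩
  · exact Or.inr ⟨u, hu, mul_one _⟩
  by_cases e : u = u'
  · subst e; exact Or.inl (D.z_sq (D.B_of_adj hu ha))
  obtain ⟨u'', hu'', n1, n2⟩ := D.exists_third hu hu'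
  exact Or.inr ⟨u'', hu'', D.z_three ha hu hu' hu'' e n1.symm n2.symm⟩

theorem InZ.inv (D : Data G Γ B z) {a : Ω} (ha : ¬ B a) {g : G} (hg : InZ Γ z a g) :
    InZ Γ z a g⁻¹ := by
  rcases hg with rfl | ⟨u, hu, rfl⟩
  · exact Or.inl inv_one
  · exact Or.inr ⟨u, hu, D.z_inv (D.B_of_adj hu ha)⟩

theorem InZ.conj (D : Data G Γ B z) {a : Ω} (ha : ¬ B a) {g k : G} (hg : InZ Γ z a g)
    (hk : k • a = a) : InZ Γ z a (k * g * k⁻¹) := by
  rcases hg with rfl | ⟨u, hu, rfl⟩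
  · exact Or.inl (by group)
  · exact Or.inr ⟨k • u, D.smul_adj hk hu, D.z_conj k (D.B_of_adj hu ha)⟩

theorem InZ.comm (D : Data G Γ B z) {a : Ω} (ha : ¬ B a) {g k : G} (hg : InZ Γ z a g)
    (hk : ∀ u, Γ.Adj a u → k • u = u) : k * g = g * k := by
  rcases hg with rfl | ⟨u, hu, rfl⟩
  · rw [mul_one, one_mul]
  · exact D.z_cent (D.B_of_adj hu ha) k (hk u hu)

variable (D : Data G Γ B z) (hR : Rad Γ B z 4) (hNat : Natural Γ B z)
include D hR hNat

omit hR in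
theorem conj_outer {y a c w : Ω} {d : G} (hy : B y) (hdy : d • y = y) (hda : d • a = a)
    (ha : Γ.Adj y a) (hc : Γ.Adj y c) (hca : c ≠ a) (hw : Γ.Adj c w) (hwy : w ≠ y) :
    ∃ X, InZ Γ z a X ∧ d * z w * d⁻¹ = z w * X := by
  have hwB := B_outer D hy hc hw
  have hw' : Γ.Adj (d • c) (d • w) := D.adj_smul d hw
  have hwy' : d • w ≠ y := fun e => hwy (smul_left_cancel d (e.trans hdy.symm))
  rw [D.z_conj d hwB]
  by_cases e : d • c = c
  · rcases outer_alt D hy hc hw (e ▸ hw') hwy hwy' with h | h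
    · exact ⟨1, Or.inl rfl, by rw [h, mul_one]⟩
    · exact ⟨z y, Or.inr ⟨y, ha.symm, rfl⟩, h⟩
  · obtain ⟨v, hv, hvy, hveq⟩ := hNat y c (d • c) a w (d • w) hy hc (D.smul_adj hdy hc) ha
      (Ne.symm e) hca (fun e' => hca (smul_left_cancel d (e'.trans hda.symm))) hw hwy hw' hwy'
    exact ⟨z v, Or.inr ⟨v, hv, rfl⟩, by rw [← hveq, ← mul_assoc, D.z_sq hwB, one_mul]⟩

omit hR hNat in
theorem fix_outer {y c w : Ω} {d : G} (hy : B y) (hdy : d • y = y) (hc : Γ.Adj y c)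
    (hw : Γ.Adj c w) (hwy : w ≠ y) (h : d * z w = z w * d) : d • c = c ∧ d • w = w := by
  have hwB := B_outer D hy hc hw
  have hz : z (d • w) = z w := by rw [D.z_smul d hwB, comm_inv_eq h]
  have e : d • c = c := by
    by_contra e
    exact D.D4 hy (D.smul_adj hdy hc) hc e (D.adj_smul d hw) hw
      (fun e' => hwy (smul_left_cancel d (e'.trans hdy.symm))) hwy hz
  exact ⟨e, D.z_inj (D.not_B_of_adj hc hy) (e ▸ D.adj_smul d hw) hw hz⟩

omit hR in
theorem mem_K_third {y b b' b'' : Ω} {d : G} (hy : B y) (hd : d ∈ K G Γ y) (hb : Γ.Adj y b)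
    (hb' : Γ.Adj y b') (hb'' : Γ.Adj y b'') (n1 : b ≠ b') (n2 : b ≠ b'') (n3 : b' ≠ b'')
    (h : d ∈ K G Γ b) (h' : d ∈ K G Γ b') : d ∈ K G Γ b'' := by
  obtain ⟨v, hv, hvy⟩ := D.exists_one hb.symm
  obtain ⟨v', hv', hvy'⟩ := D.exists_one hb'.symm
  obtain ⟨v'', hv'', hvy'', he⟩ := hNat y b b' b'' v v' hy hb hb' hb'' n1 n2 n3 hv hvy hv' hvy'
  refine D.mem_K_of_fix hb''.symm hv'' hvy''.symm (hd.2 _ hb'') hd.1
    (D.fix_of_comm (D.not_B_of_adj hb'' hy) hv'' (hd.2 _ hb'') ?_)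
  rw [← he, ← mul_assoc, D.z_cent (B_outer D hy hb hv) d (h.2 v hv), mul_assoc,
    D.z_cent (B_outer D hy hb' hv') d (h'.2 v' hv'), mul_assoc]

omit hR in
theorem mem_Ball2_two {y b b' : Ω} {d : G} (hy : B y) (hd : d ∈ K G Γ y) (hb : Γ.Adj y b)
    (hb' : Γ.Adj y b') (n1 : b ≠ b') (h : d ∈ K G Γ b) (h' : d ∈ K G Γ b') : d ∈ Ball2 G Γ y := by
  obtain ⟨b'', hb'', n2, n3⟩ := D.exists_third hb hb'
  exact D.mem_Ball2_of_three hb hb' hb'' n1 n2.symm n3.symm hd h h'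
    (mem_K_third D hNat hy hd hb hb' hb'' n1 n2.symm n3.symm h h')

omit hR in
theorem mem_Ball2_of_comm {y y' a c w : Ω} {d : G} (hy' : B y') (hd : d ∈ Ball2 G Γ y)
    (ha : Γ.Adj y a) (ha' : Γ.Adj y' a) (hc : Γ.Adj y' c) (hca : c ≠ a) (hw : Γ.Adj c w)
    (hwy : w ≠ y') (h : d * z w = z w * d) : d ∈ Ball2 G Γ y' := by
  have hKa := (mem_Ball2.1 hd).2 a ha
  have hfy' : d • y' = y' := hKa.2 _ ha'.symm
  obtain ⟨e1, e2⟩ := fix_outer D hy' hfy' hc hw hwy h
  exact mem_Ball2_two D hNat hy' (D.mem_K_of_fix ha' hc hca.symm hfy' hKa.1 e1) ha' hc hca.symm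
    hKa (D.mem_K_of_fix hc.symm hw hwy.symm e1 hfy' e2)

/-- Two involutions across a vertex give an element exchanging two neighbours of the next one. -/
theorem exists_turn {p : ℕ → Ω} (hp : Crit Γ B z 4 p) {a y y' y'' : Ω} (hy : B y)
    (hay : Γ.Adj a y) (hay' : Γ.Adj a y') (hay'' : Γ.Adj a y'') (n1 : y ≠ y') (n2 : y ≠ y'')
    (n3 : y' ≠ y'') :
    ∃ a0 t : Ω, ∃ g h : G, Γ.Adj y a0 ∧ a0 ≠ a ∧ Γ.Adj a0 t ∧ t ≠ y ∧
      g • y = y ∧ g * g = 1 ∧ g * z y * g = z y ∧ g * z y' * g = z y' * z t ∧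
      g * z y'' * g = z y'' * z t ∧
      (∀ d ∈ Ball2 G Γ y, ∃ X, InZ Γ z a0 X ∧ g * d * g = d * X) ∧
      h • y = y ∧ h • a = a ∧ h • y' = y'' ∧
      (∀ d ∈ Ball2 G Γ y, ∃ X, InZ Γ z a0 X ∧ h * d * h⁻¹ = d * X) := by
  have haB := D.not_B_of_adj hay.symm hy
  have hy'B := D.B_of_adj hay' haB
  obtain ⟨a0, ha0, hne0⟩ := D.exists_one hay.symm
  have ha0B := D.not_B_of_adj ha0 hy
  obtain ⟨a1, ha1, hne1, hne1'⟩ := D.exists_third hay.symm ha0
  obtain ⟨p1, p2, hp1, hp2, hp1y, hp2y, hp12⟩ := D.exists_two ha0.symm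
  have hbuild : ∀ p1 p2, Γ.Adj a0 p1 → Γ.Adj a0 p2 → p1 ≠ y → p2 ≠ y → p1 ≠ p2 →
      ∃ g : G, g • y = y ∧ g • a0 = a0 ∧ g • a = a1 ∧ g • a1 = a ∧ g * g = 1 ∧
        (∀ u, Γ.Adj a0 u → g • u = u) ∧ g * z y' * g = z y' * z p2 ∧
        ∀ d ∈ Ball2 G Γ y, ∃ X, InZ Γ z a0 X ∧ g * d * g = d * X := by
    intro p1 p2 hp1 hp2 hp1y hp2y hp12
    have hp1B := B_outer D hy ha0 hp1
    obtain ⟨b, hb, hba0⟩ := D.exists_one hp1.symm
    obtain ⟨u, hu, hup⟩ := D.exists_one hb.symm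
    have huB := B_outer D hp1B hb hu
    let s : ℕ → Ω := pre u (pre b (pre p1 (pre a0 (pre y (pre a fun _ => y')))))
    have hs : NB Γ 6 s := ⟨fun i hi => by
        match i, hi with
        | 0, _ => exact hu.symm
        | 1, _ => exact hb.symm
        | 2, _ => exact hp1.symm
        | 3, _ => exact ha0.symm
        | 4, _ => exact hay.symm
        | 5, _ => exact hay'
        | j + 6, hj => omega,
      fun i hi => by
        match i, hi with
        | 0, _ => exact hup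
        | 1, _ => exact hba0
        | 2, _ => exact hp1y
        | 3, _ => exact hne0
        | 4, _ => exact n1
        | j + 5, hj => omega⟩
    have hf : ∀ i, i ≤ 4 → z u • s i = s i := fun i hi =>
      D.fix hR huB (hs.dist_le D.conn (i := 0) (j := i) (n := 4) (by omega) (by omega) (by omega)
        (by omega))
    have hgK : z u ∉ K G Γ y :=
      (all_crit_four D hR hp (hs.mono (by norm_num)) huB).2.2
    refine ⟨z u, hf 4 le_rfl, hf 3 (by norm_num),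
      D.smul_swap ha0 hay.symm ha1 hne0 hne1'.symm hne1.symm (hf 4 le_rfl) (hf 3 (by norm_num)) hgK,
      D.smul_swap ha0 ha1 hay.symm hne1'.symm hne0 hne1 (hf 4 le_rfl) (hf 3 (by norm_num)) hgK,
      D.z_sq huB, fun v hv => D.fix hR huB (dist_le_succ' D.conn hv.symm
        (hs.dist_le D.conn (i := 0) (j := 3) (n := 3) (by omega) (by omega) (by omega) (by omega))),
      mid4 D hR hNat hp hs huB hp2 hp12.symm hp2y, fun d hd => ?_⟩
    obtain ⟨hdK, hdA⟩ := mem_Ball2.1 hd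
    obtain ⟨X, hX, he⟩ := conj_outer D hNat hp1B ((hdA a0 ha0).2 _ hp1) (hdA a0 ha0).1 hp1.symm
      hb hba0 hu hup
    refine ⟨X, hX, ?_⟩
    rw [hX.comm D ha0B (hdA a0 ha0).2]
    calc z u * d * z u = z u * (d * z u * d⁻¹) * d := by group
      _ = X * d := by rw [he, ← mul_assoc, D.z_sq huB, one_mul]
  obtain ⟨g, hgy, hga0, hga, hga1, hg2, hgp, hgz, hgd⟩ := hbuild p1 p2 hp1 hp2 hp1y hp2y hp12
  obtain ⟨g', hgy', hga0', hga', hga1', hg2', hgp', hgz', hgd'⟩ :=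
    hbuild p2 p1 hp2 hp1 hp2y hp1y hp12.symm
  have hgi : g⁻¹ = g := inv_eq_of_mul_eq_one_right hg2
  have hgi' : g'⁻¹ = g' := inv_eq_of_mul_eq_one_right hg2'
  have hgzy : g * z y * g = z y := by
    conv_lhs => arg 2; rw [← hgi]
    exact D.conj_eq_of_fix hy hgy
  have hha : (g * g') • a = a := by rw [mul_smul, hga', hga1]
  have hhy : (g * g') • y = y := by rw [mul_smul, hgy', hgy]
  have hz'' : g * z y'' * g = z y'' * z p2 := by
    rw [← D.z_three haB hay hay' hay'' n1 n2 n3,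
      show g * (z y * z y') * g = (g * z y * g) * (g * z y' * g) by
        rw [show g * z y * g * (g * z y' * g) = g * z y * (g * g) * z y' * g by group, hg2]; group,
      hgzy, hgz, mul_assoc]
  refine ⟨a0, p2, g, g * g', ha0, hne0, hp2, hp2y, hgy, hg2, hgzy, hgz, hz'', hgd, hhy, hha,
    ?_, fun d hd => ?_⟩
  · refine D.z_inj haB (D.smul_adj hha hay') hay'' ?_
    rw [D.z_smul _ hy'B, mul_inv_rev, hgi, hgi',
      show g * g' * z y' * (g' * g) = g * (g' * z y' * g') * g by group, hgz',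
      show g * (z y' * z p1) * g = (g * z y' * g) * (g * z p1 * g) by
        rw [show g * z y' * g * (g * z p1 * g) = g * z y' * (g * g) * z p1 * g by group, hg2]; group,
      hgz, show g * z p1 * g = z p1 by
        conv_lhs => arg 2; rw [← hgi]
        exact D.conj_eq_of_fix (D.B_of_adj hp1 ha0B) (hgp p1 hp1),
      mul_assoc, D.z_three ha0B hp2 hp1 ha0.symm hp12.symm hp2y hp1y,
      D.z_three haB hay' hay hay'' n1.symm n3 n2]
  · obtain ⟨X1, hX1, e1⟩ := hgd d hd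
    obtain ⟨X2, hX2, e2⟩ := hgd' d hd
    refine ⟨X1 * X2, hX1.mul D ha0B hX2, ?_⟩
    rw [mul_inv_rev, hgi, hgi', show g * g' * d * (g' * g) = g * (g' * d * g') * g by group, e2,
      show g * (d * X2) * g = g * d * g * (g⁻¹ * X2 * g) by group, e1,
      show g⁻¹ * X2 * g = X2 by rw [hgi, hX2.comm D ha0B hgp, mul_assoc, hg2, mul_one], mul_assoc]

/-- The meet of two balls acts on the outer vertices of the third neighbour through one class. -/
theorem conj_third {p : ℕ → Ω} (hp : Crit Γ B z 4 p) {a y y' y'' c'' w'' : Ω} (hy : B y)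
    (hay : Γ.Adj a y) (hay' : Γ.Adj a y') (hay'' : Γ.Adj a y'') (n1 : y ≠ y') (n2 : y ≠ y'')
    (n3 : y' ≠ y'') (hc : Γ.Adj y'' c'') (hca : c'' ≠ a) (hw : Γ.Adj c'' w'') (hwy : w'' ≠ y'')
    {d : G} (hd : d ∈ Ball2 G Γ y) (hd' : d ∈ Ball2 G Γ y') :
    d * z w'' * d⁻¹ = z w'' ∨ d * z w'' * d⁻¹ = z w'' * z y' := by
  have haB := D.not_B_of_adj hay.symm hy
  have hy'B := D.B_of_adj hay' haB
  have hwB := B_outer D (D.B_of_adj hay'' haB) hc hw
  obtain ⟨a0, t, g, h, ha0, hne0, -, -, -, -, -, -, -, -, hhy, hha, hhy', hhd⟩ :=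
    exists_turn D hR hNat hp hy hay hay' hay'' n1 n2 n3
  have ha0B := D.not_B_of_adj ha0 hy
  obtain ⟨X, hX, he⟩ := hhd d hd
  have e1 : h⁻¹ • y'' = y' := inv_smul_eq_iff.2 hhy'.symm
  have hfix : d • h⁻¹ • w'' = h⁻¹ • w'' :=
    Ball2.fix hd' (e1 ▸ D.adj_smul h⁻¹ hc) (D.adj_smul h⁻¹ hw)
  have hfix' : (d * X) • w'' = w'' := by
    rw [← he, mul_smul, mul_smul, hfix, smul_inv_smul]
  have hXw : X * z w'' * X⁻¹ = z w'' ∨ X * z w'' * X⁻¹ = z w'' * z y' := by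
    rcases hX with rfl | ⟨u, hu, rfl⟩
    · exact Or.inl (by group)
    by_cases hu' : u = y
    · subst hu'
      refine Or.inl (D.conj_eq_of_fix hwB (D.fix hR hy ?_))
      exact dist_le_succ D.conn hay.symm (dist_le_succ D.conn hay'' (dist_le_succ D.conn hc
        (SimpleGraph.dist_eq_one_iff_adj.2 hw).le))
    let s : ℕ → Ω := pre u (pre a0 (pre y (pre a (pre y'' (pre c'' fun _ => w'')))))
    have hs : NB Γ 6 s := ⟨fun i hi => by
        match i, hi with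
        | 0, _ => exact hu.symm
        | 1, _ => exact ha0.symm
        | 2, _ => exact hay.symm
        | 3, _ => exact hay''
        | 4, _ => exact hc
        | 5, _ => exact hw
        | j + 6, hj => omega,
      fun i hi => by
        match i, hi with
        | 0, _ => exact hu'
        | 1, _ => exact hne0
        | 2, _ => exact n2
        | 3, _ => exact hca.symm
        | 4, _ => exact hwy.symm
        | j + 5, hj => omega⟩
    right
    rw [D.z_inv (D.B_of_adj hu ha0B)]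
    exact mid4 D hR hNat hp hs (D.B_of_adj hu ha0B) hay' n1.symm n3
  have hX' : d * (X * z w'' * X⁻¹) * d⁻¹ = z w'' := by
    rw [show d * (X * z w'' * X⁻¹) * d⁻¹ = d * X * z w'' * (d * X)⁻¹ by group]
    exact D.conj_eq_of_fix hwB hfix'
  rcases hXw with e | e
  · rw [e] at hX'; exact Or.inl hX'
  · right
    rw [e, mul_conj, D.conj_eq_of_fix hy'B (mem_Ball2.1 hd').1.1] at hX'
    conv_rhs => rw [← hX', mul_assoc, D.z_sq hy'B, mul_one]

end CfsgLib.PLocal.Gold
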