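import Cfsg.Agent.Lib.PLocal.GoldPath

/-!
Odd radii from five on are impossible: two involutions would coincide.
-/

set_option autoImplicit false
set_option linter.unusedSectionVars false

namespace CfsgLib.PLocal.Gold

open Subgroup
open CfsgLib.Amalgam.Cubic (St E K Zc mem_Zc mem_K K_le_E K_le_St mem_St_smul)

variable {G : Type*} [Group G] {Ω : Type*} [MulAction G Ω] {Γ : SimpleGraph Ω} {B : Ω → Prop}
  {z : Ω → G} {r : ℕ} (D : Data G Γ B z) (hR : Rad Γ B z r)
include D hR

/-- At odd radius the middle commutator identifies two involutions. -/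
theorem odd_mid (ho : Odd r) (h3 : 3 ≤ r) {p : ℕ → Ω} (hp : Crit Γ B z r p) :
    z (p 2) = z (p (r - 1)) ∧ ∀ q, Γ.Adj (p r) q → q ≠ p (r - 1) →
      z q • p 0 ≠ p 0 ∧ z q • p 1 = p 1 ∧ z (p 0) * z q * z (p 0) = z q * z (p (r - 1)) := by
  obtain ⟨hN, h0, hK⟩ := hp
  have hr : ¬ B (p r) := (hN.B_iff D.toAmalg h0 le_rfl).not.2 (Nat.not_even_iff_odd.2 ho)
  have hp1 : ¬ B (p 1) := (hN.B_iff D.toAmalg h0 (by omega)).not.2 (by decide)
  have he : Even (r - 1) := Nat.Odd.sub_odd ho odd_one
  have hr1B : B (p (r - 1)) := (hN.B_iff D.toAmalg h0 (by omega)).2 he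
  have hp2B : B (p 2) := (hN.B_iff D.toAmalg h0 (by omega)).2 even_two
  have h01 := (hN.adj (i := 0) (j := 1) rfl (by omega)).symm
  have h12 := hN.adj (i := 1) (j := 2) rfl (by omega)
  have hr1 := (hN.adj (i := r - 1) (j := r) (by omega) le_rfl).symm
  have hfr : z (p 0) • p r = p r := D.fix hR h0 (hN.dist_le D.conn (by omega) le_rfl (by omega)
    (by omega))
  have hfr1 : z (p 0) • p (r - 1) = p (r - 1) := D.fix hR h0 (hN.dist_le D.conn (by omega)
    (by omega) (by omega) (by omega))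
  have main : ∀ q, Γ.Adj (p r) q → q ≠ p (r - 1) → z q • p 0 ≠ p 0 ∧ z q • p 1 = p 1 ∧
      z (p 0) * z q * z (p 0) = z q * z (p (r - 1)) ∧ z (p 2) = z (p (r - 1)) := by
    intro q hq hne
    have hqB := D.B_of_adj hq hr
    have hd : ∀ i, i ≤ r → Γ.dist q (p i) ≤ r - i + 1 := fun i hi =>
      dist_le_succ D.conn hq.symm (hN.dist_le D.conn le_rfl hi (by omega) (by omega))
    have hq1 : z q • p 1 = p 1 := D.fix hR hqB ((hd 1 (by omega)).trans (by omega))
    have hq2 : z q • p 2 = p 2 := D.fix hR hqB ((hd 2 (by omega)).trans (by omega))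
    have hnc : z (p 0) * z q ≠ z q * z (p 0) := fun e =>
      hK (D.mem_K_of_fix hr1 hq hne.symm hfr hfr1 (D.fix_of_comm hr hq hfr e))
    have hq0 : z q • p 0 ≠ p 0 := fun e => hnc (D.z_comm_of_fix h0 e).symm
    obtain ⟨q', hq', hn1, hn2⟩ := D.exists_third hr1 hq
    have e1 : z (p 0) * z q * z (p 0) = z q * z (p (r - 1)) := by
      have h := D.z_conj (z (p 0)) hqB
      rw [D.z_inv h0] at h
      rw [h, D.smul_swap hr1 hq hq' hne.symm hn1.symm hn2.symm hfr hfr1 hK,
        D.z_three hr hq hr1 hq' hne hn2.symm hn1.symm]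
    obtain ⟨p0', hp', hm1, hm2⟩ := D.exists_third h01 h12
    have e2 : z q * z (p 0) * z q = z (p 0) * z (p 2) := by
      have h := D.z_conj (z q) h0
      rw [D.z_inv hqB] at h
      rw [h, D.smul_swap h12 h01 hp' (hN.ne (i := 0) (j := 2) rfl (by omega)).symm hm2.symm
        hm1.symm hq1 hq2 fun hk => hq0 (hk.2 _ h01),
        D.z_three hp1 h01 h12 hp' (hN.ne (i := 0) (j := 2) rfl (by omega)) hm1.symm hm2.symm]
    refine ⟨hq0, hq1, e1, ?_⟩
    have hc : z (p (r - 1)) * z q = z q * z (p (r - 1)) :=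
      D.z_comm_of_fix hqB ((D.z_mem_Ka hr hr1).2 _ hq)
    calc z (p 2) = z (p 0) * (z (p 0) * z (p 2)) := by rw [← mul_assoc, D.z_sq h0, one_mul]
      _ = (z (p 0) * z q * z (p 0)) * z q := by rw [← e2]; group
      _ = z q * (z (p (r - 1)) * z q) := by rw [e1, mul_assoc]
      _ = z (p (r - 1)) := by rw [hc, ← mul_assoc, D.z_sq hqB, one_mul]
  obtain ⟨q, hq, hne⟩ := D.exists_one hr1
  exact ⟨(main q hq hne).2.2.2, fun q' hq' hne' =>
    ⟨(main q' hq' hne').1, (main q' hq' hne').2.1, (main q' hq' hne').2.2.1⟩⟩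

theorem not_rad_odd (ho : Odd r) (h5 : 5 ≤ r) {p : ℕ → Ω} (hp : Crit Γ B z r p) : False := by
  obtain ⟨hmid, hswap⟩ := odd_mid D hR ho (by omega) hp
  obtain ⟨hN, h0, hK⟩ := id hp
  have hr : ¬ B (p r) := (hN.B_iff D.toAmalg h0 le_rfl).not.2 (Nat.not_even_iff_odd.2 ho)
  have hp1 : ¬ B (p 1) := (hN.B_iff D.toAmalg h0 (by omega)).not.2 (by decide)
  have hr1B : B (p (r - 1)) :=
    (hN.B_iff D.toAmalg h0 (by omega)).2 (Nat.Odd.sub_odd ho odd_one)
  have h01 := (hN.adj (i := 0) (j := 1) rfl (by omega)).symm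
  have hr1 := (hN.adj (i := r - 1) (j := r) (by omega) le_rfl).symm
  -- some involution two steps back moves the neighbours of `p (r - 1)`
  have hmov : ∃ x y, NB Γ (r + 2) (pre x (pre y p)) ∧ B x ∧
      Moves G Γ (r + 1) (pre x (pre y p)) (z x) := by
    by_contra hno
    obtain ⟨q, hq, hqne⟩ := D.exists_one hr1
    obtain ⟨hq0, hq1, -⟩ := hswap q hq hqne
    have hqB := D.B_of_adj hq hr
    have hp2B : B (p 2) := (hN.B_iff D.toAmalg h0 (by omega)).2 even_two
    let S : Set G := {w | ∃ v, B v ∧ Γ.dist (p 0) v ≤ 2 ∧ w = z v}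
    have hgen : ∀ w ∈ S, z q * w * (z q)⁻¹ ∈ closure S := by
      rintro _ ⟨v, hv, hd, rfl⟩
      rw [D.z_conj _ hv]
      rcases Nat.eq_zero_or_pos (Γ.dist (p 0) v) with e | e
      · refine subset_closure ⟨_, (D.B_smul _ _).2 hv, ?_, rfl⟩
        rw [← (D.conn.dist_eq_zero_iff).1 e]
        exact dist_le_succ D.conn h01.symm
          (SimpleGraph.dist_eq_one_iff_adj.2 (D.smul_adj hq1 h01)).le
      obtain ⟨m, hm⟩ := Nat.exists_eq_succ_of_ne_zero e.ne'
      obtain ⟨y, hy, hyd⟩ := exists_step D.conn hm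
      have hyv : Γ.Adj y v := by
        rcases Nat.eq_zero_or_pos m with rfl | hm0
        · exact absurd hv ((D.conn.dist_eq_zero_iff.1 hyd) ▸ D.not_B_of_adj hy h0)
        · exact SimpleGraph.dist_eq_one_iff_adj.1 (by omega)
      by_cases hy1 : y = p 1
      · subst hy1
        exact subset_closure ⟨_, (D.B_smul _ _).2 hv, dist_le_succ D.conn h01.symm
          (SimpleGraph.dist_eq_one_iff_adj.2 (D.smul_adj hq1 hyv)).le, rfl⟩
      by_cases hvp : v = p 0
      · subst hvp
        exact subset_closure ⟨_, (D.B_smul _ _).2 h0, dist_le_succ D.conn h01.symm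
          (SimpleGraph.dist_eq_one_iff_adj.2 (D.smul_adj hq1 h01)).le, rfl⟩
      have hs1 : NB Γ (r + 1) (pre y p) := hN.pre' hy.symm fun _ => hy1
      have hs : NB Γ (r + 2) (pre v (pre y p)) := hs1.pre' hyv.symm fun _ => hvp
      have hd' : ∀ i, i ≤ r → Γ.dist v (pre v (pre y p) i) ≤ i := fun i hi => by
        simpa using hs.dist_le D.conn (i := 0) (j := i) (by omega) (by omega) (n := i) (by omega)
          (by omega)
      have hkr : z v ∈ K G Γ (p (r - 2)) := by
        by_contra hc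
        have hsr : pre v (pre y p) r = p (r - 2) := by
          obtain ⟨m, rfl⟩ : ∃ m, r = m + 2 := ⟨r - 2, by omega⟩
          simp
        have hC : Crit Γ B z r (pre v (pre y p)) := ⟨hs.mono (by omega), hv, by
          rw [hsr]; exact hc⟩
        have h2 := (odd_mid D hR ho (by omega) hC).1
        have e3 : pre v (pre y p) (r - 1) = p (r - 3) := by
          obtain ⟨m, rfl⟩ : ∃ m, r = m + 3 := ⟨r - 3, by omega⟩
          simp
        rw [e3] at h2
        simp only [pre_succ] at h2
        refine hK ?_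
        rw [h2]
        exact hR _ _ ((hN.B_iff D.toAmalg h0 (by omega)).2 (Nat.Odd.sub_odd ho (by decide)))
          (lt_of_le_of_lt (hN.dist_le D.conn (by omega) le_rfl (n := 3) (by omega) (by omega))
            (by omega))
      have hf1 : z v • p (r - 1) = p (r - 1) :=
        hkr.2 _ (hN.adj (i := r - 2) (j := r - 1) (by omega) (by omega))
      have hk1 : z v ∈ K G Γ (p (r - 1)) := by
        by_contra hc
        refine hno ⟨v, y, hs, hv, fun i hi => ?_, ?_⟩
        · rcases eq_or_lt_of_le hi with rfl | hlt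
          · obtain ⟨m, rfl⟩ : ∃ m, r = m + 1 := ⟨r - 1, by omega⟩
            simpa using hf1
          · exact D.fix hR hv ((hd' i (by omega)).trans (by omega))
        · obtain ⟨m, rfl⟩ : ∃ m, r = m + 1 := ⟨r - 1, by omega⟩
          simpa using hc
      have hvr : z v • p r = p r := hk1.2 _ hr1.symm
      obtain ⟨q', hq', hn1, hn2⟩ := D.exists_third hr1 hq
      have hstep : ∃ c, (c = 1 ∨ c = z (p 2)) ∧ z v * z q * z v = z q * c := by
        have h := D.z_conj (z v) hqB
        rw [D.z_inv hv] at h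
        rw [h]
        rcases D.eq_of_three hr1 hq hq' (D.smul_adj hvr hq) hqne.symm hn1.symm hn2.symm
          with e | e | e
        · exact absurd (smul_left_cancel (z v) (e.trans hf1.symm)) hqne
        · exact ⟨1, Or.inl rfl, by rw [e, mul_one]⟩
        · exact ⟨z (p 2), Or.inr rfl, by
            rw [e, hmid, D.z_three hr hq hr1 hq' hqne hn2.symm hn1.symm]⟩
      obtain ⟨c, hc, he⟩ := hstep
      rw [← D.z_conj _ hv, D.z_inv hqB]
      have : z q * z v * z q = z v * c := by
        calc z q * z v * z q = z v * (z v * z q * z v) * z q := by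
              rw [show z v * (z v * z q * z v) * z q = (z v * z v) * z q * z v * z q by group,
                D.z_sq hv, one_mul]
          _ = z v * (z q * c * z q) := by rw [he]; group
          _ = z v * c := by
              rcases hc with rfl | rfl
              · rw [mul_one, D.z_sq hqB]
              · rw [hmid, mul_assoc (z q), D.z_comm_of_fix hqB ((D.z_mem_Ka hr hr1).2 _ hq),
                  ← mul_assoc (z q), D.z_sq hqB, one_mul]
      rw [this]
      refine mul_mem (subset_closure ⟨v, hv, hd, rfl⟩) ?_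
      rcases hc with rfl | rfl
      · exact one_mem _
      · exact subset_closure ⟨p 2, hp2B, hN.dist_le D.conn (by omega) (by omega) (by omega)
          (by omega), rfl⟩
    have hnq := mem_of_conj_mem (D.z_sq hqB) hgen
    have hn0 : St G (p 0) ≤ normalizer (closure S : Set G) := by
      refine le_normalizer_closure ?_
      rintro g hg _ ⟨v, hv, hd, rfl⟩
      refine subset_closure ⟨g • v, (D.B_smul _ _).2 hv, ?_, (D.z_smul g hv).symm⟩
      obtain ⟨w, hw⟩ := D.conn.exists_walk_length_eq_dist (p 0) v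
      let f : Γ →g Γ := ⟨fun x => g • x, fun h => D.adj_smul g h⟩
      have hl := SimpleGraph.dist_le (w.map f)
      rw [SimpleGraph.Walk.length_map] at hl
      change Γ.dist (g • p 0) (g • v) ≤ _ at hl
      rw [St_fix hg] at hl
      omega
    have hn1 : St G (p 1) ≤ normalizer (closure S : Set G) :=
      D.St_le h01 (fun g hg => hn0 hg.2) hnq hq1 hq0
    have hle : closure S ≤ E G (p 1) (p 0) := by
      rw [closure_le]
      rintro _ ⟨v, hv, hd, rfl⟩
      rw [SimpleGraph.dist_comm] at hd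
      exact ⟨D.fix hR hv ((dist_le_succ' D.conn h01 hd).trans (by omega)),
        D.fix hR hv (hd.trans (by omega))⟩
    have hbot := D.eq_bot_of_normalized h01 hle hn1 hn0
    exact D.z_ne h0 (Subgroup.mem_bot.1 (hbot ▸ subset_closure ⟨p 0, h0, by
      rw [SimpleGraph.dist_self]; norm_num, rfl⟩))
  obtain ⟨x, y, hsN, hxB, hsM⟩ := hmov
  have hz0M : Moves G Γ r p (z (p 0)) :=
    ⟨fun i hi => D.fix hR h0 ((hN.dist_le D.conn (by omega) hi (n := i) (by omega) (by omega)).trans
      hi), hK⟩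
  have hT : Tr G Γ B (r - 4) := by
    refine D.tr_of_movers (hN.adj (i := 0) (j := 1) rfl (by omega)) h0 fun k hk hk' => ?_
    rcases Nat.even_or_odd k with he | hodd
    · refine ⟨fun i => pre x (pre y p) (r + 1 - k + i), z x, hsN.sub (by omega), ?_,
        hsM.sub (by omega)⟩
      exact (hsN.B_iff D.toAmalg hxB (by omega)).2 (by
        rcases ho with ⟨a, ha⟩; rcases he with ⟨b, hb⟩; exact ⟨a + 1 - b, by omega⟩)
    · refine ⟨fun i => p (r - k + i), z (p 0), hN.sub (by omega), ?_, hz0M.sub (by omega)⟩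
      exact (hN.B_iff D.toAmalg h0 (by omega)).2 (by simpa using Nat.Odd.sub_odd ho hodd)
  obtain ⟨h, hh⟩ := hT (fun i => p (4 + i)) (fun i => p (2 + i)) (hN.sub (by omega))
    (hN.sub (by omega)) ((hN.B_iff D.toAmalg h0 (by omega)).2 (by decide))
    ((hN.B_iff D.toAmalg h0 (by omega)).2 (by decide))
  have hfix : ∀ i, 2 ≤ i → i ≤ r - 2 → (h * z (p 0) * h⁻¹) • p i = p i := fun i h2 hi => by
    have h1 : h • p (i + 2) = p i := by
      have := hh (i - 2) (by omega)
      rwa [show 4 + (i - 2) = i + 2 by omega, show 2 + (i - 2) = i by omega] at this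
    rw [← h1, mul_smul, mul_smul, inv_smul_smul, hz0M.1 (i + 2) (by omega)]
  have hnK : h * z (p 0) * h⁻¹ ∉ K G Γ (p (r - 2)) := by
    have := hh (r - 4) le_rfl
    rw [show 4 + (r - 4) = r by omega, show 2 + (r - 4) = r - 2 by omega] at this
    rw [← this, D.K_smul_iff]; exact hK
  have hr2 : ¬ B (p (r - 2)) := (hN.B_iff D.toAmalg h0 (by omega)).not.2
    (Nat.not_even_iff_odd.2 (Nat.Odd.sub_even (by omega) ho even_two))
  have hA : Γ.Adj (p (r - 2)) (p (r - 1)) := hN.adj (by omega) (by omega)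
  have hmoved : (h * z (p 0) * h⁻¹) • p (r - 1) ≠ p (r - 1) :=
    D.smul_ne (hN.adj (i := r - 3) (j := r - 2) (by omega) (by omega)).symm hA
      (hN.ne (by omega) (by omega)) (hfix _ (by omega) le_rfl) (hfix (r - 3) (by omega) (by omega))
      hnK
  refine hmoved (D.z_inj hr2 (D.smul_adj (hfix _ (by omega) le_rfl) hA) hA ?_)
  rw [D.z_smul _ hr1B, ← hmid]
  exact D.conj_eq_of_fix ((hN.B_iff D.toAmalg h0 (by omega)).2 even_two) (hfix 2 le_rfl (by omega))

end CfsgLib.PLocal.Gold
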