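import Cfsg.Agent.Lib.PLocal.GoldOdd
import Cfsg.Agent.Lib.PLocal.GoldOddLarge
import Cfsg.Agent.Lib.PLocal.GoldEvenLarge
import Cfsg.Agent.Lib.PLocal.GoldFour

/-!
The bound `2 ^ 7` for an edge group of an amalgam with a centralizing end.
-/

set_option autoImplicit false
set_option linter.unusedSectionVars false

namespace CfsgLib.PLocal.Gold

open Subgroup
open CfsgLib.Amalgam.Cubic (St E K)

variable {G : Type*} [Group G] {Ω : Type*} [MulAction G Ω] {Γ : SimpleGraph Ω} {B : Ω → Prop}

theorem Amalg.card_edge_le (A : Amalg G Γ B) {x y : Ω} (h : Γ.Adj x y) (hx : B x) :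
    Nat.card ↥(E G x y) ≤ 2 ^ 7 := by
  obtain ⟨z, D⟩ := A.exists_data h hx
  obtain ⟨r, hr2, hR, p, hp⟩ := D.exists_rad hx
  rcases Nat.even_or_odd r with he | ho
  · obtain rfl | rfl | rfl | h8 : r = 2 ∨ r = 4 ∨ r = 6 ∨ 8 ≤ r := by
      rcases he with ⟨k, rfl⟩; omega
    · exact (not_rad_two D hR rfl hp).elim
    · exact bound_four D hR (natural_four D hR hp) hp hx h
    · exact (not_rad_six D hR rfl (natural_six D hR he (by norm_num) le_rfl hp) hp).elim
    · exact (not_rad_even_large D hR he h8 (natural_six D hR he (by omega) (by omega) hp) hp).elim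
  · rcases eq_or_ne r 3 with rfl | h3
    · exact bound_three D hR rfl hp hx h
    · have h5 : 5 ≤ r := by rcases ho with ⟨k, rfl⟩; omega
      exact (not_rad_odd D hR ho h5 hp).elim

end CfsgLib.PLocal.Gold
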