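import Cfsg.Agent.Lib.PLocal.GoldSlide

/-!
Even radius: the product of involutions across two neighbours is one across the third.
-/

set_option autoImplicit false
set_option linter.unusedSectionVars false

namespace CfsgLib.PLocal.Gold

open Subgroup
open CfsgLib.Amalgam.Cubic (St E K Zc mem_Zc mem_K K_le_E K_le_St mem_St_smul)

variable {G : Type*} [Group G] {Ω : Type*} [MulAction G Ω] {Γ : SimpleGraph Ω} {B : Ω → Prop}
  {z : Ω → G} {r : ℕ}

/-- The natural shape of the module generated by the involutions two steps from a vertex. -/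
def Natural (Γ : SimpleGraph Ω) (B : Ω → Prop) (z : Ω → G) : Prop :=
  ∀ y a a' a'' v v' : Ω, B y → Γ.Adj y a → Γ.Adj y a' → Γ.Adj y a'' → a ≠ a' → a ≠ a'' → a' ≠ a'' →
    Γ.Adj a v → v ≠ y → Γ.Adj a' v' → v' ≠ y →
    ∃ v'', Γ.Adj a'' v'' ∧ v'' ≠ y ∧ z v * z v' = z v''

variable (D : Data G Γ B z) (hR : Rad Γ B z r) (he : Even r) (h4 : 4 ≤ r)
include D hR he h4

theorem natural_of {y a a' a'' v v' v'' : Ω} (hy : B y) (ha : Γ.Adj y a) (ha' : Γ.Adj y a')
    (ha'' : Γ.Adj y a'') (h1 : a ≠ a') (h2 : a ≠ a'') (h3 : a' ≠ a'') (hv : Γ.Adj a v)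
    (hvy : v ≠ y) (hv' : Γ.Adj a' v') (hvy' : v' ≠ y) (hv'' : Γ.Adj a'' v'') (hvy'' : v'' ≠ y)
    (heq : z v * z v' = z v'') : Natural Γ B z := by
  intro Y A A' A'' W W' hY hA hA' hA'' n1 n2 n3 hW hWY hW' hWY'
  obtain ⟨g, hg⟩ := D.exists_smul_eq ha hy hY
  obtain ⟨k, hk, e1, e2⟩ := D.exists_perm (hg ▸ D.adj_smul g ha) (hg ▸ D.adj_smul g ha')
    (fun e => h1 (smul_left_cancel g e)) hA hA' n1
  have eY : (k * g) • y = Y := by rw [mul_smul, hg, St_fix hk]
  have eA : (k * g) • a = A := by rw [mul_smul, e1]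
  have eA' : (k * g) • a' = A' := by rw [mul_smul, e2]
  generalize k * g = h at eY eA eA'
  have hc : Function.Injective fun w : Ω => h • w := MulAction.injective h
  have hA3 : Γ.Adj Y (h • a'') := eY ▸ D.adj_smul h ha''
  have eA'' : h • a'' = A'' := by
    rcases D.eq_of_three hA hA' hA'' hA3 n1 n2 n3 with e | e | e
    · exact absurd (hc (e.trans eA.symm)) h2.symm
    · exact absurd (hc (e.trans eA'.symm)) h3.symm
    · exact e
  have hne : ∀ {v}, v ≠ y → h • v ≠ Y := fun hv e => hv (hc (e.trans eY.symm))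
  have hhv : Γ.Adj A (h • v) := eA ▸ D.adj_smul h hv
  have hhv' : Γ.Adj A' (h • v') := eA' ▸ D.adj_smul h hv'
  have hhv'' : Γ.Adj A'' (h • v'') := eA'' ▸ D.adj_smul h hv''
  have hB'' := D.not_B_of_adj hA'' hY
  obtain ⟨u, hu, hn1, hn2⟩ := D.exists_third hA''.symm hhv''
  have hu' : z (h • v'') * z Y = z u :=
    D.z_three hB'' hhv'' hA''.symm hu (hne hvy'') hn2.symm hn1.symm
  have heq' : z (h • v) * z (h • v') = z (h • v'') := by
    rw [D.z_smul h (B_outer D hy ha hv), D.z_smul h (B_outer D hy ha' hv'),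
      D.z_smul h (B_outer D hy ha'' hv''), ← mul_conj, heq]
  have c1 := comm_center D hR he h4 hY hA' hhv'
  rcases outer_alt D hY hA hhv hW (hne hvy) hWY with rfl | f1 <;>
    rcases outer_alt D hY hA' hhv' hW' (hne hvy') hWY' with rfl | f2
  · exact ⟨_, hhv'', hne hvy'', heq'⟩
  · exact ⟨u, hu, hn1, by rw [f2, ← mul_assoc, heq', hu']⟩
  · exact ⟨u, hu, hn1, by rw [f1, mul_assoc, c1, ← mul_assoc, heq', hu']⟩
  · exact ⟨_, hhv'', hne hvy'', by
      rw [f1, f2, c1.symm, mul_assoc, ← mul_assoc (z Y), D.z_sq hY, one_mul, heq']⟩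

/-- At radius six and more, the two cosets at distance four meet. -/
theorem co_meet (h6 : 6 ≤ r) {p : ℕ → Ω} (hp : Crit Γ B z r p) {y a a' v v' : Ω} (hy : B y)
    (ha : Γ.Adj y a) (ha' : Γ.Adj y a') (hne : a ≠ a') (hv : Γ.Adj a v) (hv' : Γ.Adj a' v')
    (hvy : v ≠ y) (hvy' : v' ≠ y) : ∃ g, Co Γ z v a g ∧ Co Γ z v' a' g := by
  obtain ⟨c, hc, hca, hca'⟩ := D.exists_third ha ha'
  obtain ⟨g, hg⟩ := D.exists_smul_eq (hp.1.adj (i := 0) (j := 1) rfl (by omega)) hp.2.1 hy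
  obtain ⟨k, hk, hk1⟩ := D.trans
    (hg ▸ D.adj_smul g (hp.1.adj (i := 0) (j := 1) rfl (by omega))) hc
  have hQ := Crit.smul D hp (k * g)
  have e0 : (k * g) • p 0 = y := by rw [mul_smul, hg, St_fix hk]
  have e1 : (k * g) • p 1 = c := by rw [mul_smul, hk1]
  generalize hQe : (fun i => (k * g) • p i) = Q at hQ
  have hQ0 : Q 0 = y := by rw [← hQe]; exact e0
  have hQ1 : Q 1 = c := by rw [← hQe]; exact e1
  obtain ⟨hQN, hQB, hQK⟩ := id hQ
  have hvB := B_outer D hy ha hv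
  have hv'B := B_outer D hy ha' hv'
  have hN2 : NB Γ (r + 2) (pre v (pre a Q)) :=
    (hQN.pre' (hQ0.symm ▸ ha.symm) fun _ => hQ1.symm ▸ hca.symm).pre' hv.symm
      fun _ => by simpa [hQ0] using hvy
  have hP2 : Crit Γ B z r (pre v (pre a Q)) :=
    crit_back D hR he h4 hN2 (hQ.congr fun i _ => by simp [Nat.add_comm 2 i])
  obtain ⟨x1, hx1, hx1a⟩ := D.exists_one hv.symm
  obtain ⟨x0, hx0, hx0v⟩ := D.exists_one hx1.symm
  have hN0 : NB Γ (r + 2) (pre x0 (pre x1 (pre v (pre a Q)))) :=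
    ((hN2.mono (j := r) (by omega)).pre' (by simpa using hx1.symm)
      fun _ => by simpa using hx1a).pre' hx0.symm fun _ => by simpa using hx0v
  have hx0B := B_outer D hvB hx1 hx0
  have hP0 : Crit Γ B z r (pre x0 (pre x1 (pre v (pre a Q)))) :=
    crit_back D hR he h4 hN0 (hP2.congr fun i _ => by simp [Nat.add_comm 2 i])
  have hrev := (crit_rev D hR he h4 hN0 hP0).2.2
  obtain ⟨m, rfl⟩ : ∃ m, r = m + 4 := ⟨r - 4, by omega⟩
  simp only [Nat.sub_zero, show m + 4 + 2 - (m + 4) = 2 by omega] at hrev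
  simp at hrev
  -- `hrev : z (Q (m + 2)) ∉ K v`
  have hqB : B (Q (m + 2)) :=
    (hQN.B_iff D.toAmalg hQB (by omega)).2 (by rcases he with ⟨a, ha⟩; exact ⟨a - 1, by omega⟩)
  have hze_v : z (Q (m + 2)) • v = v := D.fix hR hqB (dist_le_succ' D.conn hv.symm
    (dist_le_succ' D.conn ha.symm (n := m + 2) (by
      rw [← hQ0]; exact hQN.dist_le D.conn (by omega) (by omega) (by omega) (by omega))))
  have hze_a : z (Q (m + 2)) • a = a := D.fix hR hqB ((dist_le_succ' D.conn ha.symm (n := m + 2) (by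
      rw [← hQ0]; exact hQN.dist_le D.conn (by omega) (by omega) (by omega) (by omega))).trans
      (by omega))
  have hne1 : z (Q (m + 2)) • x1 ≠ x1 :=
    D.smul_ne hv.symm hx1 hx1a.symm hze_v hze_a hrev
  let f := z x0 * z (z (Q (m + 2)) • x0)
  have hf1 : Co Γ z v a f :=
    ⟨x1, z (Q (m + 2)) • x1, x0, z (Q (m + 2)) • x0, hx1, D.smul_adj hze_v hx1, hx1a,
      fun e => hx1a (smul_left_cancel _ (e.trans hze_a.symm)), hne1.symm, hx0, hx0v,
      D.adj_smul _ hx0, fun e => hx0v (smul_left_cancel _ (e.trans hze_v.symm)), rfl⟩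
  -- the far involution of `Q` carries `a` to `a'` and centralizes `f`
  have hQr : B (Q (m + 4)) := (hQN.B_iff D.toAmalg hQB le_rfl).2 he
  have hw := (crit_symm D hR he h4 hQ).2.2
  simp only [Nat.sub_zero, Nat.sub_self, hQ0] at hw
  have hwy : z (Q (m + 4)) • y = y := D.fix hR hQr (by
    rw [← hQ0]; exact hQN.dist_le D.conn le_rfl (by omega) (by omega) (by omega))
  have hwc : z (Q (m + 4)) • c = c := D.fix hR hQr (by
    rw [← hQ1]; exact hQN.dist_le D.conn le_rfl (by omega) (by omega) (by omega))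
  have hwa : z (Q (m + 4)) • a = a' := D.smul_swap hc ha ha' hca hca' hne hwy hwc hw
  have hfw : z (Q (m + 4)) * f = f * z (Q (m + 4)) := by
    have h02 : z x0 • Q m = Q m := D.fix hR hx0B (by
      have := hN0.dist_le D.conn (i := 0) (j := m + 4) (n := m + 4) (by omega) (by omega) (by omega)
        (by omega)
      simpa using this)
    have hd : Γ.dist (Q (m + 4)) (z x0 • Q (m + 2)) ≤ m + 4 := by
      refine (D.conn.dist_triangle (v := Q m)).trans ?_
      have h1 := hQN.dist_le D.conn (i := m + 4) (j := m) (n := 4) le_rfl (by omega) (by omega)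
        (by omega)
      have h2 := dist_fix_le D.toAmalg h02 (hQN.dist_le D.conn (i := m) (j := m + 2) (n := 2)
        (by omega) (by omega) (by omega) (by omega))
      omega
    have ef : f = z (z x0 • Q (m + 2)) * z (Q (m + 2)) := by
      show z x0 * z (z (Q (m + 2)) • x0) = _
      rw [D.z_smul _ hx0B, D.z_smul _ hqB, D.z_inv hqB, D.z_inv hx0B]; group
    have c1 := D.comm hR hQr ((D.B_smul _ _).2 hqB) hd
    have c2 := D.comm hR hQr hqB ((hQN.dist_le D.conn (i := m + 4) (j := m + 2) (n := 2) le_rfl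
      (by omega) (by omega) (by omega)).trans (by omega))
    rw [ef, ← mul_assoc, c1, mul_assoc, c2, mul_assoc]
  have hf2 : Co Γ z (z (Q (m + 4)) • v) a' f := by
    have := co_conj D hR he h4 hvB hf1 (z (Q (m + 4)))
    rwa [hwa, comm_inv_eq hfw] at this
  by_cases hvv : z (Q (m + 4)) • v = v'
  · exact ⟨f, hf1, hvv ▸ hf2⟩
  obtain ⟨t, ht, hta, hta'⟩ := exists_mixed D hR he h4 hy ha ha' hne
  have hadj : Γ.Adj a' (z (Q (m + 4)) • v) := hwa ▸ D.adj_smul _ hv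
  have hne' : z (Q (m + 4)) • v ≠ y := fun e => hvy (smul_left_cancel _ (e.trans hwy.symm))
  have h1 := co_conj D hR he h4 hvB hf1 t
  have h2 := co_conj D hR he h4 ((D.B_smul _ _).2 hvB) hf2 t
  rw [hta.2 v hv, ht.2 a ha] at h1
  rw [ht.2 a' ha', D.smul_swap ha'.symm hadj hv' hne'.symm hvy'.symm hvv (ht.2 a' ha') ht.1 hta']
    at h2
  exact ⟨_, h1, h2⟩

theorem natural_six (h6 : 6 ≤ r) {p : ℕ → Ω} (hp : Crit Γ B z r p) : Natural Γ B z := by
  by_cases hA : ∃ y a1 a2 v1 v2 v2' g, B y ∧ Γ.Adj y a1 ∧ Γ.Adj y a2 ∧ a1 ≠ a2 ∧ Γ.Adj a1 v1 ∧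
      v1 ≠ y ∧ Γ.Adj a2 v2 ∧ v2 ≠ y ∧ Γ.Adj a2 v2' ∧ v2' ≠ y ∧ Co Γ z v1 a1 g ∧ Co Γ z v2 a2 g ∧
      ¬ Co Γ z v2' a2 g
  · obtain ⟨y, a1, a2, v1, v2, v2', g, hy, ha1, ha2, hne, hv1, n1, hv2, n2, hv2', n2', k1, k2, k2'⟩
      := hA
    obtain ⟨a3, ha3, h31, h32⟩ := D.exists_third ha1 ha2
    obtain ⟨v3, hv3, n3⟩ := D.exists_one ha3.symm
    obtain ⟨g1, j1, j2⟩ := co_meet D hR he h4 h6 hp hy ha1 ha2 hne hv1 hv2' n1 n2'
    have eg1 : g1 = g * z v1 :=
      (co_dich D hR he h4 (B_outer D hy ha1 hv1) hv1.symm k1 j1).resolve_left fun e => k2' (e ▸ j2)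
    -- normalise so that the element at `v2` lies at `v3`
    obtain ⟨g, g1, v2, v2', k1, k2, j1, j2, hv2, hv2', n2, n2', k3, hgg, k2'⟩ :
        ∃ g g1 v2 v2', Co Γ z v1 a1 g ∧ Co Γ z v2 a2 g ∧ Co Γ z v1 a1 g1 ∧ Co Γ z v2' a2 g1 ∧
          Γ.Adj a2 v2 ∧ Γ.Adj a2 v2' ∧ v2 ≠ y ∧ v2' ≠ y ∧ Co Γ z v3 a3 g ∧ g1 = g * z v1 ∧
          ¬ Co Γ z v2' a2 g := by
      obtain ⟨g3, i1, i3⟩ := co_meet D hR he h4 h6 hp hy ha1 ha3 h31.symm hv1 hv3 n1 n3
      rcases co_dich D hR he h4 (B_outer D hy ha1 hv1) hv1.symm k1 i1 with rfl | e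
      · exact ⟨g3, g1, v2, v2', k1, k2, j1, j2, hv2, hv2', n2, n2', i3, eg1, k2'⟩
      · rw [← eg1] at e
        subst e
        refine ⟨g3, g, v2', v2, j1, j2, k1, k2, hv2', hv2, n2', n2, i3, ?_, fun hh => k2' ?_⟩
        · rw [eg1, mul_assoc, D.z_sq (B_outer D hy ha1 hv1), mul_one]
        · exact (co_meet_unique D hR he h4 hy ha1 ha2 hne hv1 hv2 n1 n2 k1 k2 j1 hh) ▸ j2
    obtain ⟨g', i3, i2⟩ := co_meet D hR he h4 h6 hp hy ha3 ha2 h32 hv3 hv2' n3 n2'
    have hB2 := B_outer D hy ha2 hv2'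
    rcases co_dich D hR he h4 (B_outer D hy ha3 hv3) hv3.symm k3 i3 with rfl | e
    · exact absurd i2 k2'
    rcases co_dich D hR he h4 hB2 hv2'.symm j2 i2 with e' | e'
    · rw [e, hgg] at e'
      exact absurd (mul_left_cancel e') (D.D4 hy ha3 ha1 h31 hv3 hv1 n3 n1)
    · rw [e, hgg, mul_assoc] at e'
      exact natural_of D hR he h4 hy ha1 ha2 ha3 hne h31.symm h32.symm hv1 n1 hv2' n2' hv3 n3
        (mul_left_cancel e').symm
  push_neg at hA
  -- otherwise all six cosets around a vertex share one element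
  have hF : ∀ y a, B y → Γ.Adj y a → ∃ f, ∀ b w, Γ.Adj y b → Γ.Adj b w → w ≠ y → Co Γ z w b f := by
    intro y a hy ha
    obtain ⟨b, c, hb, hc, hba, hca, hbc⟩ := D.exists_two ha
    obtain ⟨va, hva, na⟩ := D.exists_one ha.symm
    obtain ⟨vb, hvb, nb⟩ := D.exists_one hb.symm
    obtain ⟨f, i1, i2⟩ := co_meet D hR he h4 h6 hp hy ha hb hba.symm hva hvb na nb
    have allb : ∀ w, Γ.Adj b w → w ≠ y → Co Γ z w b f := fun w hw hwy =>
      hA y a b va vb w f hy ha hb hba.symm hva na hvb nb hw hwy i1 i2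
    have alla : ∀ w, Γ.Adj a w → w ≠ y → Co Γ z w a f := fun w hw hwy =>
      hA y b a vb va w f hy hb ha hba hvb nb hva na hw hwy i2 i1
    obtain ⟨va', hva', na1, na2⟩ := D.exists_third ha.symm hva
    refine ⟨f, fun d w hd hw hwy => ?_⟩
    rcases D.eq_of_three ha hb hc hd hba.symm hca.symm hbc with rfl | rfl | rfl
    · exact alla w hw hwy
    · exact allb w hw hwy
    obtain ⟨g, j1, j3⟩ := co_meet D hR he h4 h6 hp hy ha hd hca.symm hva hw na hwy
    have j1' := hA y d a w va va' g hy hd ha hca hw hwy hva na hva' na1 j3 j1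
    rcases co_dich D hR he h4 (B_outer D hy ha hva) hva.symm i1 j1 with rfl | e
    · exact j3
    rcases co_dich D hR he h4 (B_outer D hy ha hva') hva'.symm (alla va' hva' na1) j1' with rfl | e'
    · exact j3
    exact absurd (D.z_inj (D.not_B_of_adj ha hy) hva hva' (mul_left_cancel (e.symm.trans e')))
      na2.symm
  obtain ⟨hN, h0, -⟩ := hp
  have h01 := hN.adj (i := 0) (j := 1) rfl (by omega)
  obtain ⟨y, y'', hy, hy'', n, n'', nn⟩ := D.exists_two h01.symm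
  have haB := D.not_B_of_adj h01 h0
  have hyB := D.B_of_adj hy haB
  have hyB'' := D.B_of_adj hy'' haB
  obtain ⟨f, hf⟩ := hF y _ hyB hy.symm
  obtain ⟨f'', hf''⟩ := hF y'' _ hyB'' hy''.symm
  have hcent : ∀ {y : Ω} {f : G}, B y →
      (∀ b w, Γ.Adj y b → Γ.Adj b w → w ≠ y → Co Γ z w b f) → Γ.Adj y (p 1) →
      ∀ g ∈ St G y, g * f = f * g := by
    intro y f hy hf ha g hg
    obtain ⟨b, hb, hbne⟩ := D.exists_one ha
    obtain ⟨v, hv, hvy⟩ := D.exists_one ha.symm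
    obtain ⟨w, hw, hwy⟩ := D.exists_one hb.symm
    have key : ∀ c u, Γ.Adj y c → Γ.Adj c u → u ≠ y → Co Γ z u c (g * f * g⁻¹) := by
      intro c u hc hu huy
      have hc' : Γ.Adj y (g⁻¹ • c) := D.smul_adj (inv_mem hg) hc
      have hu' : g⁻¹ • u ≠ y := fun e => huy (by rw [← smul_inv_smul g u, e, St_fix hg])
      have := co_conj D hR he h4 (B_outer D hy hc' (D.adj_smul g⁻¹ hu))
        (hf _ _ hc' (D.adj_smul g⁻¹ hu) hu') g
      rwa [smul_inv_smul, smul_inv_smul] at this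
    have heq := co_meet_unique D hR he h4 hy ha hb hbne.symm hv hw hvy hwy (key _ _ ha hv hvy)
      (key _ _ hb hw hwy) (hf _ _ ha hv hvy) (hf _ _ hb hw hwy)
    conv_rhs => rw [← heq]
    group
  have hE : ∀ {y : Ω} {f : G}, B y → Γ.Adj y (p 1) → p 0 ≠ y → Co Γ z (p 0) (p 1) f →
      f ∈ E G (p 1) y := fun hy ha _ hf =>
    ⟨co_fix D hR he h4 h0 hf (by rw [SimpleGraph.dist_eq_one_iff_adj.2 h01]; omega),
      co_fix D hR he h4 h0 hf (by
        have := dist_le_succ D.conn h01 (SimpleGraph.dist_eq_one_iff_adj.2 ha.symm).le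
        omega)⟩
  have k : Co Γ z (p 0) (p 1) f := hf _ _ hy.symm h01.symm n.symm
  have k'' : Co Γ z (p 0) (p 1) f'' := hf'' _ _ hy''.symm h01.symm n''.symm
  have hone : ∀ x, x ∈ E G (p 1) y → (∀ g ∈ St G y, g * x = x * g) →
      (∀ g ∈ St G y'', g * x = x * g) → x = 1 := by
    intro x hx hx1 hx2
    have hle : St G (p 1) ≤ centralizer ({x} : Set G) :=
      D.St_le' hy hy'' nn (fun g hg => mem_centralizer_singleton_iff.2 (hx1 g hg.2))
        (fun g hg => mem_centralizer_singleton_iff.2 (hx2 g hg.2))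
    exact D.eq_one_of_central hy hx (fun g hg => mem_centralizer_singleton_iff.1 (hle hg)) hx1
  have hfe := hE hyB hy.symm n.symm k
  rcases co_dich D hR he h4 h0 h01 k k'' with e | e
  · exact absurd (hone f hfe (hcent hyB hf hy.symm) (e ▸ hcent hyB'' hf'' hy''.symm))
      (co_ne D hR he h4 h0 k).1
  have hG : f * z y = f'' * z y'' := by
    rw [e, ← D.z_three haB h01.symm hy hy'' n.symm n''.symm nn, ← mul_assoc, mul_assoc f,
      D.z_sq h0, mul_one]
  have hcm : ∀ {g a b : G}, g * a = a * g → g * b = b * g → g * (a * b) = a * b * g :=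
    fun h1 h2 => by rw [← mul_assoc, h1, mul_assoc, h2, mul_assoc]
  have hfy : f * z y = 1 := hone _ (mul_mem hfe ⟨(D.z_mem_Ka haB hy).1, (D.z_K hyB).1⟩)
    (fun g hg => hcm (hcent hyB hf hy.symm g hg) (D.z_cent hyB g hg))
    (fun g hg => hG ▸ hcm (hcent hyB'' hf'' hy''.symm g hg) (D.z_cent hyB'' g hg))
  obtain ⟨b, b', x, x', hb, hb', hba, hb'a, hbb, hx, hxv, hx', hxv', rfl⟩ := k
  exact natural_of D hR he h4 h0 hb hb' h01 hbb hba hb'a hx hxv hx' hxv' hy n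
    ((eq_inv_of_mul_eq_one_left hfy).trans (D.z_inv hyB))

end CfsgLib.PLocal.Gold
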