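import Cfsg.Agent.Lib.PLocal.GoldPath

/-!
The radius is not two; radius three bounds the edge group; larger odd radii are impossible.
-/

set_option autoImplicit false
set_option linter.unusedSectionVars false

namespace CfsgLib.PLocal.Gold

open Subgroup
open CfsgLib.Amalgam.Cubic (St E K Zc mem_Zc mem_K K_le_E K_le_St mem_St_smul)

variable {G : Type*} [Group G] {Ω : Type*} [MulAction G Ω] {Γ : SimpleGraph Ω} {B : Ω → Prop}
  {z : Ω → G} {r : ℕ} (D : Data G Γ B z) (hR : Rad Γ B z r)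
include D hR

theorem not_rad_two (hr : r = 2) {p : ℕ → Ω} (hp : Crit Γ B z r p) : False := by
  subst hr
  obtain ⟨hN, h0, hK⟩ := hp
  have hB2 : B (p 2) := (hN.B_iff D.toAmalg h0 le_rfl).2 even_two
  have h12 := hN.adj (i := 1) (j := 2) rfl le_rfl
  have h01 := hN.adj (i := 0) (j := 1) rfl (by norm_num)
  have hne := hN.ne (i := 0) (j := 2) rfl le_rfl
  obtain ⟨p', hp', hn1, hn2⟩ := D.exists_third h01.symm h12
  have hg1 : z (p 0) • p 1 = p 1 := D.fix hR h0 (hN.dist_le D.conn (by norm_num) (by norm_num)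
    (by norm_num) (by norm_num))
  have hg2 : z (p 0) • p 2 = p 2 := D.fix hR h0 (hN.dist_le D.conn (by norm_num) (by norm_num)
    (by norm_num) (by norm_num))
  have key : ∀ k ∈ K G Γ (p 2), ∃ c, (c = 1 ∨ c = z (p 2)) ∧
      z (p 0) * k * z (p 0) = c * k := by
    intro k hk
    have hk1 : k • p 1 = p 1 := hk.2 _ h12.symm
    have hk0 : Γ.Adj (p 1) (k • p 0) := D.smul_adj hk1 h01.symm
    have hsq : z (p 0) * z (p 0) = 1 := D.z_sq h0
    have hc := D.z_conj k h0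
    rcases D.eq_of_three h01.symm h12 hp' hk0 hne hn1.symm hn2.symm with e | e | e
    · refine ⟨1, Or.inl rfl, ?_⟩
      rw [e] at hc
      calc z (p 0) * k * z (p 0) = z (p 0) * (k * z (p 0) * k⁻¹) * k := by group
        _ = z (p 0) * z (p 0) * k := by rw [hc]
        _ = 1 * k := by rw [hsq]
    · exact absurd (smul_left_cancel k (e.trans hk.1.symm)) hne
    · refine ⟨z (p 2), Or.inr rfl, ?_⟩
      rw [e, ← D.z_three ((hN.B_iff D.toAmalg h0 (by norm_num)).not.2 (by decide)) h01.symm h12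
        hp' hne hn1.symm hn2.symm] at hc
      calc z (p 0) * k * z (p 0) = z (p 0) * (k * z (p 0) * k⁻¹) * k := by group
        _ = z (p 0) * (z (p 0) * z (p 2)) * k := by rw [hc]
        _ = z (p 2) * k := by rw [← mul_assoc (z (p 0)), hsq, one_mul]
  obtain ⟨a, b, ha, hb, hna, hnb, hab⟩ := D.exists_two h12.symm
  obtain ⟨s, hs, hsa⟩ := D.trans h12.symm ha
  let g := z (p 0)
  let g' := s * g * s⁻¹
  have hgE : g • p 1 = p 1 := hg1
  have hga : g • a = b := D.smul_swap h12.symm ha hb hna.symm hnb.symm hab hg2 hg1 hK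
  have hgb : g • b = a := D.smul_swap h12.symm hb ha hnb.symm hna.symm hab.symm hg2 hg1 hK
  have hs2 : s • p 2 = p 2 := hs
  have hg'2 : g' • p 2 = p 2 := by
    show (s * g * s⁻¹) • p 2 = p 2
    rw [mul_smul, mul_smul, inv_smul_eq_iff.2 hs2.symm, hg2, hs2]
  have hg'a : g' • a = a := by
    show (s * g * s⁻¹) • a = a
    rw [mul_smul, mul_smul, ← hsa, inv_smul_smul, hg1]
  have hg'K : g' ∉ K G Γ (p 2) := by
    show s * g * s⁻¹ ∉ _
    rw [← hs2, D.K_smul_iff]; exact hK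
  have hg'1 : g' • p 1 = b := D.smul_swap ha h12.symm hb hna hab hnb.symm hg'2 hg'a hg'K
  have hg'b : g' • b = p 1 := D.smul_swap ha hb h12.symm hab hna hnb hg'2 hg'a hg'K
  have h1 : (g * g') • p 1 = a := by rw [mul_smul, hg'1, hgb]
  have h2 : (g * g') • a = b := by rw [mul_smul, hg'a, hga]
  have hsq : g * g = 1 := D.z_sq h0
  have key' : ∀ k ∈ K G Γ (p 2), ∃ c, (c = 1 ∨ c = z (p 2)) ∧ g' * k * g' = c * k := by
    intro k hk
    have hk' : s⁻¹ * k * s ∈ K G Γ (p 2) := by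
      have := D.conj_mem_K (inv_mem hs) hk
      rwa [inv_inv] at this
    obtain ⟨c, hc, he⟩ := key _ hk'
    refine ⟨c, hc, ?_⟩
    have hsc : s * c * s⁻¹ = c := by
      rcases hc with rfl | rfl
      · group
      · exact D.conj_eq_of_fix hB2 hs2
    calc g' * k * g' = s * (g * (s⁻¹ * k * s) * g) * s⁻¹ := by
          show s * g * s⁻¹ * k * (s * g * s⁻¹) = _; group
      _ = s * (c * (s⁻¹ * k * s)) * s⁻¹ := by rw [he]
      _ = (s * c * s⁻¹) * k := by group
      _ = c * k := by rw [hsc]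
  have hh : g * g' ∈ St G (p 2) := by
    show (g * g') • p 2 = p 2
    rw [mul_smul, hg'2, hg2]
  have hcomm : ∀ k ∈ K G Γ (p 2), ∃ c, (c = 1 ∨ c = z (p 2)) ∧
      g * g' * k * (g * g')⁻¹ = c * k := by
    intro k hk
    obtain ⟨c, hc, he⟩ := key' k hk
    obtain ⟨c', hc', he'⟩ := key k hk
    have hinv : (g * g')⁻¹ = g' * g := by
      rw [mul_inv_rev, inv_eq_of_mul_eq_one_right hsq, inv_eq_of_mul_eq_one_right
        (show g' * g' = 1 by show s * g * s⁻¹ * (s * g * s⁻¹) = 1; rw [← mul_conj, hsq]; group)]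
    have hgc : g * c = c * g := by
      rcases hc with rfl | rfl
      · rw [mul_one, one_mul]
      · exact D.z_cent hB2 g hg2
    refine ⟨c * c', ?_, ?_⟩
    · rcases hc with rfl | rfl <;> rcases hc' with rfl | rfl
      · exact Or.inl (one_mul 1)
      · exact Or.inr (one_mul _)
      · exact Or.inr (mul_one _)
      · exact Or.inl (D.z_sq hB2)
    · rw [hinv]
      calc g * g' * k * (g' * g) = g * (g' * k * g') * g := by group
        _ = (g * c) * k * g := by rw [he]; group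
        _ = c * (g * k * g) := by rw [hgc]; group
        _ = c * c' * k := by rw [show g * k * g = c' * k from he', mul_assoc]
  have h3 : g * g' * (g * g') ∈ K G Γ (p 2) := by
    refine D.char h12.symm _ (mul_mem hh hh) fun k hk => ?_
    obtain ⟨c, hc, he⟩ := hcomm k hk
    have hhc : g * g' * c * (g * g')⁻¹ = c := by
      rcases hc with rfl | rfl
      · group
      · exact D.conj_eq_of_fix hB2 hh
    have hcc : c * c = 1 := by
      rcases hc with rfl | rfl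
      · exact one_mul 1
      · exact D.z_sq hB2
    calc g * g' * (g * g') * k
        = g * g' * (g * g' * k * (g * g')⁻¹) * (g * g') := by group
      _ = g * g' * (c * k) * (g * g') := by rw [he]
      _ = (g * g' * c * (g * g')⁻¹) * (g * g' * k * (g * g')⁻¹) * (g * g' * (g * g')) := by group
      _ = c * (c * k) * (g * g' * (g * g')) := by rw [hhc, he]
      _ = k * (g * g' * (g * g')) := by rw [← mul_assoc c, hcc, one_mul]
  have h4 := h3.2 _ h12.symm
  rw [mul_smul, h1, h2] at h4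
  exact hnb h4

/-- Involutions at distance four through a vertex of `B` do not commute at radius three. -/
theorem noncomm_three (hr : r = 3) {p : ℕ → Ω} (hp : Crit Γ B z r p) {y a a' v v' : Ω}
    (hy : B y) (ha : Γ.Adj y a) (ha' : Γ.Adj y a') (hne : a ≠ a') (hv : Γ.Adj a v)
    (hv' : Γ.Adj a' v') (hvy : v ≠ y) (hvy' : v' ≠ y) : z v * z v' ≠ z v' * z v := by
  subst hr
  obtain ⟨hN, h0, hK⟩ := hp
  have hB2 : B (p 2) := (hN.B_iff D.toAmalg h0 (by norm_num)).2 even_two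
  have h21 := (hN.adj (i := 1) (j := 2) rfl (by norm_num)).symm
  have h23 := hN.adj (i := 2) (j := 3) rfl le_rfl
  obtain ⟨g, hg⟩ := D.exists_smul_eq h21 hB2 hy
  have hb : Γ.Adj y (g • p 1) := hg ▸ D.adj_smul g h21
  have hb' : Γ.Adj y (g • p 3) := hg ▸ D.adj_smul g h23
  obtain ⟨k, hk, hk1, hk3⟩ := D.exists_perm hb hb' (fun e => hN.ne (i := 1) (j := 3) rfl le_rfl
    (smul_left_cancel g e)) ha ha' hne
  have e2 : (k * g) • p 2 = y := by rw [mul_smul, hg, St_fix hk]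
  have e1 : (k * g) • p 1 = a := by rw [mul_smul, hk1]
  have e3 : (k * g) • p 3 = a' := by rw [mul_smul, hk3]
  generalize k * g = h at e1 e2 e3
  have hv3 : Γ.Adj (p 3) (h⁻¹ • v') := by
    have := D.adj_smul h⁻¹ (e3 ▸ hv'); rwa [inv_smul_smul] at this
  have hv1 : Γ.Adj (p 1) (h⁻¹ • v) := by
    have := D.adj_smul h⁻¹ (e1 ▸ hv); rwa [inv_smul_smul] at this
  have hp3 : ¬ B (p 3) := (hN.B_iff D.toAmalg h0 le_rfl).not.2 (by decide)
  have hp1 : ¬ B (p 1) := (hN.B_iff D.toAmalg h0 (by norm_num)).not.2 (by decide)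
  have hqB := D.B_of_adj hv3 hp3
  have hwB := D.B_of_adj hv1 hp1
  intro hc
  have hc' : z (h⁻¹ • v) * z (h⁻¹ • v') = z (h⁻¹ • v') * z (h⁻¹ • v) := by
    rw [D.z_smul h⁻¹ (D.B_of_adj hv (e1 ▸ (D.B_smul h _).not.2 hp1)),
      D.z_smul h⁻¹ (D.B_of_adj hv' (e3 ▸ (D.B_smul h _).not.2 hp3)), ← mul_conj, ← mul_conj, hc]
  have hwy : h⁻¹ • v ≠ p 2 := fun e => hvy (by rw [← e2, ← e, smul_inv_smul])
  have hqy : h⁻¹ • v' ≠ p 2 := fun e => hvy' (by rw [← e2, ← e, smul_inv_smul])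
  -- the two involutions at `p 1` differ by the central one
  have hfix : z (p 0) • (h⁻¹ • v') = h⁻¹ • v' := by
    refine D.fix_of_comm hp3 hv3 (D.fix hR h0 (hN.dist_le D.conn (Nat.zero_le _) le_rfl
      (by omega) (by omega))) ?_
    have h22 : z (p 2) * z (h⁻¹ • v') = z (h⁻¹ • v') * z (p 2) :=
      D.z_comm_of_fix hqB ((D.z_mem_Ka hp3 h23.symm).2 _ hv3)
    by_cases e : h⁻¹ • v = p 0
    · rw [← e]; exact hc'
    · rw [← D.z_three hp1 hv1 h21.symm (hN.adj (i := 0) (j := 1) rfl (by norm_num)).symm hwy e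
        (hN.ne (i := 0) (j := 2) rfl (by norm_num)).symm,
        mul_assoc, h22, ← mul_assoc, hc', mul_assoc]
  exact hK (D.mem_K_of_fix h23.symm hv3 hqy.symm (D.fix hR h0
    (hN.dist_le D.conn (Nat.zero_le _) le_rfl (by omega) (by omega)))
    (D.fix hR h0 (hN.dist_le D.conn (Nat.zero_le _) (by norm_num) (by omega) (by omega))) hfix)

/-- Radius three: the edge group has order at most `2^7`. -/
theorem bound_three (hr : r = 3) {p : ℕ → Ω} (hp : Crit Γ B z r p) {y a : Ω} (hy : B y)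
    (h : Γ.Adj y a) : Nat.card ↥(E G y a) ≤ 2 ^ 7 := by
  classical
  have NC := fun {y a a' v v' : Ω} => noncomm_three D hR hr hp (y := y) (a := a) (a' := a')
    (v := v) (v' := v')
  subst hr
  have haB := D.not_B_of_adj h hy
  obtain ⟨y', y'', hy', hy'', hn', hn'', hnn⟩ := D.exists_two h.symm
  have hy'B := D.B_of_adj hy' haB
  haveI := D.fin h
  haveI : Finite ↥(K G Γ y) := Finite.of_injective _ (Subgroup.inclusion_injective (K_le_St y))
  -- an outer involution fixes the ball of `y` pointwise and moves `y'`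
  have hout : ∀ {b v : Ω}, Γ.Adj y b → b ≠ a → Γ.Adj b v → v ≠ y →
      z v • a = a ∧ (∀ g ∈ Ball2 G Γ y, g * z v = z v * g) ∧ z v • y = y ∧ z v • y' = y'' := by
    intro b v hb hba hv hvy
    have hvB := D.B_of_adj hv (D.not_B_of_adj hb hy)
    have h1 : z v • a = a := D.fix hR hvB (dist_le_succ D.conn hv.symm (dist_le_succ D.conn
      hb.symm (SimpleGraph.dist_eq_one_iff_adj.2 h).le))
    have h2 : z v • y = y := D.fix hR hvB ((dist_le_succ D.conn hv.symm
      (SimpleGraph.dist_eq_one_iff_adj.2 hb.symm).le).trans (by norm_num))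
    refine ⟨h1, fun g hg => D.z_cent hvB g (Ball2.fix hg hb hv), h2, ?_⟩
    refine D.smul_swap h.symm hy' hy'' hn'.symm hn''.symm hnn h1 h2 fun hk => ?_
    exact NC hy hb h hba hv hy' hvy hn' (D.z_cent hy'B (z v) (hk.2 _ hy'))
  obtain ⟨b, c, hb, hc, hba, hca, hbc⟩ := D.exists_two h
  obtain ⟨v, hv, hvy⟩ := D.exists_one hb.symm
  obtain ⟨hva, hvc, hvfy, hvy'⟩ := hout hb hba hv hvy
  have hvB := D.B_of_adj hv (D.not_B_of_adj hb hy)
  have hX : Ball2 G Γ y ⊓ Ball2 G Γ y' = Ball2 G Γ y ⊓ Ball2 G Γ y'' := by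
    have hmap : ∀ {w w' : Ω}, z v • w = w' → Ball2 G Γ y ⊓ Ball2 G Γ w ≤
        Ball2 G Γ y ⊓ Ball2 G Γ w' := fun e g hg => ⟨hg.1, by
      have := D.Ball2_smul (g := z v) hg.2
      rwa [e, comm_inv_eq (hvc g hg.1).symm] at this⟩
    refine le_antisymm (hmap hvy') (hmap ?_)
    rw [← hvy', ← mul_smul, D.z_sq hvB, one_smul]
  have hbot : Ball2 G Γ y ⊓ Ball2 G Γ y' = ⊥ := by
    by_contra hne
    have hle : Ball2 G Γ y ⊓ Ball2 G Γ y' ≤ E G y a :=
      fun g hg => K_le_E h (mem_Ball2.1 hg.1).1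
    have hnorm : E G y a ≤ normalizer (Ball2 G Γ y ⊓ Ball2 G Γ y' : Set G) := by
      have key : ∀ t ∈ E G y a, ∀ g ∈ Ball2 G Γ y ⊓ Ball2 G Γ y',
          t * g * t⁻¹ ∈ Ball2 G Γ y ⊓ Ball2 G Γ y' := by
        intro t ht g hg
        have h1 := D.Ball2_smul (g := t) hg.1
        rw [St_fix ht.1] at h1
        rcases D.eq_of_three h.symm hy' hy'' (D.smul_adj ht.2 hy') hn'.symm hn''.symm hnn
          with e | e | e
        · exact absurd (smul_left_cancel t (e.trans (St_fix ht.1).symm)) hn'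
        · exact ⟨h1, e ▸ D.Ball2_smul hg.2⟩
        · rw [hX]; exact ⟨h1, e ▸ D.Ball2_smul hg.2⟩
      intro t ht
      refine mem_normalizer_iff.2 fun g => ⟨key t ht g, fun hg => ?_⟩
      have := key t⁻¹ (inv_mem ht) _ hg
      rwa [inv_inv, show t⁻¹ * (t * g * t⁻¹) * t = g by group] at this
    obtain ⟨u, hu, huX, hu1⟩ := D.exists_Zc h hle hne hnorm
    have hu' := mem_Zc.1 hu
    obtain ⟨b', hb', hb'a⟩ := D.exists_one hy'.symm
    obtain ⟨v', hv', hv'y⟩ := D.exists_one hb'.symm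
    have hb'B := D.not_B_of_adj hb' hy'B
    have hv'B := D.B_of_adj hv' hb'B
    have hv'a : z v' • a = a := D.fix hR hv'B (dist_le_succ D.conn hv'.symm (dist_le_succ D.conn
      hb'.symm (SimpleGraph.dist_eq_one_iff_adj.2 hy'.symm).le))
    have hv'moves : z v' • y ≠ y := fun e => NC hy'B hb' hy'.symm hb'a hv' h.symm hv'y hn'.symm
      (D.z_cent hy (z v') e)
    refine hu1 (D.eq_one_of_central' h.symm haB ⟨hu'.1.2, hu'.1.1⟩ hu'.2.1 fun g hg => ?_)
    have hle' : St G a ≤ centralizer ({u} : Set G) :=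
      D.St_le h.symm (fun e he => mem_centralizer_singleton_iff.2 (hu'.2.2 e ⟨he.2, he.1⟩))
        (mem_centralizer_singleton_iff.2 (D.z_cent hv'B u (Ball2.fix huX.2 hb' hv')).symm)
        hv'a hv'moves
    exact mem_centralizer_singleton_iff.1 (hle' hg)
  -- counting
  obtain ⟨b', c', hb', hc', hb'a, hc'a, hbc'⟩ := D.exists_two hy'.symm
  have h8 : (Ball2 G Γ y).relIndex (K G Γ y) ≤ 8 := by
    refine (relIndex_le_card (β := Bool × Bool × Bool)
      (fun g => (decide (g ∈ K G Γ a), decide (g ∈ K G Γ b), decide (g ∈ K G Γ c)))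
      fun x hx w hw e => ?_).trans (by simp)
    simp only [Prod.mk.injEq, decide_eq_decide] at e
    have hE : ∀ {d}, Γ.Adj y d → ∀ {g}, g ∈ K G Γ y → g ∈ E G d y := fun hd _ hg =>
      ⟨hg.2 _ hd, hg.1⟩
    exact D.mem_Ball2_of_three h hb hc hba.symm hca.symm hbc (mul_mem (inv_mem hx) hw)
      (D.inv_mul_mem_K' h.symm (hE h hx) (hE h hw) e.1)
      (D.inv_mul_mem_K' hb.symm (hE hb hx) (hE hb hw) e.2.1)
      (D.inv_mul_mem_K' hc.symm (hE hc hx) (hE hc hw) e.2.2)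
  have hfix' : ∀ g ∈ Ball2 G Γ y, g ∈ E G y' a ∧ g ∈ K G Γ a := fun g hg =>
    ⟨⟨((mem_Ball2.1 hg).2 a h).2 _ hy', ((mem_Ball2.1 hg).2 a h).1⟩, (mem_Ball2.1 hg).2 a h⟩
  have h2 : (Ball2 G Γ y ⊓ K G Γ y').relIndex (Ball2 G Γ y) ≤ 2 := by
    refine (relIndex_le_card (fun g => decide (g ∈ K G Γ y')) fun x hx w hw e => ?_).trans
      (by simp)
    simp only [decide_eq_decide] at e
    exact Subgroup.mem_inf.2 ⟨mul_mem (inv_mem hx) hw, D.inv_mul_mem_K' hy'.symm (hfix' x hx).1 (hfix' w hw).1 e⟩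
  have h4 : (Ball2 G Γ y ⊓ Ball2 G Γ y').relIndex (Ball2 G Γ y ⊓ K G Γ y') ≤ 4 := by
    refine (relIndex_le_card (β := Bool × Bool)
      (fun g => (decide (g ∈ K G Γ b'), decide (g ∈ K G Γ c'))) fun x hx w hw e => ?_).trans
      (by simp)
    simp only [Prod.mk.injEq, decide_eq_decide] at e
    refine Subgroup.mem_inf.2 ⟨mul_mem (inv_mem hx.1) hw.1, D.mem_Ball2_of_three hy'.symm hb' hc' hb'a.symm hc'a.symm
      hbc' (mul_mem (inv_mem (show x ∈ K G Γ y' from hx.2)) hw.2) (mul_mem (inv_mem (hfix' x hx.1).2) (hfix' w hw.1).2)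
      (D.inv_mul_mem_K' hb'.symm ⟨hx.2.2 _ hb', hx.2.1⟩ ⟨hw.2.2 _ hb', hw.2.1⟩ e.1)
      (D.inv_mul_mem_K' hc'.symm ⟨hx.2.2 _ hc', hx.2.1⟩ ⟨hw.2.2 _ hc', hw.2.1⟩ e.2)⟩
  have hle1 : Ball2 G Γ y ⊓ Ball2 G Γ y' ≤ Ball2 G Γ y ⊓ K G Γ y' :=
    fun g hg => ⟨hg.1, (mem_Ball2.1 hg.2).1⟩
  have e1 := CfsgLib.Amalgam.Cubic.relIndex_mul_card hle1
  have e2 := CfsgLib.Amalgam.Cubic.relIndex_mul_card
    (inf_le_left : Ball2 G Γ y ⊓ K G Γ y' ≤ Ball2 G Γ y)
  have e3 := CfsgLib.Amalgam.Cubic.relIndex_mul_card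
    (show Ball2 G Γ y ≤ K G Γ y from fun g hg => (mem_Ball2.1 hg).1)
  have e4 := D.card_edge_eq h
  rw [hbot] at e1 h4
  rw [Subgroup.card_bot, mul_one] at e1
  rw [e1] at h4
  calc Nat.card ↥(E G y a) = 2 * Nat.card ↥(K G Γ y) := e4
    _ = 2 * ((Ball2 G Γ y).relIndex (K G Γ y) * ((Ball2 G Γ y ⊓ K G Γ y').relIndex (Ball2 G Γ y) *
        Nat.card ↥(Ball2 G Γ y ⊓ K G Γ y'))) := by rw [e2, e3]
    _ ≤ 2 * (8 * (2 * 4)) := by gcongr
    _ = 2 ^ 7 := by norm_num

end CfsgLib.PLocal.Gold
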