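import Cfsg.Agent.Lib.PLocal.GoldMain
import Cfsg.Agent.Lib.Amalgam.CubicFinal
import Cfsg.Agent.Lib.Amalgam.PCoreOf

/-!
Goldschmidt's bound for a pair of groups over a common subgroup of index three.
-/

set_option autoImplicit false
set_option linter.unusedSectionVars false

namespace CfsgLib.PLocal.Gold

open Subgroup
open CfsgLib.Amalgam (adj_iff smul_inl smul_inr neighbour_inl neighbour_inr)
open CfsgLib.Amalgam.Cubic (St E K Zc mem_Zc mem_Zc_smul conj_map_St conj_map_K)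

variable {G : Type*} [Group G]

/-- Hypothesis on one side of the amalgam. -/
structure Side (T P Q : Subgroup G) : Prop where
  le : T ≤ P
  fin : Finite ↥P
  idx : T.relIndex P = 3
  qle : Q ≤ T
  qidx : Q.relIndex T = 2
  qn : P ≤ normalizer (Q : Set G)
  nn : ¬ P ≤ normalizer (T : Set G)

theorem Side.le_of_mem {T P Q : Subgroup G} (s : Side T P Q) {H : Subgroup G} (hT : T ≤ H)
    {g : G} (hg : g ∈ H) (hgP : g ∈ P) (hgT : g ∉ T) : P ≤ H := by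
  have hd : (H ⊓ P).relIndex P ∣ 3 :=
    s.idx ▸ Subgroup.relIndex_dvd_of_le_left P (le_inf hT s.le)
  rcases (Nat.dvd_prime Nat.prime_three).1 hd with e | e
  · exact (Subgroup.relIndex_eq_one.1 e).trans inf_le_left
  · exfalso
    have hm := Subgroup.relIndex_mul_relIndex T (H ⊓ P) P (le_inf hT s.le) inf_le_right
    rw [s.idx, e] at hm
    exact hgT ((Subgroup.relIndex_eq_one.1 (by omega) : H ⊓ P ≤ T) ⟨hg, hgP⟩)

/-- The core of `T` in `P` is `Q`. -/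
theorem Side.mem_Q {T P Q : Subgroup G} (s : Side T P Q) {g : G}
    (h : ∀ m ∈ P, m⁻¹ * g * m ∈ T) : g ∈ Q := by
  have hgT : g ∈ T := by simpa using h 1 (one_mem _)
  by_contra hgQ
  have hgen : ∀ t ∈ T, t ∈ Q ∨ g⁻¹ * t ∈ Q := by
    intro t ht
    by_cases htQ : t ∈ Q
    · exact Or.inl htQ
    · exact Or.inr ((Subgroup.mul_mem_iff_of_index_two
        (show (Q.subgroupOf T).index = 2 from s.qidx) (a := ⟨g⁻¹, inv_mem hgT⟩) (b := ⟨t, ht⟩)).2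
        ⟨fun hh => absurd (show g⁻¹ ∈ Q from hh) (by simpa using hgQ), fun hh => absurd hh htQ⟩)
  refine s.nn fun m hm => ?_
  have key : ∀ m ∈ P, ∀ t ∈ T, m * t * m⁻¹ ∈ T := by
    intro m hm t ht
    rcases hgen t ht with hq | hq
    · exact s.qle (((Subgroup.mem_normalizer_iff.1 (s.qn hm)) t).1 hq)
    · have h1 : m * g * m⁻¹ ∈ T := by simpa using h m⁻¹ (inv_mem hm)
      have h2 := s.qle (((Subgroup.mem_normalizer_iff.1 (s.qn hm)) _).1 hq)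
      have h3 := mul_mem h1 h2
      rwa [show m * g * m⁻¹ * (m * (g⁻¹ * t) * m⁻¹) = m * t * m⁻¹ by group] at h3
  rw [Subgroup.mem_normalizer_iff]
  intro t
  refine ⟨key m hm t, fun ht => ?_⟩
  have := key m⁻¹ (inv_mem hm) _ ht
  rwa [inv_inv, show m⁻¹ * (m * t * m⁻¹) * m = t by group] at this

variable {P₁ P₂ T Q₁ Q₂ : Subgroup G}

theorem Side.P_ne_T {T P Q : Subgroup G} (s : Side T P Q) : ¬ P ≤ T := by
  intro h
  have := Subgroup.relIndex_eq_one.2 h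
  rw [s.idx] at this
  omega

local notation "Γ" => Cfsg.cosetGraph P₁ P₂

/-- The statements about one directed edge. -/
structure Loc (x y : Cfsg.CosetVertex P₁ P₂) : Prop where
  fin : Finite ↥(St G x)
  two : IsPGroup 2 ↥(E G x y)
  idx : (E G x y).relIndex (St G x) = 3
  kidx : (K G Γ x).relIndex (E G x y) = 2
  char : ∀ g ∈ St G x, (∀ k ∈ K G Γ x, g * k = k * g) → g ∈ K G Γ x
  gen : St G x ⊔ St G y = ⊤

theorem Loc.transport {x y : Cfsg.CosetVertex P₁ P₂} (L : Loc x y) (g : G) :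
    Loc (g • x) (g • y) := by
  have hinj := (MulAut.conj g).injective
  have hE : (E G x y).map (MulAut.conj g).toMonoidHom = E G (g • x) (g • y) := by
    rw [E, Subgroup.map_inf _ _ _ hinj, conj_map_St, conj_map_St]
  refine ⟨?_, ?_, ?_, ?_, ?_, ?_⟩
  · haveI := L.fin
    rw [← conj_map_St]
    exact Finite.of_equiv _ ((St G x).equivMapOfInjective _ hinj).toEquiv
  · rw [← hE]
    exact L.two.map _
  · rw [← hE, ← conj_map_St, Subgroup.relIndex_map_map_of_injective _ _ hinj]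
    exact L.idx
  · rw [← hE, ← conj_map_K, Subgroup.relIndex_map_map_of_injective _ _ hinj]
    exact L.kidx
  · rw [← conj_map_St, ← conj_map_K]
    rintro _ ⟨k, hk, rfl⟩ hc
    refine ⟨k, L.char k hk fun q hq => hinj ?_, rfl⟩
    rw [map_mul, map_mul]
    exact hc _ ⟨q, hq, rfl⟩
  · rw [← conj_map_St, ← conj_map_St, ← Subgroup.map_sup, L.gen,
      Subgroup.map_top_of_surjective _ (MulAut.conj g).surjective]

theorem St_base₁ : St G (Sum.inl ((1 : G) : G ⧸ P₁) : Cfsg.CosetVertex P₁ P₂) = P₁ := by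
  ext g; rw [MulAction.mem_stabilizer_iff, smul_inl, Sum.inl.injEq, QuotientGroup.eq]; simp

theorem St_base₂ : St G (Sum.inr ((1 : G) : G ⧸ P₂) : Cfsg.CosetVertex P₁ P₂) = P₂ := by
  ext g; rw [MulAction.mem_stabilizer_iff, smul_inr, Sum.inr.injEq, QuotientGroup.eq]; simp

theorem K_base₁ (s : Side T P₁ Q₁) (hinf : P₁ ⊓ P₂ = T) :
    K G Γ (Sum.inl ((1 : G) : G ⧸ P₁) : Cfsg.CosetVertex P₁ P₂) = Q₁ := by
  refine le_antisymm (fun g hg => s.mem_Q fun m hm => ?_) fun g hg => ?_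
  · have hgP : g ∈ P₁ := (St_base₁ (P₁ := P₁) (P₂ := P₂)).le hg.1
    have h := hg.2 (Sum.inr ((m : G) : G ⧸ P₂)) (adj_iff.2 (Or.inl ⟨m, by
      rw [Sum.inl.injEq, QuotientGroup.eq]; simpa using hm, rfl⟩))
    rw [smul_inr, Sum.inr.injEq, QuotientGroup.eq] at h
    rw [← hinf]
    refine ⟨P₁.mul_mem (P₁.mul_mem (P₁.inv_mem hm) hgP) hm, ?_⟩
    have h2 := inv_mem h
    rwa [show ((g * m)⁻¹ * m)⁻¹ = m⁻¹ * g * m by group] at h2
  · refine ⟨?_, fun y hy => ?_⟩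
    · show g ∈ St G (Sum.inl ((1 : G) : G ⧸ P₁) : Cfsg.CosetVertex P₁ P₂)
      rw [St_base₁]; exact s.le (s.qle hg)
    · obtain ⟨m, hm, rfl⟩ := neighbour_inl hy
      rw [smul_inr, Sum.inr.injEq, QuotientGroup.eq, one_mul]
      have h1 : m⁻¹ * g⁻¹ * m ∈ Q₁ := by
        have := ((Subgroup.mem_normalizer_iff.1 (s.qn (inv_mem hm))) _).1 (inv_mem hg)
        rwa [inv_inv] at this
      rw [show (g * m)⁻¹ * m = m⁻¹ * g⁻¹ * m by group]
      exact (inf_le_right : P₁ ⊓ P₂ ≤ P₂) (hinf.symm ▸ s.qle h1)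

theorem K_base₂ (s : Side T P₂ Q₂) (hinf : P₁ ⊓ P₂ = T) :
    K G Γ (Sum.inr ((1 : G) : G ⧸ P₂) : Cfsg.CosetVertex P₁ P₂) = Q₂ := by
  refine le_antisymm (fun g hg => s.mem_Q fun m hm => ?_) fun g hg => ?_
  · have hgP : g ∈ P₂ := (St_base₂ (P₁ := P₁) (P₂ := P₂)).le hg.1
    have h := hg.2 (Sum.inl ((m : G) : G ⧸ P₁)) (adj_iff.2 (Or.inr ⟨m, rfl, by
      rw [Sum.inr.injEq, QuotientGroup.eq]; simpa using hm⟩))
    rw [smul_inl, Sum.inl.injEq, QuotientGroup.eq] at h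
    rw [← hinf]
    refine ⟨?_, P₂.mul_mem (P₂.mul_mem (P₂.inv_mem hm) hgP) hm⟩
    have h2 := inv_mem h
    rwa [show ((g * m)⁻¹ * m)⁻¹ = m⁻¹ * g * m by group] at h2
  · refine ⟨?_, fun y hy => ?_⟩
    · show g ∈ St G (Sum.inr ((1 : G) : G ⧸ P₂) : Cfsg.CosetVertex P₁ P₂)
      rw [St_base₂]; exact s.le (s.qle hg)
    · obtain ⟨m, hm, rfl⟩ := neighbour_inr hy
      rw [smul_inl, Sum.inl.injEq, QuotientGroup.eq, one_mul]
      have h1 : m⁻¹ * g⁻¹ * m ∈ Q₂ := by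
        have := ((Subgroup.mem_normalizer_iff.1 (s.qn (inv_mem hm))) _).1 (inv_mem hg)
        rwa [inv_inv] at this
      rw [show (g * m)⁻¹ * m = m⁻¹ * g⁻¹ * m by group]
      exact (inf_le_left : P₁ ⊓ P₂ ≤ P₁) (hinf.symm ▸ s.qle h1)

/-- With `Ω₁ Z(T)` central in the second group the coset graph is an amalgam with centralizing
end. -/
theorem amalg_of_central (s₁ : Side T P₁ Q₁) (s₂ : Side T P₂ Q₂) (hinf : P₁ ⊓ P₂ = T)
    (h2 : IsPGroup 2 ↥T) (c₁ : ∀ g ∈ P₁, (∀ k ∈ Q₁, g * k = k * g) → g ∈ Q₁)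
    (c₂ : ∀ g ∈ P₂, (∀ k ∈ Q₂, g * k = k * g) → g ∈ Q₂) (hgen : P₁ ⊔ P₂ = ⊤)
    (hfaith : ∀ N : Subgroup G, N.Normal → N ≤ T → N = ⊥)
    (hcent : ∀ z ∈ T, z * z = 1 → (∀ e ∈ T, e * z = z * e) → ∀ g ∈ P₂, g * z = z * g) :
    Amalg G Γ (fun v : Cfsg.CosetVertex P₁ P₂ => v.isRight = true) := by
  have L₁ : Loc (Sum.inl ((1 : G) : G ⧸ P₁) : Cfsg.CosetVertex P₁ P₂)
      (Sum.inr ((1 : G) : G ⧸ P₂)) := by
    refine ⟨?_, ?_, ?_, ?_, ?_, ?_⟩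
    · rw [St_base₁]; exact s₁.fin
    · rw [E, St_base₁, St_base₂, hinf]; exact h2
    · rw [E, St_base₁, St_base₂, hinf]; exact s₁.idx
    · rw [E, St_base₁, St_base₂, hinf, K_base₁ s₁ hinf]; exact s₁.qidx
    · rw [St_base₁, K_base₁ s₁ hinf]; exact c₁
    · rw [St_base₁, St_base₂, hgen]
  have L₂ : Loc (Sum.inr ((1 : G) : G ⧸ P₂) : Cfsg.CosetVertex P₁ P₂)
      (Sum.inl ((1 : G) : G ⧸ P₁)) := by
    refine ⟨?_, ?_, ?_, ?_, ?_, ?_⟩
    · rw [St_base₂]; exact s₂.fin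
    · rw [E, St_base₁, St_base₂, inf_comm, hinf]; exact h2
    · rw [E, St_base₁, St_base₂, inf_comm, hinf]; exact s₂.idx
    · rw [E, St_base₁, St_base₂, inf_comm, hinf, K_base₂ s₂ hinf]; exact s₂.qidx
    · rw [St_base₂, K_base₂ s₂ hinf]; exact c₂
    · rw [St_base₁, St_base₂, sup_comm, hgen]
  have L : ∀ {x y : Cfsg.CosetVertex P₁ P₂}, (Γ).Adj x y → Loc x y := by
    intro x y h
    rcases adj_iff.1 h with ⟨g, rfl, rfl⟩ | ⟨g, rfl, rfl⟩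
    · have := L₁.transport g
      rwa [smul_inl, smul_inr, mul_one] at this
    · have := L₂.transport g
      rwa [smul_inl, smul_inr, mul_one] at this
  refine
    { conn := CfsgLib.Amalgam.cosetGraph_connected hgen
      adj_smul := fun g _ _ h => CfsgLib.Amalgam.adj_smul g h
      trans := fun h h' => CfsgLib.Amalgam.transitive_neighbours h h'
      fin := fun h => (L h).fin
      two := fun h => (L h).two
      idx := fun h => (L h).idx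
      kidx := fun h => (L h).kidx
      char := fun h => (L h).char
      gen := fun h => (L h).gen
      faith := fun g hg => CfsgLib.Amalgam.faithful_kernel
        (fun N hN hn => hfaith N hn (hN.trans hinf.le)) hg
      bip := ?_
      B_smul := ?_
      cent := ?_ }
  · intro x y h
    rcases adj_iff.1 h with ⟨g, rfl, rfl⟩ | ⟨g, rfl, rfl⟩ <;> simp
  · intro g x
    rcases x with q | q <;> induction q using QuotientGroup.induction_on <;>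
      simp [smul_inl, smul_inr]
  · intro x y h hx z hz k hk
    rcases adj_iff.1 h with ⟨g, rfl, rfl⟩ | ⟨g, rfl, rfl⟩
    · simp at hx
    have ex : (Sum.inr ((g : G) : G ⧸ P₂) : Cfsg.CosetVertex P₁ P₂) =
        g • Sum.inr ((1 : G) : G ⧸ P₂) := by rw [smul_inr, mul_one]
    have ey : (Sum.inl ((g : G) : G ⧸ P₁) : Cfsg.CosetVertex P₁ P₂) =
        g • Sum.inl ((1 : G) : G ⧸ P₁) := by rw [smul_inl, mul_one]
    have h1 := mem_Zc_smul (g := g⁻¹) hz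
    rw [ex, ey, inv_smul_smul, inv_smul_smul, mem_Zc, E, St_base₁, St_base₂, inf_comm, hinf] at h1
    have h2' : g⁻¹ * k * g⁻¹⁻¹ ∈ P₂ := by
      have := CfsgLib.Amalgam.Cubic.mem_St_smul (g := g⁻¹) hk
      rw [ex, inv_smul_smul] at this
      exact (St_base₂ (P₁ := P₁) (P₂ := P₂)).le this
    have := hcent _ h1.1 h1.2.1 h1.2.2 _ h2'
    calc k * z = g * ((g⁻¹ * k * g⁻¹⁻¹) * (g⁻¹ * z * g⁻¹⁻¹)) * g⁻¹ := by group
      _ = g * ((g⁻¹ * z * g⁻¹⁻¹) * (g⁻¹ * k * g⁻¹⁻¹)) * g⁻¹ := by rw [this]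
      _ = z * k := by group

theorem card_le_of_central (s₁ : Side T P₁ Q₁) (s₂ : Side T P₂ Q₂) (hinf : P₁ ⊓ P₂ = T)
    (h2 : IsPGroup 2 ↥T) (c₁ : ∀ g ∈ P₁, (∀ k ∈ Q₁, g * k = k * g) → g ∈ Q₁)
    (c₂ : ∀ g ∈ P₂, (∀ k ∈ Q₂, g * k = k * g) → g ∈ Q₂) (hgen : P₁ ⊔ P₂ = ⊤)
    (hfaith : ∀ N : Subgroup G, N.Normal → N ≤ T → N = ⊥)
    (hcent : ∀ z ∈ T, z * z = 1 → (∀ e ∈ T, e * z = z * e) → ∀ g ∈ P₂, g * z = z * g) :
    Nat.card ↥T ≤ 2 ^ 7 := by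
  have A := amalg_of_central s₁ s₂ hinf h2 c₁ c₂ hgen hfaith hcent
  have h := A.card_edge_le (x := Sum.inr ((1 : G) : G ⧸ P₂)) (y := Sum.inl ((1 : G) : G ⧸ P₁))
    (adj_iff.2 (Or.inr ⟨1, rfl, rfl⟩)) rfl
  rwa [E, St_base₁, St_base₂, inf_comm, hinf] at h

/-- A side centralizing outside its kernel bounds the common subgroup by `16`. -/
theorem card_le_of_not_char (s₁ : Side T P₁ Q₁) (s₂ : Side T P₂ Q₂)
    (hgen : P₁ ⊔ P₂ = ⊤) (hfaith : ∀ N : Subgroup G, N.Normal → N ≤ T → N = ⊥)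
    (hc : ∃ g ∈ P₁, (∀ k ∈ Q₁, g * k = k * g) ∧ g ∉ Q₁) : Nat.card ↥T ≤ 2 ^ 7 := by
  classical
  haveI := s₂.fin
  haveI : Finite ↥T := Finite.of_injective _ (Subgroup.inclusion_injective s₂.le)
  obtain ⟨c, hcP, hcQ, hcT⟩ : ∃ c ∈ P₁, (∀ k ∈ Q₁, c * k = k * c) ∧ c ∉ T := by
    obtain ⟨g, hgP, hgQ, hg⟩ := hc
    by_contra hno
    push_neg at hno
    refine hg (s₁.mem_Q fun m hm => hno _ (mul_mem (mul_mem (inv_mem hm) hgP) hm) fun k hk => ?_)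
    have hk' : m * k * m⁻¹ ∈ Q₁ := (Subgroup.mem_normalizer_iff.1 (s₁.qn hm) k).1 hk
    calc m⁻¹ * g * m * k = m⁻¹ * (g * (m * k * m⁻¹)) * m := by group
      _ = m⁻¹ * ((m * k * m⁻¹) * g) * m := by rw [hgQ _ hk']
      _ = k * (m⁻¹ * g * m) := by group
  -- a subgroup of `Q₁` normalized by `P₂` is trivial
  have htriv : ∀ N : Subgroup G, N ≤ Q₁ → P₂ ≤ normalizer (N : Set G) → N = ⊥ := by
    intro N hN hn
    have hT : T ≤ normalizer (N : Set G) := s₂.le.trans hn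
    have hcn : c ∈ normalizer (N : Set G) :=
      centralizer_le_normalizer _ (mem_centralizer_iff.2 fun k hk => (hcQ k (hN hk)).symm)
    exact hfaith N (Subgroup.normalizer_eq_top_iff.1 (top_le_iff.1
      (hgen ▸ sup_le (s₁.le_of_mem hT hcn hcP hcT) hn))) (hN.trans s₁.qle)
  have hi₁ : (Q₁.subgroupOf T).index = 2 := s₁.qidx
  have hsq : ∀ x ∈ T, x * x ∈ Q₁ := fun x hx => by
    by_cases hq : x ∈ Q₁
    · exact mul_mem hq hq
    · exact (Subgroup.mul_mem_iff_of_index_two hi₁ (a := ⟨x, hx⟩) (b := ⟨x, hx⟩)).2 Iff.rfl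
  have h2sq : ∀ x ∈ Q₂, x * x = 1 := by
    intro x hx
    let N : Subgroup G := closure {w | ∃ u ∈ Q₂, w = u * u}
    have hN : N ≤ Q₁ := by
      rw [closure_le]; rintro _ ⟨u, hu, rfl⟩; exact hsq u (s₂.qle hu)
    have hn : P₂ ≤ normalizer (N : Set G) := by
      refine le_normalizer_closure ?_
      rintro g hg _ ⟨u, hu, rfl⟩
      exact subset_closure ⟨g * u * g⁻¹, (Subgroup.mem_normalizer_iff.1 (s₂.qn hg) u).1 hu,
        mul_conj g u u⟩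
    have hmem : x * x ∈ N := subset_closure ⟨x, hx, rfl⟩
    rw [htriv N hN hn, Subgroup.mem_bot] at hmem
    exact hmem
  -- conjugates of `Q₁ ⊓ Q₂` meet trivially
  let D : Subgroup G := ⨅ (m : G) (_ : m ∈ P₂), (Q₁ ⊓ Q₂).comap (MulAut.conj m).toMonoidHom
  have hD : ∀ {w}, w ∈ D ↔ ∀ m ∈ P₂, m * w * m⁻¹ ∈ Q₁ ⊓ Q₂ := by
    intro w; simp [D, Subgroup.mem_iInf, Subgroup.mem_comap]
  have hDbot : D = ⊥ := by
    refine htriv D (fun w hw => ?_) ?_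
    · have := hD.1 hw 1 (one_mem _); simpa using this.1
    · have key : ∀ g ∈ P₂, ∀ w ∈ D, g * w * g⁻¹ ∈ D := fun g hg w hw => hD.2 fun m hm => by
        have := hD.1 hw (m * g) (mul_mem hm hg)
        rwa [show m * g * w * (m * g)⁻¹ = m * (g * w * g⁻¹) * m⁻¹ by group] at this
      intro g hg
      refine Subgroup.mem_normalizer_iff.2 fun w => ⟨key g hg w, fun hw => ?_⟩
      have := key g⁻¹ (inv_mem hg) _ hw
      rwa [inv_inv, show g⁻¹ * (g * w * g⁻¹) * g = w by group] at this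
  haveI : Fintype (↥P₂ ⧸ T.subgroupOf P₂) := Fintype.ofFinite _
  have hcard : Fintype.card (↥P₂ ⧸ T.subgroupOf P₂) = 3 := by
    rw [← Nat.card_eq_fintype_card]; exact s₂.idx
  have h8 : (⊥ : Subgroup G).relIndex Q₂ ≤ 8 := by
    refine (relIndex_le_card (β := ↥P₂ ⧸ T.subgroupOf P₂ → Bool)
      (fun x q => decide ((q.out : ↥P₂).1⁻¹ * x * (q.out : ↥P₂).1 ∈ Q₁))
      fun x hx w hw e => ?_).trans (by rw [Fintype.card_fun, hcard, Fintype.card_bool]; norm_num)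
    rw [Subgroup.mem_bot]
    suffices hDm : x⁻¹ * w ∈ D by rwa [hDbot, Subgroup.mem_bot] at hDm
    refine hD.2 fun m hm => ?_
    obtain ⟨q, hq⟩ : ∃ q, q = ((⟨m⁻¹, inv_mem hm⟩ : ↥P₂) : ↥P₂ ⧸ T.subgroupOf P₂) := ⟨_, rfl⟩
    obtain ⟨o, ho⟩ : ∃ o, o = (q.out : ↥P₂).1 := ⟨_, rfl⟩
    have hoP : o ∈ P₂ := ho ▸ (q.out).2
    have hmo : m * o ∈ T := by
      have h : (((⟨m⁻¹, inv_mem hm⟩ : ↥P₂)) : ↥P₂ ⧸ T.subgroupOf P₂) = (q.out : ↥P₂) := by
        rw [QuotientGroup.out_eq', hq]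
      have h' := QuotientGroup.eq.1 h
      rw [Subgroup.mem_subgroupOf] at h'
      rw [ho]
      simpa using h'
    have hdec : decide (o⁻¹ * x * o ∈ Q₁) = decide (o⁻¹ * w * o ∈ Q₁) := by
      have := congrFun e q
      rwa [← ho] at this
    have e' : (o⁻¹ * x * o ∈ Q₁) ↔ (o⁻¹ * w * o ∈ Q₁) := decide_eq_decide.1 hdec
    have hconj : ∀ u ∈ Q₂, o⁻¹ * u * o ∈ Q₂ := fun u hu => by
      have := (Subgroup.mem_normalizer_iff.1 (s₂.qn (inv_mem hoP)) u).1 hu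
      rwa [inv_inv] at this
    have h12 : o⁻¹ * (x⁻¹ * w) * o ∈ Q₁ := by
      have := (Subgroup.mul_mem_iff_of_index_two hi₁
        (a := ⟨(o⁻¹ * x * o)⁻¹, inv_mem (s₂.qle (hconj x hx))⟩)
        (b := ⟨o⁻¹ * w * o, s₂.qle (hconj w hw)⟩)).2
        ⟨fun h => e'.1 (by simpa using inv_mem (show (o⁻¹ * x * o)⁻¹ ∈ Q₁ from h)),
          fun h => show (o⁻¹ * x * o)⁻¹ ∈ Q₁ from inv_mem (e'.2 h)⟩
      have h' : (o⁻¹ * x * o)⁻¹ * (o⁻¹ * w * o) ∈ Q₁ := this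
      rwa [show (o⁻¹ * x * o)⁻¹ * (o⁻¹ * w * o) = o⁻¹ * (x⁻¹ * w) * o by group] at h'
    have key : ∀ t ∈ T, ∀ u, u ∈ Q₁ → t * u * t⁻¹ ∈ Q₁ := fun t ht u hu =>
      (Subgroup.mem_normalizer_iff.1 (s₁.qn (s₁.le ht)) u).1 hu
    have h1 := key _ hmo _ h12
    rw [show m * o * (o⁻¹ * (x⁻¹ * w) * o) * (m * o)⁻¹ = m * (x⁻¹ * w) * m⁻¹ by group] at h1
    exact ⟨h1, (Subgroup.mem_normalizer_iff.1 (s₂.qn hm) _).1 (mul_mem (inv_mem hx) hw)⟩
  rw [Subgroup.relIndex_bot_left] at h8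
  have := CfsgLib.Amalgam.Cubic.relIndex_mul_card s₂.qle
  rw [s₂.qidx] at this
  omega

/-- Goldschmidt's bound when the two groups generate. -/
theorem card_le_of_gen (s₁ : Side T P₁ Q₁) (s₂ : Side T P₂ Q₂) (hinf : P₁ ⊓ P₂ = T)
    (h2 : IsPGroup 2 ↥T) (hgen : P₁ ⊔ P₂ = ⊤)
    (hfaith : ∀ N : Subgroup G, N.Normal → N ≤ T → N = ⊥) : Nat.card ↥T ≤ 2 ^ 7 := by
  by_cases c₁ : ∀ g ∈ P₁, (∀ k ∈ Q₁, g * k = k * g) → g ∈ Q₁
  swap
  · push_neg at c₁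
    exact card_le_of_not_char s₁ s₂ hgen hfaith c₁
  by_cases c₂ : ∀ g ∈ P₂, (∀ k ∈ Q₂, g * k = k * g) → g ∈ Q₂
  swap
  · push_neg at c₂
    exact card_le_of_not_char s₂ s₁ (sup_comm P₂ P₁ ▸ hgen) hfaith c₂
  by_cases a₁ : ∃ z ∈ T, z * z = 1 ∧ (∀ e ∈ T, e * z = z * e) ∧ ∃ g ∈ P₁, g * z ≠ z * g
  · by_cases a₂ : ∃ z ∈ T, z * z = 1 ∧ (∀ e ∈ T, e * z = z * e) ∧ ∃ g ∈ P₂, g * z ≠ z * g
    · have A : CfsgLib.Amalgam.Cubic.Amal P₁ P₂ T Q₁ Q₂ :=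
        ⟨h2, ⟨s₁.le, s₁.fin, s₁.idx, s₁.qle, s₁.qidx, s₁.qn, s₁.nn, c₁, a₁⟩,
          ⟨s₂.le, s₂.fin, s₂.idx, s₂.qle, s₂.qidx, s₂.qn, s₂.nn, c₂, a₂⟩, hgen, hfaith⟩
      have hs := CfsgLib.Amalgam.Cubic.Cub.edge_structure A.cub
        (x₀ := Sum.inl ((1 : G) : G ⧸ P₁)) (y₀ := Sum.inr ((1 : G) : G ⧸ P₂))
        (adj_iff.2 (Or.inl ⟨1, rfl, rfl⟩))
      have hcard : Nat.card ↥P₁ ≤ 48 := by
        rw [← Nat.card_congr
          (MulEquiv.subgroupCongr (St_base₁ (P₁ := P₁) (P₂ := P₂))).toEquiv]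
        rcases hs with ⟨⟨e⟩, -⟩ | ⟨⟨e⟩, -⟩
        · rw [Nat.card_congr e.toEquiv, Nat.card_perm, Nat.card_fin]; decide
        · rw [Nat.card_congr e.toEquiv, Nat.card_prod, Nat.card_perm, Nat.card_fin,
            Nat.card_congr Multiplicative.toAdd, Nat.card_zmod]
          decide
      haveI := s₁.fin
      have := CfsgLib.Amalgam.Cubic.relIndex_mul_card s₁.le
      rw [s₁.idx] at this
      omega
    · push_neg at a₂
      exact card_le_of_central s₁ s₂ hinf h2 c₁ c₂ hgen hfaith a₂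
  · push_neg at a₁
    exact card_le_of_central s₂ s₁ (inf_comm P₂ P₁ ▸ hinf) h2 c₂ c₁ (sup_comm P₂ P₁ ▸ hgen)
      hfaith a₁

theorem side_of_sylow {M T : Subgroup G} [Finite ↥M] (hTM : T ≤ M)
    (hS : ∃ S : Sylow 2 ↥M, (S : Subgroup ↥M) = T.subgroupOf M)
    (he : Nonempty (↥M ⧸ Cfsg.pCore 2 ↥M ≃* Equiv.Perm (Fin 3))) :
    Side T M (Cfsg.pCoreOf 2 M) ∧ IsPGroup 2 ↥T := by
  obtain ⟨S, hS⟩ := hS
  obtain ⟨e⟩ := he
  have hT2 : IsPGroup 2 ↥T := by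
    have := S.isPGroup'
    rw [hS] at this
    exact this.of_equiv (Subgroup.subgroupOfEquivOfLe hTM)
  have hnd : ¬ 2 ∣ T.relIndex M := by
    have := S.not_dvd_index
    rwa [hS] at this
  have hQT : Cfsg.pCoreOf 2 M ≤ T := by
    rintro _ ⟨q, hq, rfl⟩
    have := CfsgLib.Amalgam.pCore_le_sylow S hq
    rw [hS] at this
    exact this
  have h6 : (Cfsg.pCoreOf 2 M).relIndex M = 6 := by
    rw [Subgroup.relIndex, Cfsg.pCoreOf, Subgroup.subgroupOf,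
      Subgroup.comap_map_eq_self_of_injective M.subtype_injective,
      Subgroup.index, Nat.card_congr e.toEquiv, Nat.card_perm, Nat.card_fin]
    rfl
  have hm := Subgroup.relIndex_mul_relIndex (Cfsg.pCoreOf 2 M) T M hQT hTM
  rw [h6] at hm
  have hne : T.relIndex M ≠ 1 := by
    intro h
    have hMT : M ≤ T := Subgroup.relIndex_eq_one.1 h
    have h2 : IsPGroup 2 (Equiv.Perm (Fin 3)) :=
      ((hT2.to_le hMT).to_quotient (Cfsg.pCore 2 ↥M)).of_equiv e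
    obtain ⟨k, hk⟩ := IsPGroup.iff_card.1 h2
    rw [Nat.card_perm, Nat.card_fin] at hk
    have h3 : 3 ∣ 2 ^ k := hk ▸ (by decide : 3 ∣ Nat.factorial 3)
    exact absurd (Nat.prime_three.dvd_of_dvd_pow h3) (by decide)
  have hd : T.relIndex M ∣ 6 := Dvd.intro_left _ hm
  have hidx : T.relIndex M = 3 := by
    have hle := Nat.le_of_dvd (by norm_num) hd
    have hpos := Nat.pos_of_dvd_of_pos hd (by norm_num)
    generalize T.relIndex M = n at hd hne hnd hle hpos ⊢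
    interval_cases n <;> omega
  rw [hidx] at hm
  refine ⟨⟨hTM, inferInstance, hidx, hQT, by omega, CfsgLib.Amalgam.le_normalizer_pCoreOf M,
    fun hn => ?_⟩, hT2⟩
  have hTQ : T ≤ Cfsg.pCoreOf 2 M := CfsgLib.Amalgam.le_pCoreOf hTM hn hT2
  have := Subgroup.relIndex_eq_one.2 hTQ
  omega

/-- Goldschmidt's bound for amalgams of index `(3, 3)`. -/
theorem goldschmidt_bound (M₁ M₂ : Subgroup G) [Finite ↥M₁] [Finite ↥M₂]
    (hS₁ : ∃ S : Sylow 2 ↥M₁, (S : Subgroup ↥M₁) = (M₁ ⊓ M₂).subgroupOf M₁)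
    (hS₂ : ∃ S : Sylow 2 ↥M₂, (S : Subgroup ↥M₂) = (M₁ ⊓ M₂).subgroupOf M₂)
    (he₁ : Nonempty (↥M₁ ⧸ Cfsg.pCore 2 ↥M₁ ≃* Equiv.Perm (Fin 3)))
    (he₂ : Nonempty (↥M₂ ⧸ Cfsg.pCore 2 ↥M₂ ≃* Equiv.Perm (Fin 3)))
    (hc : ∀ N : Subgroup G, N ≤ M₁ ⊓ M₂ → (N.subgroupOf M₁).Normal → (N.subgroupOf M₂).Normal →
      N = ⊥) :
    Nat.card ↥(M₁ ⊓ M₂) ≤ 2 ^ 7 := by
  obtain ⟨s₁, h2⟩ := side_of_sylow (inf_le_left : M₁ ⊓ M₂ ≤ M₁) hS₁ he₁
  obtain ⟨s₂, -⟩ := side_of_sylow (inf_le_right : M₁ ⊓ M₂ ≤ M₂) hS₂ he₂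
  let X : Subgroup G := M₁ ⊔ M₂
  let P : Subgroup G → Subgroup ↥X := fun H => H.subgroupOf X
  have hX₁ : M₁ ≤ X := le_sup_left
  have hX₂ : M₂ ≤ X := le_sup_right
  have hfin : ∀ {H : Subgroup G}, H ≤ X → Finite ↥H → Finite ↥(P H) := fun hH hF => by
    haveI := hF
    exact Finite.of_equiv _ (Subgroup.subgroupOfEquivOfLe hH).symm.toEquiv
  have hrel : ∀ {H L : Subgroup G}, L ≤ X → (P H).relIndex (P L) = H.relIndex L := fun hL =>
    Subgroup.relIndex_subgroupOf hL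
  have hnorm : ∀ {H L : Subgroup G}, L ≤ X → H ≤ X →
      (P L ≤ normalizer (P H : Set ↥X) ↔ L ≤ normalizer (H : Set G)) := by
    intro H L hL hH
    constructor
    · intro h l hl
      refine Subgroup.mem_normalizer_iff.2 fun x => ⟨fun hx => ?_, fun hx => ?_⟩
      · exact (Subgroup.mem_normalizer_iff.1 (h (x := (⟨l, hL hl⟩ : ↥X)) hl)
          (⟨x, hH hx⟩ : ↥X)).1 hx
      · have hxX : x ∈ X := by
          have := mul_mem (mul_mem (inv_mem (hL hl)) (hH hx)) (hL hl)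
          rwa [show l⁻¹ * (l * x * l⁻¹) * l = x by group] at this
        exact (Subgroup.mem_normalizer_iff.1 (h (x := (⟨l, hL hl⟩ : ↥X)) hl)
          (⟨x, hxX⟩ : ↥X)).2 hx
    · intro h l hl
      exact Subgroup.mem_normalizer_iff.2 fun x =>
        Subgroup.mem_normalizer_iff.1 (h hl) (x : G)
  have mk : ∀ {M Q : Subgroup G}, M ≤ X → Side (M₁ ⊓ M₂) M Q →
      Side (P (M₁ ⊓ M₂)) (P M) (P Q) := by
    intro M Q hM s
    exact ⟨fun x hx => s.le (show (x : G) ∈ M₁ ⊓ M₂ from hx), hfin hM s.fin,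
      (hrel hM).trans s.idx, fun x hx => s.qle (show (x : G) ∈ Q from hx),
      (hrel (s.le.trans hM)).trans s.qidx,
      (hnorm hM ((s.qle.trans s.le).trans hM)).2 s.qn,
      fun h => s.nn ((hnorm hM (s.le.trans hM)).1 h)⟩
  have hgen : P M₁ ⊔ P M₂ = ⊤ := by
    rw [← Subgroup.subgroupOf_sup hX₁ hX₂]
    exact Subgroup.subgroupOf_self X
  have hinf : P M₁ ⊓ P M₂ = P (M₁ ⊓ M₂) := (Subgroup.comap_inf M₁ M₂ X.subtype).symm
  have hcard := card_le_of_gen (mk hX₁ s₁) (mk hX₂ s₂) hinf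
    (h2.of_equiv (Subgroup.subgroupOfEquivOfLe (inf_le_left.trans hX₁)).symm) hgen
    fun N hN hle => by
      have hle' : N.map X.subtype ≤ M₁ ⊓ M₂ := by
        rintro _ ⟨n, hn, rfl⟩; exact hle hn
      have hnor : ∀ {M : Subgroup G}, M ≤ X → ((N.map X.subtype).subgroupOf M).Normal := by
        intro M hM
        refine ⟨?_⟩
        rintro ⟨x, hxM⟩ hx ⟨g, hgM⟩
        obtain ⟨n, hn, rfl⟩ := Subgroup.mem_subgroupOf.1 hx
        exact ⟨⟨g, hM hgM⟩ * n * ⟨g, hM hgM⟩⁻¹, hN.conj_mem n hn _, rfl⟩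
      have := hc _ hle' (hnor hX₁) (hnor hX₂)
      exact (Subgroup.map_eq_bot_iff_of_injective _ X.subtype_injective).1 this
  rwa [Nat.card_congr (Subgroup.subgroupOfEquivOfLe (inf_le_left.trans hX₁)).toEquiv] at hcard

end CfsgLib.PLocal.Gold
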