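import Cfsg.Agent.Lib.PLocal.GoldData
import Cfsg.Agent.Lib.Amalgam.CubicFinal

/-!
Transitivity on non-backtracking sequences and counting inside edge groups.
-/

set_option autoImplicit false
set_option linter.unusedSectionVars false

namespace CfsgLib.PLocal.Gold

open Subgroup
open CfsgLib.Amalgam.Cubic (St E K Zc mem_Zc mem_K K_le_E K_le_St mem_St_smul mem_St_of_smul)

variable {G : Type*} [Group G] {Ω : Type*} [MulAction G Ω] {Γ : SimpleGraph Ω} {B : Ω → Prop}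
  {z : Ω → G}

/-- Two sequences of length `k` starting in `B` are conjugate. -/
def Tr (G : Type*) [Group G] {Ω : Type*} [MulAction G Ω] (Γ : SimpleGraph Ω) (B : Ω → Prop)
    (k : ℕ) : Prop :=
  ∀ p q : ℕ → Ω, NB Γ k p → NB Γ k q → B (p 0) → B (q 0) → ∃ g : G, ∀ i ≤ k, g • p i = q i

/-- `g` fixes the sequence and moves a neighbour of its end. -/
def Moves (G : Type*) [Group G] {Ω : Type*} [MulAction G Ω] (Γ : SimpleGraph Ω) (k : ℕ)
    (p : ℕ → Ω) (g : G) : Prop :=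
  (∀ i ≤ k, g • p i = p i) ∧ g ∉ K G Γ (p k)

theorem Moves.sub {k : ℕ} {p : ℕ → Ω} {g : G} (h : Moves G Γ k p g) {m j : ℕ} (hm : m + j = k) :
    Moves G Γ j (fun i => p (m + i)) g :=
  ⟨fun i hi => h.1 (m + i) (by omega), by show g ∉ K G Γ (p (m + j)); rw [hm]; exact h.2⟩

theorem Amalg.tr_zero (A : Amalg G Γ B) {x₀ y₀ : Ω} (h₀ : Γ.Adj x₀ y₀) (hB : B x₀) :
    Tr G Γ B 0 := by
  intro p q _ _ hp hq
  obtain ⟨g, hg⟩ := A.exists_smul_eq h₀ hB hp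
  obtain ⟨k, hk⟩ := A.exists_smul_eq h₀ hB hq
  refine ⟨k * g⁻¹, fun i hi => ?_⟩
  rw [Nat.le_zero.1 hi, ← hg, mul_smul, inv_smul_smul, hk]

theorem Amalg.tr_succ (A : Amalg G Γ B) {k : ℕ} (hT : Tr G Γ B k)
    (hm : 1 ≤ k → ∃ m g, NB Γ k m ∧ B (m 0) ∧ Moves G Γ k m g) : Tr G Γ B (k + 1) := by
  intro p q hp hq hp0 hq0
  obtain ⟨h, hh⟩ := hT p q (hp.mono k.le_succ) (hq.mono k.le_succ) hp0 hq0
  have hadj : Γ.Adj (q k) (h • p (k + 1)) := hh k le_rfl ▸ A.adj_smul h (hp.adj rfl le_rfl)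
  have hext : ∀ g : G, (∀ i ≤ k, g • q i = q i) → g • (h • p (k + 1)) = q (k + 1) →
      ∃ g : G, ∀ i ≤ k + 1, g • p i = q i := fun g hg he => ⟨g * h, fun i hi => by
    rcases eq_or_lt_of_le hi with rfl | hlt
    · rw [mul_smul, he]
    · rw [mul_smul, hh i (by omega), hg i (by omega)]⟩
  by_cases e : h • p (k + 1) = q (k + 1)
  · exact hext 1 (fun _ _ => one_smul _ _) (by rw [one_smul, e])
  rcases Nat.eq_zero_or_pos k with rfl | hk
  · obtain ⟨g, hg, hgy⟩ := A.trans hadj (hq.adj rfl le_rfl)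
    exact hext g (fun i hi => by rw [Nat.le_zero.1 hi]; exact hg) hgy
  obtain ⟨m, g, hmN, hm0, hgf, hgK⟩ := hm hk
  obtain ⟨h', hh'⟩ := hT m q hmN (hq.mono k.le_succ) hm0 hq0
  have hfix : ∀ i ≤ k, (h' * g * h'⁻¹) • q i = q i := fun i hi => by
    rw [← hh' i hi, mul_smul, mul_smul, inv_smul_smul, hgf i hi]
  refine hext _ hfix ?_
  refine A.smul_swap (hq.adj (i := k - 1) (j := k) (by omega) (by omega)).symm hadj
    (hq.adj rfl le_rfl) ?_ (hq.ne (i := k - 1) (j := k + 1) (by omega) le_rfl) e (hfix k le_rfl)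
    (hfix (k - 1) (by omega)) ?_
  · rw [← hh (k - 1) (by omega)]
    exact fun e' => hp.ne (i := k - 1) (j := k + 1) (by omega) le_rfl (smul_left_cancel h e')
  · rw [← hh' k le_rfl, A.K_smul_iff]; exact hgK

/-- Movers of every positive length below `n` give transitivity up to length `n`. -/
theorem Amalg.tr_of_movers (A : Amalg G Γ B) {x₀ y₀ : Ω} (h₀ : Γ.Adj x₀ y₀) (hB : B x₀) :
    ∀ {n : ℕ}, (∀ k, 1 ≤ k → k < n → ∃ m g, NB Γ k m ∧ B (m 0) ∧ Moves G Γ k m g) →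
      Tr G Γ B n := by
  intro n
  induction n with
  | zero => exact fun _ => A.tr_zero h₀ hB
  | succ n ih =>
    exact fun h => A.tr_succ (ih fun k hk hk' => h k hk (by omega)) fun hn => h n hn (by omega)

theorem Data.crit_of_tr (D : Data G Γ B z) {r : ℕ} (hT : Tr G Γ B r) {p q : ℕ → Ω}
    (hp : Crit Γ B z r p) (hq : NB Γ r q) (hq0 : B (q 0)) : Crit Γ B z r q := by
  obtain ⟨g, hg⟩ := hT p q hp.1 hq hp.2.1 hq0
  refine ⟨hq, hq0, ?_⟩
  rw [← hg 0 (Nat.zero_le _), ← hg r le_rfl, D.z_smul g hp.2.1, D.K_smul_iff]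
  exact hp.2.2

/-- The vertex group on the other side of the edge groups all of one order. -/
theorem Amalg.card_edge (A : Amalg G Γ B) {x y x' y' : Ω} (h : Γ.Adj x y) (hx : B x)
    (h' : Γ.Adj x' y') (hx' : B x') : Nat.card ↥(E G x y) = Nat.card ↥(E G x' y') := by
  obtain ⟨g, rfl⟩ := A.exists_smul_eq h hx hx'
  obtain ⟨k, hk, hky⟩ := A.trans (A.adj_smul g h) h'
  have e : (E G x y).map (MulAut.conj (k * g)).toMonoidHom = E G (g • x) y' := by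
    have h1 : (k * g) • x = g • x := by rw [mul_smul, St_fix hk]
    have h2 : (k * g) • y = y' := by rw [mul_smul, hky]
    ext w
    constructor
    · rintro ⟨u, hu, rfl⟩
      exact ⟨h1 ▸ mem_St_smul hu.1, h2 ▸ mem_St_smul hu.2⟩
    · intro hw
      refine ⟨(k * g)⁻¹ * w * (k * g), ⟨mem_St_of_smul (h1.symm ▸ hw.1),
        mem_St_of_smul (h2.symm ▸ hw.2)⟩, ?_⟩
      show (k * g) * ((k * g)⁻¹ * w * (k * g)) * (k * g)⁻¹ = w
      group
  rw [← e]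
  exact Nat.card_congr ((E G x y).equivMapOfInjective _ (MulAut.conj (k * g)).injective).toEquiv

theorem relIndex_le_card {H L : Subgroup G} {β : Type*} [Fintype β] (f : G → β)
    (hf : ∀ x ∈ L, ∀ y ∈ L, f x = f y → x⁻¹ * y ∈ H) : H.relIndex L ≤ Fintype.card β := by
  rw [Subgroup.relIndex, Subgroup.index, ← Nat.card_eq_fintype_card]
  refine Nat.card_le_card_of_injective
    (fun c : ↥L ⧸ H.subgroupOf L => f ((c.out : ↥L) : G)) ?_
  intro c d hcd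
  have := hf _ c.out.2 _ d.out.2 hcd
  rw [← c.out_eq, ← d.out_eq]
  exact QuotientGroup.eq.2 this

/-- The kernel on the ball of radius two. -/
def Ball2 (G : Type*) [Group G] {Ω : Type*} [MulAction G Ω] (Γ : SimpleGraph Ω) (y : Ω) :
    Subgroup G := K G Γ y ⊓ ⨅ (a : Ω) (_ : Γ.Adj y a), K G Γ a

theorem mem_Ball2 {y : Ω} {g : G} :
    g ∈ Ball2 G Γ y ↔ g ∈ K G Γ y ∧ ∀ a, Γ.Adj y a → g ∈ K G Γ a := by
  simp [Ball2, Subgroup.mem_inf, Subgroup.mem_iInf]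

theorem Ball2.fix {y a v : Ω} {g : G} (hg : g ∈ Ball2 G Γ y) (ha : Γ.Adj y a) (hv : Γ.Adj a v) :
    g • v = v := ((mem_Ball2.1 hg).2 a ha).2 v hv

theorem Amalg.Ball2_smul (A : Amalg G Γ B) {g h : G} {y : Ω} (hh : h ∈ Ball2 G Γ y) :
    g * h * g⁻¹ ∈ Ball2 G Γ (g • y) := by
  obtain ⟨h1, h2⟩ := mem_Ball2.1 hh
  refine mem_Ball2.2 ⟨A.K_smul h1, fun a ha => ?_⟩
  have hadj : Γ.Adj y (g⁻¹ • a) := by
    have := A.adj_smul g⁻¹ ha
    rwa [inv_smul_smul] at this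
  have := A.K_smul (g := g) (h2 _ hadj)
  rwa [smul_inv_smul] at this

theorem Amalg.mem_Ball2_of_three (A : Amalg G Γ B) {y a b c : Ω} {g : G} (ha : Γ.Adj y a)
    (hb : Γ.Adj y b) (hc : Γ.Adj y c) (hab : a ≠ b) (hac : a ≠ c) (hbc : b ≠ c)
    (hy : g ∈ K G Γ y) (h1 : g ∈ K G Γ a) (h2 : g ∈ K G Γ b) (h3 : g ∈ K G Γ c) :
    g ∈ Ball2 G Γ y := by
  refine mem_Ball2.2 ⟨hy, fun d hd => ?_⟩
  rcases A.eq_of_three ha hb hc hd hab hac hbc with rfl | rfl | rfl <;> assumption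

theorem Amalg.inv_mul_mem_K' (A : Amalg G Γ B) {x y : Ω} (h : Γ.Adj x y) {g g' : G}
    (hg : g ∈ E G x y) (hg' : g' ∈ E G x y) (e : (g ∈ K G Γ x) ↔ (g' ∈ K G Γ x)) :
    g⁻¹ * g' ∈ K G Γ x := by
  by_cases hK : g ∈ K G Γ x
  · exact mul_mem (inv_mem hK) (e.1 hK)
  · exact A.inv_mul_mem_K h hg hg' hK fun hh => hK (e.2 hh)

theorem Amalg.card_edge_eq (A : Amalg G Γ B) {x y : Ω} (h : Γ.Adj x y) :
    Nat.card ↥(E G x y) = 2 * Nat.card ↥(K G Γ x) := by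
  rw [← A.kidx h]
  exact (CfsgLib.Amalgam.Cubic.relIndex_mul_card (K_le_E (G := G) h)).symm

end CfsgLib.PLocal.Gold
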