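import Cfsg.Agent.Lib.PLocal.GoldEven

/-!
Even radius: sliding critical sequences, and the product cosets of their commutators.
-/

set_option autoImplicit false
set_option linter.unusedSectionVars false

namespace CfsgLib.PLocal.Gold

open Subgroup
open CfsgLib.Amalgam.Cubic (St E K Zc mem_Zc mem_K K_le_E K_le_St mem_St_smul)

variable {G : Type*} [Group G] {Ω : Type*} [MulAction G Ω] {Γ : SimpleGraph Ω} {B : Ω → Prop}
  {z : Ω → G} {r : ℕ}

theorem Amalg.extend_two (A : Amalg G Γ B) (hr : 1 ≤ r) {p : ℕ → Ω} (hp : NB Γ r p) :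
    ∃ e : ℕ → Ω, NB Γ (r + 2) e ∧ ∀ i ≤ r, e i = p i := by
  have h1 := hp.adj (i := r - 1) (j := r) (by omega) le_rfl
  obtain ⟨a, ha, hane⟩ := A.exists_one h1.symm
  obtain ⟨q, hq, hqne⟩ := A.exists_one ha.symm
  have hs : NB Γ (r + 2) (pre q (pre a fun i => p (r - i))) :=
    ((hp.rev.pre' ha.symm fun _ => hane).pre' hq.symm fun _ => hqne)
  refine ⟨_, hs.rev, fun i hi => ?_⟩
  show pre q (pre a fun i => p (r - i)) (r + 2 - i) = p i
  rw [show r + 2 - i = (r - i) + 1 + 1 by omega, pre_succ, pre_succ,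
    show r - (r - i) = i by omega]

theorem Crit.smul {p : ℕ → Ω} (D : Data G Γ B z) (h : Crit Γ B z r p) (g : G) :
    Crit Γ B z r fun i => g • p i :=
  ⟨⟨fun i hi => D.adj_smul g (h.1.1 i hi), fun i hi e => h.1.2 i hi (smul_left_cancel g e)⟩,
    (D.B_smul _ _).2 h.2.1, by rw [D.z_smul g h.2.1, D.K_smul_iff]; exact h.2.2⟩

variable (D : Data G Γ B z) (hR : Rad Γ B z r) (he : Even r) (h4 : 4 ≤ r)
include D hR he h4

theorem crit_fwd {e : ℕ → Ω} (hN : NB Γ (r + 2) e) (hC : Crit Γ B z r e) :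
    Crit Γ B z r fun i => e (2 + i) := by
  obtain ⟨x, y, hs, hsC⟩ := crit_back_exists D hR he h4 hN.rev (crit_rev D hR he h4 hN hC)
  refine (crit_rev D hR he h4 hs hsC).congr fun i hi => ?_
  rw [show r + 2 - i = (r - i) + 1 + 1 by omega, pre_succ, pre_succ]
  show e (2 + i) = e (r + 2 - (r - i))
  congr 1; omega

theorem crit_symm {p : ℕ → Ω} (hC : Crit Γ B z r p) : Crit Γ B z r fun i => p (r - i) := by
  obtain ⟨e, hN, heq⟩ := D.extend_two (by omega) hC.1
  refine (crit_fwd D hR he h4 hN.rev (crit_rev D hR he h4 hN (hC.congr heq))).congr fun i hi => ?_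
  rw [show r + 2 - (2 + i) = r - i by omega]
  exact (heq _ (by omega)).symm

theorem crit_back {e : ℕ → Ω} (hN : NB Γ (r + 2) e) (hC : Crit Γ B z r fun i => e (2 + i)) :
    Crit Γ B z r e := by
  have h1 : Crit Γ B z r fun i => e (r + 2 - i) :=
    (crit_symm D hR he h4 hC).congr fun i hi => by
      show e (r + 2 - i) = e (2 + (r - i))
      congr 1; omega
  have h2 : Crit Γ B z r fun i => e (r - i) :=
    (crit_fwd D hR he h4 hN.rev h1).congr fun i hi => by
      show e (r - i) = e (r + 2 - (2 + i))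
      congr 1; omega
  exact (crit_symm D hR he h4 h2).congr fun i hi => by
    show e i = e (r - (r - i))
    congr 1; omega

omit hR he h4 in
/-- Products of involutions across the two neighbours of `v` other than `a`. -/
def Co (Γ : SimpleGraph Ω) (z : Ω → G) (v a : Ω) (g : G) : Prop :=
  ∃ b b' x x', Γ.Adj v b ∧ Γ.Adj v b' ∧ b ≠ a ∧ b' ≠ a ∧ b ≠ b' ∧ Γ.Adj b x ∧ x ≠ v ∧
    Γ.Adj b' x' ∧ x' ≠ v ∧ g = z x * z x'

omit hR he h4 in
theorem outer_alt {y a v v' : Ω} (hy : B y) (ha : Γ.Adj y a) (hv : Γ.Adj a v) (hv' : Γ.Adj a v')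
    (hvy : v ≠ y) (hvy' : v' ≠ y) : v' = v ∨ z v' = z v * z y := by
  by_cases e : v' = v
  · exact Or.inl e
  · exact Or.inr (D.z_three (D.not_B_of_adj ha hy) hv ha.symm hv' hvy (Ne.symm e) hvy'.symm).symm

omit hR he h4 in
theorem B_outer {y a v : Ω} (hy : B y) (ha : Γ.Adj y a) (hv : Γ.Adj a v) : B v :=
  D.B_of_adj hv (D.not_B_of_adj ha hy)

theorem comm_outer {v b b' x x' : Ω} (hv : B v) (hb : Γ.Adj v b) (hb' : Γ.Adj v b')
    (hx : Γ.Adj b x) (hx' : Γ.Adj b' x') : z x * z x' = z x' * z x :=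
  D.comm hR (B_outer D hv hb hx) (B_outer D hv hb' hx') ((dist_le_succ D.conn hx.symm
    (dist_le_succ D.conn hb.symm (dist_le_succ D.conn hb'
      (SimpleGraph.dist_eq_one_iff_adj.2 hx').le))).trans h4)

theorem comm_center {v b x : Ω} (hv : B v) (hb : Γ.Adj v b) (hx : Γ.Adj b x) :
    z v * z x = z x * z v :=
  D.comm hR hv (B_outer D hv hb hx)
    ((dist_le_succ D.conn hb (SimpleGraph.dist_eq_one_iff_adj.2 hx).le).trans (by omega))

theorem co_dich {v a : Ω} {g g' : G} (hv : B v) (ha : Γ.Adj v a) (hg : Co Γ z v a g)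
    (hg' : Co Γ z v a g') : g' = g ∨ g' = g * z v := by
  obtain ⟨b, b', x, x', hb, hb', hba, hb'a, hbb, hx, hxv, hx', hxv', rfl⟩ := hg
  obtain ⟨c, c', w, w', hc, hc', hca, hc'a, hcc, hw, hwv, hw', hwv', rfl⟩ := hg'
  have key : ∀ {w w'}, Γ.Adj b w → w ≠ v → Γ.Adj b' w' → w' ≠ v →
      z w * z w' = z x * z x' ∨ z w * z w' = z x * z x' * z v := by
    intro w w' hw hwv hw' hwv'
    have c1 := comm_center D hR he h4 hv hb' hx'
    rcases outer_alt D hv hb hx hw hxv hwv with rfl | e1 <;>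
      rcases outer_alt D hv hb' hx' hw' hxv' hwv' with rfl | e2
    · exact Or.inl rfl
    · exact Or.inr (by rw [e2, mul_assoc])
    · exact Or.inr (by rw [e1, mul_assoc, c1, ← mul_assoc])
    · refine Or.inl ?_
      rw [e1, e2, c1.symm, mul_assoc, ← mul_assoc (z v), D.z_sq hv, one_mul]
  rcases D.eq_of_three ha hb hb' hc hba.symm hb'a.symm hbb with rfl | rfl | rfl
  · exact absurd rfl hca
  · rcases D.eq_of_three ha hb hb' hc' hba.symm hb'a.symm hbb with rfl | rfl | rfl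
    · exact absurd rfl hc'a
    · exact absurd rfl hcc
    · exact key hw hwv hw' hwv'
  · rcases D.eq_of_three ha hb hb' hc' hba.symm hb'a.symm hbb with rfl | rfl | rfl
    · exact absurd rfl hc'a
    · rw [comm_outer D hR he h4 hv hc hc' hw hw']; exact key hw' hwv' hw hwv
    · exact absurd rfl hcc

theorem co_conj {v a : Ω} {g : G} (hv : B v) (hg : Co Γ z v a g) (k : G) :
    Co Γ z (k • v) (k • a) (k * g * k⁻¹) := by
  obtain ⟨b, b', x, x', hb, hb', hba, hb'a, hbb, hx, hxv, hx', hxv', rfl⟩ := hg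
  have hc : Function.Injective fun w : Ω => k • w := MulAction.injective k
  refine ⟨k • b, k • b', k • x, k • x', D.adj_smul k hb, D.adj_smul k hb', hc.ne hba, hc.ne hb'a,
    hc.ne hbb, D.adj_smul k hx, hc.ne hxv, D.adj_smul k hx', hc.ne hxv', ?_⟩
  rw [mul_conj, D.z_conj k (B_outer D hv hb hx), D.z_conj k (B_outer D hv hb' hx')]

theorem co_sq {v a : Ω} {g : G} (hv : B v) (hg : Co Γ z v a g) : g * g = 1 := by
  obtain ⟨b, b', x, x', hb, hb', -, -, -, hx, -, hx', -, rfl⟩ := hg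
  rw [mul_assoc, ← mul_assoc (z x'), ← comm_outer D hR he h4 hv hb hb' hx hx', mul_assoc (z x),
    D.z_sq (B_outer D hv hb' hx'), mul_one, D.z_sq (B_outer D hv hb hx)]

theorem co_ne {v a : Ω} {g : G} (hv : B v) (hg : Co Γ z v a g) : g ≠ 1 ∧ g ≠ z v := by
  obtain ⟨b, b', x, x', hb, hb', hba, hb'a, hbb, hx, hxv, hx', hxv', rfl⟩ := hg
  have hx'B := B_outer D hv hb' hx'
  constructor <;> intro e
  · exact D.D4 hv hb hb' hbb hx hx' hxv hxv' ((eq_inv_of_mul_eq_one_left e).trans (D.z_inv hx'B))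
  · obtain ⟨x'', hx'', hn1, hn2⟩ := D.exists_third hb'.symm hx'
    refine D.D4 hv hb hb' hbb hx hx'' hxv hn1 ?_
    rw [← D.z_three (D.not_B_of_adj hb' hv) hb'.symm hx' hx'' hxv'.symm hn1.symm hn2.symm, ← e,
      mul_assoc, D.z_sq hx'B, mul_one]

theorem co_fix {v a w : Ω} {g : G} (hv : B v) (hg : Co Γ z v a g) (hd : Γ.dist v w + 2 ≤ r) :
    g • w = w := by
  obtain ⟨b, b', x, x', hb, hb', -, -, -, hx, -, hx', -, rfl⟩ := hg
  have key : ∀ {b x}, Γ.Adj v b → Γ.Adj b x → z x • w = w := fun hb hx =>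
    D.fix hR (B_outer D hv hb hx) ((dist_le_succ D.conn hx.symm
      (dist_le_succ D.conn hb.symm le_rfl)).trans hd)
  rw [mul_smul, key hb' hx', key hb hx]

/-- The two cosets of involutions at distance four share at most one element. -/
theorem co_meet_unique {y a a' v v' : Ω} {g g' : G} (hy : B y) (ha : Γ.Adj y a)
    (ha' : Γ.Adj y a') (hne : a ≠ a') (hv : Γ.Adj a v) (hv' : Γ.Adj a' v') (hvy : v ≠ y)
    (hvy' : v' ≠ y) (h1 : Co Γ z v a g) (h2 : Co Γ z v' a' g) (h3 : Co Γ z v a g')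
    (h5 : Co Γ z v' a' g') : g = g' := by
  by_contra e
  refine D.D4 hy ha ha' hne hv hv' hvy hvy' (mul_left_cancel (a := g) ?_)
  rw [← (co_dich D hR he h4 (B_outer D hy ha hv) hv.symm h1 h3).resolve_left (Ne.symm e),
    ← (co_dich D hR he h4 (B_outer D hy ha' hv') hv'.symm h2 h5).resolve_left (Ne.symm e)]

end CfsgLib.PLocal.Gold
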