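import Cfsg.Agent.Lib.PLocal.NormalSylow

/-!
# Normal subgroups of index `p` from transfer
-/

namespace CfsgLib.PLocal

open Subgroup
open scoped commutatorElement

variable {p : ℕ} [hp : Fact p.Prime] {G : Type*} [Group G] [Finite G]

/-- If `S ∩ G' ≠ S` there is a normal subgroup of index `p`. -/
theorem exists_normal_index_of_inf_ne (S : Sylow p G)
    (h : (S : Subgroup G) ⊓ commutator G ≠ (S : Subgroup G)) :
    ∃ N : Subgroup G, N.Normal ∧ N.index = p := by
  obtain ⟨x, hxS, hxG⟩ := Set.not_subset.1 fun hle => h (inf_eq_left.2 hle)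
  let π : G →* Abelianization G := Abelianization.of
  have hπs : Function.Surjective π := QuotientGroup.mk'_surjective _
  have hne : π x ≠ 1 := fun h0 => hxG ((QuotientGroup.eq_one_iff x).1 h0)
  let φ : Abelianization G →* Abelianization G := powMonoidHom p
  obtain ⟨k, hk⟩ := S.2 ⟨x, hxS⟩
  have hR : φ.range ≠ ⊤ := by
    intro htop
    have hinj : Function.Injective φ :=
      Finite.injective_iff_surjective.2 (MonoidHom.range_eq_top.1 htop)
    have hpow : ∀ j : ℕ, π x ^ p ^ j = 1 → π x = 1 := by
      intro j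
      induction j with
      | zero => intro h1; simpa using h1
      | succ j ih =>
        intro h1
        refine ih (hinj ?_)
        show (π x ^ p ^ j) ^ p = (1 : Abelianization G) ^ p
        rw [one_pow, ← pow_mul, ← pow_succ, h1]
    exact hne (hpow k (by rw [← map_pow, show x ^ p ^ k = 1 from congrArg Subtype.val hk, map_one]))
  set B := Abelianization G ⧸ φ.range with hB
  haveI : Nontrivial B := QuotientGroup.nontrivial_iff.2 hR
  have hBp : IsPGroup p B := fun b => by
    obtain ⟨a, rfl⟩ := QuotientGroup.mk'_surjective φ.range b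
    exact ⟨1, by rw [pow_one, ← map_pow]; exact (QuotientGroup.eq_one_iff _).2 ⟨a, rfl⟩⟩
  obtain ⟨n, hn, hcard⟩ := hBp.nontrivial_iff_card.1 inferInstance
  obtain ⟨m, rfl⟩ := Nat.exists_eq_succ_of_ne_zero hn.ne'
  obtain ⟨K, hK⟩ := Sylow.exists_subgroup_card_pow_prime (G := B) p (n := m)
    (hcard ▸ pow_dvd_pow p (Nat.le_succ m))
  refine ⟨K.comap ((QuotientGroup.mk' φ.range).comp π), Normal.comap inferInstance _, ?_⟩
  have hψ : Function.Surjective ((QuotientGroup.mk' φ.range).comp π) :=
    (QuotientGroup.mk'_surjective _).comp hπs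
  rw [index_comap_of_surjective K hψ]
  have h1 := K.card_mul_index
  rw [hK, hcard, pow_succ] at h1
  exact Nat.eq_of_mul_eq_mul_left (pow_pos hp.out.pos m) h1

/-- If the `p'`-elements of `N(S)` centralize `S` then `S ∩ N(S)' = S'`. -/
theorem inf_commutator_normalizer_le (S : Sylow p G)
    (hN : ∀ g ∈ normalizer ((S : Subgroup G) : Set G), (orderOf g).Coprime p →
      g ∈ centralizer ((S : Subgroup G) : Set G)) :
    (S : Subgroup G) ⊓ ⁅normalizer ((S : Subgroup G) : Set G), normalizer ((S : Subgroup G) : Set G)⁆ ≤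
      ⁅(S : Subgroup G), (S : Subgroup G)⁆ := by
  set N := normalizer ((S : Subgroup G) : Set G) with hNdef
  let SN : Sylow p N := S.subtype le_normalizer
  haveI hn : (SN : Subgroup N).Normal := normal_in_normalizer
  set D : Subgroup N := ⁅(SN : Subgroup N), (SN : Subgroup N)⁆ with hD
  haveI : D.Normal := commutator_normal _ _
  set π := QuotientGroup.mk' D with hπ
  have hπs : Function.Surjective π := QuotientGroup.mk'_surjective D
  intro x hx
  obtain ⟨hxS, hxN⟩ := mem_inf.1 hx
  rw [← map_subtype_commutator] at hxN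
  obtain ⟨y, hy, rfl⟩ := hxN
  have hyS : y ∈ (SN : Subgroup N) := hxS
  -- `S` is central modulo `S'`
  set C : Subgroup N := (centralizer {π y}).comap π with hC
  have hSC : (SN : Subgroup N) ≤ C := fun s hs => mem_centralizer_singleton_iff.2
    (commutatorElement_eq_one_iff_mul_comm.1 (by
      rw [← map_commutatorElement]
      exact (QuotientGroup.eq_one_iff _).2 (commutator_mem_commutator hs hyS)))
  have hCtop : C = ⊤ := eq_top_iff.2 fun g _ => by
    obtain ⟨k, m, hm, hg⟩ := Nat.exists_eq_pow_mul_and_not_dvd (orderOf_pos g).ne' p hp.out.ne_one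
    have hcop : (p ^ k).Coprime m := Nat.Coprime.pow_left k (hp.out.coprime_iff_not_dvd.2 hm)
    have hm0 : m ≠ 0 := fun h0 => hm (h0 ▸ dvd_zero p)
    -- the `p`-part lies in `S`
    have hp1 : g ^ m ∈ (SN : Subgroup N) := by
      have hsub : IsPGroup p (zpowers (g ^ m)) := IsPGroup.of_card (n := k) (by
        rw [Nat.card_zpowers, orderOf_pow' g hm0, hg, Nat.gcd_eq_right (dvd_mul_left m _),
          Nat.mul_div_cancel _ (Nat.pos_of_ne_zero hm0)])
      obtain ⟨Q, hQ⟩ := hsub.exists_le_sylow
      haveI := Sylow.unique_of_normal SN hn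
      rw [Subsingleton.elim Q SN] at hQ
      exact hQ (mem_zpowers _)
    -- the `p'`-part centralizes `S`
    have hp2 : g ^ p ^ k ∈ C := by
      have ho : (orderOf (g ^ p ^ k)).Coprime p := by
        rw [orderOf_pow' g (pow_ne_zero _ hp.out.ne_zero), hg, Nat.gcd_eq_right (dvd_mul_right _ m),
          Nat.mul_div_cancel_left _ (pow_pos hp.out.pos k)]
        exact (hp.out.coprime_iff_not_dvd.2 hm).symm
      have h1 := hN _ (g ^ p ^ k).2 (by rwa [orderOf_coe] at *)
      refine mem_centralizer_singleton_iff.2 ?_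
      rw [← map_mul, ← map_mul]
      exact congrArg π (Subtype.ext (mem_centralizer_iff.1 h1 _ hxS).symm)
    have h2 := C.mul_mem (zpow_mem hp2 (Nat.gcdA (p ^ k) m)) (zpow_mem (hSC hp1) (Nat.gcdB (p ^ k) m))
    have h3 := (Nat.gcd_eq_gcd_ab (p ^ k) m).symm
    rw [hcop.gcd_eq_one] at h3
    rwa [← zpow_natCast g (p ^ k), ← zpow_natCast g m, ← zpow_mul, ← zpow_mul, ← zpow_add, h3,
      Nat.cast_one, zpow_one] at h2
  have hz := central_mem_commutator (SN.mapSurjective hπs) (z := π y) (mem_map_of_mem π hyS)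
    (mem_center_iff.2 fun z => by
      obtain ⟨g, rfl⟩ := hπs z
      exact mem_centralizer_singleton_iff.1 (show g ∈ C from hCtop ▸ mem_top g))
    (by rw [commutator_def, ← map_top_of_surjective π hπs, ← Subgroup.map_commutator, ← commutator_def]
        exact mem_map_of_mem π hy)
  rw [Sylow.coe_mapSurjective, ← Subgroup.map_commutator] at hz
  have hyD : y ∈ D := by
    rw [← hD, mem_map] at hz
    obtain ⟨w, hw, hwy⟩ := hz
    have := D.mul_mem hw (QuotientGroup.eq.1 hwy)
    rwa [mul_inv_cancel_left] at this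
  have h4 := mem_map_of_mem N.subtype hyD
  rw [hD, Subgroup.map_commutator] at h4
  exact commutator_mono (map_subgroupOf_eq_of_le le_normalizer).le
    (map_subgroupOf_eq_of_le le_normalizer).le h4

/-- A non-trivial `p`-subgroup properly contains its derived subgroup. -/
theorem commutator_lt_of_isPGroup {S : Subgroup G} (hS : IsPGroup p S) (hne : S ≠ ⊥) : ⁅S, S⁆ < S := by
  haveI := hS.isNilpotent
  haveI : Nontrivial S := (nontrivial_iff_ne_bot S).2 hne
  refine lt_of_le_of_ne (le_normalizer_iff_commutator_le_left.1 le_normalizer) fun h => ?_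
  refine (Group.IsSolvable.commutator_lt_top_of_nontrivial S).ne
    (Subgroup.map_injective S.subtype_injective ?_)
  rw [map_subtype_commutator, ← MonoidHom.range_eq_map, range_subtype, h]

end CfsgLib.PLocal
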