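import Cfsg.Prelude.Def_ConjugacyFunctors
import Mathlib
import Cfsg.Agent.Lib.Solvable.Nilpotent

/-!
# The K-infinity subgroups
-/

namespace CfsgLib.PLocal

open Subgroup Cfsg
open scoped commutatorElement

universe u

section Basic

variable {P : Type*} [Group P]

/-- `B ∩ C(B)`, the centre of `B`. -/
abbrev centreIn (B : Subgroup P) : Subgroup P := B ⊓ centralizer (B : Set P)

theorem kUpperStarFamily_anti {Q Q' : Subgroup P} (h : Q ≤ Q') :
    kUpperStarFamily Q' ⊆ kUpperStarFamily Q :=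
  fun _ hB => ⟨hB.1, (commutator_mono le_rfl h).trans hB.2⟩

theorem kLowerStarFamily_anti {Q Q' : Subgroup P} (h : Q ≤ Q') :
    kLowerStarFamily Q' ⊆ kLowerStarFamily Q :=
  fun _ hB => ⟨hB.1, h.trans hB.2.1, fun A hA hAQ => hB.2.2 A hA (hAQ.trans h)⟩

theorem kSeqOdd_succ_le (n : ℕ) : kSeqOdd P (n + 1) ≤ kSeqOdd P n := by
  induction n with
  | zero => exact le_top
  | succ n ih =>
    exact sSup_le_sSup (kUpperStarFamily_anti (sSup_le_sSup (kLowerStarFamily_anti ih)))

theorem kSeqEven_le_succ (n : ℕ) : kSeqEven P n ≤ kSeqEven P (n + 1) :=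
  sSup_le_sSup (kLowerStarFamily_anti (kSeqOdd_succ_le n))

theorem kSeqOdd_antitone : Antitone (kSeqOdd P) := antitone_nat_of_succ_le kSeqOdd_succ_le

theorem kSeqEven_monotone : Monotone (kSeqEven P) := monotone_nat_of_le_succ kSeqEven_le_succ

theorem exists_kSeq_stable [Finite P] :
    ∃ n : ℕ, ∀ m : ℕ, n ≤ m → kSeqEven P m = kInfLower P ∧ kSeqOdd P m = kInfUpper P := by
  obtain ⟨a, ha⟩ := WellFoundedGT.monotone_chain_condition ⟨kSeqEven P, kSeqEven_monotone⟩
  obtain ⟨b, hb⟩ := WellFoundedLT.antitone_chain_condition (α := Subgroup P) kSeqOdd_antitone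
  refine ⟨max a b, fun m hm => ⟨le_antisymm (le_iSup _ m) (iSup_le fun j => ?_),
    le_antisymm (le_iInf fun j => ?_) (iInf_le _ m)⟩⟩
  · rcases le_total j m with h | h
    · exact kSeqEven_monotone h
    · have e1 : kSeqEven P a = kSeqEven P m := ha m (le_of_max_le_left hm)
      have e2 : kSeqEven P a = kSeqEven P j := ha j ((le_of_max_le_left hm).trans h)
      rw [← e1, e2]
  · rcases le_total j m with h | h
    · exact kSeqOdd_antitone h
    · have e1 : kSeqOdd P b = kSeqOdd P m := hb m (le_of_max_le_right hm)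
      have e2 : kSeqOdd P b = kSeqOdd P j := hb j ((le_of_max_le_right hm).trans h)
      rw [← e1, e2]

theorem normal_abelian_mem {A : Subgroup P} [A.Normal] (hA : IsMulCommutative A) :
    A ∈ classTwoSubgroups P ∧ ∀ Q : Subgroup P, A ∈ kLowerStarFamily Q ∧ A ∈ kUpperStarFamily Q := by
  have hAc : A ≤ centralizer (A : Set P) := fun a ha => mem_centralizer_iff.2 fun b hb =>
    congrArg Subtype.val (hA.is_comm.comm ⟨b, hb⟩ ⟨a, ha⟩)
  have h2 : A ∈ classTwoSubgroups P := (commutator_le_left A A).trans hAc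
  have hc : ∀ Q : Subgroup P, ⁅A, Q⁆ ≤ A ⊓ centralizer (A : Set P) := fun Q =>
    le_inf (commutator_le_left A Q) ((commutator_le_left A Q).trans hAc)
  exact ⟨h2, fun Q => ⟨⟨h2, (by rw [normalizer_eq_top_iff.2 (inferInstance : A.Normal)]; exact le_top), fun R _ _ _ _ _ => hc R⟩, h2, hc Q⟩⟩

theorem le_kSeqEven_of_normal {A : Subgroup P} [A.Normal] (hA : IsMulCommutative A) (n : ℕ) :
    A ≤ kSeqEven P n :=
  le_sSup ((normal_abelian_mem hA).2 _).1

theorem le_kSeqOdd_of_normal {A : Subgroup P} [A.Normal] (hA : IsMulCommutative A) (n : ℕ) :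
    A ≤ kSeqOdd P n := by
  cases n with
  | zero => exact le_top
  | succ n => exact le_sSup ((normal_abelian_mem hA).2 _).2

end Basic

section Transfer

variable {P : Type*} [Group P] {R : Type*} [Group R] {f : R →* P}

theorem map_le_centralizer_map (hf : Function.Injective f) {X Y : Subgroup R} :
    X.map f ≤ centralizer ((Y.map f : Subgroup P) : Set P) ↔ X ≤ centralizer (Y : Set R) := by
  constructor
  · intro h x hx
    refine mem_centralizer_iff.2 fun y hy => hf ?_
    simpa using mem_centralizer_iff.1 (h (mem_map_of_mem f hx)) _ (mem_map_of_mem f hy)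
  · rintro h _ ⟨x, hx, rfl⟩
    refine mem_centralizer_iff.2 ?_
    rintro _ ⟨y, hy, rfl⟩
    rw [← map_mul, ← map_mul, mem_centralizer_iff.1 (h hx) y hy]

theorem map_centreIn (hf : Function.Injective f) (B : Subgroup R) :
    centreIn (B.map f) = (centreIn B).map f := by
  refine le_antisymm (fun x hx => ?_) ?_
  · obtain ⟨⟨y, hy, rfl⟩, hxc⟩ := hx
    refine mem_map_of_mem f ⟨hy, mem_centralizer_iff.2 fun b hb => hf ?_⟩
    simpa using mem_centralizer_iff.1 hxc _ (mem_map_of_mem f hb)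
  · exact le_inf (map_mono inf_le_left) ((map_le_centralizer_map hf).2 inf_le_right)

theorem map_le_normalizer_map (hf : Function.Injective f) {X Y : Subgroup R} :
    X.map f ≤ normalizer ((Y.map f : Subgroup P) : Set P) ↔ X ≤ normalizer (Y : Set R) := by
  rw [le_normalizer_iff_commutator_le_left, le_normalizer_iff_commutator_le_left,
    ← Subgroup.map_commutator, map_le_map_iff_of_injective hf]

theorem map_mem_classTwo (hf : Function.Injective f) {B : Subgroup R} :
    B.map f ∈ classTwoSubgroups P ↔ B ∈ classTwoSubgroups R := by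
  unfold classTwoSubgroups
  rw [Set.mem_ofPred_eq, Set.mem_ofPred_eq, ← Subgroup.map_commutator, map_le_centralizer_map hf]

theorem map_mem_upper (hf : Function.Injective f) {B Q : Subgroup R} :
    B.map f ∈ kUpperStarFamily (Q.map f) ↔ B ∈ kUpperStarFamily Q := by
  unfold kUpperStarFamily
  rw [Set.mem_ofPred_eq, Set.mem_ofPred_eq, map_mem_classTwo hf, ← Subgroup.map_commutator]
  refine and_congr_right fun _ => ?_
  show _ ≤ centreIn (B.map f) ↔ _
  rw [map_centreIn hf, map_le_map_iff_of_injective hf]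

theorem map_mem_lower (hf : Function.Injective f) {B Q : Subgroup R} :
    B.map f ∈ kLowerStarFamily (Q.map f) ↔ B ∈ kLowerStarFamily Q := by
  have hz : ∀ A : Subgroup R, ⁅⁅centreIn (B.map f), A.map f⁆, A.map f⁆ =
      (⁅⁅centreIn B, A⁆, A⁆).map f := fun A => by
    rw [map_centreIn hf, Subgroup.map_commutator, Subgroup.map_commutator]
  constructor
  · rintro ⟨h2, hn, ht⟩
    refine ⟨(map_mem_classTwo hf).1 h2, (map_le_normalizer_map hf).1 hn, fun A hA hAQ hBA h1 h3 => ?_⟩
    have := ht (A.map f) ((map_mem_classTwo hf).2 hA) (map_mono hAQ) ((map_le_normalizer_map hf).2 hBA)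
      (by rw [← Subgroup.map_commutator, ← Subgroup.map_commutator, h1, Subgroup.map_bot])
      (by rw [hz A, show ⁅⁅centreIn B, A⁆, A⁆ = ⊥ from h3, Subgroup.map_bot])
    rw [← Subgroup.map_commutator, show B.map f ⊓ centralizer ((B.map f : Subgroup P) : Set P) = (centreIn B).map f from map_centreIn hf B] at this
    exact (map_le_map_iff_of_injective hf).1 this
  · rintro ⟨h2, hn, ht⟩
    refine ⟨(map_mem_classTwo hf).2 h2, (map_le_normalizer_map hf).2 hn, fun A hA hAQ hBA h1 h3 => ?_⟩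
    obtain ⟨A, rfl⟩ : ∃ A' : Subgroup R, A'.map f = A :=
      ⟨A.comap f, map_comap_eq_self (hAQ.trans (map_le_range f Q))⟩
    rw [← Subgroup.map_commutator]
    show _ ≤ centreIn (B.map f)
    rw [map_centreIn hf, map_le_map_iff_of_injective hf]
    refine ht A ((map_mem_classTwo hf).1 hA) ((map_le_map_iff_of_injective hf).1 hAQ)
      ((map_le_normalizer_map hf).1 hBA) ?_ ?_
    · rw [← Subgroup.map_commutator, ← Subgroup.map_commutator, map_eq_bot_iff_of_injective _ hf] at h1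
      exact h1
    · rw [show ⁅⁅B.map f ⊓ centralizer ((B.map f : Subgroup P) : Set P), A.map f⁆, A.map f⁆ =
        (⁅⁅centreIn B, A⁆, A⁆).map f from hz A, map_eq_bot_iff_of_injective _ hf] at h3
      exact h3

theorem map_sSup_upper (hf : Function.Injective f) (Q : Subgroup R) :
    (sSup (kUpperStarFamily Q)).map f = sSup {B ∈ kUpperStarFamily (Q.map f) | B ≤ f.range} := by
  rw [sSup_eq_iSup, Subgroup.map_iSup]
  refine le_antisymm (iSup_le fun B => ?_) (sSup_le ?_)
  · rw [Subgroup.map_iSup]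
    exact iSup_le fun hB => le_sSup ⟨(map_mem_upper hf).2 hB, map_le_range f B⟩
  · rintro C ⟨hC, hCr⟩
    refine le_iSup_of_le (C.comap f) ?_
    rw [Subgroup.map_iSup]
    have e : (C.comap f).map f = C := map_comap_eq_self hCr
    rw [← e] at hC
    exact le_iSup_of_le ((map_mem_upper hf).1 hC) e.ge

theorem map_sSup_lower (hf : Function.Injective f) (Q : Subgroup R) :
    (sSup (kLowerStarFamily Q)).map f = sSup {B ∈ kLowerStarFamily (Q.map f) | B ≤ f.range} := by
  rw [sSup_eq_iSup, Subgroup.map_iSup]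
  refine le_antisymm (iSup_le fun B => ?_) (sSup_le ?_)
  · rw [Subgroup.map_iSup]
    exact iSup_le fun hB => le_sSup ⟨(map_mem_lower hf).2 hB, map_le_range f B⟩
  · rintro C ⟨hC, hCr⟩
    refine le_iSup_of_le (C.comap f) ?_
    rw [Subgroup.map_iSup]
    have e : (C.comap f).map f = C := map_comap_eq_self hCr
    rw [← e] at hC
    exact le_iSup_of_le ((map_mem_lower hf).1 hC) e.ge

theorem map_kInf_of_range_ge [Finite P] [Finite R] (hf : Function.Injective f)
    (h : ∀ n : ℕ, kSeqEven P n ≤ f.range ∧ kSeqOdd P (n + 1) ≤ f.range) :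
    (kInfLower R).map f = kInfLower P ∧ (kInfUpper R).map f = kInfUpper P := by
  have he : ∀ n, (kSeqEven R n).map f =
      sSup {B ∈ kLowerStarFamily ((kSeqOdd R n).map f) | B ≤ f.range} := fun n => map_sSup_lower hf _
  have ho : ∀ n, (kSeqOdd R (n + 1)).map f =
      sSup {B ∈ kUpperStarFamily ((kSeqEven R n).map f) | B ≤ f.range} := fun n => map_sSup_upper hf _
  have even_bounds : ∀ n, kSeqOdd P (n + 1) ≤ (kSeqOdd R n).map f →
      (kSeqOdd R n).map f ≤ kSeqOdd P n →
      kSeqEven P n ≤ (kSeqEven R n).map f ∧ (kSeqEven R n).map f ≤ kSeqEven P (n + 1) := by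
    intro n h1 h2
    rw [he n]
    exact ⟨sSup_le fun B hB => le_sSup ⟨kLowerStarFamily_anti h2 hB, (le_sSup hB).trans (h n).1⟩,
      sSup_le fun B hB => le_sSup (kLowerStarFamily_anti h1 hB.1)⟩
  have key : ∀ n, kSeqOdd P (n + 1) ≤ (kSeqOdd R n).map f ∧ (kSeqOdd R n).map f ≤ kSeqOdd P n := by
    intro n
    induction n with
    | zero => exact ⟨(h 0).2.trans (MonoidHom.range_eq_map f).le, le_top⟩
    | succ n ih =>
      obtain ⟨h1, h2⟩ := even_bounds n ih.1 ih.2
      rw [ho n]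
      exact ⟨sSup_le fun B hB => le_sSup ⟨kUpperStarFamily_anti h2 hB,
          (le_sSup hB).trans (h (n + 1)).2⟩,
        sSup_le fun B hB => le_sSup (kUpperStarFamily_anti h1 hB.1)⟩
  obtain ⟨a, ha⟩ := exists_kSeq_stable (P := P)
  obtain ⟨b, hb⟩ := exists_kSeq_stable (P := R)
  obtain ⟨hbl, hbu⟩ := hb (max a b) (le_max_right a b)
  obtain ⟨hal, hau⟩ := ha (max a b) (le_max_left a b)
  obtain ⟨hal', hau'⟩ := ha (max a b + 1) ((le_max_left a b).trans (Nat.le_succ _))
  obtain ⟨h1, h2⟩ := key (max a b)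
  obtain ⟨h3, h4⟩ := even_bounds _ h1 h2
  rw [hbl, hal] at h3
  rw [hbl, hal'] at h4
  rw [hbu, hau'] at h1
  rw [hbu, hau] at h2
  exact ⟨le_antisymm h4 h3, le_antisymm h2 h1⟩

end Transfer

section PGroup

variable {p : ℕ} [hp : Fact p.Prime] {P : Type*} [Group P] [Finite P]

/-- A subgroup of a `p`-group which is maximal in a family closed under adjoining suitable
centralizing elements contains its centralizer. -/
theorem centralizer_le_of_maximal (hP : IsPGroup p P) {B : Subgroup P} {𝒦 : Set (Subgroup P)}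
    (hext : ∀ x ∈ centralizer (B : Set P),
      (∀ n ∈ normalizer (B : Set P), ⁅x, n⁆ ∈ centreIn B) → B ⊔ zpowers x ∈ 𝒦)
    (hmax : ∀ C ∈ 𝒦, B ≤ C → C = B) : centralizer (B : Set P) ≤ B := by
  by_contra hle
  set N := normalizer (B : Set P) with hN
  set C' := (centralizer (B : Set P)).subgroupOf N with hC'
  haveI hCn : C'.Normal := by
    refine ⟨fun c hc n => mem_centralizer_iff.2 fun b hb => ?_⟩
    have hb' : (n : P)⁻¹ * b * n ∈ B := (mem_normalizer_iff''.1 n.2 b).1 hb
    have h : (n : P)⁻¹ * b * n * c = c * ((n : P)⁻¹ * b * n) := mem_centralizer_iff.1 hc _ hb'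
    show b * ((n : P) * c * (n : P)⁻¹) = (n : P) * c * (n : P)⁻¹ * b
    calc b * ((n : P) * c * (n : P)⁻¹) = (n : P) * (((n : P)⁻¹ * b * n) * c) * (n : P)⁻¹ := by group
      _ = (n : P) * (c * ((n : P)⁻¹ * b * n)) * (n : P)⁻¹ := by rw [h]
      _ = _ := by group
  set B' := B.subgroupOf N with hB'
  haveI : B'.Normal := normal_in_normalizer
  set π := QuotientGroup.mk' (C' ⊓ B') with hπ
  have hπs : Function.Surjective π := QuotientGroup.mk'_surjective _
  haveI : (C'.map π).Normal := hCn.map π hπs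
  have hne : C'.map π ≠ ⊥ := by
    rw [Ne, Subgroup.map_eq_bot_iff, hπ, QuotientGroup.ker_mk']
    intro h
    refine hle fun c hc => ?_
    exact (h (show (⟨c, centralizer_le_normalizer _ hc⟩ : N) ∈ C' from hc)).2
  have hQ : IsPGroup p (N ⧸ (C' ⊓ B')) := (hP.to_subgroup N).to_quotient _
  haveI := hQ.isNilpotent
  obtain ⟨y, hy, hyne⟩ := (bot_or_exists_ne_one (C'.map π ⊓ center (N ⧸ (C' ⊓ B')))).resolve_left
    (CfsgLib.Solvable.normal_inf_center_ne_bot _ hne)
  obtain ⟨⟨x, hx, rfl⟩, hyc⟩ := hy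
  refine hyne ((QuotientGroup.eq_one_iff x).2 ⟨hx, ?_⟩)
  have hk := hmax _ (hext (x : P) hx fun n hn => ?_) le_sup_left
  · show (x : P) ∈ B
    rw [← hk]; exact mem_sup_right (mem_zpowers (x : P))
  · have : ⁅π x, π ⟨n, hn⟩⁆ = 1 := commutatorElement_eq_one_iff_mul_comm.2 (mem_center_iff.1 hyc _).symm
    rw [← map_commutatorElement] at this
    have h2 : ⁅x, (⟨n, hn⟩ : N)⁆ ∈ C' ⊓ B' := (QuotientGroup.eq_one_iff _).1 this
    exact ⟨h2.2, h2.1⟩

omit hp [Finite P] in
theorem sup_zpowers_facts {B : Subgroup P} {x : P} (hx : x ∈ centralizer (B : Set P)) :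
    centreIn B ≤ centreIn (B ⊔ zpowers x) ∧ x ∈ centreIn (B ⊔ zpowers x) ∧
      centreIn B ≤ centralizer ((B ⊔ zpowers x : Subgroup P) : Set P) := by
  have hsup : ∀ z ∈ centralizer (B : Set P), Commute x z → z ∈ centralizer ((B ⊔ zpowers x : Subgroup P) : Set P) := by
    intro z hz hxz
    have hle : B ⊔ zpowers x ≤ centralizer ({z} : Set P) := sup_le
      (fun b hb => mem_centralizer_singleton_iff.2 (mem_centralizer_iff.1 hz b hb))
      (zpowers_le.2 (mem_centralizer_singleton_iff.2 hxz.eq))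
    exact mem_centralizer_iff.2 fun y hy => mem_centralizer_singleton_iff.1 (hle hy)
  have hz : ∀ z ∈ centreIn B, z ∈ centralizer ((B ⊔ zpowers x : Subgroup P) : Set P) := fun z hz =>
    hsup z hz.2 (mem_centralizer_iff.1 hx z hz.1).symm
  exact ⟨fun z h => ⟨mem_sup_left h.1, hz z h⟩,
    ⟨mem_sup_right (mem_zpowers x), hsup x hx (Commute.refl x)⟩, hz⟩

omit hp [Finite P] in
/-- `⁅B⟨x⟩, A⁆ ≤ Z(B)` when both generators satisfy it and `x` centralizes `B`. -/
theorem commutator_sup_zpowers_le {B A : Subgroup P} {x : P} (hx : x ∈ centralizer (B : Set P))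
    (hB : ⁅B, A⁆ ≤ centreIn B) (hxA : ∀ a ∈ A, ⁅x, a⁆ ∈ centreIn B) :
    ⁅B ⊔ zpowers x, A⁆ ≤ centreIn B := by
  obtain ⟨-, -, hc⟩ := sup_zpowers_facts hx
  refine commutator_le.2 fun y hy a ha => ?_
  let K : Subgroup P :=
    { carrier := {y | y ∈ B ⊔ zpowers x ∧ ∀ a ∈ A, ⁅y, a⁆ ∈ centreIn B}
      one_mem' := ⟨one_mem _, fun a _ => by simp⟩
      mul_mem' := fun {u v} hu hv => ⟨mul_mem hu.1 hv.1, fun a ha => by
        have h1 := mem_centralizer_iff.1 (hc (hv.2 a ha)) u hu.1
        have e : ⁅u * v, a⁆ = u * ⁅v, a⁆ * u⁻¹ * ⁅u, a⁆ := by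
          simp only [commutatorElement_def]; group
        rw [e, h1, mul_inv_cancel_right]
        exact mul_mem (hv.2 a ha) (hu.2 a ha)⟩
      inv_mem' := fun {u} hu => ⟨inv_mem hu.1, fun a ha => by
        have h1 := mem_centralizer_iff.1 (hc (inv_mem (hu.2 a ha))) u⁻¹ (inv_mem hu.1)
        have e : ⁅u⁻¹, a⁆ = u⁻¹ * ⁅u, a⁆⁻¹ * u := by simp only [commutatorElement_def]; group
        rw [e, h1, mul_assoc, inv_mul_cancel, mul_one]
        exact inv_mem (hu.2 a ha)⟩ }
  have hle : B ⊔ zpowers x ≤ K := sup_le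
    (fun b hb => ⟨mem_sup_left hb, fun a ha => hB (commutator_mem_commutator hb ha)⟩)
    (zpowers_le.2 ⟨mem_sup_right (mem_zpowers x), hxA⟩)
  exact (hle hy).2 a ha

omit hp [Finite P] in
theorem sup_zpowers_mem_classTwo {B : Subgroup P} {x : P} (h2 : B ∈ classTwoSubgroups P)
    (hx : x ∈ centralizer (B : Set P)) : B ⊔ zpowers x ∈ classTwoSubgroups P := by
  obtain ⟨-, -, hc⟩ := sup_zpowers_facts hx
  have hBB : ⁅B, B⁆ ≤ centreIn B :=
    le_inf (le_normalizer_iff_commutator_le_left.1 le_normalizer) h2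
  have h1 : ⁅B ⊔ zpowers x, B⁆ ≤ centreIn B := commutator_sup_zpowers_le hx hBB fun b hb => by
    rw [commutatorElement_eq_one_iff_mul_comm.2 (mem_centralizer_iff.1 hx b hb).symm]
    exact one_mem _
  refine le_trans ?_ hc
  refine commutator_sup_zpowers_le hx ?_ fun y hy => ?_
  · rw [commutator_comm]; exact h1
  · obtain ⟨-, hxc, -⟩ := sup_zpowers_facts hx
    rw [commutatorElement_eq_one_iff_mul_comm.2 (mem_centralizer_iff.1 hxc.2 y hy).symm]
    exact one_mem _

theorem centralizer_le_of_maximal_classTwo (hP : IsPGroup p P) {B : Subgroup P}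
    (hB : B ∈ classTwoSubgroups P) (hmax : ∀ C ∈ classTwoSubgroups P, B ≤ C → C = B) :
    centralizer (B : Set P) ≤ B :=
  centralizer_le_of_maximal hP (fun _ hx _ => sup_zpowers_mem_classTwo hB hx) hmax

theorem centralizer_le_of_maximal_upper (hP : IsPGroup p P) {B Q : Subgroup P}
    (hB : B ∈ kUpperStarFamily Q) (hmax : ∀ C ∈ kUpperStarFamily Q, B ≤ C → C = B) :
    centralizer (B : Set P) ≤ B := by
  refine centralizer_le_of_maximal (𝒦 := kUpperStarFamily Q) hP (fun x hx hfix => ⟨sup_zpowers_mem_classTwo hB.1 hx, ?_⟩) hmax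
  have hQ : Q ≤ normalizer (B : Set P) :=
    le_normalizer_iff_commutator_le_left.2 (hB.2.trans inf_le_left)
  exact (commutator_sup_zpowers_le hx hB.2 fun q hq => hfix q (hQ hq)).trans (sup_zpowers_facts hx).1

theorem centralizer_le_of_maximal_lower (hP : IsPGroup p P) {B Q : Subgroup P}
    (hB : B ∈ kLowerStarFamily Q) (hmax : ∀ C ∈ kLowerStarFamily Q, B ≤ C → C = B) :
    centralizer (B : Set P) ≤ B := by
  refine centralizer_le_of_maximal (𝒦 := kLowerStarFamily Q) hP (fun x hx hfix => ⟨sup_zpowers_mem_classTwo hB.1 hx, ?_,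
    fun A hA hAQ hBA h1 h3 => ?_⟩) hmax
  · refine le_normalizer_iff_commutator_le_left.2 ?_
    obtain ⟨h1, hxc, -⟩ := sup_zpowers_facts hx
    refine commutator_le.2 fun y hy q hq => ?_
    let K : Subgroup P :=
      { carrier := {y | y ∈ B ⊔ zpowers x ∧ q * y * q⁻¹ ∈ B ⊔ zpowers x}
        one_mem' := ⟨one_mem _, by simp⟩
        mul_mem' := fun {u v} hu hv => ⟨mul_mem hu.1 hv.1, by
          rw [show q * (u * v) * q⁻¹ = q * u * q⁻¹ * (q * v * q⁻¹) by group]
          exact mul_mem hu.2 hv.2⟩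
        inv_mem' := fun {u} hu => ⟨inv_mem hu.1, by
          rw [show q * u⁻¹ * q⁻¹ = (q * u * q⁻¹)⁻¹ by group]; exact inv_mem hu.2⟩ }
    have hle : B ⊔ zpowers x ≤ K := sup_le
      (fun b hb => ⟨mem_sup_left hb, mem_sup_left ((mem_normalizer_iff.1 (hB.2.1 hq) b).1 hb)⟩)
      (zpowers_le.2 ⟨mem_sup_right (mem_zpowers x), by
        rw [show q * x * q⁻¹ = ⁅x, q⁆⁻¹ * x by simp only [commutatorElement_def]; group]
        exact mul_mem (inv_mem (mem_sup_left (hfix q (hB.2.1 hq)).1)) (mem_sup_right (mem_zpowers x))⟩)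
    rw [commutatorElement_def, show y * q * y⁻¹ * q⁻¹ = y * (q * y * q⁻¹)⁻¹ by group]
    exact mul_mem hy (inv_mem (hle hy).2)
  · have hle : B ≤ B ⊔ zpowers x := le_sup_left
    have hBA' : B ≤ normalizer (A : Set P) := hle.trans hBA
    obtain ⟨hzz, -, -⟩ := sup_zpowers_facts hx
    have h1' : ⁅B, ⁅A, A⁆⁆ = ⊥ := le_bot_iff.1 ((commutator_mono hle le_rfl).trans h1.le)
    have h3' : ⁅⁅centreIn B, A⁆, A⁆ = ⊥ :=
      le_bot_iff.1 ((commutator_mono (commutator_mono hzz le_rfl) le_rfl).trans h3.le)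
    refine (commutator_sup_zpowers_le hx (hB.2.2 A hA hAQ hBA' h1' h3') fun a ha => ?_).trans hzz
    exact hfix a (hB.2.1 (hAQ ha))

theorem exists_maximal_mem {𝒦 : Set (Subgroup P)} (h : 𝒦.Nonempty) :
    ∃ B ∈ 𝒦, ∀ C ∈ 𝒦, B ≤ C → C = B := by
  obtain ⟨B, hB, hmax⟩ := (Set.toFinite 𝒦).exists_maximal h
  exact ⟨B, hB, fun C hC hle => le_antisymm (hmax hC hle) hle⟩

theorem centralizer_kInfLower_le (hP : IsPGroup p P) :
    centralizer (kInfLower P : Set P) ≤ kInfLower P := by
  obtain ⟨B, hB, hmax⟩ := exists_maximal_mem (𝒦 := kLowerStarFamily (kSeqOdd P 0))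
    (Set.nonempty_of_mem ((normal_abelian_mem (A := (⊥ : Subgroup P)) inferInstance).2 _).1)
  have hBK : B ≤ kInfLower P := le_iSup_of_le 0 (le_sSup hB)
  exact (centralizer_le (SetLike.coe_subset_coe.2 hBK)).trans
    ((centralizer_le_of_maximal_lower hP hB hmax).trans hBK)

theorem centralizer_kInfUpper_le (hP : IsPGroup p P) :
    centralizer (kInfUpper P : Set P) ≤ kInfUpper P := by
  obtain ⟨n, hn⟩ := exists_kSeq_stable (P := P)
  rw [← (hn (n + 1) (Nat.le_succ n)).2]
  obtain ⟨B, hB, hmax⟩ := exists_maximal_mem (𝒦 := kUpperStarFamily (kSeqEven P n))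
    (Set.nonempty_of_mem ((normal_abelian_mem (A := (⊥ : Subgroup P)) inferInstance).2 _).2)
  have hBK : B ≤ kSeqOdd P (n + 1) := le_sSup hB
  exact (centralizer_le (SetLike.coe_subset_coe.2 hBK)).trans
    ((centralizer_le_of_maximal_upper hP hB hmax).trans hBK)

theorem center_le_kInf (hP : IsPGroup p P) : center P ≤ kInfLower P ∧ center P ≤ kInfUpper P :=
  ⟨(center_le_centralizer _).trans (centralizer_kInfLower_le hP),
    (center_le_centralizer _).trans (centralizer_kInfUpper_le hP)⟩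

end PGroup

theorem kInfLower_isCharPFunctor {p : ℕ} [Fact p.Prime] :
    IsCharPFunctor.{u} p (fun Q _ => kInfLower Q) := by
  refine ⟨fun Q _ _ hQ hne h => ?_, fun Q R _ _ _ hQ φ => ?_⟩
  · haveI := hQ.center_nontrivial
    exact (nontrivial_iff_ne_bot (center Q)).1 inferInstance (le_bot_iff.1 (h ▸ (center_le_kInf hQ).1))
  · haveI := Finite.of_equiv Q φ.toEquiv
    exact (map_kInf_of_range_ge (f := φ.toMonoidHom) φ.injective fun n => by
      simp [MonoidHom.range_eq_top.2 (show Function.Surjective φ.toMonoidHom from φ.surjective)]).1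

theorem kInfUpper_isCharPFunctor {p : ℕ} [Fact p.Prime] :
    IsCharPFunctor.{u} p (fun Q _ => kInfUpper Q) := by
  refine ⟨fun Q _ _ hQ hne h => ?_, fun Q R _ _ _ hQ φ => ?_⟩
  · haveI := hQ.center_nontrivial
    exact (nontrivial_iff_ne_bot (center Q)).1 inferInstance (le_bot_iff.1 (h ▸ (center_le_kInf hQ).2))
  · haveI := Finite.of_equiv Q φ.toEquiv
    exact (map_kInf_of_range_ge (f := φ.toMonoidHom) φ.injective fun n => by
      simp [MonoidHom.range_eq_top.2 (show Function.Surjective φ.toMonoidHom from φ.surjective)]).2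

end CfsgLib.PLocal
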