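import Cfsg.Agent.Lib.PLocal.KInfinity
import Cfsg.Agent.Lib.PLocal.ChiefKernel
import Cfsg.Agent.Lib.PLocal.AtomSum
import Cfsg.Agent.Lib.PLocal.Induced
import Cfsg.Agent.Lib.Solvable.PCore
import Cfsg.Agent.Lib.Comp.Normalize

/-!
# Glauberman: an element acting cubically when a K-infinity subgroup is not normal
-/

namespace CfsgLib.PLocal

open Subgroup
open scoped commutatorElement

universe u

variable {p : ℕ} [hp : Fact p.Prime] {G : Type u} [Group G] [Finite G]

/-- An element outside `O_p(G)` moves a chief factor inside a critical subgroup of `O_p(G)`. -/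
theorem exists_moved_chief {A : Subgroup G} [A.Normal] (hAT : A ≤ Cfsg.pCore p G)
    (hA5 : ∀ φ : MulAut ↥(Cfsg.pCore p G), (orderOf φ).Coprime p →
      (∀ a : ↥(Cfsg.pCore p G), (a : G) ∈ A → φ a = a) → φ = 1)
    (hc : centralizer ((Cfsg.pCore p G : Subgroup G) : Set G) ≤ Cfsg.pCore p G)
    {g : G} (hg : g ∉ Cfsg.pCore p G) :
    ∃ U V : Subgroup G, Cfsg.IsChiefFactor U V ∧ U ≤ A ∧ ¬ ⁅U, zpowers g⁆ ≤ V := by
  by_contra hne
  push Not at hne
  refine hg (CfsgLib.Solvable.le_pCore (chiefKernel_normal A) ?_ (mem_chiefKernel.2 hne))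
  haveI := Cfsg.pCore_normal p G
  have hT := CfsgLib.Solvable.pCore_isPGroup (G := G) p
  rintro ⟨k, hk⟩
  obtain ⟨a, b, hb, hm⟩ := Nat.exists_eq_pow_mul_and_not_dvd (orderOf_pos k).ne' p hp.out.ne_one
  set k' := k ^ p ^ a with hk'
  have hko : (orderOf k').Coprime p := by
    rw [hk', orderOf_pow' k (pow_ne_zero _ hp.out.ne_zero), hm, Nat.gcd_eq_right (dvd_mul_right _ b),
      Nat.mul_div_cancel_left _ (pow_pos hp.out.pos a)]
    exact (hp.out.coprime_iff_not_dvd.2 hb).symm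
  have hk'mem : k' ∈ chiefKernel A := pow_mem hk _
  have hcA := mem_centralizer_of_mem_chiefKernel (hT.to_le hAT) hk'mem hko
  set φ : MulAut ↥(Cfsg.pCore p G) := MulAut.conjNormal k' with hφ
  have hφ1 : φ = 1 := hA5 φ (Nat.Coprime.of_dvd_left (orderOf_map_dvd MulAut.conjNormal k') hko)
    fun x hx => Subtype.ext (by
      rw [hφ, MulAut.conjNormal_apply, ← mem_centralizer_iff.1 hcA _ hx, mul_inv_cancel_right])
  have hcT : k' ∈ centralizer ((Cfsg.pCore p G : Subgroup G) : Set G) := by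
    refine mem_centralizer_iff.2 fun x hx => ?_
    have h1 := congrArg Subtype.val (DFunLike.congr_fun hφ1 ⟨x, hx⟩)
    rw [hφ, MulAut.conjNormal_apply] at h1
    simp only [MulAut.one_apply] at h1
    exact (mul_inv_eq_iff_eq_mul.1 h1).symm
  obtain ⟨e, he⟩ := hT ⟨k', hc hcT⟩
  have h1 : k' = 1 := orderOf_eq_one_iff.1 (Nat.eq_one_of_dvd_coprimes (hko.pow_right e) dvd_rfl
    (orderOf_dvd_of_pow_eq_one (congrArg Subtype.val he :)))
  exact ⟨a, Subtype.ext h1⟩

omit hp [Finite G] in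
/-- Degree `k` on every chief factor inside `A` from degree `k` modulo `Z` and on `Z`. -/
theorem iterCommutator_on_chief {A Z K : Subgroup G} [Z.Normal] {k : ℕ}
    (h1 : Cfsg.iterCommutator A K k ≤ Z) (h2 : Cfsg.iterCommutator Z K k = ⊥) {U V : Subgroup G}
    (hUV : Cfsg.IsChiefFactor U V) (hUA : U ≤ A) : Cfsg.iterCommutator U K k ≤ V := by
  obtain ⟨hVU, hUn, hVn, hmin⟩ := hUV
  rcases hmin (U ⊓ Z ⊔ V) inferInstance le_sup_right (sup_le inf_le_left hVU.le) with h | h
  · refine le_trans (le_inf ?_ ((iterCommutator_mono hUA k).trans h1)) (sup_eq_right.1 h)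
    exact iterCommutator_antitone ((normalizer_eq_top_iff.2 hUn).symm ▸ le_top) (Nat.zero_le k)
  · set π := QuotientGroup.mk' V with hπ
    have hU : U.map π = (U ⊓ Z).map π := by
      conv_lhs => rw [← h]
      rw [Subgroup.map_sup, hπ, QuotientGroup.map_mk'_self, sup_bot_eq]
    have hmap : ∀ (X : Subgroup G) (k : ℕ), (Cfsg.iterCommutator X K k).map π =
        Cfsg.iterCommutator (X.map π) (K.map π) k := by
      intro X k
      induction k with
      | zero => rfl
      | succ k ihk =>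
        show Subgroup.map _ ⁅_, _⁆ = ⁅_, _⁆
        rw [Subgroup.map_commutator, ihk]
    rw [← QuotientGroup.ker_mk' V, ← hπ, ← Subgroup.map_eq_bot_iff, hmap, hU, ← hmap, eq_bot_iff]
    refine (map_mono (iterCommutator_mono inf_le_right k)).trans ?_
    rw [h2, Subgroup.map_bot]

/-- Quadratic action on every chief factor from quadratic action modulo `Z` and on `Z`. -/
theorem quadratic_on_chief {A Z K : Subgroup G} [Z.Normal] (h1 : ⁅⁅A, K⁆, K⁆ ≤ Z)
    (h2 : ⁅⁅Z, K⁆, K⁆ = ⊥) {U V : Subgroup G} (hUV : Cfsg.IsChiefFactor U V) (hUA : U ≤ A) :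
    ⁅⁅U, K⁆, K⁆ ≤ V :=
  iterCommutator_on_chief (k := 2) h1 h2 hUV hUA

omit hp [Finite G] in
theorem comm_mul_of_centre {A : Subgroup G} (hA2 : ⁅A, A⁆ ≤ centralizer (A : Set G)) {a₁ a₂ b : G}
    (h1 : a₁ ∈ A) (h2 : a₂ ∈ A) (hb : b ∈ A) : ⁅a₁ * a₂, b⁆ = ⁅a₂, b⁆ * ⁅a₁, b⁆ := by
  rw [show ⁅a₁ * a₂, b⁆ = a₁ * ⁅a₂, b⁆ * a₁⁻¹ * ⁅a₁, b⁆ by simp only [commutatorElement_def]; group,
    mem_centralizer_iff.1 (hA2 (commutator_mem_commutator h2 hb)) a₁ h1, mul_inv_cancel_right]

omit hp [Finite G] in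
/-- The elements of `A` whose commutators with `A` centralize `B`. -/
def radIn {A : Subgroup G} (hA2 : ⁅A, A⁆ ≤ centralizer (A : Set G)) (B : Subgroup G) : Subgroup G where
  carrier := {a | a ∈ A ∧ ∀ b ∈ A, ⁅a, b⁆ ∈ centralizer (B : Set G)}
  one_mem' := ⟨A.one_mem, fun b _ => by simp⟩
  mul_mem' := fun {x y} hx hy => ⟨A.mul_mem hx.1 hy.1, fun b hb => by
    rw [comm_mul_of_centre hA2 hx.1 hy.1 hb]; exact mul_mem (hy.2 b hb) (hx.2 b hb)⟩
  inv_mem' := fun {x} hx => ⟨A.inv_mem hx.1, fun b hb => by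
    have h := comm_mul_of_centre hA2 hx.1 (A.inv_mem hx.1) hb
    rw [mul_inv_cancel, commutatorElement_one_left] at h
    rw [eq_inv_of_mul_eq_one_left h.symm]
    exact inv_mem (hx.2 b hb)⟩

/-- The case of a lower-star member: if it centralizes the chief factors of `Z(A)` and its centre
lies in `O_p(G)`, it acts quadratically on all chief factors inside `A`. -/
theorem quadratic_of_lower_member {A B Q : Subgroup G} [A.Normal] (hAT : A ≤ Cfsg.pCore p G)
    (hA2 : ⁅A, A⁆ ≤ centralizer (A : Set G)) (hA3 : ⁅Cfsg.pCore p G, A⁆ ≤ centreIn A)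
    (hB : B ∈ Cfsg.kLowerStarFamily Q) (hAQ : A ≤ Q) (hZB : centreIn B ≤ Cfsg.pCore p G)
    (hker : B ≤ chiefKernel (centreIn A))
    {U V : Subgroup G} (hUV : Cfsg.IsChiefFactor U V) (hUA : U ≤ A) {g : G} (hg : g ∈ B) :
    ⁅⁅U, zpowers g⁆, zpowers g⁆ ≤ V := by
  haveI := Cfsg.pCore_normal p G
  set Z := centreIn A with hZ
  set R := radIn hA2 B with hR
  have hRA : R ≤ A := fun a ha => ha.1
  have hAB : A ≤ normalizer (B : Set G) := hAQ.trans hB.2.1
  have hA' : ⁅A, A⁆ ≤ Z := le_inf (commutator_le_left A A) hA2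
  have hBR : B ≤ normalizer (R : Set G) := by
    have key : ∀ x ∈ B, ∀ a ∈ R, x * a * x⁻¹ ∈ R := by
      refine fun x hx a ha => ⟨Normal.conj_mem inferInstance a ha.1 x, fun b hb => ?_⟩
      rw [show ⁅x * a * x⁻¹, b⁆ = x * ⁅a, x⁻¹ * b * x⁻¹⁻¹⁆ * x⁻¹ by simp only [commutatorElement_def]; group]
      exact (mem_normalizer_iff.1 (CfsgLib.Comp.normalizer_le_normalizer_centralizer B (le_normalizer hx)) _).1
        (ha.2 _ (Normal.conj_mem inferInstance b hb x⁻¹))
    exact fun x hx => mem_normalizer_iff.2 fun a => ⟨key x hx a, fun h => by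
      simpa [mul_assoc] using key x⁻¹ (B.inv_mem hx) _ h⟩
  have hRR : ⁅R, R⁆ ≤ centralizer (B : Set G) :=
    commutator_le.2 fun a ha b hb => ha.2 b (hRA hb)
  have hR2 : R ∈ Cfsg.classTwoSubgroups G :=
    (commutator_mono hRA hRA).trans (hA2.trans (centralizer_le (SetLike.coe_subset_coe.2 hRA)))
  have hBR1 : ⁅B, ⁅R, R⁆⁆ = ⊥ := by
    rw [commutator_comm, commutator_eq_bot_iff_le_centralizer]; exact hRR
  have hBR2 : ⁅⁅centreIn B, R⁆, R⁆ = ⊥ := by
    rw [commutator_eq_bot_iff_le_centralizer]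
    refine ((commutator_mono hZB hRA).trans hA3).trans (inf_le_right.trans ?_)
    exact centralizer_le (SetLike.coe_subset_coe.2 hRA)
  have hquadR : ⁅⁅R, B⁆, B⁆ = ⊥ := by
    rw [commutator_eq_bot_iff_le_centralizer, commutator_comm]
    exact (hB.2.2 R hR2 (hRA.trans hAQ) hBR hBR1 hBR2).trans inf_le_right
  have hABB : ⁅⁅A, B⁆, B⁆ ≤ R := by
    have hAB' : ⁅A, B⁆ ≤ B := by rw [commutator_comm]; exact le_normalizer_iff_commutator_le_left.1 hAB
    have hle : ⁅⁅A, B⁆, B⁆ ≤ centralizer (B : Set G) := (commutator_mono hAB' le_rfl).trans hB.1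
    intro c hc
    have hcA : c ∈ A := (commutator_mono (commutator_le_left A B) le_rfl).trans (commutator_le_left A B) hc
    refine ⟨hcA, fun b hb => ?_⟩
    refine mem_centralizer_iff.2 fun x hx => ?_
    have hd : ⁅b, x⁆ ∈ B ⊓ A := ⟨hAB' (commutator_mem_commutator hb hx),
      commutator_le_left A B (commutator_mem_commutator hb hx)⟩
    have hcx : x * c * x⁻¹ = c := by
      rw [mem_centralizer_iff.1 (hle hc) x hx, mul_inv_cancel_right]
    have hd' : ⁅x, b⁆ ∈ B ⊓ A := by rw [← commutatorElement_inv]; exact inv_mem hd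
    have hcd : ⁅c, ⁅x, b⁆⁆ = 1 :=
      commutatorElement_eq_one_iff_mul_comm.2 (mem_centralizer_iff.1 (hle hc) _ hd'.1).symm
    have h1 : x * ⁅c, b⁆ * x⁻¹ = ⁅c, b⁆ := by
      calc x * ⁅c, b⁆ * x⁻¹ = ⁅x * c * x⁻¹, ⁅x, b⁆ * b⁆ := by simp only [commutatorElement_def]; group
        _ = ⁅c, ⁅x, b⁆⁆ * (⁅x, b⁆ * ⁅c, b⁆ * ⁅x, b⁆⁻¹) := by
          rw [hcx]; simp only [commutatorElement_def]; group
        _ = ⁅c, b⁆ := by
          rw [hcd, one_mul, mem_centralizer_iff.1 (hA2 (commutator_mem_commutator hcA hb)) _ hd'.2,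
            mul_inv_cancel_right]
    exact mul_inv_eq_iff_eq_mul.1 h1
  -- the subnormal subgroup `L B`
  set L := centralizer (Z : Set G) with hL
  haveI : L.Normal := inferInstance
  haveI := chiefKernel_normal Z
  set J := L ⊔ B with hJ
  have hLK : L ≤ chiefKernel Z := fun l hl U' V' hc hU' u hu => by
    haveI := hc.2.2.1
    rw [commutatorElement_eq_one_iff_mul_comm.2 (mem_centralizer_iff.1 hl u (hU' hu))]
    exact V'.one_mem
  have hZp : IsPGroup p Z := (CfsgLib.Solvable.pCore_isPGroup p).to_le (inf_le_left.trans hAT)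
  have hKp : IsPGroup p ((chiefKernel Z).map (QuotientGroup.mk' L)) := by
    rintro ⟨_, k, hk, rfl⟩
    obtain ⟨a, b, hb, hm⟩ := Nat.exists_eq_pow_mul_and_not_dvd (orderOf_pos k).ne' p hp.out.ne_one
    refine ⟨a, Subtype.ext ?_⟩
    show (QuotientGroup.mk' L k) ^ p ^ a = 1
    rw [← map_pow]
    refine (QuotientGroup.eq_one_iff _).2 (mem_centralizer_of_mem_chiefKernel hZp (pow_mem hk _) ?_)
    rw [orderOf_pow' k (pow_ne_zero _ hp.out.ne_zero), hm, Nat.gcd_eq_right (dvd_mul_right _ b),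
      Nat.mul_div_cancel_left _ (pow_pos hp.out.pos a)]
    exact (hp.out.coprime_iff_not_dvd.2 hb).symm
  have hLR : L ≤ normalizer (R : Set G) := by
    have key : ∀ l ∈ L, ∀ a ∈ R, l * a * l⁻¹ ∈ R := by
      refine fun l hl a ha => ⟨Normal.conj_mem inferInstance a ha.1 l, fun b hb => ?_⟩
      rw [show ⁅l * a * l⁻¹, b⁆ = l * ⁅a, l⁻¹ * b * l⁻¹⁻¹⁆ * l⁻¹ by simp only [commutatorElement_def]; group]
      have hb' := Normal.conj_mem (inferInstance : A.Normal) b hb l⁻¹
      rw [← mem_centralizer_iff.1 hl _ (hA' (commutator_mem_commutator ha.1 hb')), mul_inv_cancel_right]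
      exact ha.2 _ hb'
    exact fun l hl => mem_normalizer_iff.2 fun a => ⟨key l hl a, fun h => by
      simpa [mul_assoc] using key l⁻¹ (L.inv_mem hl) _ h⟩
  -- work in `G ⧸ V`
  obtain ⟨hVU, hUn, hVn, hmin⟩ := hUV
  set π := QuotientGroup.mk' V with hπ
  have hπs : Function.Surjective π := QuotientGroup.mk'_surjective V
  haveI hUbn : (U.map π).Normal := Normal.map hUn π hπs
  have hUbne : U.map π ≠ ⊥ := by
    rw [Ne, Subgroup.map_eq_bot_iff, hπ, QuotientGroup.ker_mk']; exact hVU.not_ge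
  have hUbmin : ∀ N : Subgroup (G ⧸ V), N.Normal → N ≤ U.map π → N = ⊥ ∨ N = U.map π := by
    intro N hN hNU
    have h1 : N.comap π ≤ U := by
      refine (comap_mono hNU).trans ?_
      rw [comap_map_eq, hπ, QuotientGroup.ker_mk', sup_eq_left.2 hVU.le]
    rcases hmin _ (hN.comap π) (fun v hv => by
      rw [mem_comap, show π v = 1 from (QuotientGroup.eq_one_iff v).2 hv]; exact N.one_mem) h1 with h | h
    · exact Or.inl (by rw [← map_comap_eq_self_of_surjective hπs N, h, hπ, QuotientGroup.map_mk'_self])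
    · exact Or.inr (by rw [← map_comap_eq_self_of_surjective hπs N, h])
  have hab : ∀ a ∈ U.map π, ∀ b ∈ U.map π, a * b = b * a := by
    rintro _ ⟨a, ha, rfl⟩ _ ⟨b, hb, rfl⟩
    refine commutatorElement_eq_one_iff_mul_comm.1 ?_
    rw [← map_commutatorElement]
    have hUp := (CfsgLib.Solvable.pCore_isPGroup (G := G) p).to_le (hUA.trans hAT)
    exact (QuotientGroup.eq_one_iff _).2
      (commutator_le_of_chief ⟨hVU, hUn, hVn, hmin⟩ hUp hUp (commutator_mem_commutator ha hb))
  haveI : (L.map π).Normal := Normal.map inferInstance π hπs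
  haveI : ((chiefKernel Z).map π).Normal := Normal.map inferInstance π hπs
  have hgen : GenByAtoms (J.map π) (U.map π) := by
    refine (genByAtoms_top hUbne hUbmin).of_pGroup_quotient (p := p) (map_mono hLK) ?_ (J.map π)
      (map_mono le_sup_left) (map_mono (sup_le hLK hker))
    have h1 := hKp.map (QuotientGroup.map L (L.map π) π (le_comap_map π L))
    rwa [Subgroup.map_map, show (QuotientGroup.map L (L.map π) π (le_comap_map π L)).comp
      (QuotientGroup.mk' L) = (QuotientGroup.mk' (L.map π)).comp π from rfl, ← Subgroup.map_map] at h1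
  obtain ⟨N, hNU, hNinv, hMN, hMNsup⟩ := hgen.exists_complement hab
    (M := (U ⊓ R).map π) (map_mono inf_le_left) (by
      have hJn : J ≤ normalizer ((U ⊓ R : Subgroup G) : Set G) :=
        (le_inf ((normalizer_eq_top_iff.2 hUn).ge.trans' le_top) (sup_le hLR hBR)).trans
          inf_normalizer_le_normalizer_inf
      exact (map_mono hJn).trans (le_normalizer_map π))
  set K := (zpowers g).map π with hK
  have hKg : zpowers g ≤ B := zpowers_le.2 hg
  have hKJ : K ≤ J.map π := map_mono (hKg.trans le_sup_right)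
  rw [← QuotientGroup.ker_mk' V, ← hπ, ← Subgroup.map_eq_bot_iff, Subgroup.map_commutator,
    Subgroup.map_commutator, ← hK, eq_bot_iff, ← hMNsup]
  have hMU : (U ⊓ R).map π ≤ U.map π := map_mono inf_le_left
  refine (commutator_mono (commutator_sup_le_of_abelian hab hMU hNU) le_rfl).trans ?_
  have hKM : ⁅(U ⊓ R).map π, K⁆ ≤ U.map π :=
    (commutator_mono hMU le_rfl).trans (commutator_le_left _ _)
  have hKN : ⁅N, K⁆ ≤ N := le_normalizer_iff_commutator_le_left.1 (hKJ.trans hNinv)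
  refine (commutator_sup_le_of_abelian hab hKM (hKN.trans hNU)).trans (sup_le ?_ ?_)
  · rw [← Subgroup.map_commutator, ← Subgroup.map_commutator, le_bot_iff, Subgroup.map_eq_bot_iff]
    refine le_trans ?_ bot_le
    rw [← hquadR]
    exact commutator_mono (commutator_mono inf_le_right hKg) hKg
  · rw [← hMN]
    refine le_inf ?_ ((commutator_mono hKN le_rfl).trans hKN)
    refine (commutator_mono (commutator_mono hNU le_rfl) le_rfl).trans ?_
    rw [hK, ← Subgroup.map_commutator, ← Subgroup.map_commutator]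
    refine map_mono (le_inf ((commutator_mono (commutator_le_left _ _) le_rfl).trans (commutator_le_left _ _)) ?_)
    exact (commutator_mono (commutator_mono hUA hKg) hKg).trans hABB

end CfsgLib.PLocal
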