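import Cfsg.Agent.Lib.PLocal.KInfinityLocal

/-!
# Glauberman: cubic elements on a critical subgroup
-/

namespace CfsgLib.PLocal

open Subgroup
open scoped commutatorElement

universe u

variable {p : ℕ} [hp : Fact p.Prime] {G : Type u} [Group G] [Finite G]

/-- If all terms of the K-sequence of `S` lie in `O_p(G)`, both K-infinity subgroups are normal. -/
theorem kInf_normal_of_terms_le (S : Sylow p G)
    (h : ∀ n, (Cfsg.kSeqEven (S : Subgroup G) n).map (S : Subgroup G).subtype ≤ Cfsg.pCore p G ∧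
      (Cfsg.kSeqOdd (S : Subgroup G) (n + 1)).map (S : Subgroup G).subtype ≤ Cfsg.pCore p G) :
    (Cfsg.inducedFunctor Cfsg.kInfLower (S : Subgroup G)).Normal ∧
      (Cfsg.inducedFunctor Cfsg.kInfUpper (S : Subgroup G)).Normal := by
  haveI := Cfsg.pCore_normal p G
  set T := Cfsg.pCore p G with hT
  set S' : Subgroup G := (S : Subgroup G) with hS'
  have hTS : T ≤ S' := CfsgLib.Solvable.pCore_le_sylow S
  have hr := map_kInf_of_range_ge (f := Subgroup.inclusion hTS) (Subgroup.inclusion_injective hTS)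
    (fun n => by
      rw [Subgroup.inclusion_range]
      exact ⟨fun x hx => (h n).1 (mem_map_of_mem _ hx), fun x hx => (h n).2 (mem_map_of_mem _ hx)⟩)
  have hnorm : ∀ W : ∀ (Q : Type u) [Group Q], Subgroup Q, Cfsg.IsCharPFunctor.{u} p W →
      (Cfsg.inducedFunctor (G := G) W T).Normal := by
    intro W hW
    refine normalizer_eq_top_iff.1 (eq_top_iff.2 fun g _ => mem_normalizer_iff_map_conj_eq.2 ?_)
    have h1 := ((induced_isConjugacyFunctor (G := G) hW) T (CfsgLib.Solvable.pCore_isPGroup p)).2.2 g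
    have hg : T.map (MulAut.conj g).toMonoidHom = T := mem_normalizer_iff_map_conj_eq.1
      (by rw [normalizer_eq_top]; exact mem_top g : g ∈ normalizer (T : Set G))
    rw [hg] at h1
    exact h1.symm
  have e : (S'.subtype).comp (Subgroup.inclusion hTS) = T.subtype := rfl
  constructor
  · have : Cfsg.inducedFunctor Cfsg.kInfLower S' = Cfsg.inducedFunctor (G := G) Cfsg.kInfLower T := by
      show (Cfsg.kInfLower S').map S'.subtype = (Cfsg.kInfLower T).map T.subtype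
      rw [← hr.1, Subgroup.map_map, e]
    rw [this]
    exact hnorm _ kInfLower_isCharPFunctor
  · have : Cfsg.inducedFunctor Cfsg.kInfUpper S' = Cfsg.inducedFunctor (G := G) Cfsg.kInfUpper T := by
      show (Cfsg.kInfUpper S').map S'.subtype = (Cfsg.kInfUpper T).map T.subtype
      rw [← hr.2, Subgroup.map_map, e]
    rw [this]
    exact hnorm _ kInfUpper_isCharPFunctor

theorem exists_cubic_element (S : Sylow p G) {A : Subgroup G} [A.Normal]
    (hAT : A ≤ Cfsg.pCore p G) (hA2 : ⁅A, A⁆ ≤ centralizer (A : Set G))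
    (hA3 : ⁅Cfsg.pCore p G, A⁆ ≤ centreIn A)
    (hA5 : ∀ φ : MulAut ↥(Cfsg.pCore p G), (orderOf φ).Coprime p →
      (∀ a : ↥(Cfsg.pCore p G), (a : G) ∈ A → φ a = a) → φ = 1)
    (hK : ¬ (Cfsg.inducedFunctor Cfsg.kInfLower (S : Subgroup G)).Normal ∨
      ¬ (Cfsg.inducedFunctor Cfsg.kInfUpper (S : Subgroup G)).Normal) :
    ∃ g : G, g ∈ (S : Subgroup G) ∧ g ∉ Cfsg.pCore p G ∧
      Cfsg.iterCommutator A (zpowers g) 3 ≤ centreIn A ∧
      ⁅⁅centreIn A, zpowers g⁆, zpowers g⁆ = ⊥ ∧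
      (centralizer ((Cfsg.pCore p G : Subgroup G) : Set G) ≤ Cfsg.pCore p G →
        ∃ U V : Subgroup G, Cfsg.IsChiefFactor U V ∧ U ≤ A ∧
          ⁅⁅U, zpowers g⁆, zpowers g⁆ ≤ V ∧ ¬ ⁅U, zpowers g⁆ ≤ V) := by
  haveI := Cfsg.pCore_normal p G
  set T := Cfsg.pCore p G with hT
  set S' : Subgroup G := (S : Subgroup G) with hS'
  set Z := centreIn A with hZ
  have hTS : T ≤ S' := CfsgLib.Solvable.pCore_le_sylow S
  have hAS : A ≤ S' := hAT.trans hTS
  have hZA : Z ≤ A := inf_le_left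
  have hZZ : ⁅Z, Z⁆ = ⊥ := commutator_eq_bot_iff_le_centralizer.2
    (inf_le_right.trans (centralizer_le (SetLike.coe_subset_coe.2 hZA)))
  -- assembling the conclusion
  have fin : ∀ g : G, g ∈ S' → g ∉ T → Cfsg.iterCommutator A (zpowers g) 3 ≤ Z →
      ⁅⁅Z, zpowers g⁆, zpowers g⁆ = ⊥ →
      ((∀ U V, Cfsg.IsChiefFactor U V → U ≤ A → ⁅⁅U, zpowers g⁆, zpowers g⁆ ≤ V) ∨
        ∃ U V, Cfsg.IsChiefFactor U V ∧ U ≤ Z ∧ ¬ ⁅U, zpowers g⁆ ≤ V) →
      ∃ g : G, g ∈ S' ∧ g ∉ T ∧ Cfsg.iterCommutator A (zpowers g) 3 ≤ Z ∧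
        ⁅⁅Z, zpowers g⁆, zpowers g⁆ = ⊥ ∧ (centralizer (T : Set G) ≤ T →
          ∃ U V : Subgroup G, Cfsg.IsChiefFactor U V ∧ U ≤ A ∧
            ⁅⁅U, zpowers g⁆, zpowers g⁆ ≤ V ∧ ¬ ⁅U, zpowers g⁆ ≤ V) := by
    intro g hgS hgT h3 h2 hor
    refine ⟨g, hgS, hgT, h3, h2, fun hc => ?_⟩
    rcases hor with hq | ⟨U, V, hUV, hUZ, hne⟩
    · obtain ⟨U, V, hUV, hUA, hne⟩ := exists_moved_chief hAT hA5 hc hgT
      exact ⟨U, V, hUV, hUA, hq U V hUV hUA, hne⟩
    · exact ⟨U, V, hUV, hUZ.trans hZA,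
        (commutator_mono (commutator_mono hUZ le_rfl) le_rfl).trans (h2.le.trans bot_le), hne⟩
  have hiter3 : ∀ {B : Subgroup G}, ⁅⁅A, B⁆, B⁆ ≤ Z → ∀ g ∈ B,
      Cfsg.iterCommutator A (zpowers g) 3 ≤ Z := fun h g hg =>
    (commutator_mono ((commutator_mono (commutator_mono le_rfl (zpowers_le.2 hg))
      (zpowers_le.2 hg)).trans h) le_rfl).trans (commutator_le_left _ _)
  by_cases hlow : A ∈ Cfsg.kLowerStarFamily S'
  swap
  · have : ∃ A₁ ∈ Cfsg.classTwoSubgroups G, A₁ ≤ S' ∧ A ≤ normalizer (A₁ : Set G) ∧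
        ⁅A, ⁅A₁, A₁⁆⁆ = ⊥ ∧ ⁅⁅Z, A₁⁆, A₁⁆ = ⊥ ∧ ¬ ⁅A, A₁⁆ ≤ Z := by
      by_contra hno
      push Not at hno
      exact hlow ⟨hA2, (normalizer_eq_top_iff.2 (inferInstance : A.Normal)).symm ▸ le_top, fun A₁ h1 h2 h3 h4 h5 => hno A₁ h1 h2 h3 h4 h5⟩
    obtain ⟨A₁, h1, hA₁S, hAA₁, h4, h5, hne⟩ := this
    have hA₁T : ¬ A₁ ≤ T := fun h => hne
      ((commutator_mono le_rfl h).trans (by rw [commutator_comm]; exact hA3))
    obtain ⟨g, hg, hgT⟩ := Set.not_subset.1 hA₁T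
    have hAA : ⁅A, A₁⁆ ≤ A₁ := by
      rw [commutator_comm]; exact le_normalizer_iff_commutator_le_left.1 hAA₁
    have hmodZ : ⁅⁅A, A₁⁆, A₁⁆ ≤ Z := le_inf
      ((commutator_mono (commutator_le_left A A₁) le_rfl).trans (commutator_le_left A A₁))
      ((commutator_mono hAA le_rfl).trans (by
        rw [← commutator_eq_bot_iff_le_centralizer, commutator_comm]; exact h4))
    have hKA : zpowers g ≤ A₁ := zpowers_le.2 hg
    have h2 : ⁅⁅Z, zpowers g⁆, zpowers g⁆ = ⊥ :=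
      le_bot_iff.1 ((commutator_mono (commutator_mono le_rfl hKA) hKA).trans h5.le)
    exact fin g (hA₁S hg) hgT (hiter3 hmodZ g hg) h2 (Or.inl fun U V hUV hUA =>
      quadratic_on_chief ((commutator_mono (commutator_mono le_rfl hKA) hKA).trans hmodZ) h2 hUV hUA)
  -- the terms of the K-sequence inside `G`
  let e : ℕ → Subgroup G := fun n => (Cfsg.kSeqEven S' n).map S'.subtype
  let o : ℕ → Subgroup G := fun n => (Cfsg.kSeqOdd S' n).map S'.subtype
  have hoS : ∀ n, o n ≤ S' := fun n => map_subtype_le _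
  have he : ∀ n, e n = sSup {B ∈ Cfsg.kLowerStarFamily (o n) | B ≤ S'} := fun n => by
    have := map_sSup_lower S'.subtype_injective (Cfsg.kSeqOdd S' n)
    rwa [Subgroup.range_subtype] at this
  have ho : ∀ n, o (n + 1) = sSup {B ∈ Cfsg.kUpperStarFamily (e n) | B ≤ S'} := fun n => by
    have := map_sSup_upper S'.subtype_injective (sSup (Cfsg.kLowerStarFamily (Cfsg.kSeqOdd S' n)))
    rwa [Subgroup.range_subtype] at this
  have hAe : ∀ n, A ≤ e n := fun n => by
    rw [he n]; exact le_sSup ⟨kLowerStarFamily_anti (hoS n) hlow, hAS⟩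
  have hex : ∃ n, ¬ (e n ≤ T ∧ o (n + 1) ≤ T) := by
    by_contra hno
    push Not at hno
    obtain ⟨hl, hu⟩ := kInf_normal_of_terms_le S hno
    rcases hK with hK | hK
    · exact hK hl
    · exact hK hu
  classical
  set n := Nat.find hex with hn
  have hmin : ∀ m < n, e m ≤ T ∧ o (m + 1) ≤ T := fun m hm => not_not.1 (Nat.find_min hex hm)
  by_cases hen : e n ≤ T
  · have hon : ¬ o (n + 1) ≤ T := fun h => Nat.find_spec hex ⟨hen, h⟩
    rw [ho n, sSup_le_iff] at hon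
    push Not at hon
    obtain ⟨B, ⟨hB, hBS⟩, hBT⟩ := hon
    obtain ⟨g, hg, hgT⟩ := Set.not_subset.1 hBT
    have hquad : ⁅⁅A, B⁆, B⁆ = ⊥ := by
      rw [commutator_eq_bot_iff_le_centralizer, commutator_comm]
      exact ((commutator_mono le_rfl (hAe n)).trans hB.2).trans inf_le_right
    have hKB : zpowers g ≤ B := zpowers_le.2 hg
    have hq : ⁅⁅A, zpowers g⁆, zpowers g⁆ ≤ ⊥ :=
      (commutator_mono (commutator_mono le_rfl hKB) hKB).trans hquad.le
    have h2 : ⁅⁅Z, zpowers g⁆, zpowers g⁆ = ⊥ :=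
      le_bot_iff.1 ((commutator_mono (commutator_mono hZA le_rfl) le_rfl).trans hq)
    exact fin g (hBS hg) hgT (hiter3 (hquad.le.trans bot_le) g hg) h2 (Or.inl fun U V hUV hUA =>
      quadratic_on_chief (hq.trans bot_le) h2 hUV hUA)
  · rw [he n, sSup_le_iff] at hen
    push Not at hen
    obtain ⟨B, ⟨hB, hBS⟩, hBT⟩ := hen
    have hAo : A ≤ o n := by
      rcases Nat.eq_zero_or_pos n with h0 | h0
      · rw [h0]
        exact hAS.trans (by simp [o, Cfsg.kSeqOdd, ← MonoidHom.range_eq_map])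
      · obtain ⟨m, hm⟩ := Nat.exists_eq_succ_of_ne_zero h0.ne'
        rw [hm, ho m]
        refine le_sSup ⟨⟨hA2, ?_⟩, hAS⟩
        rw [commutator_comm]
        exact (commutator_mono (hmin m (hm ▸ Nat.lt_succ_self m)).1 le_rfl).trans hA3
    have hAB : ⁅A, B⁆ ≤ B := by
      rw [commutator_comm]; exact le_normalizer_iff_commutator_le_left.1 (hAo.trans hB.2.1)
    have hZB : ⁅⁅Z, B⁆, B⁆ = ⊥ := by
      rw [commutator_eq_bot_iff_le_centralizer, commutator_comm]
      refine (hB.2.2 Z ?_ (hZA.trans hAo) ((normalizer_eq_top_iff.2 (inferInstance : Z.Normal)).symm ▸ le_top) ?_ ?_).trans inf_le_right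
      · show ⁅Z, Z⁆ ≤ _
        rw [hZZ]; exact bot_le
      · rw [hZZ, commutator_bot_right]
      · exact le_bot_iff.1 ((commutator_mono (commutator_le_right _ _) le_rfl).trans hZZ.le)
    have hcub : ⁅⁅⁅A, B⁆, B⁆, B⁆ = ⊥ := by
      refine le_bot_iff.1 ((commutator_mono (commutator_mono hAB le_rfl) le_rfl).trans ?_)
      exact (commutator_eq_bot_iff_le_centralizer.2 hB.1).le
    have h3 : ∀ g ∈ B, Cfsg.iterCommutator A (zpowers g) 3 ≤ Z := fun g hg =>
      ((commutator_mono (commutator_mono (commutator_mono le_rfl (zpowers_le.2 hg))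
        (zpowers_le.2 hg)) (zpowers_le.2 hg)).trans hcub.le).trans bot_le
    have h2 : ∀ g ∈ B, ⁅⁅Z, zpowers g⁆, zpowers g⁆ = ⊥ := fun g hg => le_bot_iff.1
      ((commutator_mono (commutator_mono le_rfl (zpowers_le.2 hg)) (zpowers_le.2 hg)).trans hZB.le)
    by_cases hZBT : centreIn B ≤ T
    · by_cases hker : B ≤ chiefKernel Z
      · obtain ⟨g, hg, hgT⟩ := Set.not_subset.1 hBT
        exact fin g (hBS hg) hgT (h3 g hg) (h2 g hg) (Or.inl fun U V hUV hUA =>
          quadratic_of_lower_member hAT hA2 hA3 hB hAo hZBT hker hUV hUA hg)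
      · obtain ⟨g, hg, hgk⟩ := Set.not_subset.1 hker
        have hTp := CfsgLib.Solvable.pCore_isPGroup (G := G) p
        have hgT : g ∉ T := fun h => hgk (le_chiefKernel (hTp.to_le (hZA.trans hAT)) hTp h)
        have hex2 : ∃ U V, Cfsg.IsChiefFactor U V ∧ U ≤ Z ∧ ¬ ⁅U, zpowers g⁆ ≤ V := by
          by_contra hno
          push Not at hno
          exact hgk (mem_chiefKernel.2 hno)
        exact fin g (hBS hg) hgT (h3 g hg) (h2 g hg) (Or.inr hex2)
    · obtain ⟨g, ⟨hg, hgc⟩, hgT⟩ := Set.not_subset.1 hZBT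
      have hKB : zpowers g ≤ B := zpowers_le.2 hg
      have hq : ⁅⁅A, zpowers g⁆, zpowers g⁆ ≤ ⊥ := by
        refine (commutator_mono ((commutator_mono le_rfl hKB).trans hAB) le_rfl).trans ?_
        rw [le_bot_iff, commutator_comm, commutator_eq_bot_iff_le_centralizer]
        exact zpowers_le.2 hgc
      exact fin g (hBS hg) hgT (h3 g hg) (h2 g hg) (Or.inl fun U V hUV hUA =>
        quadratic_on_chief (hq.trans bot_le) (h2 g hg) hUV hUA)

end CfsgLib.PLocal
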