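import Cfsg.Agent.Lib.PLocal.LargeExtraConj

/-!
The four-group spanned by the central involution and a conjugate of it inside `Q`, and the criterion for
`Q` to normalise no non-trivial subgroup of odd order.
-/

set_option autoImplicit false

namespace CfsgLib.PLocal.LargeExtra

open Subgroup

variable {G : Type*} [Group G]

theorem mem_four {z x : G} (hz : z * z = 1) (hx : x * x = 1) (hc : x * z = z * x) {y : G} :
    y ∈ closure ({z, x} : Set G) ↔ y = 1 ∨ y = z ∨ y = x ∨ y = z * x := by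
  constructor
  · intro hy
    have e1 : ∀ w, z * (z * w) = w := fun w => by rw [← mul_assoc, hz, one_mul]
    have e2 : ∀ w, x * (x * w) = w := fun w => by rw [← mul_assoc, hx, one_mul]
    have e3 : ∀ w, x * (z * w) = z * (x * w) := fun w => by rw [← mul_assoc, hc, mul_assoc]
    induction hy using closure_induction with
    | mem y hy => rcases hy with rfl | rfl <;> simp
    | one => simp
    | mul a b _ _ ha hb =>
      rcases ha with rfl | rfl | rfl | rfl <;> rcases hb with rfl | rfl | rfl | rfl <;>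
        simp [mul_assoc, hz, hx, hc, e1, e2, e3]
    | inv a _ ha =>
      rcases ha with rfl | rfl | rfl | rfl
      · simp
      · simp [inv_eq_of_mul_eq_one_right hz]
      · simp [inv_eq_of_mul_eq_one_right hx]
      · simp [inv_eq_of_mul_eq_one_right hz, inv_eq_of_mul_eq_one_right hx, hc]
  · rintro (rfl | rfl | rfl | rfl)
    · exact one_mem _
    · exact subset_closure (by simp)
    · exact subset_closure (by simp)
    · exact mul_mem (subset_closure (by simp)) (subset_closure (by simp))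

theorem mem_centralizer_four {z x y : G} :
    y ∈ centralizer ((closure ({z, x} : Set G) : Subgroup G) : Set G) ↔
      y * z = z * y ∧ y * x = x * y := by
  rw [centralizer_closure, mem_centralizer_iff]
  refine ⟨fun h => ⟨(h z (by simp)).symm, (h x (by simp)).symm⟩, fun h w hw => ?_⟩
  rcases hw with rfl | rfl
  exacts [h.1.symm, h.2.symm]

/-- A group normalising a four-group and inducing two transpositions on it induces `S₃`. -/
theorem exists_perm_hom {z x : G} (hz : z * z = 1) (hx : x * x = 1) (hc : x * z = z * x)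
    (hz1 : z ≠ 1) (hx1 : x ≠ 1) (hzx : x ≠ z) {N : Subgroup G}
    (hN : N ≤ normalizer ((closure ({z, x} : Set G) : Subgroup G) : Set G))
    {q r : G} (hq : q ∈ N) (hr : r ∈ N) (hqz : q * z * q⁻¹ = z) (hqx : q * x * q⁻¹ = z * x)
    (hrx : r * x * r⁻¹ = x) (hrz : r * z * r⁻¹ = z * x) :
    ∃ φ : ↥N →* Equiv.Perm (Fin 3), Function.Surjective φ ∧
      φ.ker = (centralizer ((closure ({z, x} : Set G) : Subgroup G) : Set G)).subgroupOf N := by
  have hzx1 : z * x ≠ 1 := fun e => hzx (by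
    rw [eq_inv_of_mul_eq_one_right e, inv_eq_of_mul_eq_one_right hz])
  have hn1 : z * x ≠ z := fun e => hx1 (mul_eq_left.1 e)
  have hn2 : z * x ≠ x := fun e => hz1 (mul_eq_right.1 e)
  obtain ⟨e, he⟩ : ∃ e : Fin 3 → G, e = ![z, x, z * x] := ⟨_, rfl⟩
  have hinj : Function.Injective e := by
    intro i j
    fin_cases i <;> fin_cases j <;> simp [he, hzx, hzx.symm, hn1, hn1.symm, hn2, hn2.symm]
  have hmem : ∀ {s : G}, s ∈ Set.range e ↔ s ∈ closure ({z, x} : Set G) ∧ s ≠ 1 := by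
    intro s
    rw [mem_four hz hx hc]
    constructor
    · rintro ⟨i, rfl⟩
      fin_cases i <;> simp [he, hz1, hx1, hzx1]
    · rintro ⟨rfl | rfl | rfl | rfl, h1⟩
      · exact absurd rfl h1
      · exact ⟨0, by simp [he]⟩
      · exact ⟨1, by simp [he]⟩
      · exact ⟨2, by simp [he]⟩
  have hact : ∀ (n : ↥N) (s : G), s ∈ Set.range e → (n : G) * s * (n : G)⁻¹ ∈ Set.range e := by
    intro n s hs
    rw [hmem] at hs ⊢
    exact ⟨(mem_normalizer_iff.1 (hN n.2) s).1 hs.1, fun e' => hs.2 (conj_eq_one_iff.1 e')⟩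
  have hact' : ∀ (n : ↥N) (s : G), s ∈ Set.range e → (n : G)⁻¹ * s * (n : G) ∈ Set.range e := by
    intro n s hs
    simpa using hact n⁻¹ s hs
  let ψ : ↥N →* Equiv.Perm (Set.range e) :=
    { toFun := fun n =>
        { toFun := fun s => ⟨_, hact n s s.2⟩
          invFun := fun s => ⟨_, hact' n s s.2⟩
          left_inv := fun s => Subtype.ext (by simp [mul_assoc])
          right_inv := fun s => Subtype.ext (by simp [mul_assoc]) }
      map_one' := Equiv.ext fun s => Subtype.ext (by simp)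
      map_mul' := fun a b => Equiv.ext fun s => Subtype.ext (by simp [mul_assoc]) }
  let φ : ↥N →* Equiv.Perm (Fin 3) :=
    ((Equiv.ofInjective e hinj).symm.permCongrHom).toMonoidHom.comp ψ
  have hφ : ∀ (n : ↥N) (i : Fin 3), e (φ n i) = (n : G) * e i * (n : G)⁻¹ := by
    intro n i
    simp [φ, ψ, Equiv.apply_ofInjective_symm]
  refine ⟨φ, ?_, ?_⟩
  · have hsq : φ ⟨q, hq⟩ = Equiv.swap 1 2 := Equiv.ext fun i => hinj (by
      rw [hφ]
      have h3 : q * (z * x) * q⁻¹ = x := by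
        rw [show q * (z * x) * q⁻¹ = q * z * q⁻¹ * (q * x * q⁻¹) by group, hqz, hqx, ← mul_assoc,
          hz, one_mul]
      fin_cases i <;> simp [he, hqz, hqx, h3, Equiv.swap_apply_def])
    have hsr : φ ⟨r, hr⟩ = Equiv.swap 0 2 := Equiv.ext fun i => hinj (by
      rw [hφ]
      have h3 : r * (z * x) * r⁻¹ = z := by
        rw [show r * (z * x) * r⁻¹ = r * z * r⁻¹ * (r * x * r⁻¹) by group, hrz, hrx, mul_assoc,
          hx, mul_one]
      fin_cases i <;> simp [he, hrz, hrx, h3, Equiv.swap_apply_def])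
    intro σ
    have key : ∀ σ : Equiv.Perm (Fin 3), σ = 1 ∨ σ = Equiv.swap 1 2 ∨ σ = Equiv.swap 0 2 ∨
        σ = Equiv.swap 1 2 * Equiv.swap 0 2 ∨ σ = Equiv.swap 0 2 * Equiv.swap 1 2 ∨
        σ = Equiv.swap 1 2 * Equiv.swap 0 2 * Equiv.swap 1 2 := by decide
    rcases key σ with rfl | rfl | rfl | rfl | rfl | rfl
    · exact ⟨1, map_one _⟩
    · exact ⟨_, hsq⟩
    · exact ⟨_, hsr⟩
    · exact ⟨⟨q, hq⟩ * ⟨r, hr⟩, by rw [map_mul, hsq, hsr]⟩
    · exact ⟨⟨r, hr⟩ * ⟨q, hq⟩, by rw [map_mul, hsq, hsr]⟩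
    · exact ⟨⟨q, hq⟩ * ⟨r, hr⟩ * ⟨q, hq⟩, by rw [map_mul, map_mul, hsq, hsr]⟩
  · ext n
    rw [MonoidHom.mem_ker, mem_subgroupOf, mem_centralizer_four]
    constructor
    · intro h1
      have h0 := hφ n 0
      have h2 := hφ n 1
      rw [h1] at h0 h2
      simp [he] at h0 h2
      exact ⟨(mul_inv_eq_iff_eq_mul.1 h0.symm), (mul_inv_eq_iff_eq_mul.1 h2.symm)⟩
    · rintro ⟨h0, h2⟩
      refine Equiv.ext fun i => hinj ?_
      rw [hφ]
      have a0 : (n : G) * z * (n : G)⁻¹ = z := mul_inv_eq_iff_eq_mul.2 h0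
      have a2 : (n : G) * x * (n : G)⁻¹ = x := mul_inv_eq_iff_eq_mul.2 h2
      have a3 : (n : G) * (z * x) * (n : G)⁻¹ = z * x := by
        rw [show (n : G) * (z * x) * (n : G)⁻¹ = (n : G) * z * (n : G)⁻¹ * ((n : G) * x * (n : G)⁻¹)
          by group, a0, a2]
      fin_cases i <;> simp [he, a0, a2, a3]

variable [Finite G]

/-- An involution with no fixed point inverts a finite group it normalises. -/
theorem invert_of_free {K : Subgroup G} {u : G} (hu : u * u = 1)
    (hn : ∀ k ∈ K, u * k * u⁻¹ ∈ K) (hfree : ∀ k ∈ K, u * k = k * u → k = 1) :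
    ∀ k ∈ K, u * k * u⁻¹ = k⁻¹ := by
  have hu' : u⁻¹ = u := inv_eq_of_mul_eq_one_right hu
  let f : ↥K → ↥K := fun k => ⟨(k : G)⁻¹ * (u * k * u⁻¹), mul_mem (inv_mem k.2) (hn k k.2)⟩
  have hf : Function.Injective f := by
    intro a b e
    have e' : (a : G)⁻¹ * (u * a * u⁻¹) = (b : G)⁻¹ * (u * b * u⁻¹) := congrArg Subtype.val e
    refine Subtype.ext (mul_inv_eq_one.1 (?_ : (b : G) * (a : G)⁻¹ = 1)).symm
    refine hfree _ (mul_mem b.2 (inv_mem a.2)) ?_
    calc u * ((b : G) * (a : G)⁻¹)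
        = (b : G) * ((b : G)⁻¹ * (u * b * u⁻¹)) * ((a : G) * ((a : G)⁻¹ * (u * a * u⁻¹)))⁻¹ * u := by
          group
      _ = (b : G) * (a : G)⁻¹ * u := by rw [e']; group
  intro y hy
  obtain ⟨k, hk⟩ := Finite.surjective_of_injective hf ⟨y, hy⟩
  have hk' : (k : G)⁻¹ * (u * k * u⁻¹) = y := congrArg Subtype.val hk
  rw [← hk', show u * ((k : G)⁻¹ * (u * k * u⁻¹)) * u⁻¹ = u * (k : G)⁻¹ * u * k * (u⁻¹ * u⁻¹) by group,
    hu', hu, mul_one]
  simp [mul_assoc, hu']

namespace Pack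

variable {Q : Subgroup G} {z : G} (h : Pack Q z)
include h

/-- If some involution `b` of `Q` has `z` in a normal 2-subgroup of its centraliser, `Q` normalises
no non-trivial odd order subgroup. -/
theorem odd_normalized_eq_bot {b : G} (hb : b ∈ Q) (hb1 : b ≠ 1) (hbz : b ≠ z) (hb2 : b * b = 1)
    {N : Subgroup G} (hN : IsPGroup 2 N) (hzN : z ∈ N)
    (hbN : centralizer ({b} : Set G) ≤ normalizer (N : Set G))
    {K : Subgroup G} (hK : Odd (Nat.card K)) (hQK : Q ≤ normalizer (K : Set G)) : K = ⊥ := by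
  have : Fact (Nat.Prime 2) := ⟨Nat.prime_two⟩
  have hdisj : ∀ {M : Subgroup G}, IsPGroup 2 M → ∀ y ∈ K, y ∈ M → y = 1 := by
    intro M hM y hyK hyM
    obtain ⟨n, hn⟩ := hM ⟨y, hyM⟩
    rw [← orderOf_eq_one_iff]
    have h1 : orderOf y ∣ 2 ^ n := orderOf_dvd_of_pow_eq_one (congrArg Subtype.val hn)
    have h2 : orderOf y ∣ Nat.card K :=
      Subgroup.orderOf_mk y hyK ▸ orderOf_dvd_natCard (⟨y, hyK⟩ : ↥K)
    have hco : Nat.Coprime (2 ^ n) (Nat.card K) :=
      Nat.Coprime.pow_left _ (Nat.prime_two.coprime_iff_not_dvd.2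
        fun e => Nat.not_even_iff_odd.2 hK (even_iff_two_dvd.2 e))
    exact Nat.eq_one_of_dvd_coprimes hco h1 h2
  have hn : ∀ {q}, q ∈ Q → ∀ k ∈ K, q * k * q⁻¹ ∈ K := fun hq k hk =>
    (mem_normalizer_iff.1 (hQK hq) k).1 hk
  have hfz : ∀ k ∈ K, z * k = k * z → k = 1 := by
    intro k hk hkz
    have hkQ := h.norm (mem_centralizer_singleton_iff.2 hkz.symm)
    refine hdisj h.ext.1.1 k hk (h.cent (mem_centralizer_iff.2 fun q hq => ?_))
    have h1 : q * k * q⁻¹ * k⁻¹ ∈ Q := by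
      rw [show q * k * q⁻¹ * k⁻¹ = q * (k * q⁻¹ * k⁻¹) by group]
      exact mul_mem hq ((mem_normalizer_iff.1 hkQ _).1 (inv_mem hq))
    exact mul_inv_eq_iff_eq_mul.1
      (mul_inv_eq_one.1 (hdisj h.ext.1.1 _ (mul_mem (hn hq k hk) (inv_mem hk)) h1))
  have hfb : ∀ k ∈ K, b * k = k * b → k = 1 := by
    intro k hk hkb
    refine hfz k hk ?_
    have h1 : z * k * z⁻¹ * k⁻¹ ∈ N := by
      rw [show z * k * z⁻¹ * k⁻¹ = z * (k * z⁻¹ * k⁻¹) by group]
      exact mul_mem hzN
        ((mem_normalizer_iff.1 (hbN (mem_centralizer_singleton_iff.2 hkb.symm)) _).1 (inv_mem hzN))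
    exact mul_inv_eq_iff_eq_mul.1
      (mul_inv_eq_one.1 (hdisj hN _ (mul_mem (hn h.mem k hk) (inv_mem hk)) h1))
  obtain ⟨q, hq, hqb⟩ : ∃ q ∈ Q, q * b ≠ b * q := by
    by_contra hh
    push Not at hh
    rcases h.eq_of_central hb fun c hc => (hh c hc).symm with e | e
    exacts [hb1 e, hbz e]
  have hqe := h.conj_of_not_commute hq hb hqb
  have iz := invert_of_free h.z_mul_z (hn h.mem) hfz
  have ib := invert_of_free hb2 (hn hb) hfb
  refine (eq_bot_iff_forall _).2 fun k hk => ?_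
  have hfix : z * b * k = k * (z * b) := by
    refine mul_inv_eq_iff_eq_mul.1 ?_
    calc z * b * k * (z * b)⁻¹ = z * (b * k * b⁻¹) * z⁻¹ := by group
      _ = k := by rw [ib k hk, iz _ (inv_mem hk), inv_inv]
  have hk' : q⁻¹ * k * q ∈ K := by simpa using hn (inv_mem hq) k hk
  have := hfb _ hk' (by
    calc b * (q⁻¹ * k * q) = q⁻¹ * ((q * b * q⁻¹) * k) * q := by group
      _ = q⁻¹ * (k * (q * b * q⁻¹)) * q := by rw [hqe, hfix]
      _ = q⁻¹ * k * q * b := by group)
  calc k = q * (q⁻¹ * k * q) * q⁻¹ := by group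
    _ = 1 := by rw [this]; group

end Pack

theorem pack_of_hyps {Q : Subgroup G} (hL1 : Cfsg.IsExtraspecial 2 ↥Q)
    (hL2 : centralizer (Q : Set G) = (center ↥Q).map Q.subtype)
    (hL3 : centralizer (((center ↥Q).map Q.subtype) : Set G) ≤ normalizer (Q : Set G)) :
    ∃ z, Pack Q z := by
  obtain ⟨z, hz, -, -, hZ⟩ := Trans3.exists_centre_gen hL1
  refine ⟨z, hL1, hz, hZ, hL2 ▸ map_subtype_le _, ?_⟩
  rw [hZ, Trans3.centralizer_zpowers] at hL3
  exact hL3

end CfsgLib.PLocal.LargeExtra
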