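import Cfsg.Agent.Lib.PLocal.LargeExtraPairCore
import Cfsg.Agent.Lib.Comp.Local
import Cfsg.Agent.Lib.Solvable.MinNormal
import Cfsg.Agent.Lib.Recog.Conjugates

/-!
Normal subgroups of a group with a large extraspecial subgroup: every non-trivial one contains the
central involution; the generalized Fitting subgroup.
-/

set_option autoImplicit false

namespace CfsgLib.PLocal.LargeExtra

open Subgroup
open scoped commutatorElement

variable {G : Type*} [Group G] [Finite G] {Q : Subgroup G} {z : G}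

/-- A non-trivial subgroup normalised by a large `Q` contains the central involution. -/
theorem Pack.mem_of_normalized (h : Pack Q z) (hQ : Cfsg.IsLargeExtraspecial Q) {K : Subgroup G}
    (hQK : Q ≤ normalizer (K : Set G)) (hK : K ≠ ⊥) : z ∈ K := by
  have : Fact (Nat.Prime 2) := ⟨Nat.prime_two⟩
  have h2 : 2 ∣ Nat.card K := by
    rcases Nat.even_or_odd (Nat.card K) with e | e
    · exact even_iff_two_dvd.1 e
    · exact absurd (hQ.2.2.2 K e hQK) hK
  let act : MulAction ↥Q ↥K :=
    { smul := fun q k => ⟨q * k * (q : G)⁻¹, (mem_normalizer_iff.1 (hQK q.2) k).1 k.2⟩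
      one_smul := fun k => Subtype.ext (show ((1 : ↥Q) : G) * k * ((1 : ↥Q) : G)⁻¹ = k by simp)
      mul_smul := fun a b k => Subtype.ext
        (show ((a * b : ↥Q) : G) * k * ((a * b : ↥Q) : G)⁻¹ =
          a * ((b : G) * k * (b : G)⁻¹) * (a : G)⁻¹ by push_cast; group) }
  obtain ⟨b, hb, hne⟩ := h.ext.1.1.exists_fixed_point_of_prime_dvd_card_of_fixed_point ↥K h2
    (a := 1) fun q => Subtype.ext (show (q : G) * (1 : G) * (q : G)⁻¹ = 1 by simp)
  have hbc : (b : G) ∈ centralizer (Q : Set G) := mem_centralizer_iff.2 fun q hq => by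
    have e : q * (b : G) * q⁻¹ = b := congrArg Subtype.val (hb ⟨q, hq⟩)
    exact mul_inv_eq_iff_eq_mul.1 e
  have hbQ := h.cent hbc
  rcases h.eq_of_central hbQ fun q hq => (mem_centralizer_iff.1 hbc q hq).symm with e | e
  · exact absurd (Subtype.ext e.symm : (1 : ↥K) = b) hne
  · exact e ▸ b.2

theorem Pack.normalClosure_le (h : Pack Q z) (hQ : Cfsg.IsLargeExtraspecial Q) {N : Subgroup G}
    [N.Normal] (hN : N ≠ ⊥) : normalClosure ({z} : Set G) ≤ N :=
  normalClosure_le_normal (Set.singleton_subset_iff.2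
    (h.mem_of_normalized hQ ((normalizer_eq_top_iff.2 ‹_›).symm ▸ le_top) hN))

theorem Pack.two_core_case (h : Pack Q z) (hQ : Cfsg.IsLargeExtraspecial Q)
    (hP : Cfsg.pCore 2 G ≠ ⊥) :
    IsMulCommutative ↥(normalClosure ({z} : Set G)) ∧
      Cfsg.generalizedFittingSubgroup G = Cfsg.pCore 2 G := by
  have : Fact (Nat.Prime 2) := ⟨Nat.prime_two⟩
  have hPn : (Cfsg.pCore 2 G).Normal := Amalgam.normal_pCore
  have hPg : IsPGroup 2 ↥(Cfsg.pCore 2 G) := Amalgam.isPGroup_pCore
  have : Nontrivial ↥(Cfsg.pCore 2 G) := (Subgroup.nontrivial_iff_ne_bot _).2 hP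
  have hc : (center ↥(Cfsg.pCore 2 G)).map (Cfsg.pCore 2 G).subtype ≠ ⊥ := by
    have := hPg.center_nontrivial
    rw [ne_eq, Subgroup.map_eq_bot_iff_of_injective _ (Cfsg.pCore 2 G).subtype_injective]
    exact (Subgroup.nontrivial_iff_ne_bot _).1 this
  have hle := h.normalClosure_le hQ hc
  refine ⟨⟨⟨fun a b => Subtype.ext ?_⟩⟩, (Comp.generalizedFitting_eq_pCore_iff 2 G).2 fun c hc' => ?_⟩
  · obtain ⟨a', ha', ea⟩ := hle a.2
    obtain ⟨b', hb', eb⟩ := hle b.2
    show (a : G) * b = b * a
    rw [← ea, ← eb]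
    exact congrArg Subtype.val (mem_center_iff.1 ha' b').symm
  · have hCn : (centralizer (Cfsg.pCore 2 G : Set G)).Normal := inferInstance
    have hzP : z ∈ Cfsg.pCore 2 G := h.mem_of_normalized hQ ((normalizer_eq_top_iff.2 hPn).symm ▸ le_top) hP
    have hcz : c * z = z * c := (mem_centralizer_iff.1 hc' z hzP).symm
    -- the centraliser normalises `Q` and meets it in a 2-group
    by_contra hcP
    obtain ⟨n, hn⟩ : ∃ n, n = centralizer (Cfsg.pCore 2 G : Set G) := ⟨_, rfl⟩
    have hnz : n ≤ centralizer ({z} : Set G) := fun d hd => by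
      rw [hn] at hd
      exact mem_centralizer_singleton_iff.2 (mem_centralizer_iff.1 hd z hzP).symm
    have hnQ : n ≤ normalizer (Q : Set G) := hnz.trans h.norm
    have hnn : n.Normal := hn ▸ hCn
    have hcomm : ∀ d ∈ n, ∀ q ∈ Q, d * q * d⁻¹ * q⁻¹ ∈ n ⊓ Q := fun d hd q hq => mem_inf.2
      ⟨by rw [show d * q * d⁻¹ * q⁻¹ = d * (q * d⁻¹ * q⁻¹) by group]
          exact mul_mem hd (hnn.conj_mem _ (inv_mem hd) q),
        mul_mem ((mem_normalizer_iff.1 (hnQ hd) q).1 hq) (inv_mem hq)⟩
    -- the odd order elements centralise `Q`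
    have hodd : ∀ d ∈ n, Odd (orderOf d) → d = 1 := by
      intro d hd ho
      have hN : (zpowers d) ≤ normalizer ((n ⊓ Q : Subgroup G) : Set G) := by
        rw [zpowers_le]
        refine mem_normalizer_iff_map_conj_eq.2 (eq_of_le_of_card_ge ?_ (le_of_eq
          (card_map_of_injective (MulEquiv.injective _)).symm))
        rintro _ ⟨y, hy, rfl⟩
        exact ⟨hnn.conj_mem _ hy.1 d, (mem_normalizer_iff.1 (hnQ hd) y).1 hy.2⟩
      have hcopQ : (Nat.card (zpowers d)).Coprime (Nat.card Q) := by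
        obtain ⟨k, hk⟩ := h.ext.1.1.exists_card_eq
        rw [Nat.card_zpowers, hk]
        exact (Nat.Coprime.pow_left k (Nat.prime_two.coprime_iff_not_dvd.2
          fun e => Nat.not_even_iff_odd.2 ho (even_iff_two_dvd.2 e))).symm
      have hdz : d * z = z * d := mem_centralizer_singleton_iff.1 (hnz hd)
      have hdQ : zpowers d ≤ normalizer (Q : Set G) := zpowers_le.2 (hnQ hd)
      have : Group.IsNilpotent ↥Q := h.ext.1.1.isNilpotent
      have h1 : ⁅⁅Q, zpowers d⁆, zpowers d⁆ = ⊥ := by
        rw [eq_bot_iff]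
        have hle : ⁅Q, zpowers d⁆ ≤ n ⊓ Q := Subgroup.commutator_le.2 fun q hq e he => by
          have he' : e ∈ n := zpowers_le.2 hd he
          have := inv_mem (hcomm e he' q hq)
          rw [commutatorElement_def]
          rwa [show (e * q * e⁻¹ * q⁻¹)⁻¹ = q * e * q⁻¹ * e⁻¹ by group] at this
        refine (Subgroup.commutator_mono hle le_rfl).trans (Subgroup.commutator_le.2 fun y hy e he => ?_)
        have hyn : y ∈ centralizer (Cfsg.pCore 2 G : Set G) := hn ▸ hy.1
        -- `n ⊓ Q` is normal abelian inside the 2-core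
        have hI : n ⊓ Q ≤ Cfsg.pCore 2 G := by
          have hIg : IsPGroup 2 ↥(n ⊓ Q) := h.ext.1.1.to_le inf_le_right
          have hIn : (n ⊓ Q).subgroupOf n |>.Normal :=
            (normal_subgroupOf_iff_le_normalizer inf_le_left).2 fun m hm =>
              mem_normalizer_iff_map_conj_eq.2 (eq_of_le_of_card_ge (by
                rintro _ ⟨u, hu, rfl⟩
                exact ⟨hnn.conj_mem _ hu.1 m, (mem_normalizer_iff.1 (hnQ hm) u).1 hu.2⟩)
                (le_of_eq (card_map_of_injective (MulEquiv.injective _)).symm))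
          have := Amalgam.le_pCore hIn (hIg.of_equiv (subgroupOfEquivOfLe inf_le_left).symm)
          intro u hu
          have h1 : (⟨u, hu.1⟩ : ↥n) ∈ Cfsg.pCore 2 ↥n := this hu
          have hchar : ((Cfsg.pCore 2 ↥n).map n.subtype) ≤ Cfsg.pCore 2 G := by
            have := Solvable.pCore_characteristic (G := ↥n) (p := 2)
            exact Amalgam.le_pCore inferInstance (Amalgam.isPGroup_pCore.map _)
          exact hchar ⟨_, h1, rfl⟩
        have hye : y * e = e * y :=
          (mem_centralizer_iff.1 (hn ▸ zpowers_le.2 hd he : e ∈ centralizer (Cfsg.pCore 2 G : Set G))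
            y (hI hy))
        rw [commutatorElement_def, hye]
        simp
      have h2 := Coprime.commutator_eq_bot_of_commutator_commutator hdQ hcopQ (.inr inferInstance) h1
      rw [commutator_eq_bot_iff_le_centralizer] at h2
      have hdC : d ∈ centralizer (Q : Set G) := mem_centralizer_iff.2 fun q hq =>
        (mem_centralizer_iff.1 (h2 hq) d (mem_zpowers d)).symm
      rcases h.eq_of_central (h.cent hdC) fun q hq => (mem_centralizer_iff.1 hdC q hq).symm with
        e | e
      · exact e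
      · rw [e, h.ord] at ho; exact absurd ho (by decide)
    have hng : IsPGroup 2 ↥n := by
      refine IsPGroup.iff_orderOf.2 fun d => ?_
      obtain ⟨k, m, hm, e⟩ := Nat.exists_eq_two_pow_mul_odd (orderOf_pos (d : G)).ne'
      refine ⟨k, ?_⟩
      have h1 : (d : G) ^ 2 ^ k = 1 := hodd _ (pow_mem d.2 _) (by
        rw [orderOf_pow, e, Nat.gcd_mul_right_left, Nat.mul_div_cancel_left _ (by positivity)]
        exact hm)
      have h2 : orderOf (d : G) ∣ 2 ^ k := orderOf_dvd_of_pow_eq_one h1
      rw [← Subgroup.orderOf_coe]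
      refine Nat.dvd_antisymm h2 ⟨m, e⟩
    exact hcP (Amalgam.le_pCore hnn hng (hn ▸ hc'))

end CfsgLib.PLocal.LargeExtra
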