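import Cfsg.Agent.Lib.PLocal.LargeExtraFour

/-!
Two conjugates `Q`, `T` of a self-centralising extraspecial subgroup whose centres lie in one another:
`⟨Q, T⟩` is an extension of a 2-group by `S₃`, and the structure of that 2-group.
-/

set_option autoImplicit false

namespace CfsgLib.PLocal.LargeExtra

open Subgroup

variable {G : Type*} [Group G]

/-- Two conjugate packs whose centres lie in each other. -/
structure Pair (Q T : Subgroup G) (z x : G) : Prop where
  left : Pack Q z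
  right : Pack T x
  xmem : x ∈ Q
  zmem : z ∈ T
  ne : x ≠ z
  isconj : ∃ g : G, T = Q.map (MulAut.conj g).toMonoidHom ∧ x = g * z * g⁻¹

theorem pair_of_conj [Finite G] {Q : Subgroup G} {z g : G} (h : Pack Q z)
    (hne : g * z * g⁻¹ ≠ z) (hx : g * z * g⁻¹ ∈ Q) :
    Pair Q (Q.map (MulAut.conj g).toMonoidHom) z (g * z * g⁻¹) :=
  ⟨h, h.map g, hx, h.mem_conj hx, hne, g, rfl, rfl⟩

namespace Pair

variable {Q T : Subgroup G} {z x : G} (P : Pair Q T z x)
variable [Finite G]
include P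

theorem comm : x * z = z * x := P.left.comm_z P.xmem

theorem hz2 : z * z = 1 := P.left.z_mul_z

theorem hx2 : x * x = 1 := P.right.z_mul_z

theorem conj_mem_left {c : G} (hc : c * z = z * c) {a : G} (ha : a ∈ Q) : c * a * c⁻¹ ∈ Q :=
  (mem_normalizer_iff.1 (P.left.norm (mem_centralizer_singleton_iff.2 hc)) a).1 ha

theorem conj_mem_right {c : G} (hc : c * x = x * c) {a : G} (ha : a ∈ T) : c * a * c⁻¹ ∈ T :=
  (mem_normalizer_iff.1 (P.right.norm (mem_centralizer_singleton_iff.2 hc)) a).1 ha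

theorem zmem_left : z ∈ Q ⊓ centralizer ({x} : Set G) :=
  ⟨P.left.mem, mem_centralizer_singleton_iff.2 P.comm.symm⟩

theorem xmem_right : x ∈ T ⊓ centralizer ({z} : Set G) :=
  ⟨P.right.mem, mem_centralizer_singleton_iff.2 P.comm⟩

theorem exists_movers : ∃ q ∈ Q, ∃ r ∈ T, q * z * q⁻¹ = z ∧ q * x * q⁻¹ = z * x ∧
    r * x * r⁻¹ = x ∧ r * z * r⁻¹ = z * x := by
  obtain ⟨q, hq, hqx⟩ : ∃ q ∈ Q, q * x ≠ x * q := by
    by_contra hn
    push Not at hn
    rcases P.left.eq_of_central P.xmem fun b hb => (hn b hb).symm with e | e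
    exacts [P.right.z_ne e, P.ne e]
  obtain ⟨r, hr, hrz⟩ : ∃ r ∈ T, r * z ≠ z * r := by
    by_contra hn
    push Not at hn
    rcases P.right.eq_of_central P.zmem fun b hb => (hn b hb).symm with e | e
    exacts [P.left.z_ne e, P.ne e.symm]
  exact ⟨q, hq, r, hr, mul_inv_eq_iff_eq_mul.2 (P.left.comm_z hq),
    P.left.conj_of_not_commute hq P.xmem hqx, mul_inv_eq_iff_eq_mul.2 (P.right.comm_z hr),
    (P.right.conj_of_not_commute hr P.zmem hrz).trans P.comm⟩

/-- The 2-group generated by the centralisers of the other centres. -/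
theorem mem_rad {y : G}
    (hy : y ∈ (T ⊓ centralizer ({z} : Set G)) ⊔ (Q ⊓ centralizer ({x} : Set G))) :
    ∃ b ∈ T ⊓ centralizer ({z} : Set G), ∃ a ∈ Q ⊓ centralizer ({x} : Set G), b * a = y := by
  have hle : T ⊓ centralizer ({z} : Set G) ≤
      normalizer ((Q ⊓ centralizer ({x} : Set G) : Subgroup G) : Set G) := by
    intro c hc
    have hcz := mem_centralizer_singleton_iff.1 hc.2
    have hcx := P.right.comm_z hc.1
    refine mem_normalizer_iff_map_conj_eq.2 (eq_of_le_of_card_ge ?_ (le_of_eq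
      (card_map_of_injective (MulEquiv.injective _)).symm))
    rintro _ ⟨a, ⟨ha, hax⟩, rfl⟩
    refine ⟨P.conj_mem_left hcz ha, mem_centralizer_singleton_iff.2 ?_⟩
    show c * a * c⁻¹ * x = x * (c * a * c⁻¹)
    have hcx' : c⁻¹ * x = x * c⁻¹ := ((show Commute c x from hcx).inv_left).eq
    rw [mul_assoc _ c⁻¹, hcx', ← mul_assoc, mul_assoc c a,
      mem_centralizer_singleton_iff.1 hax, ← mul_assoc, hcx]
    simp [mul_assoc]
  have := coe_mul_of_left_le_normalizer_right _ _ hle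
  have hy' : y ∈ (((T ⊓ centralizer ({z} : Set G)) ⊔ (Q ⊓ centralizer ({x} : Set G)) :
    Subgroup G) : Set G) := hy
  rw [this] at hy'
  obtain ⟨b, hb, a, ha, e⟩ := Set.mem_mul.1 hy'
  exact ⟨b, hb, a, ha, e⟩

theorem rad_le : (T ⊓ centralizer ({z} : Set G)) ⊔ (Q ⊓ centralizer ({x} : Set G)) ≤
    (Q ⊔ T) ⊓ centralizer ((closure ({z, x} : Set G) : Subgroup G) : Set G) :=
  sup_le (fun _ hb => ⟨mem_sup_right hb.1, mem_centralizer_four.2
      ⟨mem_centralizer_singleton_iff.1 hb.2, P.right.comm_z hb.1⟩⟩)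
    (fun _ ha => ⟨mem_sup_left ha.1, mem_centralizer_four.2
      ⟨P.left.comm_z ha.1, mem_centralizer_singleton_iff.1 ha.2⟩⟩)

/-- Both subgroups normalise that 2-group. -/
theorem le_normalizer_rad : Q ⊔ T ≤ normalizer (((T ⊓ centralizer ({z} : Set G)) ⊔
    (Q ⊓ centralizer ({x} : Set G)) : Subgroup G) : Set G) := by
  obtain ⟨R, hR⟩ : ∃ R, R = (T ⊓ centralizer ({z} : Set G)) ⊔ (Q ⊓ centralizer ({x} : Set G)) :=
    ⟨_, rfl⟩
  rw [← hR]
  have hgen : ∀ q : G, (∀ y ∈ T ⊓ centralizer ({z} : Set G), q * y * q⁻¹ ∈ R) →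
      (∀ y ∈ Q ⊓ centralizer ({x} : Set G), q * y * q⁻¹ ∈ R) → q ∈ normalizer (R : Set G) := by
    intro q h1 h2
    refine mem_normalizer_iff_map_conj_eq.2 (eq_of_le_of_card_ge ?_ (le_of_eq
      (card_map_of_injective (MulEquiv.injective _)).symm))
    conv_lhs => rw [hR]
    rw [Subgroup.map_sup]
    refine sup_le ?_ ?_ <;> rintro _ ⟨y, hy, rfl⟩
    exacts [h1 y hy, h2 y hy]
  refine sup_le (fun q hq => hgen q ?_ ?_) (fun r hr => hgen r ?_ ?_)
  · intro b hb
    have hbz := mem_centralizer_singleton_iff.1 hb.2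
    have hc : q * b * q⁻¹ * b⁻¹ ∈ Q ⊓ centralizer ({x} : Set G) := by
      constructor
      · rw [show q * b * q⁻¹ * b⁻¹ = q * (b * q⁻¹ * b⁻¹) by group]
        exact mul_mem hq (P.conj_mem_left hbz (inv_mem hq))
      · refine mem_centralizer_singleton_iff.2 ?_
        have hbx : b * x = x * b := P.right.comm_z hb.1
        obtain ⟨c, hc, hcx, hqc⟩ : ∃ c, b * c = c * b ∧ c * x = x * c ∧ q⁻¹ * x * q = c * x := by
          rcases P.left.conj_cases (inv_mem hq) P.xmem with e | e <;> rw [inv_inv] at e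
          · exact ⟨1, by simp, by simp, by rw [e, one_mul]⟩
          · exact ⟨z, hbz, P.comm.symm, e⟩
        have h3 : b⁻¹ * x = x * b⁻¹ := ((show Commute b x from hbx).inv_left).eq
        have h4 : b * (c * x) = c * x * b := by rw [← mul_assoc, hc, mul_assoc, hbx, mul_assoc]
        calc q * b * q⁻¹ * b⁻¹ * x = q * b * q⁻¹ * (x * b⁻¹) := by rw [mul_assoc _ b⁻¹, h3]
          _ = q * (b * (q⁻¹ * x * q)) * q⁻¹ * b⁻¹ := by group
          _ = q * (q⁻¹ * x * q * b) * q⁻¹ * b⁻¹ := by rw [hqc, h4]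
          _ = x * (q * b * q⁻¹ * b⁻¹) := by group
    rw [hR, show q * b * q⁻¹ = q * b * q⁻¹ * b⁻¹ * b by group]
    exact mul_mem (mem_sup_right hc) (mem_sup_left hb)
  · intro a ha
    rw [hR]
    rcases P.left.conj_cases hq ha.1 with e | e <;> rw [e]
    · exact mem_sup_right ha
    · exact mem_sup_right (mul_mem P.zmem_left ha)
  · intro b hb
    rw [hR]
    rcases P.right.conj_cases hr hb.1 with e | e <;> rw [e]
    · exact mem_sup_left hb
    · exact mem_sup_left (mul_mem P.xmem_right hb)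
  · intro a ha
    have hax := mem_centralizer_singleton_iff.1 ha.2
    have hc : r * a * r⁻¹ * a⁻¹ ∈ T ⊓ centralizer ({z} : Set G) := by
      constructor
      · rw [show r * a * r⁻¹ * a⁻¹ = r * (a * r⁻¹ * a⁻¹) by group]
        exact mul_mem hr (P.conj_mem_right hax (inv_mem hr))
      · refine mem_centralizer_singleton_iff.2 ?_
        have haz : a * z = z * a := P.left.comm_z ha.1
        obtain ⟨c, hc, hrc⟩ : ∃ c, a * c = c * a ∧ r⁻¹ * z * r = c * z := by
          rcases P.right.conj_cases (inv_mem hr) P.zmem with e | e <;> rw [inv_inv] at e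
          · exact ⟨1, by simp, by rw [e, one_mul]⟩
          · exact ⟨x, hax, e⟩
        have h3 : a⁻¹ * z = z * a⁻¹ := ((show Commute a z from haz).inv_left).eq
        have h4 : a * (c * z) = c * z * a := by rw [← mul_assoc, hc, mul_assoc, haz, mul_assoc]
        calc r * a * r⁻¹ * a⁻¹ * z = r * a * r⁻¹ * (z * a⁻¹) := by rw [mul_assoc _ a⁻¹, h3]
          _ = r * (a * (r⁻¹ * z * r)) * r⁻¹ * a⁻¹ := by group
          _ = r * (r⁻¹ * z * r * a) * r⁻¹ * a⁻¹ := by rw [hrc, h4]
          _ = z * (r * a * r⁻¹ * a⁻¹) := by group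
    rw [hR, show r * a * r⁻¹ = r * a * r⁻¹ * a⁻¹ * a by group]
    exact mul_mem (mem_sup_left hc) (mem_sup_right ha)

theorem le_normalizer_four :
    Q ⊔ T ≤ normalizer ((closure ({z, x} : Set G) : Subgroup G) : Set G) := by
  have hm : ∀ y, (y = 1 ∨ y = z ∨ y = x ∨ y = z * x) → y ∈ closure ({z, x} : Set G) :=
    fun y => (mem_four P.hz2 P.hx2 P.comm).2
  refine sup_le (fun q hq => ?_) (fun r hr => ?_) <;>
    refine mem_normalizer_iff_map_conj_eq.2 (eq_of_le_of_card_ge ?_ (le_of_eq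
      (card_map_of_injective (MulEquiv.injective _)).symm)) <;>
    rw [MonoidHom.map_closure, closure_le] <;> rintro _ ⟨y, rfl | rfl, rfl⟩
  · exact hm _ (.inr (.inl (mul_inv_eq_iff_eq_mul.2 (P.left.comm_z hq))))
  · rcases P.left.conj_cases hq P.xmem with e | e
    · exact hm _ (.inr (.inr (.inl e)))
    · exact hm _ (.inr (.inr (.inr e)))
  · rcases P.right.conj_cases hr P.zmem with e | e
    · exact hm _ (.inr (.inl e))
    · exact hm _ (.inr (.inr (.inr (e.trans P.comm))))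
  · exact hm _ (.inr (.inr (.inl (mul_inv_eq_iff_eq_mul.2 (P.right.comm_z hr)))))

end Pair

end CfsgLib.PLocal.LargeExtra
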