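import Cfsg.Agent.Lib.PLocal.LargeExtraPair

/-!
`⟨Q, T⟩` modulo its radical is `S₃`, and the normaliser of the four-group it moves.
-/

set_option autoImplicit false

namespace CfsgLib.PLocal.LargeExtra

open Subgroup

variable {G : Type*} [Group G]

/-- A group generated by two involutions satisfying the braid relation has at most six elements. -/
theorem card_le_six {H : Type*} [Group H] {a b : H} (ha : a * a = 1) (hb : b * b = 1)
    (hab : a * b * a = b * a * b) (hgen : closure ({a, b} : Set H) = ⊤) :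
    Nat.card H ≤ 6 ∧ Finite H := by
  have ha' : ∀ w, a * (a * w) = w := fun w => by rw [← mul_assoc, ha, one_mul]
  have hb' : ∀ w, b * (b * w) = w := fun w => by rw [← mul_assoc, hb, one_mul]
  have e1 : b * (a * b) = a * (b * a) := by rw [← mul_assoc, ← hab, mul_assoc]
  obtain ⟨f, hf⟩ : ∃ f : Fin 6 → H, f = ![1, a, b, a * b, b * a, a * (b * a)] := ⟨_, rfl⟩
  have hstep : ∀ w ∈ ({a, b} : Set H), ∀ i, ∃ j, w * f i = f j := by
    rintro w (rfl | rfl) i
    · refine ⟨![1, 0, 3, 2, 5, 4] i, ?_⟩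
      fin_cases i <;> simp [hf, ha, ha']
    · refine ⟨![2, 4, 0, 5, 1, 3] i, ?_⟩
      fin_cases i <;> simp [hf, hb, hb', e1]
      rw [← e1, hb']
  have hsurj : Function.Surjective f := by
    intro y
    have hy : y ∈ closure ({a, b} : Set H) := hgen ▸ mem_top y
    induction hy using closure_induction_left with
    | one => exact ⟨0, by simp [hf]⟩
    | mul_left w hw y _ ih =>
      obtain ⟨i, rfl⟩ := ih
      obtain ⟨j, hj⟩ := hstep w hw i
      exact ⟨j, hj.symm⟩
    | inv_mul_cancel w hw y _ ih =>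
      obtain ⟨i, rfl⟩ := ih
      obtain ⟨j, hj⟩ := hstep w hw i
      have : w⁻¹ = w := by
        rcases hw with rfl | rfl
        exacts [inv_eq_of_mul_eq_one_right ha, inv_eq_of_mul_eq_one_right hb]
      exact ⟨j, by rw [this, hj]⟩
  have := Finite.of_surjective f hsurj
  exact ⟨(Nat.card_le_card_of_surjective f hsurj).trans (by simp), this⟩

namespace Pair

variable [Finite G] {Q T : Subgroup G} {z x : G} (P : Pair Q T z x)
include P

/-- The radical of the pair is the kernel of the action on the four-group. -/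
theorem rad_eq : (T ⊓ centralizer ({z} : Set G)) ⊔ (Q ⊓ centralizer ({x} : Set G)) =
    (Q ⊔ T) ⊓ centralizer ((closure ({z, x} : Set G) : Subgroup G) : Set G) := by
  obtain ⟨R, hR⟩ : ∃ R, R = (T ⊓ centralizer ({z} : Set G)) ⊔ (Q ⊓ centralizer ({x} : Set G)) :=
    ⟨_, rfl⟩
  obtain ⟨q, hq, r, hr, hqz, hqx, hrx, hrz⟩ := P.exists_movers
  have hRle : R ≤ (Q ⊔ T) ⊓ centralizer ((closure ({z, x} : Set G) : Subgroup G) : Set G) := by
    rw [hR]; exact P.rad_le
  have hRX : R ≤ Q ⊔ T := hRle.trans inf_le_left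
  have : (R.subgroupOf (Q ⊔ T)).Normal :=
    (normal_subgroupOf_iff_le_normalizer hRX).2 (hR ▸ P.le_normalizer_rad)
  obtain ⟨π, hπ, hπk⟩ : ∃ π : ↥(Q ⊔ T) →* ↥(Q ⊔ T) ⧸ R.subgroupOf (Q ⊔ T),
      Function.Surjective π ∧ ∀ y, π y = 1 ↔ (y : G) ∈ R :=
    ⟨QuotientGroup.mk' _, QuotientGroup.mk'_surjective _, fun y => by
      rw [QuotientGroup.mk'_apply, QuotientGroup.eq_one_iff, mem_subgroupOf]⟩
  have hA : ∀ {c}, c ∈ Q → c * x = x * c → c ∈ R := fun hc hcx =>
    hR ▸ mem_sup_right ⟨hc, mem_centralizer_singleton_iff.2 hcx⟩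
  have hB : ∀ {c}, c ∈ T → c * z = z * c → c ∈ R := fun hc hcz =>
    hR ▸ mem_sup_left ⟨hc, mem_centralizer_singleton_iff.2 hcz⟩
  have heq : ∀ {u v : ↥(Q ⊔ T)}, π u = π v ↔ (u : G)⁻¹ * v ∈ R := by
    intro u v
    rw [← inv_mul_eq_one, ← map_inv, ← map_mul, hπk]
    rfl
  obtain ⟨qq, hqq⟩ : ∃ qq : ↥(Q ⊔ T), (qq : G) = q := ⟨⟨q, mem_sup_left hq⟩, rfl⟩
  obtain ⟨rr, hrr⟩ : ∃ rr : ↥(Q ⊔ T), (rr : G) = r := ⟨⟨r, mem_sup_right hr⟩, rfl⟩
  have hqmove : q * x ≠ x * q := fun e => P.left.z_ne (mul_eq_right.1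
    (hqx.symm.trans (mul_inv_eq_iff_eq_mul.2 e)))
  have hrmove : r * z ≠ z * r := fun e => P.right.z_ne (mul_eq_left.1
    (hrz.symm.trans (mul_inv_eq_iff_eq_mul.2 e)))
  have hq' : q⁻¹ * x ≠ x * q⁻¹ := fun e => hqmove
    (by simpa using (show Commute q⁻¹ x from e).inv_left : Commute q x).eq
  have hr' : r⁻¹ * z ≠ z * r⁻¹ := fun e => hrmove
    (by simpa using (show Commute r⁻¹ z from e).inv_left : Commute r z).eq
  -- every element of `Q` is `1` or `q` modulo the radical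
  have hQ : ∀ u : ↥(Q ⊔ T), (u : G) ∈ Q → π u = 1 ∨ π u = π qq := by
    intro u hu
    by_cases hux : (u : G) * x = x * u
    · exact .inl ((hπk u).2 (hA hu hux))
    · refine .inr (Eq.symm (heq.2 ?_))
      rw [hqq]
      exact hA (mul_mem (inv_mem hq) hu) (P.left.mul_commute (inv_mem hq) hu P.xmem hq' hux)
  have hT : ∀ u : ↥(Q ⊔ T), (u : G) ∈ T → π u = 1 ∨ π u = π rr := by
    intro u hu
    by_cases huz : (u : G) * z = z * u
    · exact .inl ((hπk u).2 (hB hu huz))
    · refine .inr (Eq.symm (heq.2 ?_))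
      rw [hrr]
      exact hB (mul_mem (inv_mem hr) hu) (P.right.mul_commute (inv_mem hr) hu P.zmem hr' huz)
  have hqsq : π qq * π qq = 1 := by
    rw [← map_mul, hπk, coe_mul, hqq]
    refine hA (mul_mem hq hq) (P.left.mul_commute hq hq P.xmem hqmove hqmove)
  have hrsq : π rr * π rr = 1 := by
    rw [← map_mul, hπk, coe_mul, hrr]
    refine hB (mul_mem hr hr) (P.right.mul_commute hr hr P.zmem hrmove hrmove)
  have hnot : ∀ {c}, c ∈ R → c * z = z * c := fun hc =>
    (mem_centralizer_four.1 (hRle hc).2).1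
  -- the braid relation
  obtain ⟨g, hTg, hxg⟩ := P.isconj
  have hmap : T.map (MulAut.conj q).toMonoidHom = Q.map (MulAut.conj r).toMonoidHom := by
    rw [hTg, Subgroup.map_map]
    refine Eq.trans (congrArg Q.map ?_) (P.left.map_eq_of_eq (g := q * g) (g' := r) ?_)
    · ext y; simp [mul_assoc]
    · rw [hrz, ← hqx, hxg]; group
  obtain ⟨q₁, hq₁, hq₁e⟩ : q * r * q⁻¹ ∈ Q.map (MulAut.conj r).toMonoidHom := hmap ▸ ⟨r, hr, rfl⟩
  change r * q₁ * r⁻¹ = q * r * q⁻¹ at hq₁e
  obtain ⟨qq₁, hqq₁⟩ : ∃ qq₁ : ↥(Q ⊔ T), (qq₁ : G) = q₁ := ⟨⟨q₁, mem_sup_left hq₁⟩, rfl⟩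
  have hrel : π rr * π qq₁ * (π rr)⁻¹ = π qq * π rr * (π qq)⁻¹ := by
    rw [← map_inv, ← map_inv, ← map_mul, ← map_mul, ← map_mul, ← map_mul]
    exact congrArg π (Subtype.ext (by simp [hqq, hrr, hqq₁, hq₁e]))
  have hbraid : π qq * π rr * π qq = π rr * π qq * π rr := by
    rcases hQ qq₁ (hqq₁ ▸ hq₁) with e | e <;> rw [e] at hrel
    · exfalso
      rw [mul_one, mul_inv_cancel] at hrel
      exact hrmove (hnot (hrr ▸ (hπk rr).1 (conj_eq_one_iff.1 hrel.symm)))
    · rw [inv_eq_of_mul_eq_one_right hqsq, inv_eq_of_mul_eq_one_right hrsq] at hrel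
      exact hrel.symm
  have hgen : closure ({π qq, π rr} : Set (↥(Q ⊔ T) ⧸ R.subgroupOf (Q ⊔ T))) = ⊤ := by
    refine eq_top_iff.2 fun y _ => ?_
    obtain ⟨⟨y, hy⟩, rfl⟩ := hπ y
    have hy' : y ∈ closure ((Q : Set G) ∪ T) := by rwa [Subgroup.closure_union, closure_eq, closure_eq]
    have hle : closure ((Q : Set G) ∪ T) ≤ Q ⊔ T := by rw [Subgroup.closure_union, closure_eq, closure_eq]
    suffices key : ∀ w (hw : w ∈ closure ((Q : Set G) ∪ T)),
        π ⟨w, hle hw⟩ ∈ closure ({π qq, π rr} : Set _) from key y hy'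
    intro w hw
    induction hw using closure_induction with
    | mem w hw =>
      rcases hw with hw | hw
      · rcases hQ ⟨w, mem_sup_left hw⟩ hw with e | e <;> erw [e]
        exacts [one_mem _, subset_closure (by simp)]
      · rcases hT ⟨w, mem_sup_right hw⟩ hw with e | e <;> erw [e]
        exacts [one_mem _, subset_closure (by simp)]
    | one => erw [map_one]; exact one_mem _
    | mul a b _ _ ha hb =>
      have := mul_mem ha hb
      rw [← map_mul] at this
      exact this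
    | inv a _ ha =>
      have := inv_mem ha
      rw [← map_inv] at this
      exact this
  obtain ⟨hsix, -⟩ := card_le_six hqsq hrsq hbraid hgen
  obtain ⟨φ, hφ, hker⟩ := exists_perm_hom P.hz2 P.hx2 P.comm P.left.z_ne P.right.z_ne P.ne
    P.le_normalizer_four (mem_sup_left hq) (mem_sup_right hr) hqz hqx hrx hrz
  have hRk : R.subgroupOf (Q ⊔ T) ≤ φ.ker := by
    rw [hker]
    exact fun y hy => (hRle hy).2
  have h6 : φ.ker.index = 6 := by
    rw [index_ker, MonoidHom.range_eq_top.2 hφ, card_top, Nat.card_perm, Nat.card_fin]; rfl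
  have heqk : R.subgroupOf (Q ⊔ T) = φ.ker := by
    refine eq_of_le_of_card_ge hRk ?_
    have e1 := φ.ker.card_mul_index
    have e2 := (R.subgroupOf (Q ⊔ T)).card_mul_index
    rw [h6] at e1
    rw [index_eq_card] at e2
    nlinarith
  rw [← hR]
  refine le_antisymm hRle fun y hy => ?_
  have : (⟨y, hy.1⟩ : ↥(Q ⊔ T)) ∈ φ.ker := by rw [hker]; exact hy.2
  rwa [← heqk] at this

end Pair

end CfsgLib.PLocal.LargeExtra
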