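import Cfsg.Agent.Lib.PLocal.LargeExtraCriterion

/-!
Large extraspecial subgroups of sections, for centralisers inside a self-centralising extraspecial
subgroup.
-/

set_option autoImplicit false

namespace CfsgLib.PLocal.LargeExtra

open Subgroup
open scoped commutatorElement

/-- A criterion for the image of `P` under `f` to be large extraspecial, in terms of representatives. -/
theorem isLarge_map {H K : Type*} [Group H] [Group K] [Finite H] [Finite K] (f : H →* K)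
    (hf : Function.Surjective f) (P : Subgroup H) (z x : H) (N : Subgroup H)
    (hP : IsPGroup 2 ↥P) (hzP : z ∈ P) (hxP : x ∈ P) (hz2 : z * z = 1) (hx2 : x * x = 1)
    (hz1 : f z ≠ 1) (hx1 : f x ≠ 1) (hxz : f x ≠ f z)
    (hzc : ∀ a ∈ P, f a * f z = f z * f a)
    (hc : ∀ a ∈ P, ∀ b ∈ P, f (a * b * a⁻¹ * b⁻¹) = 1 ∨ f (a * b * a⁻¹ * b⁻¹) = f z)
    (hsq : ∀ a ∈ P, f (a * a) = 1 ∨ f (a * a) = f z)
    (hcen : ∀ a ∈ P, (∀ b ∈ P, f a * f b = f b * f a) → f a = 1 ∨ f a = f z)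
    (hcent : ∀ c, (∀ b ∈ P, f b * f c = f c * f b) → f c ∈ P.map f)
    (hnorm : ∀ c, f c * f z = f z * f c → ∀ b ∈ P, f (c * b * c⁻¹) ∈ P.map f)
    (hN : IsPGroup 2 ↥N) (hzN : z ∈ N)
    (hbN : ∀ c, f c * f x = f x * f c → ∀ n ∈ N, f (c * n * c⁻¹) ∈ N.map f) :
    Cfsg.IsLargeExtraspecial (P.map f) := by
  have hm : ∀ a ∈ P, f a ∈ P.map f := fun a ha => ⟨a, ha, rfl⟩
  have hp : Pack (P.map f) (f z) := by
    refine pack_mk (hP.map f) ?_ (hm z hzP) ?_ ?_ ?_ ?_ ⟨f x, hm x hxP, hx1, hxz⟩ ?_ ?_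
    · exact orderOf_eq_prime (by rw [pow_two, ← map_mul, hz2, map_one]) hz1
    · rintro _ ⟨a, ha, rfl⟩ _ ⟨b, hb, rfl⟩
      simpa using hc a ha b hb
    · rintro _ ⟨a, ha, rfl⟩
      simpa using hsq a ha
    · rintro _ ⟨a, ha, rfl⟩ hab
      exact hcen a ha fun b hb => hab _ (hm b hb)
    · rintro _ ⟨a, ha, rfl⟩
      exact hzc a ha
    · intro c hc'
      obtain ⟨c, rfl⟩ := hf c
      exact hcent c fun b hb => mem_centralizer_iff.1 hc' _ (hm b hb)
    · intro c hc'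
      obtain ⟨c, rfl⟩ := hf c
      refine mem_normalizer_iff_map_conj_eq.2 (eq_of_le_of_card_ge ?_ (le_of_eq
        (card_map_of_injective (MulEquiv.injective _)).symm))
      rintro _ ⟨_, ⟨b, hb, rfl⟩, rfl⟩
      show f c * f b * (f c)⁻¹ ∈ P.map f
      rw [← map_mul, ← map_inv, ← map_mul]
      exact hnorm c (mem_centralizer_singleton_iff.1 hc') b hb
  refine hp.isLarge (hm x hxP) hx1 hxz (by rw [← map_mul, hx2, map_one]) (hN.map f)
    ⟨z, hzN, rfl⟩ fun c hc' => ?_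
  obtain ⟨c, rfl⟩ := hf c
  refine mem_normalizer_iff_map_conj_eq.2 (eq_of_le_of_card_ge ?_ (le_of_eq
    (card_map_of_injective (MulEquiv.injective _)).symm))
  rintro _ ⟨_, ⟨n, hn, rfl⟩, rfl⟩
  show f c * f n * (f c)⁻¹ ∈ N.map f
  rw [← map_mul, ← map_inv, ← map_mul]
  exact hbN c (mem_centralizer_singleton_iff.1 hc') n hn

variable {G : Type*} [Group G] [Finite G]

theorem eq_one_of_odd_of_two_pow {A : Subgroup G} (hA : Odd (Nat.card A)) {a : G} (ha : a ∈ A)
    {k : ℕ} (hk : a ^ 2 ^ k = 1) : a = 1 := by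
  rw [← orderOf_eq_one_iff]
  have h2 : orderOf a ∣ Nat.card A :=
    Subgroup.orderOf_mk a ha ▸ orderOf_dvd_natCard (⟨a, ha⟩ : ↥A)
  have hco : Nat.Coprime (2 ^ k) (Nat.card A) :=
    Nat.Coprime.pow_left _ (Nat.prime_two.coprime_iff_not_dvd.2
      fun e => Nat.not_even_iff_odd.2 hA (even_iff_two_dvd.2 e))
  exact Nat.eq_one_of_dvd_coprimes hco (orderOf_dvd_of_pow_eq_one hk) h2

/-- Inside the centraliser of an odd subgroup, centralising modulo it is centralising. -/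
theorem lift_fix {A : Subgroup G} (hA : Odd (Nat.card A)) {c y : G}
    (hc : c ∈ centralizer (A : Set G)) (hy : y ∈ centralizer (A : Set G)) {k : ℕ}
    (hk : y ^ 2 ^ k = 1) (h : c * y * c⁻¹ * y⁻¹ ∈ A) : c * y = y * c := by
  obtain ⟨a, ha⟩ : ∃ a, a = c * y * c⁻¹ * y⁻¹ := ⟨_, rfl⟩
  rw [← ha] at h
  have hay : Commute a y := mem_centralizer_iff.1 hy a h
  have e : c * y * c⁻¹ = a * y := by rw [ha]; group
  have hpow : (a * y) ^ 2 ^ k = 1 := by rw [← e, conj_pow, hk, mul_one, mul_inv_cancel]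
  rw [hay.mul_pow, hk, mul_one] at hpow
  rw [eq_one_of_odd_of_two_pow hA h hpow, one_mul] at e
  exact mul_inv_eq_iff_eq_mul.1 e

namespace Pack

variable {P : Subgroup G} {u : G} (h : Pack P u)
include h

/-- A fixed point of an odd group other than the centre fails to commute with another fixed point. -/
theorem exists_noncommute_fixed {A : Subgroup G} (hA : A ≤ normalizer (P : Set G))
    (hAodd : Odd (Nat.card A)) {y : G} (hy : y ∈ P ⊓ centralizer (A : Set G))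
    (hy1 : y ≠ 1) (hyu : y ≠ u) : ∃ q ∈ P ⊓ centralizer (A : Set G), q * y ≠ y * q := by
  by_contra hn
  push Not at hn
  by_cases hA1 : A = ⊥
  · rcases h.eq_of_central hy.1 fun q hq => (hn q ⟨hq, mem_centralizer_iff.2 fun a ha => by
      subst hA1; rw [mem_bot.1 ha]; simp⟩).symm with e | e
    exacts [hy1 e, hyu e]
  · obtain ⟨hsup, hcy, -, -⟩ := h.odd_decomposition hA hAodd hA1
    rcases h.eq_of_central hy.1 fun q hq => (by
      have hle : (P ⊓ centralizer (A : Set G)) ⊔ ⁅P, A⁆ ≤ centralizer ({y} : Set G) :=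
        sup_le (fun t ht => mem_centralizer_singleton_iff.2 (hn t ht))
          (fun d hd => mem_centralizer_singleton_iff.2 (hcy y hy d hd).symm)
      exact (mem_centralizer_singleton_iff.1 (hle (hsup.symm ▸ hq))).symm) with e | e
    exacts [hy1 e, hyu e]

end Pack

/-- An odd-complemented group: a central involution `z` and `4 ∤ |D|`. -/
theorem exists_eq_mul_of_not_four_dvd {D : Subgroup G} {z : G} (hzD : z ∈ D) (hz : orderOf z = 2)
    (hc : ∀ d ∈ D, d * z = z * d) (h4 : ¬ 4 ∣ Nat.card D) :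
    D ≤ (Cfsg.oddCore ↥D).map D.subtype ⊔ zpowers z := by
  obtain ⟨Z, hZ⟩ : ∃ Z : Subgroup ↥D, Z = zpowers (⟨z, hzD⟩ : ↥D) := ⟨_, rfl⟩
  have hZc : Nat.card Z = 2 := by rw [hZ, Nat.card_zpowers, Subgroup.orderOf_mk, hz]
  have hcz : (⟨z, hzD⟩ : ↥D) ∈ center ↥D := mem_center_iff.2 fun d => Subtype.ext (hc d d.2)
  have hZle : Z ≤ center ↥D := hZ ▸ zpowers_le.2 hcz
  have hZn : Z.Normal := ⟨fun y hy d => by
    rw [mem_center_iff.1 (hZle hy) d, mul_inv_cancel_right]; exact hy⟩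
  have hodd : Odd Z.index := by
    rw [← Nat.not_even_iff_odd]
    intro he
    refine h4 ?_
    rw [← Z.card_mul_index, hZc]
    exact Nat.mul_dvd_mul_left 2 (even_iff_two_dvd.1 he)
  have hcop : (Nat.card Z).Coprime Z.index := by
    rw [hZc]; exact Nat.coprime_two_left.2 hodd
  obtain ⟨K, hK⟩ := exists_right_complement'_of_coprime hcop
  have hKcard : Odd (Nat.card K) := by rw [← hK.symm.index_eq_card]; exact hodd
  have hKn : K.Normal := by
    rw [← normalizer_eq_top_iff, eq_top_iff, ← hK.sup_eq_top]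
    refine sup_le (fun y hy => mem_normalizer_iff.2 fun k => ?_) Subgroup.le_normalizer
    rw [← mem_center_iff.1 (hZle hy) k, mul_inv_cancel_right]
  have hKO : K ≤ Cfsg.oddCore ↥D := le_sSup ⟨hKn, Nat.coprime_two_right.2 hKcard⟩
  intro d hd
  have hm : (⟨d, hd⟩ : ↥D) ∈ Z ⊔ K := hK.sup_eq_top ▸ mem_top _
  have hle : (Z ⊔ K).map D.subtype ≤ (Cfsg.oddCore ↥D).map D.subtype ⊔ zpowers z := by
    rw [Subgroup.map_sup, sup_comm]
    refine sup_le_sup (Subgroup.map_mono hKO) ?_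
    rw [hZ, MonoidHom.map_zpowers]
    rfl
  exact hle ⟨_, hm, rfl⟩

end CfsgLib.PLocal.LargeExtra
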