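import Cfsg.Agent.Lib.PLocal.LargeExtraFactors

/-!
The case of two interchanged simple factors in a group with a large extraspecial subgroup.
-/

set_option autoImplicit false

namespace CfsgLib.PLocal.LargeExtra

open Subgroup CfsgLib.Recog
open scoped commutatorElement

variable {G : Type*} [Group G] [Finite G] {Q : Subgroup G} {z : G} {N T : Subgroup G}

namespace Moved

variable {u z₁ : G} (M : Moved Q N T z u z₁) (h : Pack Q z)
include M h

theorem exists_sylow : ∃ R : Sylow 2 ↥T,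
    (R : Subgroup ↥T) = (centralizer ({z₁} : Set G)).subgroupOf T ∧
      (frattini ↥(R : Subgroup ↥T)).map (T.subtype.comp (R : Subgroup ↥T).subtype) ≤ zpowers z₁ := by
  have : Fact (Nat.Prime 2) := ⟨Nat.prime_two⟩
  obtain ⟨-, hg, hcard⟩ := M.isSylIn₁ h
  have heq : T ⊓ centralizer ({z₁} : Set G) = T ⊓ centralizer ({z} : Set G) := by
    ext c
    simp only [mem_inf, mem_centralizer_singleton_iff]
    exact ⟨fun hc => ⟨hc.1, (M.comm_iff h hc.1).2 hc.2⟩, fun hc => ⟨hc.1, (M.comm_iff h hc.1).1 hc.2⟩⟩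
  have hc2 : Nat.card ↥((centralizer ({z₁} : Set G)).subgroupOf T) = 2 ^ (Nat.card T).factorization 2 := by
    rw [← card_map_of_injective T.subtype_injective, subgroupOf_map_subtype, inf_comm, heq, hcard]
  obtain ⟨R, hR⟩ : ∃ R : Sylow 2 ↥T, (R : Subgroup ↥T) = (centralizer ({z₁} : Set G)).subgroupOf T :=
    ⟨Sylow.ofCard _ hc2, rfl⟩
  refine ⟨R, hR, ?_⟩
  have hmemR : ∀ r : ↥(R : Subgroup ↥T), ((r : ↥T) : G) * z = z * (r : ↥T) := fun r => by
    have h1 : (r : ↥T) ∈ (centralizer ({z₁} : Set G)).subgroupOf T := hR.le r.2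
    exact (M.comm_iff h (r : ↥T).2).2 (mem_centralizer_singleton_iff.1 h1)
  obtain ⟨f, hf⟩ : ∃ f, f = T.subtype.comp (R : Subgroup ↥T).subtype := ⟨_, rfl⟩
  rw [← hf]
  have hfc : ∀ r : ↥(R : Subgroup ↥T), f r = ((r : ↥T) : G) := fun r => by rw [hf]; rfl
  have hw : ∀ r : ↥(R : Subgroup ↥T), f r * (u * (f r)⁻¹ * u⁻¹) ∈ Q := fun r => by
    rw [hfc]; exact M.mul_conj_mem h (hmemR r) M.mem
  have hmove : ∀ {a : G}, a ∈ T → u * a * u⁻¹ ∈ centralizer (T : Set G) := fun ha =>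
    M.move (conj_mem_cj ha)
  have hfT : ∀ r : ↥(R : Subgroup ↥T), f r ∈ T := fun r => by rw [hfc]; exact (r : ↥T).2
  have hz₁ : ∀ {a d : G}, a ∈ T → d ∈ centralizer (T : Set G) → (a * d = 1 ∨ a * d = z) →
      a ∈ zpowers z₁ := by
    intro a d ha hd e
    rcases e with e | e
    · rw [(eq_of_mul_eq M.factor.inf_centralizer ha (one_mem _) hd (one_mem _)
        (e.trans (one_mul 1).symm)).1]
      exact one_mem _
    · rw [(eq_of_mul_eq M.factor.inf_centralizer ha M.mem₁ hd M.split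
        (e.trans (by group))).1]
      exact mem_zpowers _
  have hsq : ∀ r : ↥(R : Subgroup ↥T), f r * f r ∈ zpowers z₁ := fun r => by
    have hd := hmove (inv_mem (hfT r))
    have e := h.sq_cases (hw r)
    have hcd : f r * (u * (f r)⁻¹ * u⁻¹) = u * (f r)⁻¹ * u⁻¹ * f r :=
      mem_centralizer_iff.1 hd _ (hfT r)
    refine hz₁ (mul_mem (hfT r) (hfT r)) (mul_mem hd hd) ?_
    have e' : f r * f r * (u * (f r)⁻¹ * u⁻¹ * (u * (f r)⁻¹ * u⁻¹)) =
        f r * (u * (f r)⁻¹ * u⁻¹) * (f r * (u * (f r)⁻¹ * u⁻¹)) := by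
      calc f r * f r * (u * (f r)⁻¹ * u⁻¹ * (u * (f r)⁻¹ * u⁻¹))
          = f r * (f r * (u * (f r)⁻¹ * u⁻¹)) * (u * (f r)⁻¹ * u⁻¹) := by group
        _ = f r * ((u * (f r)⁻¹ * u⁻¹) * f r) * (u * (f r)⁻¹ * u⁻¹) := by rw [hcd]
        _ = _ := by group
    rw [e']
    exact e
  have hcom : ∀ r s : ↥(R : Subgroup ↥T), f r * f s * (f r)⁻¹ * (f s)⁻¹ ∈ zpowers z₁ := fun r s => by
    obtain ⟨a, ha⟩ : ∃ a, a = f r := ⟨_, rfl⟩
    obtain ⟨b, hb⟩ : ∃ b, b = f s := ⟨_, rfl⟩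
    have haT : a ∈ T := ha ▸ hfT r
    have hbT : b ∈ T := hb ▸ hfT s
    have hwa : a * (u * a⁻¹ * u⁻¹) ∈ Q := ha ▸ hw r
    have hwb : b * (u * b⁻¹ * u⁻¹) ∈ Q := hb ▸ hw s
    obtain ⟨A, hA⟩ : ∃ A, A = u * a⁻¹ * u⁻¹ := ⟨_, rfl⟩
    obtain ⟨B, hB⟩ : ∃ B, B = u * b⁻¹ * u⁻¹ := ⟨_, rfl⟩
    rw [← hA] at hwa
    rw [← hB] at hwb
    have hAC : A ∈ centralizer (T : Set G) := hA ▸ hmove (inv_mem haT)
    have hBC : B ∈ centralizer (T : Set G) := hB ▸ hmove (inv_mem hbT)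
    have hc : ∀ {v w : G}, v ∈ T → w ∈ centralizer (T : Set G) → Commute v w := fun hv hw =>
      mem_centralizer_iff.1 hw _ hv
    rw [← ha, ← hb]
    refine hz₁ (d := A * B * A⁻¹ * B⁻¹) (mul_mem (mul_mem (mul_mem haT hbT) (inv_mem haT))
      (inv_mem hbT)) (mul_mem (mul_mem (mul_mem hAC hBC) (inv_mem hAC)) (inv_mem hBC)) ?_
    have e : a * b * a⁻¹ * b⁻¹ * (A * B * A⁻¹ * B⁻¹) = a * A * (b * B) * (a * A)⁻¹ * (b * B)⁻¹ := by
      have c1 := hc hbT hAC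
      have c2 : Commute (a⁻¹) (A * B) := hc (inv_mem haT) (mul_mem hAC hBC)
      have c3 : Commute (b⁻¹) (A * B * A⁻¹) := hc (inv_mem hbT) (mul_mem (mul_mem hAC hBC) (inv_mem hAC))
      calc a * b * a⁻¹ * b⁻¹ * (A * B * A⁻¹ * B⁻¹)
          = a * b * a⁻¹ * (b⁻¹ * (A * B * A⁻¹)) * B⁻¹ := by group
        _ = a * b * (a⁻¹ * (A * B)) * A⁻¹ * b⁻¹ * B⁻¹ := by rw [c3.eq]; group
        _ = a * (b * A) * B * a⁻¹ * A⁻¹ * b⁻¹ * B⁻¹ := by rw [c2.eq]; group
        _ = a * A * (b * B) * (A * a)⁻¹ * (B * b)⁻¹ := by rw [c1.eq]; group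
        _ = _ := by rw [(hc haT hAC).eq, (hc hbT hBC).eq]
    rw [e]
    exact h.comm_cases hwa hwb
  refine (map_le_iff_le_comap).2 ?_
  have : ((zpowers z₁).comap f).Normal := by
    refine ⟨fun a ha g => ?_⟩
    rw [mem_comap] at ha ⊢
    have := mul_mem (hcom g a) ha
    rw [inv_mul_cancel_right] at this
    rw [map_mul, map_mul, map_inv]
    exact this
  exact Transfer.frattini_le_of_elementary_quotient (p := 2) _ (fun r s => by
    rw [mem_comap, map_commutatorElement, commutatorElement_def]; exact hcom r s)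
    fun r => by rw [mem_comap, map_pow, pow_two]; exact hsq r

theorem cj_cj : cj u (cj u T) = T := by
  rw [← cj_mul]
  rcases h.sq_cases M.mem with e' | e' <;> rw [e']
  · exact cj_one T
  · refine (M.factor.eq_or_le_centralizer z).resolve_right fun hle => M.ne₁ ?_
    have hm : z₁ ∈ cj z T := mem_cj.2 (by
      rw [mul_assoc, M.z_centralizes₁ h, inv_mul_cancel_left]; exact M.mem₁)
    have := mem_inf.2 ⟨M.mem₁, hle hm⟩
    rwa [M.factor.inf_centralizer, mem_bot] at this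

theorem sup_eq (htrans : ∀ g : G, ∃ q ∈ Q, cj g T = cj q T) : T ⊔ cj u T = N := by
  refine le_antisymm (sup_le M.factor.le ?_) ?_
  · rw [← M.factor.iSup_eq]; exact le_iSup (fun g : G => cj g T) u
  · rw [← M.factor.iSup_eq]
    refine iSup_le fun g => ?_
    obtain ⟨q, hq, e⟩ := htrans g
    rcases M.two_factors h hq with e' | e' <;> rw [e, e']
    exacts [le_sup_left, le_sup_right]

theorem mem_mul {y : G} (hy : y ∈ T ⊔ cj u T) : ∃ a ∈ T, ∃ b ∈ cj u T, a * b = y := by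
  have hle : T ≤ normalizer ((cj u T : Subgroup G) : Set G) :=
    (le_centralizer_iff.1 M.move).trans (centralizer_le_normalizer _)
  have hy' : y ∈ ((T ⊔ cj u T : Subgroup G) : Set G) := hy
  rw [coe_mul_of_left_le_normalizer_right _ _ hle] at hy'
  obtain ⟨a, ha, b, hb, e⟩ := Set.mem_mul.1 hy'
  exact ⟨a, ha, b, hb, e⟩

theorem split_eq (htrans : ∀ g : G, ∃ q ∈ Q, cj g T = cj q T) (hzN : z ∈ N) :
    z = z₁ * (u * z₁ * u⁻¹) := by
  obtain ⟨a, ha, b, hb, e⟩ := M.mem_mul h ((M.sup_eq h htrans).symm ▸ hzN)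
  obtain ⟨hab, -⟩ := eq_of_mul_eq M.factor.inf_centralizer ha M.mem₁ (M.move hb) M.split
    (show a * b = z₁ * (z₁⁻¹ * z) by rw [e]; group)
  subst hab
  have hbT : u * b * u⁻¹ ∈ T := by
    have := conj_mem_cj (g := u) hb
    rwa [M.cj_cj h] at this
  have hu : u * z * u⁻¹ = z := mul_inv_eq_iff_eq_mul.2 (h.comm_z M.mem)
  have hd : u * a * u⁻¹ ∈ centralizer (T : Set G) := M.move (conj_mem_cj M.mem₁)
  have hc : u * b * u⁻¹ * (u * a * u⁻¹) = u * a * u⁻¹ * (u * b * u⁻¹) :=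
    mem_centralizer_iff.1 hd _ hbT
  obtain ⟨-, e2⟩ := eq_of_mul_eq M.factor.inf_centralizer hbT ha hd (M.move hb)
    (show u * b * u⁻¹ * (u * a * u⁻¹) = a * b by
      rw [hc, e]; conv_rhs => rw [← hu, ← e]
      group)
  rw [e2, e]

theorem ne_pCore (htrans : ∀ g : G, ∃ q ∈ Q, cj g T = cj q T) (hN : N.Normal) (hzN : z ∈ N) :
    Q ≠ (Cfsg.pCore 2 ↥(centralizer ({z} : Set G))).map (centralizer ({z} : Set G)).subtype := by
  intro hQ
  have : Fact (Nat.Prime 2) := ⟨Nat.prime_two⟩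
  have hsplit := M.split_eq h htrans hzN
  obtain ⟨W, hW⟩ : ∃ W, W = N ⊓ centralizer ({z} : Set G) := ⟨_, rfl⟩
  have hWg : IsPGroup 2 ↥W := by
    obtain ⟨k, hk⟩ := (M.isPGroup₁ h).exists_card_eq
    rintro ⟨y, hy⟩
    rw [hW] at hy
    refine ⟨k, Subtype.ext ?_⟩
    show y ^ 2 ^ k = 1
    obtain ⟨a, ha, b, hb, rfl⟩ := M.mem_mul h ((M.sup_eq h htrans).symm ▸ hy.1)
    have hbC := M.move hb
    have hab : Commute a b := mem_centralizer_iff.1 hbC a ha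
    have hdC : u * z₁ * u⁻¹ ∈ centralizer (T : Set G) := M.move (conj_mem_cj M.mem₁)
    have hcm : a * b * z = z * (a * b) := mem_centralizer_singleton_iff.1 hy.2
    rw [hsplit] at hcm
    have k1 : b * z₁ = z₁ * b := (mem_centralizer_iff.1 hbC z₁ M.mem₁).symm
    have k2 : a * (u * z₁ * u⁻¹) = u * z₁ * u⁻¹ * a := mem_centralizer_iff.1 hdC a ha
    have e : a * z₁ * (b * (u * z₁ * u⁻¹)) = z₁ * a * (u * z₁ * u⁻¹ * b) := by
      calc a * z₁ * (b * (u * z₁ * u⁻¹)) = a * (z₁ * b) * (u * z₁ * u⁻¹) := by group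
        _ = a * b * (z₁ * (u * z₁ * u⁻¹)) := by rw [← k1]; group
        _ = z₁ * ((u * z₁ * u⁻¹) * a) * b := by rw [hcm]; group
        _ = z₁ * a * (u * z₁ * u⁻¹ * b) := by rw [← k2]; group
    obtain ⟨e1, e2⟩ := eq_of_mul_eq M.factor.inf_centralizer (mul_mem ha M.mem₁)
      (mul_mem M.mem₁ ha) (mul_mem hbC hdC) (mul_mem hdC hbC) e
    have hpow : ∀ {c : G}, c ∈ T → c * z₁ = z₁ * c → c ^ 2 ^ k = 1 := by
      intro c hc hc1
      have hm : c ∈ T ⊓ centralizer ({z} : Set G) :=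
        ⟨hc, mem_centralizer_singleton_iff.2 ((M.comm_iff h hc).2 hc1)⟩
      have h2 : (⟨c, hm⟩ : ↥(T ⊓ centralizer ({z} : Set G))) ^ 2 ^ k = 1 := by
        rw [← hk]; exact pow_card_eq_one'
      exact congrArg Subtype.val h2
    have hb' : u⁻¹ * b * u ∈ T := mem_cj.1 hb
    have e3 : u⁻¹ * b * u * z₁ = z₁ * (u⁻¹ * b * u) := by
      calc u⁻¹ * b * u * z₁ = u⁻¹ * (b * (u * z₁ * u⁻¹)) * u := by group
        _ = z₁ * (u⁻¹ * b * u) := by rw [e2]; group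
    have e4 := hpow hb' e3
    have e5 : b ^ 2 ^ k = 1 := by
      have : (u⁻¹ * b * u⁻¹⁻¹) ^ 2 ^ k = 1 := by rw [inv_inv]; exact e4
      rw [conj_pow] at this
      exact conj_eq_one_iff.1 this
    rw [hab.mul_pow, hpow ha e1, e5, one_mul]
  have hle : W ≤ Q := by
    rw [hQ]
    refine Amalgam.le_pCoreOf (hW ▸ inf_le_right) (fun c hc => ?_) hWg
    refine mem_normalizer_iff_map_conj_eq.2 (eq_of_le_of_card_ge ?_ (le_of_eq
      (card_map_of_injective (MulEquiv.injective _)).symm))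
    rintro _ ⟨y, hy, rfl⟩
    rw [hW] at hy ⊢
    exact mem_inf.2 ⟨hN.conj_mem _ hy.1 c, mul_mem (mul_mem hc hy.2) (inv_mem hc)⟩
  obtain ⟨c, hc, hcz, hc1, hcz₁⟩ := M.exists_big₁ h
  have hcQ : c ∈ Q := hle (hW ▸ mem_inf.2 ⟨M.factor.le hc, mem_centralizer_singleton_iff.2 hcz⟩)
  have hd : u * c * u⁻¹ ∈ centralizer (T : Set G) := M.move (conj_mem_cj hc)
  have e0 : u * c * u⁻¹ * c⁻¹ = c⁻¹ * (u * c * u⁻¹) :=
    (mem_centralizer_iff.1 hd _ (inv_mem hc)).symm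
  rcases h.comm_cases M.mem hcQ with e | e <;> rw [e0] at e
  · exact hc1 (inv_eq_one.1 (eq_of_mul_eq M.factor.inf_centralizer (inv_mem hc) (one_mem _) hd
      (one_mem _) (e.trans (one_mul 1).symm)).1)
  · refine hcz₁ ?_
    have e' : c⁻¹ * (u * c * u⁻¹) = z₁ * (z₁⁻¹ * z) := by rw [e]; group
    have := (eq_of_mul_eq M.factor.inf_centralizer (inv_mem hc) M.mem₁ hd M.split e').1
    rw [inv_eq_iff_eq_inv, inv_eq_of_mul_eq_one_right (M.sq₁ h)] at this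
    exact this

end Moved

end CfsgLib.PLocal.LargeExtra
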