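import Cfsg.Agent.Lib.PLocal.M22JSet

/-!
A double cover of a group of type M(22): four of the possible distributions of the conjugates of
the covering involution over the span are impossible.
-/

set_option autoImplicit false
set_option linter.unusedSectionVars false
set_option linter.unusedSimpArgs false

namespace CfsgLib.PLocal.M22J

open CfsgLib.Trans3 CfsgLib.Trans3.Fi CfsgLib.PLocal.U6J

variable {G : Type*} [Group G] [Finite G] {d : G} {X : Type*} [Group X] [Finite X]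
variable {π : ↥(Subgroup.centralizer ({d} : Set G)) →* X}
variable {z : ↥(Subgroup.centralizer ({d} : Set G))} {D : Set X}
variable (hzd : (z : G) = d) (hd : orderOf d = 2) (hC : DCov π z)
  (hD : Cfsg.IsThreeTranspositionGroup D)
  (hP : Cfsg.IsPrimitiveUnderConj D) (h : Cfsg.IsOfTypeM22 X D)
  (hsq : ∀ u : ↥(Subgroup.centralizer ({d} : Set G)), π u ∈ D → u * u = 1)
  (hperf : _root_.commutator ↥(Subgroup.centralizer ({d} : Set G)) = ⊤)
  (hnwc : ∃ g : G, g * d * g⁻¹ ∈ Subgroup.centralizer ({d} : Set G) ∧ g * d * g⁻¹ ≠ d)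
variable {Y : Finset X} (hE : Clique22 D Y)
variable {A : Subgroup G}
  (eA : A = ((Subgroup.closure (Y : Set X)).comap π).map
    (Subgroup.centralizer ({d} : Set G)).subtype)
variable {Δ : Finset ↥(Subgroup.centralizer ({d} : Set G))}
  (eΔ : ∀ u, u ∈ Δ ↔ π u ∈ Subgroup.closure (Y : Set X) ∧ IsConj d (u : G))
variable [DecidableEq ↥(Subgroup.centralizer ({d} : Set G))]
include hzd hd hC hD hP h hsq hperf hnwc hE eA eΔ

theorem delta_class {v : ↥(Subgroup.centralizer ({d} : Set G))}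
    (hv : π v ∈ Subgroup.closure (Y : Set X)) (h1 : v ≠ 1) (h2 : v ≠ z) :
    π v ∈ (Y : Set X) ∨ π v ∈ pairSet (Y : Set X) ∨ π v ∈ tripleSet (Y : Set X) :=
  (m22j_kinds hD hP h hE).1 _ hv fun k => ((hC.ker v).1 k).elim h1 h2

/-- Not both lifts of the members alone. -/
theorem not_members (f1 : Fib π z Δ (Y : Set X) 2) (f2 : Fib π z Δ (pairSet (Y : Set X)) 0)
    (f3 : Fib π z Δ (tripleSet (Y : Set X)) 0) : False := by
  obtain ⟨a, ha, b, hb, hab⟩ := Finset.one_lt_card.1 (show 1 < Y.card by rw [hE.card]; norm_num)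
  obtain ⟨s, rfl⟩ := hC.surj a
  obtain ⟨t, rfl⟩ := hC.surj b
  have hs : s ∈ Δ := f1.two ha
  have ht : t ∈ Δ := f1.two hb
  obtain ⟨τ, hmul, hiff, hz', hsurj, -⟩ := delta_move hzd hd hC hD hP h hsq hperf hnwc hE eA eΔ hs
  have hzA : z ∈ (Subgroup.closure (Y : Set X)).comap π := by
    rw [Subgroup.mem_comap, dcov_map_z hC]; exact one_mem _
  obtain ⟨u, hu⟩ := hsurj ⟨t, ((eΔ t).1 ht).1⟩
  have hu1 : (τ u).1 = t := congrArg Subtype.val hu
  have huΔ : u.1 ∈ Δ := (hiff u).1 (hu1.symm ▸ ht)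
  have huz : u.1 ≠ z := fun e => hab (by
    rw [← hu1, show u = ⟨z, hzA⟩ from Subtype.ext e, hz'])
  have hu0 : u.1 ≠ 1 := fun e => delta_one hzd hd hC hD hP h hsq hperf hnwc hE eA eΔ (e ▸ huΔ)
  have hcl : π u.1 ∈ (Y : Set X) := by
    rcases delta_class hzd hd hC hD hP h hsq hperf hnwc hE eA eΔ u.2 hu0 huz with k | k | k
    exacts [k, absurd huΔ (f2.zero k), absurd huΔ (f3.zero k)]
  have hh := (hiff (u * ⟨z, hzA⟩)).2 (f1.two (v := u.1 * z) (by
    rw [map_mul, dcov_map_z hC, mul_one]; exact hcl))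
  rw [hmul, Subgroup.coe_mul, hu1, hz'] at hh
  exact f2.zero (v := t * s) ⟨_, hb, _, ha, Ne.symm hab, map_mul _ _ _⟩ hh

/-- Not every element. -/
theorem not_all (f1 : Fib π z Δ (Y : Set X) 2) (f2 : Fib π z Δ (pairSet (Y : Set X)) 2)
    (f3 : Fib π z Δ (tripleSet (Y : Set X)) 2)
    (hlifts : ∀ x : X, x * x = 1 → ∃ y, y * y = 1 ∧ π y = x) : False := by
  have hall : ∀ v, π v ∈ Subgroup.closure (Y : Set X) → v ≠ 1 → v ∈ Δ := fun v hv h1 => by
    by_cases h2 : v = z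
    · exact h2 ▸ delta_z hzd hd hC hD hP h hsq hperf hnwc hE eA eΔ
    rcases delta_class hzd hd hC hD hP h hsq hperf hnwc hE eA eΔ hv h1 h2 with k | k | k
    exacts [f1.two k, f2.two k, f3.two k]
  haveI : Fact (Nat.Prime 2) := ⟨Nat.prime_two⟩
  obtain ⟨Q⟩ := (inferInstance : Nonempty (Sylow 2 X))
  obtain ⟨a, ha⟩ : ∃ a ∈ (Q : Subgroup X), a * a ≠ 1 := by
    by_contra! hno
    have h1 := (m22_elem_bound hD hP h (A := (Q : Subgroup X)) hno).1
    have h2 : 2 ^ 17 ∣ Nat.card (Q : Subgroup X) :=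
      Q.pow_dvd_card_of_pow_dvd_card (by rw [m22_card hD hP h]; norm_num)
    have := Nat.le_of_dvd Nat.card_pos h2
    omega
  obtain ⟨b, hb, hb4⟩ : ∃ b : X, b * b ≠ 1 ∧ b * b * (b * b) = 1 := by
    obtain ⟨k, hk⟩ := Q.isPGroup' ⟨a, ha.1⟩
    have hk' : a ^ (2 ^ k) = 1 := congrArg Subtype.val hk
    clear hk
    induction k generalizing a with
    | zero => rw [pow_zero, pow_one] at hk'; exact absurd (by rw [hk', one_mul]) ha.2
    | succ k ih =>
      by_cases h4 : a * a * (a * a) = 1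
      · exact ⟨a, ha.2, h4⟩
      · refine ih (a * a) ⟨mul_mem ha.1 ha.1, h4⟩ ?_
        rw [← pow_two, ← pow_mul, mul_comm, ← pow_succ]
        exact hk'
  obtain ⟨k, hk⟩ := m22j_invol_mem hD hP h hE hb4
  obtain ⟨c, hc⟩ := hC.surj (k * b * k⁻¹)
  have hcc : π (c * c) = k * (b * b) * k⁻¹ := by rw [map_mul, hc]; group
  have hne : c * c ≠ 1 := fun e => by
    rw [e, map_one, eq_comm, conj_eq_one_iff] at hcc
    exact hb hcc
  have hJ := ((eΔ _).1 (hall (c * c) (hcc ▸ hk) hne)).2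
  obtain ⟨g, hg⟩ := isConj_iff.1 hJ
  refine not_square_of_lifts hd hzd hC hlifts ⟨g⁻¹ * (c : G) * g, ?_⟩
  rw [pow_two, show g⁻¹ * (c : G) * g * (g⁻¹ * (c : G) * g) = g⁻¹ * ((c : G) * c) * g by group,
    ← Subgroup.coe_mul, ← hg]
  group

/-- Not one lift of each member and both lifts of the others. -/
theorem not_mix (f1 : Fib π z Δ (Y : Set X) 1) (f2 : Fib π z Δ (pairSet (Y : Set X)) 2)
    (f3 : Fib π z Δ (tripleSet (Y : Set X)) 2) : False := by
  obtain ⟨a, ha, b, hb, hab⟩ := Finset.one_lt_card.1 (show 1 < Y.card by rw [hE.card]; norm_num)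
  obtain ⟨s, rfl, hsΔ⟩ := f1.one_outside hC (w := a) ha
  obtain ⟨t, rfl, htΔ⟩ := f1.one_outside hC (w := b) hb
  have hsW : π s ∈ Subgroup.closure (Y : Set X) := Subgroup.subset_closure ha
  have hzA : z ∈ (Subgroup.closure (Y : Set X)).comap π := by
    rw [Subgroup.mem_comap, dcov_map_z hC]; exact one_mem _
  have P0 : ∀ v, π v ∈ Subgroup.closure (Y : Set X) → v ∉ Δ → v ≠ 1 → v * z ∈ Δ := by
    intro v hv hvΔ h1
    have h2 : v ≠ z := fun e => hvΔ (e ▸ delta_z hzd hd hC hD hP h hsq hperf hnwc hE eA eΔ)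
    have hvz : π (v * z) = π v := by rw [map_mul, dcov_map_z hC, mul_one]
    rcases delta_class hzd hd hC hD hP h hsq hperf hnwc hE eA eΔ hv h1 h2 with k | k | k
    · have := f1 v k
      rw [if_neg hvΔ] at this
      by_contra hn
      rw [if_neg hn] at this
      omega
    · exact f2.two (hvz.symm ▸ k)
    · exact f3.two (hvz.symm ▸ k)
  have hxΔ : s * t ∈ Δ := f2.two ⟨_, ha, _, hb, hab, map_mul _ _ _⟩
  obtain ⟨τ, hmul, hiff, hz', hsurj, -⟩ := delta_move hzd hd hC hD hP h hsq hperf hnwc hE eA eΔ hxΔ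
  obtain ⟨u, hu⟩ := hsurj ⟨s, hsW⟩
  have hu1 : (τ u).1 = s := congrArg Subtype.val hu
  have hu0 : u.1 ≠ 1 := by
    intro e
    have h1 : τ u = 1 := by
      have h2 := hmul u u
      rw [show u * u = u from Subtype.ext (by rw [Subgroup.coe_mul, e, one_mul]), left_eq_mul] at h2
      exact h2
    have hs1 : s = 1 := hu1.symm.trans (congrArg Subtype.val h1)
    exact invol_ne_one (hD.1.1 _ (hE.sub _ ha)) (by rw [hs1, map_one])
  have hh := (hiff (u * ⟨z, hzA⟩)).2 (P0 u.1 u.2 (fun k => hsΔ (hu1 ▸ (hiff u).2 k)) hu0)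
  rw [hmul, Subgroup.coe_mul, hu1, hz', ← mul_assoc, hsq s (hE.sub _ ha), one_mul] at hh
  exact htΔ hh

/-- Not one lift of each element. -/
theorem not_split (f1 : Fib π z Δ (Y : Set X) 1) (f2 : Fib π z Δ (pairSet (Y : Set X)) 1)
    (f3 : Fib π z Δ (tripleSet (Y : Set X)) 1) : False := by
  have hzA : z ∈ (Subgroup.closure (Y : Set X)).comap π := by
    rw [Subgroup.mem_comap, dcov_map_z hC]; exact one_mem _
  have zΔ := delta_z hzd hd hC hD hP h hsq hperf hnwc hE eA eΔ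
  have oneΔ := delta_one hzd hd hC hD hP h hsq hperf hnwc hE eA eΔ
  have P0' : ∀ v, π v ∈ Subgroup.closure (Y : Set X) → v ≠ 1 → v ≠ z → (v * z ∈ Δ ↔ v ∉ Δ) := by
    intro v hv h1 h2
    have hf : ((if v ∈ Δ then 1 else 0) + if v * z ∈ Δ then 1 else 0) = 1 := by
      rcases delta_class hzd hd hC hD hP h hsq hperf hnwc hE eA eΔ hv h1 h2 with k | k | k
      exacts [f1 v k, f2 v k, f3 v k]
    by_cases k1 : v ∈ Δ <;> by_cases k2 : v * z ∈ Δ <;> simp [k1, k2] at hf ⊢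
  have Pall : ∀ x ∈ Δ, ∀ v, π v ∈ Subgroup.closure (Y : Set X) → v ≠ 1 → v ≠ x →
      (v * x ∈ Δ ↔ v ∉ Δ) := by
    intro x hx v hv h1 h2
    obtain ⟨τ, hmul, hiff, hz', hsurj, -⟩ := delta_move hzd hd hC hD hP h hsq hperf hnwc hE eA eΔ hx
    obtain ⟨u, hu⟩ := hsurj ⟨v, hv⟩
    have hu1 : (τ u).1 = v := congrArg Subtype.val hu
    have huz : u.1 ≠ z := fun e => h2 (by rw [← hu1, show u = ⟨z, hzA⟩ from Subtype.ext e, hz'])
    have hu0 : u.1 ≠ 1 := fun e => h1 (by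
      have h3 := hmul u u
      rw [show u * u = u from Subtype.ext (by rw [Subgroup.coe_mul, e, one_mul]), left_eq_mul] at h3
      exact hu1.symm.trans (congrArg Subtype.val h3))
    have hh := hiff (u * ⟨z, hzA⟩)
    rw [hmul, Subgroup.coe_mul, hu1, hz', Subgroup.coe_mul] at hh
    rw [hh, P0' u.1 u.2 hu0 huz, ← hiff u, hu1]
  have sq : ∀ v, π v ∈ Subgroup.closure (Y : Set X) → v * v = 1 := fun v hv =>
    (cover22_span hC hD hP h hsq hE hv).1
  have comm : ∀ v, π v ∈ Subgroup.closure (Y : Set X) → ∀ x, π x ∈ Subgroup.closure (Y : Set X) →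
      v * x = x * v := fun v hv x hx => ((cover22_span hC hD hP h hsq hE hv).2 x hx).eq
  have par : ∀ v, π v ∈ Subgroup.closure (Y : Set X) → ∀ x, π x ∈ Subgroup.closure (Y : Set X) →
      (v * x ∈ Δ ↔ ¬(v ∈ Δ ↔ x ∈ Δ)) := by
    intro v hv x hx
    by_cases hxΔ : x ∈ Δ
    · by_cases hv1 : v = 1
      · subst hv1; simp [hxΔ, oneΔ]
      by_cases hvx : v = x
      · subst hvx; simp [sq v hv, oneΔ]
      rw [Pall x hxΔ v hv hv1 hvx]; tauto
    by_cases hvΔ : v ∈ Δ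
    · by_cases hx1 : x = 1
      · subst hx1; simp [hvΔ, oneΔ]
      have hxv : x ≠ v := fun e => hxΔ (e ▸ hvΔ)
      rw [comm v hv x hx, Pall v hvΔ x hx hx1 hxv]; tauto
    refine iff_of_false (fun k => ?_) (by tauto)
    by_cases hv1 : v = 1
    · exact hxΔ (by simpa [hv1] using k)
    have h' := (Pall _ k v hv hv1 fun e => hvΔ (e ▸ k))
    rw [← mul_assoc, sq v hv, one_mul] at h'
    exact hxΔ (h'.2 hvΔ)
  let φ : ↥((Subgroup.closure (Y : Set X)).comap π) →* ℤˣ :=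
    MonoidHom.mk' (fun v => if v.1 ∈ Δ then -1 else 1) fun v x => by
      have k := par v.1 v.2 x.1 x.2
      rw [Subgroup.coe_mul]
      by_cases a : v.1 ∈ Δ <;> by_cases b : x.1 ∈ Δ <;> simp [k, a, b]
  refine m22j_nonsplit hC hD hP h hperf hE φ (fun _ => if_pos zΔ) fun u hu c hc k => ?_
  show (if c * u * c⁻¹ ∈ Δ then (-1 : ℤˣ) else 1) = if u ∈ Δ then -1 else 1
  have hiff : c * u * c⁻¹ ∈ Δ ↔ u ∈ Δ := by
    constructor
    · intro h'
      refine (eΔ u).2 ⟨hu, ?_⟩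
      have := ((eΔ _).1 h').2
      exact this.trans (isConj_iff.2 ⟨(c : G)⁻¹, by simp [mul_assoc]⟩)
    · exact fun h' => delta_conj hzd hd hC hD hP h hsq hperf hnwc hE eA eΔ hc h'
  simp [hiff]

end CfsgLib.PLocal.M22J
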