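import Cfsg.Agent.Lib.PLocal.M22JPairCase

/-!
A double cover of a group of type M(22) as the centraliser of an involution `d`: the preimage of a
span holds exactly 23 conjugates of `d`.
-/

set_option autoImplicit false
set_option linter.unusedSectionVars false

namespace CfsgLib.PLocal.M22J

open CfsgLib.Trans3 CfsgLib.Trans3.Fi CfsgLib.PLocal.U6J

/-- Exactly 23 conjugates. -/
theorem span22_count {G : Type*} [Group G] [Finite G] {d : G} {X : Type*} [Group X] [Finite X]
    {π : ↥(Subgroup.centralizer ({d} : Set G)) →* X} {z : ↥(Subgroup.centralizer ({d} : Set G))}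
    {D : Set X} (hzd : (z : G) = d) (hd : orderOf d = 2) (hC : DCov π z)
    (hD : Cfsg.IsThreeTranspositionGroup D)
    (hP : Cfsg.IsPrimitiveUnderConj D) (h : Cfsg.IsOfTypeM22 X D)
    (hsq : ∀ u : ↥(Subgroup.centralizer ({d} : Set G)), π u ∈ D → u * u = 1)
    (hperf : _root_.commutator ↥(Subgroup.centralizer ({d} : Set G)) = ⊤)
    (hnwc : ∃ g : G, g * d * g⁻¹ ∈ Subgroup.centralizer ({d} : Set G) ∧ g * d * g⁻¹ ≠ d)
    (hlifts : ∀ x : X, x * x = 1 → ∃ y, y * y = 1 ∧ π y = x)
    {Y : Finset X} (hE : Clique22 D Y) {A : Subgroup G}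
    (eA : A = ((Subgroup.closure (Y : Set X)).comap π).map
      (Subgroup.centralizer ({d} : Set G)).subtype) :
    {x : G | x ∈ A ∧ IsConj d x}.ncard = 23 := by
  classical
  haveI := Fintype.ofFinite ↥(Subgroup.centralizer ({d} : Set G))
  obtain ⟨Δ, eΔ⟩ : ∃ Δ : Finset ↥(Subgroup.centralizer ({d} : Set G)),
      ∀ u, u ∈ Δ ↔ π u ∈ Subgroup.closure (Y : Set X) ∧ IsConj d (u : G) :=
    ⟨Finset.univ.filter fun u => π u ∈ Subgroup.closure (Y : Set X) ∧ IsConj d (u : G), fun u => by simp⟩
  have hnc : {x : G | x ∈ A ∧ IsConj d x}.ncard = Δ.card := by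
    rw [← Set.ncard_coe_finset, ← Set.ncard_image_of_injective _ (Subgroup.subtype_injective _)]
    congr 1
    ext x
    simp only [eA, Set.mem_image, Finset.mem_coe, eΔ, Subgroup.mem_map, Set.mem_ofPred_eq]
    exact ⟨fun ⟨⟨u, hu, e⟩, hx⟩ => ⟨u, ⟨hu, by rw [show (u : G) = x from e]; exact hx⟩, e⟩,
      fun ⟨u, ⟨hu, hx⟩, e⟩ => ⟨⟨u, hu, e⟩, e ▸ hx⟩⟩
  rw [hnc]
  obtain ⟨x₁, b₁, x₂, b₂, x₃, b₃, f1, f2, f3, hm⟩ :=
    delta_count hzd hd hC hD hP h hsq hperf hnwc hE eA eΔ
  have hgt := delta_gt hzd hd hC hD hP h hsq hperf hnwc hE eA eΔ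
  have hprime : ∀ p : ℕ, p.Prime → p ∣ Δ.card → (∀ j < 11, 2 ^ 11 % p ≠ 2 ^ j % p) → False :=
    fun p => delta_prime hzd hd hC hD hP h hsq hperf hnwc hE eA eΔ
  rw [hm] at hgt hprime
  have h254 : x₁ = 1 → x₂ = 1 → x₃ = 0 → False := fun e₁ e₂ e₃ => by
    subst e₁ e₂ e₃
    exact not_rank_three hzd hd hC hD hP h hsq hperf hnwc hE eA eΔ f1 f2 f3 (by omega)
  interval_cases x₁ <;> interval_cases x₂ <;> interval_cases x₃
  all_goals first
    | omega
    | exact (h254 rfl rfl rfl).elim
    | exact (not_members hzd hd hC hD hP h hsq hperf hnwc hE eA eΔ f1 f2 f3).elim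
    | exact (not_all hzd hd hC hD hP h hsq hperf hnwc hE eA eΔ f1 f2 f3 hlifts).elim
    | exact (not_mix hzd hd hC hD hP h hsq hperf hnwc hE eA eΔ f1 f2 f3).elim
    | exact (not_split hzd hd hC hD hP h hsq hperf hnwc hE eA eΔ f1 f2 f3).elim
    | exact (not_doubled hzd hd hC hD hP h hsq hperf hnwc hE eA eΔ f1 f2 f3).elim
    | (refine (hprime 257 (by norm_num) ?_ (by decide)).elim; norm_num; done)
    | (refine (hprime 67 (by norm_num) ?_ (by decide)).elim; norm_num; done)
    | (refine (hprime 29 (by norm_num) ?_ (by decide)).elim; norm_num; done)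
    | (refine (hprime 167 (by norm_num) ?_ (by decide)).elim; norm_num; done)
    | (refine (hprime 443 (by norm_num) ?_ (by decide)).elim; norm_num; done)
    | (refine (hprime 463 (by norm_num) ?_ (by decide)).elim; norm_num; done)
    | (refine (hprime 137 (by norm_num) ?_ (by decide)).elim; norm_num; done)
    | (refine (hprime 2003 (by norm_num) ?_ (by decide)).elim; norm_num; done)
    | (refine (hprime 13 (by norm_num) ?_ (by decide)).elim; norm_num; done)
    | (refine (hprime 521 (by norm_num) ?_ (by decide)).elim; norm_num; done)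
    | (refine (hprime 97 (by norm_num) ?_ (by decide)).elim; norm_num; done)
    | (refine (hprime 251 (by norm_num) ?_ (by decide)).elim; norm_num; done)
    | (refine (hprime 163 (by norm_num) ?_ (by decide)).elim; norm_num; done)
    | (refine (hprime 317 (by norm_num) ?_ (by decide)).elim; norm_num; done)
    | (refine (hprime 523 (by norm_num) ?_ (by decide)).elim; norm_num; done)
    | (refine (hprime 227 (by norm_num) ?_ (by decide)).elim; norm_num; done)
    | (refine (hprime 1277 (by norm_num) ?_ (by decide)).elim; norm_num; done)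

end CfsgLib.PLocal.M22J
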