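import Cfsg.Agent.Lib.PLocal.M22JSplit
import Cfsg.Agent.Lib.PLocal.U6JCover

/-!
A double cover of a group of type M(22): the preimage of a span, the Thompson subgroup of a Sylow
2-subgroup, and the normaliser of the preimage as seen from the covering involution.
-/

set_option autoImplicit false
set_option linter.unusedSectionVars false
set_option linter.unusedSimpArgs false

namespace CfsgLib.PLocal.M22J

open CfsgLib.Trans3 CfsgLib.Trans3.Fi CfsgLib.PLocal.U6J

/-- The span of a conjugate set. -/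
theorem closure22_conj {X : Type*} [Group X] [DecidableEq X] (Y : Finset X) (g : X) :
    Subgroup.closure ((Y.image fun a => g * a * g⁻¹ : Finset X) : Set X) =
      (Subgroup.closure (Y : Set X)).map (MulAut.conj g).toMonoidHom := by
  rw [MonoidHom.map_closure, Finset.coe_image]
  rfl

section Cover

variable {C X : Type*} [Group C] [Finite C] [Group X] [Finite X] {π : C →* X} {z : C}
variable {D : Set X} (hC : DCov π z) (hD : Cfsg.IsThreeTranspositionGroup D)
  (hP : Cfsg.IsPrimitiveUnderConj D) (h : Cfsg.IsOfTypeM22 X D)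
  (hsq : ∀ u : C, π u ∈ D → u * u = 1)

include hD hP h in
/-- Cliques are conjugate. -/
theorem m22j_conj [DecidableEq X] {Y Z : Finset X} (hY : Clique22 D Y) (hZ : Clique22 D Z) :
    ∃ g : X, Y.image (fun a => g * a * g⁻¹) = Z := by
  haveI : Fact (Nat.Prime 2) := ⟨Nat.prime_two⟩
  obtain ⟨P, hPs⟩ := (isPGroup_two_closure_of_commute (E := (Z : Set X)) hZ.comm
    fun u hu => Trans3.sq_one hD.1 (hZ.sub u hu)).exists_le_sylow
  obtain ⟨Q, hQ⟩ := (isPGroup_two_closure_of_commute (E := (Y : Set X)) hY.comm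
    fun u hu => Trans3.sq_one hD.1 (hY.sub u hu)).exists_le_sylow
  obtain ⟨g, hg⟩ := MulAction.exists_smul_eq X Q P
  refine ⟨g, m22j_unique hD hP h hZ (clique22_conj hD hY g) P.isPGroup'
    (fun x hx => hPs (Subgroup.subset_closure hx)) fun y hy => ?_⟩
  obtain ⟨x, hx, rfl⟩ := Finset.mem_image.1 hy
  rw [← hg]
  exact ⟨x, hQ (Subgroup.subset_closure hx), rfl⟩

include hC hD hP h hsq

/-- The preimage of a span has exponent two. -/
theorem cover22_span {Y : Finset X} (hE : Clique22 D Y) {u : C} (hu : u ∈ (Subgroup.closure (Y : Set X)).comap π) :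
    u * u = 1 ∧ ∀ v ∈ (Subgroup.closure (Y : Set X)).comap π, Commute u v := by
  have hcl := m22j_hcl hC hD hP h
  obtain ⟨T, eT⟩ : ∃ T : Set C, T = insert z (π ⁻¹' (Y : Set X)) := ⟨_, rfl⟩
  have hTc : ∀ a ∈ T, ∀ b ∈ T, Commute a b := by
    rw [eT]
    rintro a (rfl | ha) b (rfl | hb)
    exacts [Commute.refl _, (hC.central b).symm, hC.central a,
      hcl a b (hE.sub _ ha) (hE.sub _ hb) (hE.comm _ ha _ hb)]
  have hTsq : ∀ a ∈ T, a * a = 1 := by
    rw [eT]
    rintro a (rfl | ha)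
    exacts [dcov_sq hC, hsq a (hE.sub _ ha)]
  have hle : (Subgroup.closure (Y : Set X)).comap π ≤ Subgroup.closure T := by
    intro v hv
    have hm : Subgroup.closure (Y : Set X) ≤ (Subgroup.closure T).map π := (Subgroup.closure_le _).2 fun e he => by
      obtain ⟨w, rfl⟩ := hC.surj e
      exact ⟨w, Subgroup.subset_closure (eT ▸ Or.inr he), rfl⟩
    obtain ⟨w, hw', e⟩ := hm hv
    rcases dcov_eq hC e.symm with e' | e' <;> rw [e']
    exacts [hw', mul_mem hw' (Subgroup.subset_closure (eT ▸ Or.inl rfl))]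
  have hab : Subgroup.closure T ≤ Subgroup.centralizer (Subgroup.closure T : Set C) := by
    rw [Subgroup.centralizer_closure]
    exact (Subgroup.closure_le _).2 fun x hx => Subgroup.mem_centralizer_iff.2 fun y hy => hTc y hy x hx
  refine ⟨?_, fun v hv => Subgroup.mem_centralizer_iff.1 (hab (hle hv)) u (hle hu)⟩
  have key : ∀ w ∈ Subgroup.closure T, w * w = 1 := fun w hw => by
    induction hw using Subgroup.closure_induction with
    | mem a ha => exact hTsq a ha
    | one => exact one_mul 1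
    | mul a b ha hb h1 h2 =>
      have hc : Commute b a := Subgroup.mem_centralizer_iff.1 (hab ha) b hb
      rw [hc.mul_mul_mul_comm, h1, h2, one_mul]
    | inv a _ h1 => rw [← _root_.mul_inv_rev, h1, inv_one]
  exact key u (hle hu)

/-- Subgroups of exponent two of the cover. -/
theorem cover22_bound {B : Subgroup C} (hB : ∀ b ∈ B, b * b = 1) : Nat.card B ≤ 2048 ∧
    (Nat.card B = 2048 → ∃ Y : Finset X, Clique22 D Y ∧ B = (Subgroup.closure (Y : Set X)).comap π) := by
  have hle : B ≤ (B.map π).comap π := Subgroup.le_comap_map _ _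
  obtain ⟨h1, h2⟩ := m22_elem_bound hD hP h (A := B.map π)
    (by rintro _ ⟨b, hb, rfl⟩; rw [← map_mul, hB b hb, map_one])
  have h3 := (Subgroup.card_le_of_le hle).trans_eq (dcov_card_comap hC _)
  refine ⟨h3.trans (by omega), fun e => ?_⟩
  obtain ⟨Y, hE, eE⟩ := h2 (by omega)
  refine ⟨Y, hE, ?_⟩
  rw [← eE]
  exact Subgroup.eq_of_le_of_card_ge hle (by rw [dcov_card_comap hC, e]; omega)

theorem cover22_card {Y : Finset X} (hE : Clique22 D Y) :
    Nat.card ((Subgroup.closure (Y : Set X)).comap π) = 2048 := by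
  rw [dcov_card_comap hC, (clique_closure hD hP h hE).1]
  norm_num

/-- The Thompson subgroup of a Sylow 2-subgroup of the cover. -/
theorem cover22_thompson (S : Sylow 2 C) : ∃ Y : Finset X, Clique22 D Y ∧
    Cfsg.thompsonSubgroupOf 2 (S : Subgroup C) = (Subgroup.closure (Y : Set X)).comap π := by
  haveI : Fact (Nat.Prime 2) := ⟨Nat.prime_two⟩
  classical
  obtain ⟨E₀, hE₀⟩ := exists_clique22 hD hP h
  obtain ⟨Q, hQ⟩ := (IsPGroup.of_card (show Nat.card ((Subgroup.closure (E₀ : Set X)).comap π) = 2 ^ 11 by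
    rw [cover22_card hC hD hP h hsq hE₀]; norm_num) :
      IsPGroup 2 ((Subgroup.closure (E₀ : Set X)).comap π)).exists_le_sylow
  obtain ⟨g, hg⟩ := MulAction.exists_smul_eq C Q S
  obtain ⟨E, eE⟩ : ∃ E, E = E₀.image (fun a => π g * a * (π g)⁻¹) := ⟨_, rfl⟩
  have hE : Clique22 D E := eE ▸ clique22_conj hD hE₀ (π g)
  refine ⟨E, hE, ?_⟩
  have hS : (Subgroup.closure (E : Set X)).comap π ≤ (S : Subgroup C) := by
    intro u hu
    rw [← hg]
    refine ⟨g⁻¹ * u * g, hQ ?_, by simp [mul_assoc]⟩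
    rw [Subgroup.mem_comap, eE, closure22_conj] at hu
    obtain ⟨w, hw, e⟩ := hu
    rw [Subgroup.mem_comap, map_mul, map_mul, map_inv, ← e]
    simpa [mul_assoc] using hw
  obtain ⟨V, eV⟩ : ∃ V : Subgroup ↥(S : Subgroup C),
      V = ((Subgroup.closure (E : Set X)).comap π).subgroupOf (S : Subgroup C) := ⟨_, rfl⟩
  have hV : Nat.card V = 2048 := by
    rw [eV, Nat.card_congr (Subgroup.subgroupOfEquivOfLe hS).toEquiv, cover22_card hC hD hP h hsq hE]
  have hEA : Cfsg.IsElementaryAbelian 2 V := by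
    refine ⟨⟨⟨fun a b => Subtype.ext (Subtype.ext ?_)⟩⟩, fun a ha => Subtype.ext ?_⟩
    · exact ((cover22_span hC hD hP h hsq hE (Subgroup.mem_subgroupOf.1 (eV ▸ a.2))).2 _
        (Subgroup.mem_subgroupOf.1 (eV ▸ b.2))).eq
    · rw [pow_two]
      exact (cover22_span hC hD hP h hsq hE (Subgroup.mem_subgroupOf.1 (eV ▸ ha))).1
  have hbound : ∀ A : Subgroup ↥(S : Subgroup C), Cfsg.IsElementaryAbelian 2 A →
      Nat.card A ≤ 2048 ∧ (Nat.card A = 2048 → A = V) := by
    intro A hA
    have hsqA : ∀ a ∈ A.map (S : Subgroup C).subtype, a * a = 1 := by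
      rintro _ ⟨a, ha, rfl⟩
      rw [← pow_two, ← map_pow, hA.2 a ha, map_one]
    obtain ⟨h1, h2⟩ := cover22_bound hC hD hP h hsq hsqA
    have ec : Nat.card ↥(A.map (S : Subgroup C).subtype) = Nat.card A :=
      (Nat.card_congr (A.equivMapOfInjective _ (Subgroup.subtype_injective _)).toEquiv).symm
    rw [ec] at h1 h2
    refine ⟨h1, fun e => ?_⟩
    obtain ⟨E', hE', eE'⟩ := h2 e
    have himg : IsPGroup 2 ↥((S : Subgroup C).map π) := S.isPGroup'.map π
    have hle' : (Subgroup.closure (E' : Set X)).comap π ≤ (S : Subgroup C) := eE' ▸ Subgroup.map_subtype_le A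
    have sub : ∀ {H : Subgroup X}, H.comap π ≤ (S : Subgroup C) → H ≤ (S : Subgroup C).map π :=
      fun {H} h x hx => by
        obtain ⟨u, rfl⟩ := hC.surj x
        exact ⟨u, h hx, rfl⟩
    rw [eV, ← m22j_unique hD hP h hE hE' himg (fun x hx => sub hS (Subgroup.subset_closure hx))
      (fun x hx => sub hle' (Subgroup.subset_closure hx)), ← eE']
    exact (Subgroup.comap_map_eq_self_of_injective (Subgroup.subtype_injective _) A).symm
  have hmax : Cfsg.maxElementaryAbelianSubgroups 2 ↥(S : Subgroup C) = {V} := by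
    ext A
    refine ⟨fun ⟨hA, hmx⟩ => ?_, fun e => ?_⟩
    · exact (hbound A hA).2 (le_antisymm (hbound A hA).1 (hV ▸ hmx V hEA))
    · rw [Set.mem_singleton_iff] at e
      subst e
      exact ⟨hEA, fun B hB => hV.symm ▸ (hbound B hB).1⟩
  rw [Cfsg.thompsonSubgroupOf, Cfsg.thompsonSubgroup, hmax, sSup_singleton, eV,
    Subgroup.map_subgroupOf_eq_of_le hS]

end Cover

section Main

variable {G : Type*} [Group G] [Finite G] {d : G} {X : Type*} [Group X] [Finite X]
variable {π : ↥(Subgroup.centralizer ({d} : Set G)) →* X}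
variable {z : ↥(Subgroup.centralizer ({d} : Set G))} {D : Set X}
variable (hzd : (z : G) = d) (hd : orderOf d = 2) (hC : DCov π z) (hD : Cfsg.IsThreeTranspositionGroup D)
  (hP : Cfsg.IsPrimitiveUnderConj D) (h : Cfsg.IsOfTypeM22 X D)
  (hsq : ∀ u : ↥(Subgroup.centralizer ({d} : Set G)), π u ∈ D → u * u = 1)
  (hperf : _root_.commutator ↥(Subgroup.centralizer ({d} : Set G)) = ⊤)
  (hnwc : ∃ g : G, g * d * g⁻¹ ∈ Subgroup.centralizer ({d} : Set G) ∧ g * d * g⁻¹ ≠ d)
variable {Y : Finset X} (hE : Clique22 D Y)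
include hzd hd hC hD hP h hsq hperf hnwc hE

theorem span22_norm {x : G}
    (hx : x ∈ ((Subgroup.closure (Y : Set X)).comap π).map (Subgroup.centralizer ({d} : Set G)).subtype)
    (hcx : IsConj d x) :
    ∃ n ∈ Subgroup.normalizer ((((Subgroup.closure (Y : Set X)).comap π).map
      (Subgroup.centralizer ({d} : Set G)).subtype : Subgroup G) : Set G), n * d * n⁻¹ = x := by
  classical
  obtain ⟨A, eA⟩ : ∃ A, A = ((Subgroup.closure (Y : Set X)).comap π).map
      (Subgroup.centralizer ({d} : Set G)).subtype := ⟨_, rfl⟩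
  rw [← eA] at hx ⊢
  obtain ⟨g, hg⟩ := isConj_iff.1 hcx
  have hAc : ∀ a ∈ A, a * x = x * a ∧ a * a = 1 := by
    rw [eA] at hx ⊢
    rintro _ ⟨a, ha, rfl⟩
    obtain ⟨u, hu, rfl⟩ := hx
    exact ⟨congrArg Subtype.val ((cover22_span hC hD hP h hsq hE ha).2 u hu).eq,
      congrArg Subtype.val (cover22_span hC hD hP h hsq hE ha).1⟩
  obtain ⟨B, eB⟩ : ∃ B : Subgroup ↥(Subgroup.centralizer ({d} : Set G)),
      B = (A.map (MulAut.conj g⁻¹).toMonoidHom).subgroupOf _ := ⟨_, rfl⟩
  have hle : A.map (MulAut.conj g⁻¹).toMonoidHom ≤ Subgroup.centralizer ({d} : Set G) := by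
    rintro _ ⟨a, ha, rfl⟩
    rw [Subgroup.mem_centralizer_singleton_iff]
    simp only [MulEquiv.coe_toMonoidHom, MulAut.conj_apply, inv_inv]
    calc g⁻¹ * a * g * d = g⁻¹ * (a * (g * d * g⁻¹)) * g := by group
      _ = g⁻¹ * ((g * d * g⁻¹) * a) * g := by rw [hg, (hAc a ha).1]
      _ = d * (g⁻¹ * a * g) := by group
  have hcard : Nat.card B = 2048 := by
    rw [eB, Nat.card_congr (Subgroup.subgroupOfEquivOfLe hle).toEquiv,
      Subgroup.card_map_of_injective (MulAut.conj g⁻¹).injective, eA,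
      Subgroup.card_map_of_injective (Subgroup.subtype_injective _), cover22_card hC hD hP h hsq hE]
  obtain ⟨E', hE', eE'⟩ := (cover22_bound hC hD hP h hsq (B := B) fun b hb => by
    obtain ⟨a, ha, e⟩ := Subgroup.mem_subgroupOf.1 (eB ▸ hb)
    refine Subtype.ext ?_
    rw [Subgroup.coe_mul, ← e, ← map_mul, (hAc a ha).2, map_one]; rfl).2 hcard
  obtain ⟨k, hk⟩ := m22j_conj hD hP h hE' hE
  obtain ⟨c, hc⟩ := hC.surj k
  have hcd : (c : G) * d = d * c := Subgroup.mem_centralizer_singleton_iff.1 c.2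
  refine ⟨g * (c : G)⁻¹, Subgroup.mem_normalizer_iff.2 fun a => ?_, ?_⟩
  · have step : ∀ b : G, b ∈ A ↔ g * (c : G)⁻¹ * b * (g * (c : G)⁻¹)⁻¹ ∈ A := by
      intro b
      have hA' : A.map (MulAut.conj g⁻¹).toMonoidHom =
          B.map (Subgroup.centralizer ({d} : Set G)).subtype := by
        rw [eB, Subgroup.map_subgroupOf_eq_of_le hle]
      have h1 : g * (c : G)⁻¹ * b * (g * (c : G)⁻¹)⁻¹ ∈ A ↔
          (c : G)⁻¹ * b * c ∈ B.map (Subgroup.centralizer ({d} : Set G)).subtype := by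
        rw [← hA', ← Subgroup.mem_map_iff_mem (f := (MulAut.conj g⁻¹).toMonoidHom)
          (MulAut.conj g⁻¹).injective]
        simp [mul_assoc]
      rw [h1, eE', eA]
      constructor
      · rintro ⟨v, hv, rfl⟩
        refine ⟨c⁻¹ * v * c, ?_, rfl⟩
        rw [SetLike.mem_coe, Subgroup.mem_comap, ← hk, closure22_conj] at hv
        obtain ⟨w, hw, e⟩ := hv
        rw [SetLike.mem_coe, Subgroup.mem_comap, map_mul, map_mul, map_inv, hc, ← e]
        simpa [mul_assoc] using hw
      · rintro ⟨v, hv, e⟩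
        refine ⟨c * v * c⁻¹, ?_, ?_⟩
        · rw [SetLike.mem_coe, Subgroup.mem_comap, ← hk, closure22_conj, map_mul, map_mul,
            map_inv, hc]
          exact ⟨π v, hv, rfl⟩
        · show (c : G) * (v : G) * (c : G)⁻¹ = b
          rw [show (v : G) = (c : G)⁻¹ * b * c from e]
          group
    exact step a
  · rw [← hg]
    calc g * (c : G)⁻¹ * d * (g * (c : G)⁻¹)⁻¹ = g * ((c : G)⁻¹ * (d * c)) * g⁻¹ := by group
      _ = g * d * g⁻¹ := by rw [← hcd, inv_mul_cancel_left]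

end Main

end CfsgLib.PLocal.M22J
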