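import Cfsg.Agent.Lib.PLocal.M22JRankThree
import Mathlib.GroupTheory.Subgroup.Centralizer

/-!
No orbit of 254 conjugates on which the stabiliser of a point has orbits of lengths 22 and 231.
-/

set_option autoImplicit false
set_option linter.unusedSectionVars false

namespace CfsgLib.PLocal.M22J

variable {G : Type*} [Group G]

theorem rank_contra (N : Subgroup G) (Δ : Finset G) {d : G} (hdΔ : d ∈ Δ) (hcard : Δ.card = 254)
    (hN : ∀ n ∈ N, ∀ x ∈ Δ, n * x * n⁻¹ ∈ Δ) (trans : ∀ x ∈ Δ, ∃ n ∈ N, n * d * n⁻¹ = x)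
    (M : Finset G) (hM : M ⊆ Δ) (hdM : d ∉ M) (hMc : M.card = 22)
    (stab : ∀ n ∈ N, n * d * n⁻¹ = d → ∀ y ∈ M, n * y * n⁻¹ ∈ M)
    (tr₁ : ∀ y ∈ M, ∀ y' ∈ M, ∃ n ∈ N, n * d * n⁻¹ = d ∧ n * y * n⁻¹ = y')
    (tr₂ : ∀ y ∈ Δ, y ∉ M → y ≠ d → ∀ y' ∈ Δ, y' ∉ M → y' ≠ d →
      ∃ n ∈ N, n * d * n⁻¹ = d ∧ n * y * n⁻¹ = y') : False := by
  classical
  choose t ht ht' using trans
  obtain ⟨R, eR⟩ : ∃ R : {x // x ∈ Δ} → {x // x ∈ Δ} → Prop,
      R = fun x y => (t x.1 x.2)⁻¹ * y.1 * t x.1 x.2 ∈ M := ⟨_, rfl⟩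
  have inj : ∀ {g a b : G}, g * a * g⁻¹ = g * b * g⁻¹ → a = b := fun e =>
    mul_left_cancel (mul_right_cancel e)
  have back : ∀ {n a b : G}, n * a * n⁻¹ = b → a = n⁻¹ * b * n := fun e => by rw [← e]; group
  have hR : ∀ {n : G}, n ∈ N → ∀ x : {x // x ∈ Δ}, n * d * n⁻¹ = x.1 →
      ∀ y, R x y ↔ n⁻¹ * y.1 * n ∈ M := by
    intro n hn x hnx y
    have key : ∀ {p q : G}, p ∈ N → q ∈ N → p * d * p⁻¹ = x.1 → q * d * q⁻¹ = x.1 →
        p⁻¹ * y.1 * p ∈ M → q⁻¹ * y.1 * q ∈ M := fun {p q} hp hq hpx hqx hm => by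
      have := stab (q⁻¹ * p) (mul_mem (inv_mem hq) hp)
        (by rw [show q⁻¹ * p * d * (q⁻¹ * p)⁻¹ = q⁻¹ * (p * d * p⁻¹) * q by group, hpx,
          ← back hqx]) _ hm
      rwa [show q⁻¹ * p * (p⁻¹ * y.1 * p) * (q⁻¹ * p)⁻¹ = q⁻¹ * y.1 * q by group] at this
    rw [eR]
    exact ⟨key (ht _ _) hn (ht' _ _) hnx, key hn (ht _ _) hnx (ht' _ _)⟩
  have act : ∀ {n : G}, n ∈ N → ∀ x y x' y' : {x // x ∈ Δ}, n * x.1 * n⁻¹ = x'.1 →
      n * y.1 * n⁻¹ = y'.1 → (R x y ↔ R x' y') := by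
    intro n hn x y x' y' ex ey
    rw [hR (ht x.1 x.2) x (ht' _ _) y, hR (mul_mem hn (ht x.1 x.2)) x' (by
      rw [← ex]; conv_rhs => rw [← ht' x.1 x.2]
      group) y', ← ey]
    congr! 1
    group
  have irr : ∀ x, ¬ R x x := fun x hx => by
    rw [hR (ht x.1 x.2) x (ht' _ _) x, ← back (ht' _ _)] at hx
    exact hdM hx
  have hdiff : ∀ {n : G} {x y : {x // x ∈ Δ}}, n * d * n⁻¹ = x.1 → x ≠ y → n⁻¹ * y.1 * n ≠ d :=
    fun {n x y} e hne k => hne (Subtype.ext (by rw [← e, ← k]; group))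
  -- transitivity on related and on unrelated pairs
  have both : ∀ x y x' y' : {x // x ∈ Δ}, x ≠ y → x' ≠ y' → (R x y ↔ R x' y') →
      ∃ n ∈ N, n * x.1 * n⁻¹ = x'.1 ∧ n * y.1 * n⁻¹ = y'.1 := by
    intro x y x' y' hne hne' hiff
    obtain ⟨p, ep⟩ : ∃ p, p = t x.1 x.2 := ⟨_, rfl⟩
    obtain ⟨q, eq⟩ : ∃ q, q = t x'.1 x'.2 := ⟨_, rfl⟩
    have hp : p ∈ N := ep ▸ ht _ _
    have hq : q ∈ N := eq ▸ ht _ _
    have hpx : p * d * p⁻¹ = x.1 := ep ▸ ht' _ _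
    have hqx : q * d * q⁻¹ = x'.1 := eq ▸ ht' _ _
    have my : ∀ {g : G}, g ∈ N → ∀ w : {x // x ∈ Δ}, g⁻¹ * w.1 * g ∈ Δ := fun hg w => by
      have := hN _ (inv_mem hg) w.1 w.2
      rwa [inv_inv] at this
    obtain ⟨n, hn, nd, ny⟩ : ∃ n ∈ N, n * d * n⁻¹ = d ∧
        n * (p⁻¹ * y.1 * p) * n⁻¹ = q⁻¹ * y'.1 * q := by
      rw [hR hp x hpx, hR hq x' hqx] at hiff
      by_cases hc : p⁻¹ * y.1 * p ∈ M
      · exact tr₁ _ hc _ (hiff.1 hc)
      · exact tr₂ _ (my hp y) hc (hdiff hpx hne) _ (my hq y') (fun k => hc (hiff.2 k))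
          (hdiff hqx hne')
    refine ⟨q * n * p⁻¹, mul_mem (mul_mem hq hn) (inv_mem hp), ?_, ?_⟩
    · calc q * n * p⁻¹ * x.1 * (q * n * p⁻¹)⁻¹ = q * (n * (p⁻¹ * x.1 * p) * n⁻¹) * q⁻¹ := by group
        _ = x'.1 := by rw [← back hpx, nd, hqx]
    · calc q * n * p⁻¹ * y.1 * (q * n * p⁻¹)⁻¹ = q * (n * (p⁻¹ * y.1 * p) * n⁻¹) * q⁻¹ := by group
        _ = y'.1 := by rw [ny]; group
  have val : ∀ x, (Finset.univ.filter fun y => R x y).card = 22 := by
    intro x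
    rw [← hMc]
    refine Finset.card_bij (fun y _ => (t x.1 x.2)⁻¹ * y.1 * t x.1 x.2) (fun y hy => ?_)
      (fun a _ b _ e => Subtype.ext (mul_left_cancel (mul_right_cancel e))) fun w hw => ?_
    · rw [Finset.mem_filter] at hy
      exact (hR (ht _ _) x (ht' _ _) y).1 hy.2
    · obtain ⟨n, en⟩ : ∃ n, n = t x.1 x.2 := ⟨_, rfl⟩
      have hnN : n ∈ N := en ▸ ht _ _
      have hnx : n * d * n⁻¹ = x.1 := en ▸ ht' _ _
      have hw0 : n⁻¹ * (n * w * n⁻¹) * n = w := by group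
      refine ⟨⟨_, hN _ hnN w (hM hw)⟩, ?_, en ▸ hw0⟩
      rw [Finset.mem_filter, hR hnN x hnx]
      exact ⟨Finset.mem_univ _, hw0.symm ▸ hw⟩
  have symm : ∀ x y, R x y → R y x := by
    intro x y hxy
    by_contra hn
    have hne : x ≠ y := fun e => irr y (e ▸ hxy)
    have hall : ∀ u v : {x // x ∈ Δ}, u ≠ v → ¬ R u v → R v u := by
      intro u v huv hnuv
      obtain ⟨n, hnN, e1, e2⟩ := both y x u v (Ne.symm hne) huv (iff_of_false hn hnuv)
      exact (act hnN x y v u e2 e1).1 hxy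
    have hsum : ∀ u, ((Finset.univ.filter fun v => ¬ R u v).erase u).card = 231 := fun u => by
      have := Finset.card_filter_add_card_filter_not (s := (Finset.univ : Finset {x // x ∈ Δ}))
        (fun v => R u v)
      rw [val u, Finset.card_univ, Fintype.card_coe, hcard] at this
      rw [Finset.card_erase_of_mem (by simp [irr u])]
      omega
    have h1 : ∑ u, ((Finset.univ.filter fun v => ¬ R u v).erase u).card ≤
        ∑ u, (Finset.univ.filter fun v => R u v).card := by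
      rw [← Finset.card_sigma, ← Finset.card_sigma]
      refine Finset.card_le_card_of_injOn (fun p => ⟨p.2, p.1⟩) (fun p hp => ?_) ?_
      · simp only [Finset.mem_coe, Finset.mem_sigma, Finset.mem_univ, true_and, Finset.mem_erase,
          Finset.mem_filter] at hp ⊢
        exact hall _ _ (Ne.symm hp.1) hp.2
      · rintro ⟨a, b⟩ - ⟨a', b'⟩ - e
        simp only [Sigma.mk.injEq, heq_eq_eq] at e
        obtain ⟨rfl, rfl⟩ := e
        rfl
    simp only [hsum, val, Finset.sum_const, Finset.card_univ, Fintype.card_coe, hcard,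
      smul_eq_mul] at h1
    omega
  have comm_eq : ∀ x y x' y' : {x // x ∈ Δ}, x ≠ y → x' ≠ y' → (R x y ↔ R x' y') →
      (Finset.univ.filter fun w => R x w ∧ R w y).card =
        (Finset.univ.filter fun w => R x' w ∧ R w y').card := by
    intro x y x' y' hne hne' hiff
    obtain ⟨n, hn, e1, e2⟩ := both x y x' y' hne hne' hiff
    refine Finset.card_bij (fun w _ => ⟨n * w.1 * n⁻¹, hN n hn w.1 w.2⟩) (fun w hw => ?_)
      (fun a _ b _ e => Subtype.ext (inj (congrArg Subtype.val e))) fun w hw => ?_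
    · simp only [Finset.mem_filter, Finset.mem_univ, true_and] at hw ⊢
      exact ⟨(act hn x w x' _ e1 rfl).1 hw.1, (act hn w y _ y' rfl e2).1 hw.2⟩
    · simp only [Finset.mem_filter, Finset.mem_univ, true_and] at hw
      have hw' := hN _ (inv_mem hn) w.1 w.2
      rw [inv_inv] at hw'
      have ew : n * (n⁻¹ * w.1 * n) * n⁻¹ = w.1 := by group
      refine ⟨⟨_, hw'⟩, ?_, Subtype.ext ew⟩
      simp only [Finset.mem_filter, Finset.mem_univ, true_and]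
      exact ⟨(act hn x _ x' w e1 ew).2 hw.1, (act hn _ y w y' ew e2).2 hw.2⟩
  have x₀ : {x // x ∈ Δ} := ⟨d, hdΔ⟩
  obtain ⟨y₁, hy₁⟩ : ∃ y, R x₀ y := by
    obtain ⟨y, hy⟩ := Finset.card_pos.1 (show 0 < (Finset.univ.filter fun y => R x₀ y).card by
      rw [val]; norm_num)
    exact ⟨y, (Finset.mem_filter.1 hy).2⟩
  obtain ⟨y₂, hy₂, hne₂⟩ : ∃ y, ¬ R x₀ y ∧ x₀ ≠ y := by
    by_contra! hno
    have hsub : Finset.univ ⊆ insert x₀ (Finset.univ.filter fun y => R x₀ y) := fun y _ => by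
      by_cases k : R x₀ y
      · simp [k]
      · simp [← hno y k]
    have h1 := (Finset.card_le_card hsub).trans (Finset.card_insert_le _ _)
    rw [val, Finset.card_univ, Fintype.card_coe, hcard] at h1
    omega
  have hne₁ : x₀ ≠ y₁ := fun e => irr y₁ (e ▸ hy₁)
  refine no_rank_three (R := R) (by rw [Fintype.card_coe, hcard]) irr symm val
    (lam := (Finset.univ.filter fun w => R x₀ w ∧ R w y₁).card)
    (mu := (Finset.univ.filter fun w => R x₀ w ∧ R w y₂).card) (fun x y hxy => ?_)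
    fun x y hne hxy => ?_
  · exact comm_eq x y x₀ y₁ (fun e => irr y (e ▸ hxy)) hne₁ (iff_of_true hxy hy₁)
  · exact comm_eq x y x₀ y₂ hne hne₂ (iff_of_false hxy hy₂)

end CfsgLib.PLocal.M22J
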