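import Cfsg.Agent.Lib.PLocal.M22JSpan
import Cfsg.Agent.Lib.Trans3.Fi.TwoPairE
import Mathlib.Algebra.Order.BigOperators.Group.Finset

/-!
Products of pairs in a maximal commuting set of a group of type M(22): for a given pair, at most 30
pairs disjoint from it give with it a product of at most two members.
-/

set_option autoImplicit false
set_option linter.unusedSectionVars false
set_option linter.unusedSimpArgs false

namespace CfsgLib.PLocal.M22J

open CfsgLib.Trans3 CfsgLib.Trans3.Fi CfsgLib.PLocal.U6J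

variable {G : Type*} [Group G] [Finite G] {D : Set G}
variable (hD : Cfsg.IsThreeTranspositionGroup D) (hP : Cfsg.IsPrimitiveUnderConj D)
variable (h : Cfsg.IsOfTypeM22 G D)
variable {X : Finset G} (hX : Clique22 D X)
include hD hP h hX

/-- A product of two members determines them. -/
theorem m22j_pair_eq {a b c d : G} (ha : a ∈ X) (hb : b ∈ X) (hab : a ≠ b) (hc : c ∈ X) (hd : d ∈ X)
    (hcd : c ≠ d) (e : a * b = c * d) : (c = a ∧ d = b) ∨ (c = b ∧ d = a) := by
  have hne := m22j_nbr hD hP h hX ha hb hab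
  have k1 := pair_determined hD hP h (hX.sub a ha) hne (hX.sub a ha) (hX.sub b hb) hab
    (hX.comm a ha b hb) (hX.sub c hc) (hX.sub d hd) hcd (hX.comm c hc d hd) e
  rcases k1 with rfl | rfl
  · exact Or.inl ⟨rfl, (mul_left_cancel e).symm⟩
  · refine Or.inr ⟨rfl, ?_⟩
    rw [(hX.comm a ha c hc).eq] at e
    exact (mul_left_cancel e).symm

/-- A member times a pair not containing it. -/
theorem m22j_mem_triple {a b c : G} (ha : a ∈ X) (hb : b ∈ X) (hab : a ≠ b) (hc : c ∈ X)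
    (hca : c ≠ a) (hcb : c ≠ b) : c * (a * b) ∈ tripleSet (X : Set G) :=
  ⟨c, hc, a, ha, b, hb, hca, hcb, hab, (mul_assoc _ _ _).symm⟩

/-- Two disjoint pairs whose product is short lie in a block. -/
theorem m22j_four {a b c d : G} (ha : a ∈ X) (hb : b ∈ X) (hc : c ∈ X) (hd : d ∈ X) (hab : a ≠ b)
    (hac : a ≠ c) (had : a ≠ d) (hbc : b ≠ c) (hbd : b ≠ d) (hcd : c ≠ d)
    (hw : c * d * (a * b) ∈ X ∨ c * d * (a * b) ∈ pairSet (X : Set G)) :
    ∃ B, CBlock X B ∧ a ∈ B ∧ b ∈ B ∧ c ∈ B ∧ d ∈ B := by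
  classical
  have hcl : ∀ {x}, x ∈ X → x ∈ Subgroup.closure (X : Set G) := fun hx => Subgroup.subset_closure hx
  obtain ⟨-, -, hpair, htri⟩ := m22j_kinds hD hP h hX
  have hT : ∀ {p q r : G}, p ∈ X → q ∈ X → r ∈ X → p ≠ q → p ≠ r → q ≠ r →
      p * q * r ∈ tripleSet (X : Set G) := fun {p q r} hp hq hr k1 k2 k3 =>
    ⟨p, hp, q, hq, r, hr, k1, k2, k3, rfl⟩
  have sq : ∀ {x}, x ∈ X → x * x = 1 := fun hx => Trans3.sq_one hD.1 (hX.sub _ hx)
  have cm : ∀ {x y}, x ∈ Subgroup.closure (X : Set G) → y ∈ Subgroup.closure (X : Set G) →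
      x * y = y * x := fun hx hy => ((clique_elem hD hX hx).2 _ hy).eq
  obtain ⟨u, eu⟩ : ∃ u, u = a * b * c := ⟨_, rfl⟩
  have hu : u ∈ tripleSet (X : Set G) := eu ▸ hT ha hb hc hab hac hbc
  obtain ⟨hu1, hu2, hu3, huW⟩ := htri u hu
  have eud : c * d * (a * b) = u * d := by
    rw [cm (mul_mem (hcl hc) (hcl hd)) (mul_mem (hcl ha) (hcl hb)), eu, mul_assoc (a * b)]
  rw [eud] at hw
  rcases hw with hw | ⟨e, he, f, hf, hef, hw⟩
  · exfalso
    obtain ⟨e, ee⟩ : ∃ e, e = u * d := ⟨_, rfl⟩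
    rw [← ee] at hw
    have hue : u = e * d := by rw [ee, mul_assoc, sq hd, mul_one]
    by_cases k : e = d
    · exact hu2 (by rw [hue, k, sq hd])
    · exact hu3 ⟨e, hw, d, hd, k, hue⟩
  rw [Finset.mem_coe] at he hf
  have hue : u = e * f * d := by rw [← hw, mul_assoc, sq hd, mul_one]
  have hfd : f ≠ d := fun k => hu1 (by rw [hue, k, mul_assoc, sq hd, mul_one]; exact he)
  have hed : e ≠ d := fun k => hu1 (by
    rw [hue, k, (hX.comm d hd f hf).eq, mul_assoc, sq hd, mul_one]; exact hf)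
  have hsd : ∀ {p q r : G}, p ∈ X → q ∈ X → r ∈ X → p ≠ q → p ≠ r → q ≠ r →
      fprod ({p, q, r} : Finset G) = p * q * r := fun {p q r} hp hq hr k1 k2 k3 => by
    rw [fprod_list (l := [p, q, r]) (fun x hx y hy => hX.comm x (by
      simp only [Finset.mem_insert, Finset.mem_singleton] at hx
      rcases hx with rfl | rfl | rfl <;> assumption) y (by
      simp only [Finset.mem_insert, Finset.mem_singleton] at hy
      rcases hy with rfl | rfl | rfl <;> assumption)) (by simp [k1, k2, k3]) (fun x => by simp)]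
    simp [mul_assoc]
  have hdis : Disjoint ({a, b, c} : Finset G) {e, f, d} := by
    rw [Finset.disjoint_left]
    intro x hx hx'
    simp only [Finset.mem_insert, Finset.mem_singleton] at hx hx'
    have split : ∀ {p q r y : G}, p ∈ X → q ∈ X → r ∈ X → p ≠ q → p ≠ r → q ≠ r →
        (y = p ∨ y = q ∨ y = r) →
        ∃ s t, s ∈ X ∧ t ∈ X ∧ s ≠ t ∧ p * q * r = y * (s * t) ∧
          (∀ w, w = p ∨ w = q ∨ w = r ↔ w = y ∨ w = s ∨ w = t) := by
      intro p q r y hp hq hr k1 k2 k3 hy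
      rcases hy with rfl | rfl | rfl
      · exact ⟨q, r, hq, hr, k3, mul_assoc _ _ _, fun w => Iff.rfl⟩
      · exact ⟨p, r, hp, hr, k2, by rw [(hX.comm p hp y hq).eq, mul_assoc], fun w => by tauto⟩
      · exact ⟨p, q, hp, hq, k1, cm (mul_mem (hcl hp) (hcl hq)) (hcl hr), fun w => by tauto⟩
    obtain ⟨s, t, hs, ht, hst, e1, h1⟩ := split ha hb hc hab hac hbc hx
    obtain ⟨s', t', hs', ht', hst', e2, h2⟩ := split he hf hd hef hed hfd hx'
    rw [← eu, hue, e2] at e1
    have := m22j_pair_eq hD hP h hX hs ht hst hs' ht' hst' (mul_left_cancel e1).symm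
    have hd' : d = a ∨ d = b ∨ d = c := by
      rw [h1]
      rcases (h2 d).1 (Or.inr (Or.inr rfl)) with k | k | k
      · exact Or.inl k
      all_goals rcases this with ⟨k1, k2⟩ | ⟨k1, k2⟩ <;> simp [k, k1, k2]
    rcases hd' with k | k | k
    exacts [had k.symm, hbd k.symm, hcd k.symm]
  refine ⟨{a, b, c} ∪ {e, f, d}, ⟨?_, ?_, ?_⟩, by simp, by simp, by simp, by simp⟩
  · simp [Finset.insert_subset_iff, Finset.union_subset_iff, ha, hb, hc, he, hf, hd]
  · rw [Finset.card_union_of_disjoint hdis]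
    simp [hab, hac, hbc, hef, hed, hfd]
  · rw [fprod_union hdis fun x hx y hy => hX.comm x ?_ y ?_, hsd ha hb hc hab hac hbc,
      hsd he hf hd hef hed hfd, ← eu, ← hue, (clique_elem hD hX huW).1]
    all_goals
      simp only [Finset.mem_union, Finset.mem_insert, Finset.mem_singleton] at hx hy
      aesop

/-- Few pairs go with a given one. -/
theorem m22j_thirty {a b : G} (ha : a ∈ X) (hb : b ∈ X) (hab : a ≠ b) :
    ∃ Q : Finset G, Q.card ≤ 30 ∧ ∀ c ∈ X, ∀ d ∈ X, c ≠ a → c ≠ b → d ≠ a → d ≠ b → c ≠ d →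
      (c * d * (a * b) ∈ X ∨ c * d * (a * b) ∈ pairSet (X : Set G)) → c * d ∈ Q := by
  classical
  obtain ⟨S, eS⟩ : ∃ S : Finset (G × G), S = ((X \ {a, b}) ×ˢ (X \ {a, b})).filter fun p =>
      p.1 ≠ p.2 ∧ ∃ B, CBlock X B ∧ a ∈ B ∧ b ∈ B ∧ p.1 ∈ B ∧ p.2 ∈ B := ⟨_, rfl⟩
  have hS : S.card ≤ 60 := by
    refine (Finset.card_le_mul_card_image_of_maps_to (f := Prod.fst) (t := X \ {a, b})
      (fun p hp => ?_) 3 fun c hc => ?_).trans ?_
    · rw [eS, Finset.mem_filter, Finset.mem_product] at hp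
      exact hp.1.1
    · simp only [Finset.mem_sdiff, Finset.mem_insert, Finset.mem_singleton, not_or] at hc
      have h3 : ({a, b, c} : Finset G).card = 3 := by simp [hab, Ne.symm hc.2.1, Ne.symm hc.2.2]
      obtain ⟨B, hB, hsB, hu⟩ := block_data hD hP h hX (s := {a, b, c})
        (by simp [Finset.insert_subset_iff, ha, hb, hc.1]) h3
      refine (Finset.card_le_card (t := (B \ {a, b, c}).image fun d => (c, d)) ?_).trans
        (Finset.card_image_le.trans ?_)
      · rintro ⟨p, q⟩ hp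
        simp only [eS, Finset.mem_filter, Finset.mem_product, Finset.mem_sdiff, Finset.mem_insert,
          Finset.mem_singleton, not_or] at hp
        obtain ⟨⟨⟨⟨-, -⟩, -, hqa, hqb⟩, hpq, B', hB', h1, h2, h3', h4⟩, rfl⟩ := hp
        rw [hu B' hB' (by simp [Finset.insert_subset_iff, h1, h2, h3'])] at h4
        exact Finset.mem_image.2 ⟨q, by simp [h4, hqa, hqb, Ne.symm hpq], rfl⟩
      · rw [Finset.card_sdiff_of_subset hsB, hB.card, h3]
    · rw [Finset.card_sdiff_of_subset (by simp [Finset.insert_subset_iff, ha, hb]), hX.card]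
      simp [hab]
  refine ⟨S.image fun p => p.1 * p.2, ?_, fun c hc d hd hca hcb hda hdb hcd hw => ?_⟩
  · have := Finset.mul_card_image_le_card (f := fun p : G × G => p.1 * p.2) S 2 fun w hw => by
      obtain ⟨⟨p, q⟩, hp, rfl⟩ := Finset.mem_image.1 hw
      simp only [eS, Finset.mem_filter, Finset.mem_product] at hp
      refine le_of_eq_of_le ?_ (Finset.card_le_card (s := {(p, q), (q, p)}) ?_)
      · rw [Finset.card_pair (by simp [hp.2.1])]
      · intro r hr
        simp only [Finset.mem_insert, Finset.mem_singleton] at hr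
        obtain ⟨B, hB, h1, h2, h3, h4⟩ := hp.2.2
        rw [Finset.mem_filter, eS, Finset.mem_filter, Finset.mem_product]
        rcases hr with rfl | rfl
        · exact ⟨⟨hp.1, hp.2.1, B, hB, h1, h2, h3, h4⟩, rfl⟩
        · exact ⟨⟨⟨hp.1.2, hp.1.1⟩, Ne.symm hp.2.1, B, hB, h1, h2, h4, h3⟩,
            hX.comm q (hB.sub h4) p (hB.sub h3)⟩
    omega
  · obtain ⟨B, hB, h1, h2, h3, h4⟩ := m22j_four hD hP h hX ha hb hc hd hab (Ne.symm hca)
      (Ne.symm hda) (Ne.symm hcb) (Ne.symm hdb) hcd hw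
    exact Finset.mem_image.2 ⟨(c, d), by
      simp [eS, hc, hd, hca, hcb, hda, hdb, hcd, hB, h1, h2, h3, h4]
      exact ⟨B, hB, h1, h2, h3, h4⟩, rfl⟩

end CfsgLib.PLocal.M22J
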