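import Cfsg.Agent.Lib.PLocal.M22JCases
import Cfsg.Agent.Lib.PLocal.M22JOrbit
import Cfsg.Agent.Lib.PLocal.M22JPairs

/-!
A double cover of a group of type M(22): the conjugates of the covering involution are neither one
lift of each member and pair nor both lifts of each member and one of each pair.
-/

set_option autoImplicit false
set_option linter.unusedSectionVars false
set_option linter.unusedSimpArgs false

namespace CfsgLib.PLocal.M22J

open CfsgLib.Trans3 CfsgLib.Trans3.Fi CfsgLib.PLocal.U6J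

variable {G : Type*} [Group G] [Finite G] {d : G} {X : Type*} [Group X] [Finite X]
variable {π : ↥(Subgroup.centralizer ({d} : Set G)) →* X}
variable {z : ↥(Subgroup.centralizer ({d} : Set G))} {D : Set X}
variable (hzd : (z : G) = d) (hd : orderOf d = 2) (hC : DCov π z)
  (hD : Cfsg.IsThreeTranspositionGroup D)
  (hP : Cfsg.IsPrimitiveUnderConj D) (h : Cfsg.IsOfTypeM22 X D)
  (hsq : ∀ u : ↥(Subgroup.centralizer ({d} : Set G)), π u ∈ D → u * u = 1)
  (hperf : _root_.commutator ↥(Subgroup.centralizer ({d} : Set G)) = ⊤)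
  (hnwc : ∃ g : G, g * d * g⁻¹ ∈ Subgroup.centralizer ({d} : Set G) ∧ g * d * g⁻¹ ≠ d)
variable {Y : Finset X} (hE : Clique22 D Y)
variable {A : Subgroup G}
  (eA : A = ((Subgroup.closure (Y : Set X)).comap π).map
    (Subgroup.centralizer ({d} : Set G)).subtype)
variable {Δ : Finset ↥(Subgroup.centralizer ({d} : Set G))}
  (eΔ : ∀ u, u ∈ Δ ↔ π u ∈ Subgroup.closure (Y : Set X) ∧ IsConj d (u : G))
variable [DecidableEq ↥(Subgroup.centralizer ({d} : Set G))]
include hzd hd hC hD hP h hsq hperf hnwc hE eA eΔ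

/-- What is left in a distribution without products of three. -/
theorem delta_two (f3 : Fib π z Δ (tripleSet (Y : Set X)) 0)
    {u : ↥(Subgroup.centralizer ({d} : Set G))} (hu : u ∈ Δ) (huz : u ≠ z) :
    π u ∈ (Y : Set X) ∨ π u ∈ pairSet (Y : Set X) := by
  rcases delta_class hzd hd hC hD hP h hsq hperf hnwc hE eA eΔ ((eΔ u).1 hu).1
    (fun e => delta_one hzd hd hC hD hP h hsq hperf hnwc hE eA eΔ (e ▸ hu)) huz with k | k | k
  exacts [Or.inl k, Or.inr k, absurd hu (f3.zero k)]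

/-- Not one lift of each member and of each pair. -/
theorem not_rank_three (f1 : Fib π z Δ (Y : Set X) 1) (f2 : Fib π z Δ (pairSet (Y : Set X)) 1)
    (f3 : Fib π z Δ (tripleSet (Y : Set X)) 0) (hcard : Δ.card = 254) : False := by
  classical
  obtain ⟨M₀, eM₀⟩ : ∃ M₀, M₀ = Δ.filter fun u => π u ∈ Y := ⟨_, rfl⟩
  obtain ⟨v, ev⟩ : ∃ v : ↥(Subgroup.centralizer ({d} : Set G)) → G, v = fun u : ↥(Subgroup.centralizer ({d} : Set G)) => (u : G) := ⟨_, rfl⟩
  have vinj : Function.Injective v := by rw [ev]; exact Subtype.val_injective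
  have hz := delta_z hzd hd hC hD hP h hsq hperf hnwc hE eA eΔ
  have hNmove : ∀ n ∈ Subgroup.normalizer (A : Set G), ∀ x ∈ Δ.image v, n * x * n⁻¹ ∈ Δ.image v := by
    intro n hn x hx
    have hor := delta_orbit hzd hd hC hD hP h hsq hperf hnwc hE eA eΔ
    rw [Finset.mem_image] at hx
    obtain ⟨u, hu, rfl⟩ := hx
    obtain ⟨m, hm, e⟩ : v u ∈ {x : G | ∃ m ∈ Subgroup.normalizer (A : Set G), m * d * m⁻¹ = x} :=
      hor.symm ▸ ⟨u, hu, by rw [ev]⟩
    have : n * v u * n⁻¹ ∈ {x : G | ∃ m ∈ Subgroup.normalizer (A : Set G), m * d * m⁻¹ = x} :=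
      ⟨n * m, mul_mem hn hm, by rw [← e]; group⟩
    rw [hor] at this
    obtain ⟨u', hu', e'⟩ := this
    exact Finset.mem_image.2 ⟨u', hu', (congrFun ev u').trans e'⟩
  have hcz : ∀ c : ↥(Subgroup.centralizer ({d} : Set G)), (c : G) * d * (c : G)⁻¹ = d := fun c =>
    mul_inv_eq_iff_eq_mul.2 (Subgroup.mem_centralizer_singleton_iff.1 c.2)
  have move : ∀ c, π c ∈ setFix (Y : Set X) → ∀ u ∈ Δ, ∀ u' ∈ Δ, ∀ S : Set X, Fib π z Δ S 1 →
      π u' ∈ S → π c * π u * (π c)⁻¹ = π u' → (c : G) * v u * (c : G)⁻¹ = v u' := by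
    intro c hc u hu u' hu' S hS huS e
    have := hS.one_unique hC hu' (delta_conj hzd hd hC hD hP h hsq hperf hnwc hE eA eΔ hc hu) huS
      (by rw [map_mul, map_mul, map_inv, e])
    rw [ev, this]
    rfl
  refine rank_contra (Subgroup.normalizer (A : Set G)) (Δ.image v) (d := d)
    (Finset.mem_image.2 ⟨z, hz, by rw [ev]; exact hzd⟩)
    (by rw [Finset.card_image_of_injective _ vinj, hcard]) hNmove (fun x hx => ?_)
    (M₀.image v) (Finset.image_subset_image (eM₀ ▸ Finset.filter_subset _ _)) (fun hm => ?_) ?_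
    (fun n hn hnd y hy => ?_) (fun y hy y' hy' => ?_) (fun y hy hyM hyd y' hy' hyM' hyd' => ?_)
  · obtain ⟨u, hu, rfl⟩ := Finset.mem_image.1 hx
    obtain ⟨m, hm, e⟩ : v u ∈ {x : G | ∃ m ∈ Subgroup.normalizer (A : Set G), m * d * m⁻¹ = x} :=
      (delta_orbit hzd hd hC hD hP h hsq hperf hnwc hE eA eΔ).symm ▸ ⟨u, hu, by rw [ev]⟩
    exact ⟨m, hm, e⟩
  · obtain ⟨u, hu, e⟩ := Finset.mem_image.1 hm
    rw [eM₀, Finset.mem_filter] at hu
    have : u = z := vinj (e.trans (by rw [ev]; exact hzd.symm))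
    rw [this, dcov_map_z hC] at hu
    exact invol_ne_one (hD.1.1 _ (hE.sub _ hu.2)) rfl
  · rw [Finset.card_image_of_injective _ vinj, ← hE.card, eM₀]
    refine Finset.card_bij (fun u _ => π u) (fun u hu => (Finset.mem_filter.1 hu).2)
      (fun u hu u' hu' e => f1.one_unique hC (Finset.mem_filter.1 hu).1 (Finset.mem_filter.1 hu').1
        (Finset.mem_filter.1 hu).2 e) fun w hw => ?_
    obtain ⟨u, hu, rfl⟩ := f1.one_exists hC (w := w) hw
    exact ⟨u, Finset.mem_filter.2 ⟨hu, hw⟩, rfl⟩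
  · obtain ⟨u, hu, rfl⟩ := Finset.mem_image.1 hy
    rw [eM₀, Finset.mem_filter] at hu
    obtain ⟨c, rfl, hc⟩ := stab_fix hzd hd hC hD hP h hsq hperf hnwc hE eA hn hnd
    refine Finset.mem_image.2 ⟨c * u * c⁻¹, ?_, by rw [ev]; rfl⟩
    rw [eM₀, Finset.mem_filter]
    refine ⟨delta_conj hzd hd hC hD hP h hsq hperf hnwc hE eA eΔ hc hu.1, ?_⟩
    rw [map_mul, map_mul, map_inv]
    exact hc _ hu.2
  · obtain ⟨u, hu, rfl⟩ := Finset.mem_image.1 hy
    obtain ⟨u', hu', rfl⟩ := Finset.mem_image.1 hy'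
    rw [eM₀, Finset.mem_filter] at hu hu'
    obtain ⟨k, hk, e⟩ := m22j_trans_one hD hP h hE hu.2 hu'.2
    obtain ⟨c, rfl⟩ := hC.surj k
    exact ⟨c, fix_norm hzd hd hC hD hP h hsq hperf hnwc hE eA hk, hcz c,
      move c hk u hu.1 u' hu'.1 _ f1 hu'.2 e⟩
  · obtain ⟨u, hu, rfl⟩ := Finset.mem_image.1 hy
    obtain ⟨u', hu', rfl⟩ := Finset.mem_image.1 hy'
    have hpair : ∀ w ∈ Δ, v w ∉ M₀.image v → v w ≠ d → π w ∈ pairSet (Y : Set X) := by
      intro w hw hwM hwd
      rcases delta_two hzd hd hC hD hP h hsq hperf hnwc hE eA eΔ f3 hw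
        (fun e => hwd (by rw [e, ev]; exact hzd)) with k | k
      · exact absurd (Finset.mem_image_of_mem v (eM₀ ▸ Finset.mem_filter.2 ⟨hw, k⟩)) hwM
      · exact k
    have hp' := hpair u' hu' hyM' hyd'
    obtain ⟨a, ha, b, hb, hab, e₁⟩ := hpair u hu hyM hyd
    obtain ⟨a', ha', b', hb', hab', e₂⟩ := id hp'
    obtain ⟨k, hk, ea, eb⟩ := m22j_trans_two hD hP h hE (Finset.mem_coe.1 ha) (Finset.mem_coe.1 hb)
      hab (Finset.mem_coe.1 ha') (Finset.mem_coe.1 hb') hab'
    obtain ⟨c, rfl⟩ := hC.surj k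
    exact ⟨c, fix_norm hzd hd hC hD hP h hsq hperf hnwc hE eA hk, hcz c,
      move c hk u hu u' hu' _ f2 hp' (by rw [e₁, e₂, ← ea, ← eb]; group)⟩

/-- Not both lifts of each member and one of each pair. -/
theorem not_doubled (f1 : Fib π z Δ (Y : Set X) 2) (f2 : Fib π z Δ (pairSet (Y : Set X)) 1)
    (f3 : Fib π z Δ (tripleSet (Y : Set X)) 0) : False := by
  classical
  obtain ⟨hkind, -, hPp, hTp⟩ := m22j_kinds hD hP h hE
  have hzA : z ∈ (Subgroup.closure (Y : Set X)).comap π := by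
    rw [Subgroup.mem_comap, dcov_map_z hC]; exact one_mem _
  have hzz := dcov_sq hC
  have zc : ∀ w, w * z = z * w := fun w => (hC.central w).eq
  -- an equivariant lift of the members
  obtain ⟨a₀, ha₀⟩ := Finset.card_pos.1 (show 0 < Y.card by rw [hE.card]; norm_num)
  obtain ⟨t₀, ht₀⟩ := hC.surj a₀
  have hex : ∀ y, ∃ c : ↥(Subgroup.centralizer ({d} : Set G)),
      y ∈ Y → π c ∈ setFix (Y : Set X) ∧ π c * a₀ * (π c)⁻¹ = y := fun y => by
    by_cases hy : y ∈ Y
    · obtain ⟨k, hk, e⟩ := m22j_trans_one hD hP h hE ha₀ hy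
      obtain ⟨c, rfl⟩ := hC.surj k
      exact ⟨c, fun _ => ⟨hk, e⟩⟩
    · exact ⟨1, fun k => absurd k hy⟩
  choose cy hcy using hex
  obtain ⟨s, es⟩ : ∃ s : X → ↥(Subgroup.centralizer ({d} : Set G)),
      s = fun y => cy y * t₀ * (cy y)⁻¹ := ⟨_, rfl⟩
  have ps : ∀ y ∈ Y, π (s y) = y := fun y hy => by
    rw [es, map_mul, map_mul, map_inv, ht₀]; exact (hcy y hy).2
  have equi : ∀ c, π c ∈ setFix (Y : Set X) → ∀ y ∈ Y,
      c * s y * c⁻¹ = s (π c * y * (π c)⁻¹) := by
    intro c hc y hy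
    have hy' : π c * y * (π c)⁻¹ ∈ Y := hc y hy
    have e1 := (hcy y hy).2
    have e2 := (hcy _ hy').2
    rw [es]
    show c * (cy y * t₀ * (cy y)⁻¹) * c⁻¹ = _
    rw [show c * (cy y * t₀ * (cy y)⁻¹) * c⁻¹ = c * cy y * t₀ * (c * cy y)⁻¹ by group]
    refine m22j_lift_conj hC hD hP h (ht₀.symm ▸ hE.sub _ ha₀) ?_
    rw [ht₀, map_mul, e2]
    conv_rhs => rw [← e1]
    group
  have sW : ∀ y ∈ Y, π (s y) ∈ Subgroup.closure (Y : Set X) := fun y hy => by
    rw [ps y hy]; exact Subgroup.subset_closure hy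
  have sq : ∀ y ∈ Y, s y * s y = 1 := fun y hy => hsq _ (by rw [ps y hy]; exact hE.sub y hy)
  have scomm : ∀ a ∈ Y, ∀ b ∈ Y, s a * s b = s b * s a := fun a ha b hb =>
    ((cover22_span hC hD hP h hsq hE (sW a ha)).2 _ (sW b hb)).eq
  have hpair : ∀ {a b : X}, a ∈ Y → b ∈ Y → a ≠ b → π (s a * s b) ∈ pairSet (Y : Set X) :=
    fun {a b} ha hb hab => ⟨a, ha, b, hb, hab, by rw [map_mul, ps a ha, ps b hb]⟩
  obtain ⟨a₁, ha₁, b₁, hb₁, hab₁⟩ := Finset.one_lt_card.1 (show 1 < Y.card by rw [hE.card]; norm_num)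
  obtain ⟨η, hη, hη₁⟩ : ∃ η, (η = 1 ∨ η = z) ∧ s a₁ * s b₁ * η ∈ Δ := by
    obtain ⟨p, hp, ep⟩ := f2.one_exists hC (hpair ha₁ hb₁ hab₁)
    rcases dcov_eq hC ep with e | e
    · exact ⟨1, Or.inl rfl, by rw [mul_one, ← e]; exact hp⟩
    · exact ⟨z, Or.inr rfl, e ▸ hp⟩
  have hηW : π η = 1 := by
    rcases hη with e | e <;> rw [e]
    exacts [map_one π, dcov_map_z hC]
  have hP2 : ∀ {a b : X}, a ∈ Y → b ∈ Y → a ≠ b → s a * s b * η ∈ Δ := by
    intro a b ha hb hab
    obtain ⟨k, hk, ea, eb⟩ := m22j_trans_two hD hP h hE ha₁ hb₁ hab₁ ha hb hab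
    obtain ⟨c, rfl⟩ := hC.surj k
    have hηc : c * η * c⁻¹ = η := by
      rcases hη with e | e <;> rw [e]
      · group
      · rw [(hC.central c).eq, mul_inv_cancel_right]
    have := delta_conj hzd hd hC hD hP h hsq hperf hnwc hE eA eΔ hk hη₁
    rwa [show c * (s a₁ * s b₁ * η) * c⁻¹ = c * s a₁ * c⁻¹ * (c * s b₁ * c⁻¹) * (c * η * c⁻¹) by group,
      equi c hk a₁ ha₁, equi c hk b₁ hb₁, ea, eb, hηc] at this
  obtain ⟨a, ha, b, hb, hab⟩ := Finset.one_lt_card.1 (show 1 < Y.card by rw [hE.card]; norm_num)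
  have hx := hP2 ha hb hab
  have hxz : s a * s b * η ≠ z := fun e => by
    have k := congrArg π e
    rw [map_mul, hηW, mul_one, dcov_map_z hC] at k
    exact (hPp _ (hpair ha hb hab)).2.1 k
  have hxW : π (s a * s b * η) = a * b := by rw [map_mul, map_mul, ps a ha, ps b hb, hηW, mul_one]
  rcases hη with hη' | hη' <;> rw [hη'] at hx hxz hxW hP2
  · -- the members over a pair are interchanged
    rw [mul_one] at hx hxW hxz
    obtain ⟨n, hn, en⟩ : ((s a * s b : ↥(Subgroup.centralizer ({d} : Set G))) : G) ∈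
        {x : G | ∃ m ∈ Subgroup.normalizer (A : Set G), m * d * m⁻¹ = x} :=
      (delta_orbit hzd hd hC hD hP h hsq hperf hnwc hE eA eΔ).symm ▸ ⟨_, hx, rfl⟩
    have pull : ∀ w ∈ Δ, ∃ u ∈ Δ, (u : G) = n⁻¹ * (w : G) * n := by
      intro w hw
      obtain ⟨m, hm, e⟩ : (w : G) ∈ {x : G | ∃ m ∈ Subgroup.normalizer (A : Set G), m * d * m⁻¹ = x} :=
        (delta_orbit hzd hd hC hD hP h hsq hperf hnwc hE eA eΔ).symm ▸ ⟨_, hw, rfl⟩
      have : n⁻¹ * (w : G) * n ∈ {x : G | ∃ m ∈ Subgroup.normalizer (A : Set G), m * d * m⁻¹ = x} :=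
        ⟨n⁻¹ * m, mul_mem (inv_mem hn) hm, by rw [← e]; group⟩
      rw [delta_orbit hzd hd hC hD hP h hsq hperf hnwc hE eA eΔ] at this
      exact this
    have haΔ : s a ∈ Δ := f1.two (by rw [ps a ha]; exact ha)
    have hbΔ : s b ∈ Δ := f1.two (by rw [ps b hb]; exact hb)
    obtain ⟨u, hu, eu⟩ := pull _ haΔ
    obtain ⟨u', hu', eu'⟩ := pull _ hbΔ
    have huu : u' = u * z := by
      have key : s b = s a * (s a * s b) := by rw [← mul_assoc, sq a ha, one_mul]
      apply Subtype.ext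
      show (u' : G) = (u : G) * (z : G)
      rw [eu', key, Subgroup.coe_mul, eu, hzd, ← en]
      group
    have huz : u ≠ z := fun e => by
      have k : (s a : G) = ((s a * s b : ↥(Subgroup.centralizer ({d} : Set G))) : G) := by
        rw [← en, show (s a : G) = n * (u : G) * n⁻¹ by rw [eu]; group, e, hzd]
      have k' := congrArg π (Subtype.ext k : s a = s a * s b)
      rw [hxW, ps a ha] at k'
      exact invol_ne_one (hD.1.1 _ (hE.sub _ hb)) (left_eq_mul.1 k')
    have huY : π u ∈ (Y : Set X) := by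
      rcases delta_two hzd hd hC hD hP h hsq hperf hnwc hE eA eΔ f3 hu huz with k | k
      · exact k
      · exfalso
        have := f2.one_unique hC hu (huu ▸ hu' : u * z ∈ Δ) k
          (by rw [map_mul, dcov_map_z hC, mul_one])
        exact hC.ne (left_eq_mul.1 this)
    obtain ⟨k, hk, ka, kb⟩ := m22j_trans_two hD hP h hE ha hb hab hb ha (Ne.symm hab)
    obtain ⟨c, rfl⟩ := hC.surj k
    have ca : c * s a * c⁻¹ = s b := by rw [equi c hk a ha, ka]
    have cb : c * s b * c⁻¹ = s a := by rw [equi c hk b hb, kb]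
    have cx : (c : G) * ((s a * s b : ↥(Subgroup.centralizer ({d} : Set G))) : G) * (c : G)⁻¹ =
        ((s a * s b : ↥(Subgroup.centralizer ({d} : Set G))) : G) := by
      have : c * (s a * s b) * c⁻¹ = s a * s b := by
        rw [show c * (s a * s b) * c⁻¹ = c * s a * c⁻¹ * (c * s b * c⁻¹) by group, ca, cb, scomm b hb a ha]
      exact congrArg Subtype.val this
    have hnd : n⁻¹ * (c : G) * n * d * (n⁻¹ * (c : G) * n)⁻¹ = d := by
      calc n⁻¹ * (c : G) * n * d * (n⁻¹ * (c : G) * n)⁻¹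
          = n⁻¹ * ((c : G) * (n * d * n⁻¹) * (c : G)⁻¹) * n := by group
        _ = n⁻¹ * (n * d * n⁻¹) * n := by rw [en, cx]
        _ = d := by group
    obtain ⟨k', ek', -⟩ := stab_fix hzd hd hC hD hP h hsq hperf hnwc hE eA
      (mul_mem (mul_mem (inv_mem hn) (fix_norm hzd hd hC hD hP h hsq hperf hnwc hE eA hk)) hn) hnd
    have hku : k' * u * k'⁻¹ = u * z := by
      rw [← huu]
      apply Subtype.ext
      rw [Subgroup.coe_mul, Subgroup.coe_mul, Subgroup.coe_inv, ek', eu, eu']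
      calc n⁻¹ * (c : G) * n * (n⁻¹ * (s a : G) * n) * (n⁻¹ * (c : G) * n)⁻¹
          = n⁻¹ * ((c : G) * (s a : G) * (c : G)⁻¹) * n := by group
        _ = n⁻¹ * (s b : G) * n := by
          rw [show (c : G) * (s a : G) * (c : G)⁻¹ = (s b : G) from congrArg Subtype.val ca]
    have himg : π k' * π u * (π k')⁻¹ = π (1 : ↥(Subgroup.centralizer ({d} : Set G))) * π u *
        (π (1 : ↥(Subgroup.centralizer ({d} : Set G))))⁻¹ := by
      rw [← map_inv, ← map_mul, ← map_mul, hku, map_mul, dcov_map_z hC, map_one]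
      simp
    have := m22j_lift_conj hC hD hP h (hE.sub _ huY) himg
    rw [hku, one_mul, inv_one, mul_one] at this
    exact hC.ne (mul_eq_left.1 this)
  · -- too few neighbours
    obtain ⟨x, ex⟩ : ∃ x, x = s a * s b * z := ⟨_, rfl⟩
    rw [← ex] at hx hxz hxW
    obtain ⟨τ, hmul, hiff, hz', hsurj, hinj⟩ := delta_move hzd hd hC hD hP h hsq hperf hnwc hE eA eΔ hx
    obtain ⟨Lx, eLx⟩ : ∃ Lx, Lx = Δ.filter fun v => v ≠ x ∧ v * x ∈ Δ := ⟨_, rfl⟩
    obtain ⟨M₀, eM₀⟩ : ∃ M₀, M₀ = Δ.filter fun v => π v ∈ Y := ⟨_, rfl⟩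
    have hM : M₀.card = 44 := by
      rw [Finset.card_eq_sum_card_fiberwise (f := π) (t := Y)
        (fun v hv => by rw [eM₀, Finset.mem_coe, Finset.mem_filter] at hv; exact hv.2), Finset.sum_const_nat (m := 2) fun y hy => ?_,
        hE.card]
      rw [show (M₀.filter fun v => π v = y) = {s y, s y * z} from ?_,
        Finset.card_pair fun e => hC.ne (mul_eq_left.1 e.symm)]
      ext v
      simp only [eM₀, Finset.mem_filter, Finset.mem_insert, Finset.mem_singleton]
      constructor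
      · rintro ⟨-, e⟩
        exact dcov_eq hC (e.trans (ps y hy).symm)
      · rintro (rfl | rfl)
        · exact ⟨⟨f1.two (by rw [ps y hy]; exact hy), by rw [ps y hy]; exact hy⟩, ps y hy⟩
        · have e : π (s y * z) = y := by rw [map_mul, dcov_map_z hC, mul_one, ps y hy]
          exact ⟨⟨f1.two (by rw [e]; exact hy), by rw [e]; exact hy⟩, e⟩
    have hge : 44 ≤ Lx.card := by
      rw [← hM]
      obtain ⟨g, eg⟩ : ∃ g : ↥(Subgroup.centralizer ({d} : Set G)) → ↥(Subgroup.centralizer ({d} : Set G)),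
          ∀ v (hv : π v ∈ Subgroup.closure (Y : Set X)), g v = (τ ⟨v, hv⟩).1 :=
        ⟨fun v => if hv : π v ∈ Subgroup.closure (Y : Set X) then (τ ⟨v, hv⟩).1 else v,
          fun v hv => dif_pos hv⟩
      refine Finset.card_le_card_of_injOn g (fun v hv => ?_) fun v hv w hw e => ?_
      · rw [eM₀, Finset.mem_coe, Finset.mem_filter] at hv
        have hvW := ((eΔ v).1 hv.1).1
        rw [eg v hvW, eLx, Finset.mem_coe, Finset.mem_filter]
        refine ⟨(hiff _).2 hv.1, fun e => ?_, ?_⟩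
        · rw [← hz' hzA] at e
          have : v = z := congrArg Subtype.val (hinj (Subtype.ext e))
          rw [this, dcov_map_z hC] at hv
          exact invol_ne_one (hD.1.1 _ (hE.sub _ hv.2)) rfl
        · rw [← hz' hzA, ← Subgroup.coe_mul, ← hmul, hiff]
          exact f1.two (by
            show π (v * z) ∈ _
            rw [map_mul, dcov_map_z hC, mul_one]; exact hv.2)
      · rw [eM₀, Finset.mem_coe, Finset.mem_filter] at hv hw
        rw [eg v ((eΔ v).1 hv.1).1, eg w ((eΔ w).1 hw.1).1] at e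
        exact congrArg Subtype.val (hinj (Subtype.ext e))
    obtain ⟨Q, hQ, hQmem⟩ := m22j_thirty hD hP h hE ha hb hab
    obtain ⟨Q', eQ'⟩ : ∃ Q', Q' = Δ.filter fun v => π v ∈ Q ∧ π v ∈ pairSet (Y : Set X) := ⟨_, rfl⟩
    have hsub : Lx ⊆ {s a, s a * z, s b, s b * z} ∪ Q' := by
      intro v hv
      rw [eLx, Finset.mem_filter] at hv
      obtain ⟨hvΔ, hvx, hvxΔ⟩ := hv
      have hvz : v ≠ z := fun e => by
        rw [e, ex, ← zc, mul_assoc, hzz, mul_one] at hvxΔ
        have k := f2.one_unique hC hvxΔ (ex ▸ hx) (hpair ha hb hab)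
          (by rw [map_mul (π) (s a * s b), dcov_map_z hC, mul_one])
        exact hC.ne (left_eq_mul.1 k)
      have hvxz : v * x ≠ z := fun e => by
        have k : v = z * x := by
          rw [← e, mul_assoc, (cover22_span hC hD hP h hsq hE
            (show π x ∈ Subgroup.closure (Y : Set X) from ((eΔ x).1 hx).1)).1, mul_one]
        rw [k, ex, ← zc, mul_assoc, hzz, mul_one] at hvΔ
        have k' := f2.one_unique hC hvΔ (ex ▸ hx) (hpair ha hb hab)
          (by rw [map_mul (π) (s a * s b), dcov_map_z hC, mul_one])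
        exact hC.ne (left_eq_mul.1 k')
      have hshort := delta_two hzd hd hC hD hP h hsq hperf hnwc hE eA eΔ f3 hvxΔ hvxz
      rw [map_mul, hxW] at hshort
      rw [Finset.mem_union]
      rcases delta_two hzd hd hC hD hP h hsq hperf hnwc hE eA eΔ f3 hvΔ hvz with k | k
      · refine Or.inl ?_
        simp only [Finset.mem_insert, Finset.mem_singleton]
        by_cases k1 : π v = a
        · rcases dcov_eq hC (k1.trans (ps a ha).symm) with e | e <;> tauto
        by_cases k2 : π v = b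
        · rcases dcov_eq hC (k2.trans (ps b hb).symm) with e | e <;> tauto
        have := hTp _ (m22j_mem_triple hD hP h hE ha hb hab k k1 k2)
        rcases hshort with k3 | k3
        exacts [absurd k3 this.1, absurd k3 this.2.2.1]
      · refine Or.inr ?_
        rw [eQ', Finset.mem_filter]
        refine ⟨hvΔ, ?_, k⟩
        obtain ⟨c, hc, e, he, hce, hv'⟩ := id k
        rw [Finset.mem_coe] at hc he
        have hve : v = s c * s e * z := f2.one_unique hC hvΔ (hP2 hc he hce) k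
          (by rw [hv', map_mul, map_mul, ps c hc, ps e he, dcov_map_z hC, mul_one])
        -- no member in common
        have share : ∀ {p q r : X}, p ∈ Y → q ∈ Y → r ∈ Y → q ≠ r →
            v = s p * s q * z → x = s p * s r * z → False := by
          intro p q r hp hq hr hqr e1 e2
          have hprod : v * x = s q * s r := by
            rw [e1, e2, scomm p hp q hq]
            calc s q * s p * z * (s p * s r * z) = s q * s p * (z * (s p * s r)) * z := by group
              _ = s q * s p * (s p * s r * z) * z := by rw [← zc]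
              _ = s q * (s p * s p) * s r * (z * z) := by group
              _ = s q * s r := by rw [sq p hp, hzz, mul_one, mul_one]
          rw [hprod] at hvxΔ
          have k' := f2.one_unique hC hvxΔ (hP2 hq hr hqr) (hpair hq hr hqr)
            (by rw [map_mul (π) (s q * s r), dcov_map_z hC, mul_one])
          exact hC.ne (left_eq_mul.1 k')
        have hx' : x = s b * s a * z := by rw [ex, scomm a ha b hb]
        have hve' : v = s e * s c * z := by rw [hve, scomm c hc e he]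
        have k1 : c ≠ a := fun q => by
          by_cases k' : e = b
          · exact hvx (by rw [hve, ex, q, k'])
          · exact share ha he hb k' (q ▸ hve) ex
        have k2 : c ≠ b := fun q => by
          by_cases k' : e = a
          · exact hvx (by rw [hve, hx', q, k'])
          · exact share hb he ha k' (q ▸ hve) hx'
        have k3 : e ≠ a := fun q => by
          exact share ha hc hb k2 (q ▸ hve') ex
        have k4 : e ≠ b := fun q => by
          exact share hb hc ha k1 (q ▸ hve') hx'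
        rw [hv']
        exact hQmem c hc e he k1 k2 k3 k4 hce (hv' ▸ hshort)
    have h1 := (Finset.card_le_card hsub).trans (Finset.card_union_le _ _)
    have h2 : Q'.card ≤ Q.card := by
      rw [eQ']
      refine Finset.card_le_card_of_injOn π (fun v hv => (Finset.mem_filter.1 hv).2.1)
        fun v hv w hw e => ?_
      rw [Finset.mem_coe, Finset.mem_filter] at hv hw
      exact f2.one_unique hC hv.1 hw.1 hv.2.2 e
    have h3 : ({s a, s a * z, s b, s b * z} : Finset _).card ≤ 4 := Finset.card_le_four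
    omega

end CfsgLib.PLocal.M22J
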