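import Cfsg.Agent.Lib.PLocal.M22JSpan
import Cfsg.Agent.Lib.Trans3.Fi.DoubleCoverM22

/-!
A perfect double cover of a group of type M(22): the preimage of the centraliser of a member has no
homomorphism to signs that is `-1` on the covering involution, as transfer from the stabiliser of
a commuting pair shows; and the preimage of a span does not split compatibly with its stabiliser,
as the centraliser of a member would give such a splitting for `PSU₆(2)`.
-/

set_option autoImplicit false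
set_option linter.unusedSectionVars false
set_option linter.unusedSimpArgs false

namespace CfsgLib.PLocal.M22J

open CfsgLib.Trans3 CfsgLib.Trans3.Fi CfsgLib.PLocal.U6J

/-- A sign on a subgroup of index two, invariant in an overgroup of odd index, kills perfectness. -/
theorem sign_contra {C : Type*} [Group C] [Finite C] (hperf : _root_.commutator C = ⊤)
    {L P : Subgroup C} (hPL : P ≤ L) (hodd : ¬ 2 ∣ L.index)
    (htwo : ∀ x ∈ L, ∀ y ∈ L, x ∉ P → y ∉ P → x⁻¹ * y ∈ P)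
    (hn : ∀ x ∈ L, ∀ y ∈ P, x * y * x⁻¹ ∈ P) {z : C} (hzc : ∀ x : C, Commute x z) (hzz : z * z = 1)
    (hzP : z ∈ P) (ψ : ↥P →* ℤˣ) (hψ : ψ ⟨z, hzP⟩ = -1)
    (hinv : ∀ x ∈ L, ∀ y (hy : y ∈ P) (h : x * y * x⁻¹ ∈ P), ψ ⟨_, h⟩ = ψ ⟨y, hy⟩) : False := by
  obtain ⟨K, eK⟩ : ∃ K : Subgroup C, K = ψ.ker.map P.subtype := ⟨_, rfl⟩
  have hK : ∀ y (hy : y ∈ P), y ∈ K ↔ ψ ⟨y, hy⟩ = 1 := fun y hy => by
    rw [eK]
    exact ⟨fun ⟨w, hw, e⟩ => by rw [← show w = ⟨y, hy⟩ from Subtype.ext e]; exact hw,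
      fun e => ⟨⟨y, hy⟩, e, rfl⟩⟩
  have step : ∀ x ∈ L, ∀ y ∈ P, x * y * x⁻¹ * y⁻¹ ∈ K := fun x hx y hy => by
    have h1 := hn x hx y hy
    rw [hK _ (mul_mem h1 (inv_mem hy)),
      show (⟨x * y * x⁻¹ * y⁻¹, mul_mem h1 (inv_mem hy)⟩ : ↥P) = ⟨_, h1⟩ * ⟨y, hy⟩⁻¹ from rfl,
      map_mul, map_inv, hinv x hx y hy h1, mul_inv_cancel]
  have hcomm : ∀ x ∈ L, ∀ y ∈ L, x * y * x⁻¹ * y⁻¹ ∈ K := by
    intro x hx y hy
    by_cases hyP : y ∈ P
    · exact step x hx y hyP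
    by_cases hxP : x ∈ P
    · have := inv_mem (step y hy x hxP)
      simpa [mul_assoc] using this
    obtain ⟨q, hq, rfl⟩ : ∃ q ∈ P, y = x * q :=
      ⟨x⁻¹ * y, htwo x hx y hy hxP hyP, by group⟩
    have h1 := step x hx q hq
    have hP' : x * q * x⁻¹ * q⁻¹ ∈ P := mul_mem (hn x hx q hq) (inv_mem hq)
    have h2 := hn x hx _ hP'
    have h3 : x * (x * q * x⁻¹ * q⁻¹) * x⁻¹ ∈ K := by
      rw [hK _ h2, hinv x hx _ hP' h2, ← hK _ hP']
      exact h1
    rwa [show x * (x * q) * x⁻¹ * (x * q)⁻¹ = x * (x * q * x⁻¹ * q⁻¹) * x⁻¹ by group]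
  have hker : _root_.commutator ↥L ≤ K.subgroupOf L := by
    rw [commutator_def, Subgroup.commutator_le]
    intro x _ y _
    rw [Subgroup.mem_subgroupOf]
    exact hcomm x.1 x.2 y.1 y.2
  have hzL : z ∈ L := hPL hzP
  have h1 : MonoidHom.transfer (Abelianization.of : ↥L →* Abelianization ↥L) z = 1 :=
    Abelianization.commutator_subset_ker _ (hperf ▸ Subgroup.mem_top z)
  rw [MonoidHom.transfer_eq_pow _ z fun k g₀ _ => by
    rw [mul_assoc, ← ((hzc g₀).pow_right k).eq, inv_mul_cancel_left]] at h1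
  have hp : z ^ L.index = z := by
    obtain ⟨j, hj⟩ := Nat.odd_iff.2 (Nat.two_dvd_ne_zero.1 hodd)
    rw [hj, pow_succ, pow_mul, pow_two, hzz, one_pow, one_mul]
  have h2 : (⟨z, hzL⟩ : ↥L) ∈ _root_.commutator ↥L := by
    rw [← Abelianization.ker_of, MonoidHom.mem_ker]
    simpa [hp] using h1
  have h3 := (hK z hzP).1 (Subgroup.mem_subgroupOf.1 (hker h2))
  rw [hψ] at h3
  exact absurd h3 (by decide)

variable {C X : Type*} [Group C] [Finite C] [Group X] [Finite X] {π : C →* X} {z : C}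
variable {D : Set X} (hC : DCov π z) (hD : Cfsg.IsThreeTranspositionGroup D)
  (hP : Cfsg.IsPrimitiveUnderConj D) (h : Cfsg.IsOfTypeM22 X D)
include hC hD hP h

/-- Commuting members lift to commuting elements. -/
theorem m22j_hcl : ∀ s u : C, π s ∈ D → π u ∈ D → Commute (π s) (π u) → Commute s u := by
  obtain ⟨p, hp⟩ : ∃ p, p ∈ D := let ⟨a, ha, _⟩ := (nice_m22 hD h).pair; ⟨a, ha⟩
  obtain ⟨q, nq, -⟩ := m22_pair hD h hp
  obtain ⟨r, hr⟩ : ∃ r, r ∈ nbrs D p ∩ nbrs D q :=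
    Set.nonempty_of_ncard_ne_zero (by rw [card_nbrs_two hD h hp nq]; norm_num)
  obtain ⟨T, hT, -⟩ := exists_hex hD hP h hp nq hr
  have k1 : ∀ i, p ≠ T i := fun i e => (hT.mem i).1.2.1 e.symm
  have k2 : ∀ i, q ≠ T i := fun i e => (hT.mem i).2.2.1 e.symm
  have c1 : ∀ i, Commute p (T i) := fun i => (hT.mem i).1.2.2
  have c2 : ∀ i, Commute q (T i) := fun i => (hT.mem i).2.2.2
  intro s u h1 h2 h3
  refine dcov_commute_lifts hC hD hP ⟨p, hp, q, nq.1, Ne.symm nq.2.1, nq.2.2⟩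
    (l := [p, q, T 0, T 1, T 2, T 3]) ?_ rfl ?_ ?_ ?_ h1 h2 h3
  · simp [Ne.symm nq.2.1, k1, k2, hT.inj.eq_iff]
  · simp [hp, nq.1, (hT.mem 0).1.1, (hT.mem 1).1.1, (hT.mem 2).1.1, (hT.mem 3).1.1]
  · simp [nq.2.2, nq.2.2.symm, c1, c2, (c1 _).symm, (c2 _).symm, hT.comm]
  · simp only [List.prod_cons, List.prod_nil, mul_one]
    rw [← mul_assoc (T 1), ← mul_assoc (T 0), ← mul_assoc (T 0), hT.prod, ← mul_assoc,
      nq.2.2.symm.mul_mul_mul_comm, Trans3.sq_one hD.1 hp, Trans3.sq_one hD.1 nq.1, one_mul]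

/-- The preimage of the centraliser of a member centralises the lifts of the member. -/
theorem m22j_lift_central {m u : C} (hu : π u ∈ D) (hm : Commute (π m) (π u)) : Commute m u := by
  have hH : π m ∈ Hd D (π u) := by
    rw [m22_gate hD hP h hu]
    exact Subgroup.mem_centralizer_singleton_iff.2 hm.eq
  have key : ∀ x ∈ Hd D (π u), ∀ n, π n = x → Commute n u := by
    intro x hx
    induction hx using Subgroup.closure_induction with
    | mem y hy =>
      rintro n rfl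
      exact m22j_hcl hC hD hP h n u hy.1 hu hy.2.2.symm
    | one =>
      intro n hn
      rcases (hC.ker n).1 hn with rfl | rfl
      exacts [Commute.one_left u, (hC.central u).symm]
    | mul x y _ _ h1 h2 =>
      intro n hn
      obtain ⟨n₁, rfl⟩ := hC.surj x
      obtain ⟨n₂, rfl⟩ := hC.surj y
      exact dcov_commute_congr hC (s := n₁ * n₂) (u := u) (by rw [map_mul, hn]) rfl
        ((h1 n₁ rfl).mul_left (h2 n₂ rfl))
    | inv x _ h1 =>
      intro n hn
      have := (h1 n⁻¹ (by rw [map_inv, hn, inv_inv])).inv_left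
      rwa [inv_inv] at this
  exact key _ hH m rfl

/-- Equal conjugates of a member have equal lifts. -/
theorem m22j_lift_conj {g k u : C} (hu : π u ∈ D)
    (he : π g * π u * (π g)⁻¹ = π k * π u * (π k)⁻¹) : g * u * g⁻¹ = k * u * k⁻¹ := by
  have hc : Commute (π (k⁻¹ * g)) (π u) := by
    refine commute_of_conj_eq ?_
    calc π (k⁻¹ * g) * π u * (π (k⁻¹ * g))⁻¹ = (π k)⁻¹ * (π g * π u * (π g)⁻¹) * π k := by
          rw [map_mul, map_inv]; group
      _ = π u := by rw [he]; group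
  have := conj_eq_of_commute (m22j_lift_central hC hD hP h hu hc)
  calc g * u * g⁻¹ = k * (k⁻¹ * g * u * (k⁻¹ * g)⁻¹) * k⁻¹ := by group
    _ = k * u * k⁻¹ := by rw [this]

omit hC in
/-- A clique through two commuting members. -/
theorem m22j_clique_pair {a b : X} (ha : a ∈ D) (hb : b ∈ nbrs D a) :
    ∃ Y : Finset X, Clique22 D Y ∧ a ∈ Y ∧ b ∈ Y := by
  classical
  obtain ⟨Y, hY⟩ := exists_clique22 hD hP h
  obtain ⟨p, hp, q, hq, hne⟩ := Finset.one_lt_card.1 (show 1 < Y.card by rw [hY.card]; norm_num)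
  obtain ⟨g, hg⟩ := hP.1 p (hY.sub p hp) a ha
  have hn : g * q * g⁻¹ ∈ nbrs D a := hg ▸ ⟨hD.2.1 g q (hY.sub q hq),
    fun e => hne (mul_left_cancel (mul_right_cancel e)).symm,
    (commute_conj_iff g p q).2 (hY.comm p hp q hq)⟩
  obtain ⟨k, hk, ek⟩ := conj_lift hD hP h ha hn hb
  refine ⟨Y.image fun x => k * g * x * (k * g)⁻¹, clique22_conj hD hY _,
    Finset.mem_image.2 ⟨p, hp, ?_⟩, Finset.mem_image.2 ⟨q, hq, ?_⟩⟩
  · calc k * g * p * (k * g)⁻¹ = k * (g * p * g⁻¹) * k⁻¹ := by group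
      _ = a := by rw [hg]; exact conj_eq_of_commute (commute_Hd hk).symm
  · rw [← ek]; group

omit hC in
/-- A member of a clique is a product of others, avoiding a given one. -/
theorem m22j_avoid {Y : Finset X} (hY : Clique22 D Y) {a b : X} (ha : a ∈ Y) (hb : b ∈ Y)
    (hab : a ≠ b) : a ∈ Subgroup.closure {x | x ∈ Y ∧ x ≠ a ∧ x ≠ b} := by
  classical
  have pick : ∀ s : Finset X, s.card < 22 → ∃ c ∈ Y, c ∉ s := fun s hs =>
    Finset.not_subset.1 fun hsub => by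
      have := Finset.card_le_card hsub
      rw [hY.card] at this
      omega
  obtain ⟨c, hc, hc'⟩ := pick {a, b} (by simp [hab])
  simp only [Finset.mem_insert, Finset.mem_singleton, not_or] at hc'
  obtain ⟨B, hB, haB, hbB⟩ : ∃ B, CBlock Y B ∧ a ∈ B ∧ b ∉ B := by
    obtain ⟨d, hd, hd'⟩ := pick {a, b, c} (by
      have := Finset.card_le_three (a := a) (b := b) (c := c)
      omega)
    simp only [Finset.mem_insert, Finset.mem_singleton, not_or] at hd'
    obtain ⟨B, hB, hsB, -⟩ := block_data hD hP h hY (s := {a, c, d})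
      (by simp [Finset.insert_subset_iff, ha, hc, hd])
      (by simp [Ne.symm hc'.1, Ne.symm hd'.1, Ne.symm hd'.2.2])
    simp only [Finset.insert_subset_iff, Finset.singleton_subset_iff] at hsB
    by_cases hbB : b ∈ B
    · obtain ⟨e, he, heB⟩ := pick B (by rw [hB.card]; norm_num)
      obtain ⟨B', hB', hsB', -⟩ := block_data hD hP h hY (s := {a, c, e})
        (by simp [Finset.insert_subset_iff, ha, hc, he])
        (by
          have k1 : a ≠ e := fun k => heB (k ▸ hsB.1)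
          have k2 : c ≠ e := fun k => heB (k ▸ hsB.2.1)
          simp [Ne.symm hc'.1, k1, k2])
      simp only [Finset.insert_subset_iff, Finset.singleton_subset_iff] at hsB'
      refine ⟨B', hB', hsB'.1, fun hbB' => heB ?_⟩
      rw [block_unique hD hP h hY (s := {a, b, c}) (by simp [hab, Ne.symm hc'.1, Ne.symm hc'.2]) hB hB'
        (by simp [Finset.insert_subset_iff, hsB.1, hsB.2.1, hbB])
        (by simp [Finset.insert_subset_iff, hsB'.1, hsB'.2.1, hbB'])]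
      exact hsB'.2.2
    · exact ⟨B, hB, hsB.1, hbB⟩
  have e := clique_split hD hY (s := {a}) (by simpa using haB) hB.sub
  rw [hB.prod, show fprod ({a} : Finset X) = a by simp [fprod]] at e
  have ea : fprod (B \ {a}) = a := by
    calc fprod (B \ {a}) = a * (a * fprod (B \ {a})) := by
          rw [← mul_assoc, Trans3.sq_one hD.1 (hY.sub a ha), one_mul]
      _ = a := by rw [← e, mul_one]
  suffices hm : fprod (B \ {a}) ∈ Subgroup.closure {x | x ∈ Y ∧ x ≠ a ∧ x ≠ b} by rwa [ea] at hm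
  refine Subgroup.list_prod_mem _ fun x hx => Subgroup.subset_closure ?_
  rw [Finset.mem_toList, Finset.mem_sdiff, Finset.mem_singleton] at hx
  exact ⟨hB.sub hx.1, hx.2, fun k => hbB (k ▸ hx.1)⟩

/-- No sign on the preimage of the centraliser of a member is `-1` at `z`. -/
theorem m22j_no_sign (hperf : _root_.commutator C = ⊤) {a : X} (ha : a ∈ D)
    (ψ : ↥((Subgroup.centralizer ({a} : Set X)).comap π) →* ℤˣ)
    (hψ : ∀ hh, ψ ⟨z, hh⟩ = -1) : False := by
  classical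
  obtain ⟨b, hb, -⟩ := m22_pair hD h ha
  obtain ⟨g₁, hg₁⟩ := hP.1 a ha b hb.1
  have hn₁ : g₁ * b * g₁⁻¹ ∈ nbrs D b :=
    ⟨hD.2.1 g₁ b hb.1, fun e => hb.2.1 (mul_left_cancel (mul_right_cancel (e.trans hg₁.symm))),
      hg₁ ▸ (commute_conj_iff g₁ a b).2 hb.2.2⟩
  obtain ⟨k₁, hk₁, ek₁⟩ := conj_lift hD hP h hb.1 hn₁ ⟨ha, Ne.symm hb.2.1, hb.2.2.symm⟩
  obtain ⟨g, eg⟩ : ∃ g, g = k₁ * g₁ := ⟨_, rfl⟩
  have ga : g * a * g⁻¹ = b := by
    rw [eg, show k₁ * g₁ * a * (k₁ * g₁)⁻¹ = k₁ * (g₁ * a * g₁⁻¹) * k₁⁻¹ by group, hg₁]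
    exact conj_eq_of_commute (commute_Hd hk₁).symm
  have gb : g * b * g⁻¹ = a := by rw [eg, ← ek₁]; group
  obtain ⟨L, eL⟩ : ∃ L, L = Subgroup.centralizer ({a * b} : Set X) := ⟨_, rfl⟩
  obtain ⟨P, eP⟩ : ∃ P : Subgroup X,
      P = Subgroup.centralizer ({a} : Set X) ⊓ Subgroup.centralizer ({b} : Set X) := ⟨_, rfl⟩
  have memP : ∀ x, x ∈ P ↔ Commute x a ∧ Commute x b := fun x => by
    rw [eP, Subgroup.mem_inf, Subgroup.mem_centralizer_singleton_iff,
      Subgroup.mem_centralizer_singleton_iff]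
    rfl
  have cases' : ∀ x ∈ L, (x * a * x⁻¹ = a ∧ x * b * x⁻¹ = b) ∨ (x * a * x⁻¹ = b ∧ x * b * x⁻¹ = a) :=
    fun x hx => m22_pair_cases hD hP h ha hb
      (Subgroup.mem_centralizer_singleton_iff.1 (eL ▸ hx) : Commute x (a * b))
  have hgL : g ∈ L := by
    rw [eL, Subgroup.mem_centralizer_singleton_iff]
    refine (commute_of_conj_eq ?_).eq
    rw [show g * (a * b) * g⁻¹ = g * a * g⁻¹ * (g * b * g⁻¹) by group, ga, gb]
    exact hb.2.2.eq.symm
  have hPL : P ≤ L := fun x hx => by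
    rw [eL, Subgroup.mem_centralizer_singleton_iff]
    exact (((memP x).1 hx).1.mul_right ((memP x).1 hx).2).eq
  -- the index of the pair stabiliser
  have hodd : ¬ 2 ∣ L.index := by
    have e1 := card_orbit_mul (H := (⊤ : Subgroup X)) (x := a) (O := D)
      (fun g _ => hD.2.1 g a ha) (fun o ho => by
        obtain ⟨g', hg'⟩ := hP.1 a ha o ho
        exact ⟨g', Subgroup.mem_top _, hg'⟩)
    rw [top_inf_eq, Subgroup.card_top, m22_card_D hD hP h] at e1
    have e2 := card_orbit_mul (H := Subgroup.centralizer ({a} : Set X)) (x := b) (O := nbrs D a)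
      (fun g' hg' => by
        have hc : Commute g' a := Subgroup.mem_centralizer_singleton_iff.1 hg'
        refine ⟨hD.2.1 g' b hb.1, fun e => hb.2.1 ?_, ?_⟩
        · exact mul_left_cancel (mul_right_cancel (e.trans (conj_eq_of_commute hc).symm))
        · have := (commute_conj_iff g' a b).2 hb.2.2
          rwa [conj_eq_of_commute hc] at this)
      (fun o ho => by
        obtain ⟨k, hk, e⟩ := conj_lift hD hP h ha hb ho
        exact ⟨k, m22_gate hD hP h ha ▸ hk, e⟩)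
    rw [card_nbrs hD h ha, ← eP] at e2
    have e3 := card_orbit_mul (H := L) (x := a) (O := {a, b})
      (fun g' hg' => by rcases cases' g' hg' with ⟨e, -⟩ | ⟨e, -⟩ <;> simp [e])
      (fun o ho => by
        rcases ho with rfl | rfl
        · exact ⟨1, one_mem _, by simp⟩
        · exact ⟨g, hgL, ga⟩)
    rw [Set.ncard_pair (Ne.symm hb.2.1), show L ⊓ Subgroup.centralizer ({a} : Set X) = P from ?_] at e3
    · have e4 := L.card_mul_index
      rw [e3, e1, e2] at e4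
      have e5 : 2 * L.index = 3510 * 693 := by
        refine Nat.eq_of_mul_eq_mul_left (Nat.card_pos : 0 < Nat.card P) ?_
        calc Nat.card P * (2 * L.index) = 2 * Nat.card P * L.index := by ring
          _ = 3510 * (693 * Nat.card P) := e4
          _ = Nat.card P * (3510 * 693) := by ring
      omega
    · ext x
      rw [Subgroup.mem_inf, Subgroup.mem_centralizer_singleton_iff, memP]
      constructor
      · rintro ⟨hx, hxa⟩
        rcases cases' x hx with ⟨-, e⟩ | ⟨e, -⟩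
        · exact ⟨hxa, commute_of_conj_eq e⟩
        · exact absurd (e.symm.trans (conj_eq_of_commute hxa)) hb.2.1
      · exact fun hx => ⟨hPL ((memP x).2 hx), hx.1.eq⟩
  -- the generators of the pair centraliser
  obtain ⟨S, eS⟩ : ∃ S : Set X, S = {w | w ∈ D ∧ Commute a w ∧ Commute b w} := ⟨_, rfl⟩
  have haS : a ∈ S := eS ▸ ⟨ha, Commute.refl a, hb.2.2.symm⟩
  have hbS : b ∈ S := eS ▸ ⟨hb.1, hb.2.2, Commute.refl b⟩
  have hgen : P ≤ Subgroup.closure S := by
    intro x hx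
    obtain ⟨hxa, hxb⟩ := (memP x).1 hx
    have hxH : x ∈ Hd D a := by
      rw [m22_gate hD hP h ha]; exact Subgroup.mem_centralizer_singleton_iff.2 hxa.eq
    obtain ⟨s, hs, hsx⟩ := lift_perp hD hP h ha hb (q := ((⟨x, hxH⟩ : ↥(Hd D a)) : Qd D a))
      (u6_stab (m22_isU6 hD h ha) ((nice_m22 hD h).group_Db ha) (bar_mem hb) (by
        show (QuotientGroup.mk _ : Qd D a) * QuotientGroup.mk _ = _
        rw [← QuotientGroup.mk_mul, ← QuotientGroup.mk_mul]
        exact congrArg QuotientGroup.mk (Subtype.ext hxb.eq)))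
    rw [← eS] at hs
    have hm := m22_center_mem' hD hP h ha (QuotientGroup.eq.1 hsx)
    simp only [Subgroup.coe_mul, Subgroup.coe_inv] at hm
    rcases hm with e | e
    · rw [← inv_mul_eq_one.1 e]; exact hs
    · rw [inv_mul_eq_iff_eq_mul.1 e]
      exact mul_mem hs (Subgroup.subset_closure haS)
  -- the sign of the twist
  obtain ⟨gC, hgC⟩ := hC.surj g
  have hPH : P.comap π ≤ (Subgroup.centralizer ({a} : Set X)).comap π :=
    Subgroup.comap_mono (eP ▸ inf_le_left)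
  have hnorm : ∀ x ∈ L.comap π, ∀ y ∈ P.comap π, x * y * x⁻¹ ∈ P.comap π := by
    intro x hx y hy
    rw [Subgroup.mem_comap, memP] at hy
    rw [Subgroup.mem_comap, map_mul, map_mul, map_inv, memP]
    have k1 := (commute_conj_iff (π x) (π y) a).2 hy.1
    have k2 := (commute_conj_iff (π x) (π y) b).2 hy.2
    rcases cases' _ hx with ⟨ea, eb⟩ | ⟨ea, eb⟩ <;> rw [ea] at k1 <;> rw [eb] at k2
    exacts [⟨k1, k2⟩, ⟨k2, k1⟩]
  have hgL' : gC ∈ L.comap π := by rw [Subgroup.mem_comap, hgC]; exact hgL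
  obtain ⟨ψ', eψ'⟩ : ∃ ψ' : ↥(P.comap π) →* ℤˣ, ψ' = ψ.comp (Subgroup.inclusion hPH) := ⟨_, rfl⟩
  let cg : ↥(P.comap π) →* ↥(P.comap π) :=
    MonoidHom.mk' (fun u => ⟨gC * u.1 * gC⁻¹, hnorm gC hgL' u.1 u.2⟩)
      fun u v => Subtype.ext (by simp [mul_assoc])
  obtain ⟨T, eT⟩ : ∃ T : Subgroup X,
      T = (((ψ'.comp cg) * ψ').ker.map (P.comap π).subtype).map π := ⟨_, rfl⟩
  have sqψ : ∀ e : ℤˣ, e * e = 1 := fun e => Int.units_mul_self e
  have hcen : ∀ s u, π u ∈ D → Commute (π s) (π u) → Commute s u := fun s u =>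
    m22j_lift_central hC hD hP h
  have hST : ∀ c ∈ S, c ≠ a → c ≠ b → c ∈ T := by
    intro c hc hca hcb
    obtain ⟨u, rfl⟩ := hC.surj c
    rw [eS] at hc
    obtain ⟨hcD, hac, hbc⟩ := hc
    have hu : u ∈ P.comap π := by rw [Subgroup.mem_comap, memP]; exact ⟨hac.symm, hbc.symm⟩
    have hca' : g * π u * g⁻¹ ∈ nbrs D a :=
      ⟨hD.2.1 g _ hcD, fun e => hcb (mul_left_cancel (mul_right_cancel (e.trans gb.symm))),
        gb ▸ (commute_conj_iff g b (π u)).2 hbc⟩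
    obtain ⟨k, hk, ek⟩ := conj_lift hD hP h ha (⟨hcD, hca, hac⟩ : π u ∈ nbrs D a) hca'
    obtain ⟨kC, hkC⟩ := hC.surj k
    have hk' : kC ∈ (Subgroup.centralizer ({a} : Set X)).comap π := by
      rw [Subgroup.mem_comap, hkC]; exact m22_gate hD hP h ha ▸ hk
    have e := m22j_lift_conj hC hD hP h (g := gC) (k := kC) hcD (by rw [hgC, hkC, ek])
    rw [eT]
    refine ⟨u, ⟨⟨u, hu⟩, ?_, rfl⟩, rfl⟩
    rw [SetLike.mem_coe, MonoidHom.mem_ker, MonoidHom.mul_apply, MonoidHom.comp_apply, eψ']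
    show ψ ⟨gC * u * gC⁻¹, _⟩ * ψ ⟨u, _⟩ = 1
    rw [show (⟨gC * u * gC⁻¹, hPH (hnorm gC hgL' u hu)⟩ :
        ↥((Subgroup.centralizer ({a} : Set X)).comap π)) = ⟨kC, hk'⟩ * ⟨u, hPH hu⟩ * ⟨kC, hk'⟩⁻¹ from
        Subtype.ext e, map_mul, map_mul, map_inv, mul_inv_cancel_comm, sqψ]
  have hall : P ≤ T := by
    refine hgen.trans ((Subgroup.closure_le _).2 fun c hc => ?_)
    obtain ⟨Y, hY, haY, hbY⟩ := m22j_clique_pair hD hP h ha hb
    have hY' : ∀ x ∈ Y, x ∈ S := fun x hx =>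
      eS ▸ ⟨hY.sub x hx, hY.comm a haY x hx, hY.comm b hbY x hx⟩
    have two : ∀ p q, p ∈ Y → q ∈ Y → p ≠ q → ({p, q} : Set X) = {a, b} → p ∈ T := by
      intro p q hp hq hpq e
      refine (Subgroup.closure_le _).2 ?_ (m22j_avoid hD hP h hY hp hq hpq)
      rintro x ⟨hx, hxp, hxq⟩
      have hx' : x ∉ ({a, b} : Set X) := e ▸ by simp [hxp, hxq]
      simp only [Set.mem_insert_iff, Set.mem_singleton_iff, not_or] at hx'
      exact hST x (hY' x hx) hx'.1 hx'.2
    by_cases hca : c = a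
    · exact hca ▸ two a b haY hbY (Ne.symm hb.2.1) rfl
    by_cases hcb : c = b
    · exact hcb ▸ two b a hbY haY hb.2.1 (Set.pair_comm b a)
    exact hST c hc hca hcb
  have hψz : ∀ hh, ψ' ⟨z, hh⟩ = -1 := fun hh => by rw [eψ']; exact hψ _
  have hswap : ∀ y (hy : y ∈ P.comap π), ψ' (cg ⟨y, hy⟩) = ψ' ⟨y, hy⟩ := by
    intro y hy
    obtain ⟨w, ⟨⟨w', hw'⟩, hker, rfl⟩, hwy⟩ := eT ▸ hall hy
    rw [SetLike.mem_coe, MonoidHom.mem_ker, MonoidHom.mul_apply, MonoidHom.comp_apply] at hker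
    have hz' : z ∈ P.comap π := by rw [Subgroup.mem_comap, dcov_map_z hC]; exact one_mem _
    have hkey : ψ' (cg ⟨y, hy⟩) * ψ' ⟨y, hy⟩ = 1 := by
      rcases dcov_eq hC (x := y) (y := w') hwy.symm with e | e
      · subst e; exact hker
      · have ey : (⟨y, hy⟩ : ↥(P.comap π)) = ⟨w', hw'⟩ * ⟨z, hz'⟩ := Subtype.ext e
        have ez : cg ⟨z, hz'⟩ = ⟨z, hz'⟩ := Subtype.ext (by
          show gC * z * gC⁻¹ = z
          rw [(hC.central gC).eq, mul_inv_cancel_right])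
        rw [ey, map_mul, map_mul, map_mul, ez, mul_mul_mul_comm, sqψ, mul_one]
        exact hker
    calc ψ' (cg ⟨y, hy⟩) = ψ' (cg ⟨y, hy⟩) * (ψ' ⟨y, hy⟩ * ψ' ⟨y, hy⟩) := by rw [sqψ, mul_one]
      _ = ψ' ⟨y, hy⟩ := by rw [← mul_assoc, hkey, one_mul]
  have hout : ∀ x ∈ L.comap π, x ∉ P.comap π → π x * a * (π x)⁻¹ = b ∧ π x * b * (π x)⁻¹ = a :=
    fun x hx hxP => (cases' _ hx).resolve_left fun e =>
      hxP ((memP _).2 ⟨commute_of_conj_eq e.1, commute_of_conj_eq e.2⟩)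
  refine sign_contra hperf (L := L.comap π) (P := P.comap π) (z := z) (Subgroup.comap_mono hPL) ?_
    (fun x hx y hy hxP hyP => ?_) hnorm hC.central (dcov_sq hC)
    (show z ∈ P.comap π by rw [Subgroup.mem_comap, dcov_map_z hC]; exact one_mem _) ψ' (hψz _) ?_
  · rwa [Subgroup.index_comap_of_surjective _ hC.surj]
  · obtain ⟨x1, x2⟩ := hout x hx hxP
    obtain ⟨y1, y2⟩ := hout y hy hyP
    rw [Subgroup.mem_comap, map_mul, map_inv, memP]
    constructor <;> refine commute_of_conj_eq ?_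
    · calc (π x)⁻¹ * π y * a * ((π x)⁻¹ * π y)⁻¹ = (π x)⁻¹ * (π y * a * (π y)⁻¹) * π x := by group
        _ = a := by rw [y1, ← x1]; group
    · calc (π x)⁻¹ * π y * b * ((π x)⁻¹ * π y)⁻¹ = (π x)⁻¹ * (π y * b * (π y)⁻¹) * π x := by group
        _ = b := by rw [y2, ← x2]; group
  · intro x hx y hy hh
    have inner : ∀ p (hp : p ∈ P.comap π) (w : C) (hw : w ∈ P.comap π) (hh : p * w * p⁻¹ ∈ P.comap π),
        ψ' ⟨_, hh⟩ = ψ' ⟨w, hw⟩ := fun p hp w hw hh => by
      rw [show (⟨p * w * p⁻¹, hh⟩ : ↥(P.comap π)) = ⟨p, hp⟩ * ⟨w, hw⟩ * ⟨p, hp⟩⁻¹ from rfl, map_mul,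
        map_mul, map_inv, mul_comm (ψ' ⟨p, hp⟩), mul_assoc, mul_inv_cancel, mul_one]
    by_cases hxP : x ∈ P.comap π
    · exact inner x hxP y hy hh
    obtain ⟨x1, x2⟩ := hout x hx hxP
    have hp : x * gC⁻¹ ∈ P.comap π := by
      rw [Subgroup.mem_comap, map_mul, map_inv, hgC, memP]
      constructor <;> refine commute_of_conj_eq ?_
      · calc π x * g⁻¹ * a * (π x * g⁻¹)⁻¹ = π x * (g⁻¹ * a * g) * (π x)⁻¹ := by group
          _ = π x * b * (π x)⁻¹ := by rw [← gb]; group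
          _ = a := x2
      · calc π x * g⁻¹ * b * (π x * g⁻¹)⁻¹ = π x * (g⁻¹ * b * g) * (π x)⁻¹ := by group
          _ = π x * a * (π x)⁻¹ := by rw [← ga]; group
          _ = b := x1
    have e : x * y * x⁻¹ = x * gC⁻¹ * (gC * y * gC⁻¹) * (x * gC⁻¹)⁻¹ := by group
    rw [show (⟨x * y * x⁻¹, hh⟩ : ↥(P.comap π)) = ⟨_, e ▸ hh⟩ from Subtype.ext e,
      inner _ hp _ (hnorm gC hgL' y hy)]
    exact hswap y hy

end CfsgLib.PLocal.M22J
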