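import Mathlib.LinearAlgebra.Matrix.SchurComplement
import Mathlib.Algebra.Ring.Parity
import Mathlib.NumberTheory.Padics.PadicVal.Basic

/-!
A group is not transitive on 254 points with suborbits of lengths 1, 22, 231: neither classes of 23
nor a strongly regular graph with parameters (254, 22, 0, 2) exist.
-/

set_option autoImplicit false

namespace CfsgLib.PLocal.M22J

open Finset

variable {V : Type*} [Fintype V] [DecidableEq V]

/-- No symmetric integer matrix squares to `21 I + 2 J` on 254 points. -/
theorem no_square (hV : Fintype.card V = 254) (M : Matrix V V ℤ)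
    (hM : M * M = (21 : ℤ) • (1 : Matrix V V ℤ) + Matrix.of fun _ _ => 2) : False := by
  obtain ⟨m, em⟩ : ∃ m : ℤ, M.det = m := ⟨_, rfl⟩
  have h := congrArg Matrix.det hM
  rw [Matrix.det_mul, em] at h
  have hQ : ((m : ℚ) * m) = (21 : ℚ) ^ 253 * 529 := by
    have h' := congrArg (fun x : ℤ => (x : ℚ)) h
    simp only [Int.cast_mul, Int.cast_det] at h'
    have hmap : ((21 : ℤ) • (1 : Matrix V V ℤ) + Matrix.of fun _ _ => (2 : ℤ)).map
        (Int.cast : ℤ → ℚ) = (21 : ℚ) • (1 + Matrix.replicateCol Unit (fun _ : V => (2 / 21 : ℚ)) *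
          Matrix.replicateRow Unit (fun _ : V => (1 : ℚ))) := by
      ext i j
      simp only [Matrix.map_apply, Matrix.add_apply, Matrix.smul_apply, Matrix.one_apply,
        Matrix.of_apply, Matrix.mul_apply, Matrix.replicateCol_apply, Matrix.replicateRow_apply,
        Finset.univ_unique, Finset.sum_singleton, smul_eq_mul, Int.cast_add, Int.cast_mul]
      by_cases e : i = j <;> simp [e] <;> norm_num
    rw [h', hmap, Matrix.det_smul, Matrix.det_one_add_replicateCol_mul_replicateRow, hV]
    simp only [dotProduct, Finset.sum_const, Finset.card_univ, hV, one_mul, nsmul_eq_mul]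
    rw [show (21 : ℚ) ^ 254 = 21 ^ 253 * 21 by rw [pow_succ]]
    ring
  have hZ : m * m = 21 ^ 253 * 529 := by exact_mod_cast hQ
  haveI : Fact (Nat.Prime 3) := ⟨Nat.prime_three⟩
  have hm : m ≠ 0 := fun e => by
    rw [e, mul_zero] at hZ
    exact mul_ne_zero (pow_ne_zero 253 (by norm_num : (21 : ℤ) ≠ 0)) (by norm_num) hZ.symm
  have hv := congrArg (padicValInt 3) hZ
  rw [padicValInt.mul hm hm, padicValInt.mul (pow_ne_zero _ (by norm_num)) (by norm_num)] at hv
  have h21 : padicValInt 3 ((21 : ℤ) ^ 253) = 253 := by
    unfold padicValInt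
    rw [Int.natAbs_pow, padicValNat.pow _ 253, show (21 : ℤ).natAbs = 3 * 7 from rfl,
      padicValNat.mul (by norm_num) (by norm_num), padicValNat_self,
      padicValNat.eq_zero_of_not_dvd (show ¬ 3 ∣ 7 by norm_num)]
  have h529 : padicValInt 3 (529 : ℤ) = 0 :=
    padicValNat.eq_zero_of_not_dvd (show ¬ 3 ∣ (529 : ℤ).natAbs by decide)
  rw [h21, h529] at hv
  omega

variable (R : V → V → Prop) [DecidableRel R]

/-- The counts at a point. -/
def common (x y : V) : ℕ := (univ.filter fun w => R x w ∧ R w y).card

/-- No relation of valency 22 on 254 points with orbitals as those of a rank three group. -/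
theorem no_rank_three (hV : Fintype.card V = 254) (irr : ∀ x, ¬ R x x)
    (symm : ∀ x y, R x y → R y x) (val : ∀ x, (univ.filter fun y => R x y).card = 22)
    {lam mu : ℕ} (hlam : ∀ x y, R x y → common R x y = lam)
    (hmu : ∀ x y, x ≠ y → ¬ R x y → common R x y = mu) : False := by
  have hself : ∀ x, common R x x = 22 := fun x => by
    rw [← val x, common]
    exact congrArg card (filter_congr fun w _ => ⟨fun h => h.1, fun h => ⟨h, symm _ _ h⟩⟩)
  obtain ⟨x₀⟩ : Nonempty V := Fintype.card_pos_iff.1 (by omega)
  -- all walks of length two from a point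
  have hwalk : ∑ y, common R x₀ y = 22 * 22 := by
    simp only [common, card_filter]
    rw [sum_comm]
    calc ∑ w, ∑ y, (if R x₀ w ∧ R w y then 1 else 0)
        = ∑ w, if R x₀ w then 22 else 0 := by
          refine sum_congr rfl fun w _ => ?_
          by_cases hw : R x₀ w
          · simp only [hw, true_and, if_true]
            rw [← card_filter, val w]
          · simp [hw]
      _ = 22 * 22 := by
          rw [← sum_filter, sum_const, val x₀, smul_eq_mul]
  have hsplit : ∑ y, common R x₀ y = 22 + 22 * lam + 231 * mu := by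
    rw [← sum_filter_add_sum_filter_not univ (fun y => R x₀ y),
      sum_congr rfl (g := fun _ => lam) (fun y hy => hlam _ _ (mem_filter.1 hy).2), sum_const, val x₀]
    have hx : x₀ ∈ univ.filter fun y => ¬ R x₀ y := mem_filter.2 ⟨mem_univ _, irr x₀⟩
    rw [← add_sum_erase _ _ hx, hself,
      sum_congr rfl (g := fun _ => mu) (fun y hy => hmu _ _ (Ne.symm (mem_erase.1 hy).1)
        (mem_filter.1 (mem_erase.1 hy).2).2), sum_const, card_erase_of_mem hx]
    have := card_filter_add_card_filter_not (s := (univ : Finset V)) (fun y => R x₀ y)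
    rw [val x₀, card_univ, hV] at this
    simp only [smul_eq_mul]
    rw [show (univ.filter fun y => ¬ R x₀ y).card = 232 by omega]
    ring
  rw [hwalk] at hsplit
  obtain ⟨rfl, rfl⟩ | ⟨rfl, rfl⟩ : (lam = 21 ∧ mu = 0) ∨ (lam = 0 ∧ mu = 2) := by omega
  · -- the relation with the identity is an equivalence with classes of 23
    obtain ⟨C, eC⟩ : ∃ C : V → Finset V, C = fun x => insert x (univ.filter fun y => R x y) := ⟨_, rfl⟩
    have hC : ∀ x, (C x).card = 23 := fun x => by
      rw [eC]; simp [card_insert_of_notMem, irr, val x]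
    have hin : ∀ x y, R x y → C y = C x := by
      intro x y hxy
      have hsub : (univ.filter fun w => R x w ∧ R w y) = (univ.filter fun w => R x w).erase y := by
        refine eq_of_subset_of_card_le (fun w hw => ?_) ?_
        · rw [mem_filter] at hw
          exact mem_erase.2 ⟨fun e => irr y (e ▸ hw.2.2), mem_filter.2 ⟨mem_univ _, hw.2.1⟩⟩
        · rw [card_erase_of_mem (mem_filter.2 ⟨mem_univ _, hxy⟩), val x]
          exact (hlam x y hxy).ge
      symm
      refine eq_of_subset_of_card_le (fun w hw => ?_) (by rw [hC, hC])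
      rw [eC] at hw ⊢
      rcases mem_insert.1 hw with rfl | hw
      · exact mem_insert_of_mem (mem_filter.2 ⟨mem_univ _, symm _ _ hxy⟩)
      · by_cases e : w = y
        · exact e ▸ mem_insert_self _ _
        · have : w ∈ (univ.filter fun w => R x w).erase y := mem_erase.2 ⟨e, hw⟩
          rw [← hsub, mem_filter] at this
          exact mem_insert_of_mem (mem_filter.2 ⟨mem_univ _, symm _ _ this.2.2⟩)
    have hfib : ∀ S ∈ univ.image C, (univ.filter fun x => C x = S).card = 23 := by
      intro S hS
      obtain ⟨x, -, rfl⟩ := mem_image.1 hS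
      rw [← hC x]
      refine congrArg card (ext fun y => ⟨fun h => ?_, fun h => ?_⟩)
      · rw [← (mem_filter.1 h).2, eC]
        exact mem_insert_self _ _
      · refine mem_filter.2 ⟨mem_univ _, ?_⟩
        rw [eC] at h
        rcases mem_insert.1 h with rfl | h
        · rfl
        · exact hin x y (mem_filter.1 h).2
    have h := card_eq_sum_card_image C (univ : Finset V)
    rw [sum_congr rfl hfib, sum_const, card_univ, hV, smul_eq_mul] at h
    omega
  · obtain ⟨A, eA⟩ : ∃ A : Matrix V V ℤ,
        A = Matrix.of fun x y => if R x y then 1 else 0 := ⟨_, rfl⟩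
    refine no_square hV (1 + A) ?_
    rw [add_mul, one_mul, mul_add, mul_one]
    ext x y
    have hsum : (A * A) x y = common R x y := by
      rw [Matrix.mul_apply, eA, common, Finset.natCast_card_filter]
      refine sum_congr rfl fun w _ => ?_
      by_cases h1 : R x w <;> by_cases h2 : R w y <;> simp [h1, h2]
    simp only [Matrix.add_apply, hsum, Matrix.smul_apply, Matrix.one_apply, smul_eq_mul]
    simp only [eA, Matrix.of_apply]
    by_cases e : x = y
    · subst e
      simp [irr, hself]
    · by_cases hr : R x y
      · simp [e, hr, hlam x y hr]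
      · simp [e, hr, hmu x y e hr]

end CfsgLib.PLocal.M22J
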