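import Mathlib.GroupTheory.Sylow
import Mathlib.GroupTheory.GroupAction.Quotient

/-!
The number of conjugates, under the normaliser, of an element of an elementary abelian group of
order `2ⁿ` has no prime factor modulo which two is of order more than `n`.
-/

set_option autoImplicit false

namespace CfsgLib.PLocal.U6J

variable {G : Type*} [Group G] [Finite G]

/-- A prime dividing the length of an orbit on an elementary abelian group. -/
theorem orbit_prime {A : Subgroup G} {n p : ℕ} [Fact p.Prime] (hA : Nat.card A = 2 ^ n) {d : G}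
    (hd : d ∈ A) (hp : p ∣ {x : G | ∃ m ∈ Subgroup.normalizer (A : Set G), m * d * m⁻¹ = x}.ncard)
    (hord : ∀ j < n, ¬ 2 ^ n ≡ 2 ^ j [MOD p]) : False := by
  obtain ⟨N, eN⟩ : ∃ N, N = Subgroup.normalizer (A : Set G) := ⟨_, rfl⟩
  rw [← eN] at hp
  obtain ⟨H, eH⟩ : ∃ H : Subgroup N, H = (Subgroup.centralizer {d}).subgroupOf N := ⟨_, rfl⟩
  have hidx : H.index = {x : G | ∃ m ∈ N, m * d * m⁻¹ = x}.ncard := by
    rw [Subgroup.index_eq_card, ← Nat.card_coe_set_eq]
    refine Nat.card_eq_of_bijective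
      (fun q => Quotient.liftOn' q
        (fun m => (⟨(m : G) * d * (m : G)⁻¹, m, m.2, rfl⟩ :
          {x : G | ∃ m ∈ N, m * d * m⁻¹ = x})) fun a b hab => ?_) ⟨?_, ?_⟩
    · rw [QuotientGroup.leftRel_apply, eH, Subgroup.mem_subgroupOf,
        Subgroup.mem_centralizer_singleton_iff, Subgroup.coe_mul, Subgroup.coe_inv] at hab
      refine Subtype.ext ?_
      calc (a : G) * d * (a : G)⁻¹ = (a : G) * (d * ((a : G)⁻¹ * b)) * (b : G)⁻¹ := by group
        _ = (a : G) * ((a : G)⁻¹ * b * d) * (b : G)⁻¹ := by rw [hab]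
        _ = (b : G) * d * (b : G)⁻¹ := by group
    · intro q q'
      induction q using Quotient.inductionOn'
      rename_i a
      induction q' using Quotient.inductionOn'
      rename_i b
      intro e
      refine Quotient.eq''.2 ?_
      rw [QuotientGroup.leftRel_apply, eH, Subgroup.mem_subgroupOf,
        Subgroup.mem_centralizer_singleton_iff, Subgroup.coe_mul, Subgroup.coe_inv]
      have e' : (a : G) * d * (a : G)⁻¹ = (b : G) * d * (b : G)⁻¹ := congrArg Subtype.val e
      calc (a : G)⁻¹ * b * d = (a : G)⁻¹ * ((b : G) * d * (b : G)⁻¹) * b := by group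
        _ = (a : G)⁻¹ * ((a : G) * d * (a : G)⁻¹) * b := by rw [e']
        _ = d * ((a : G)⁻¹ * b) := by group
    · rintro ⟨x, m, hm, rfl⟩
      exact ⟨Quotient.mk'' ⟨m, hm⟩, rfl⟩
  obtain ⟨R⟩ := (inferInstance : Nonempty (Sylow p N))
  let act : MulAction R A :=
    { smul := fun x y => ⟨(x : N) * y * ((x : N) : G)⁻¹,
        (Subgroup.mem_normalizer_iff.1 (show ((x : N) : G) ∈ Subgroup.normalizer (A : Set G) by
        rw [← eN]; exact (x : N).2) y).1 y.2⟩
      one_smul := fun y => Subtype.ext (by change (1 : G) * y * (1 : G)⁻¹ = y; simp)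
      mul_smul := fun x y z => Subtype.ext (by
        change ((x * y : R) : N) * (z : G) * (((x * y : R) : N) : G)⁻¹ =
          ((x : N) : G) * (((y : N) : G) * z * ((y : N) : G)⁻¹) * ((x : N) : G)⁻¹
        simp [mul_assoc]) }
  obtain ⟨F, eF⟩ : ∃ F : Subgroup A,
      F = (Subgroup.centralizer ((R : Subgroup N).map N.subtype : Set G)).subgroupOf A := ⟨_, rfl⟩
  have hFix : (MulAction.fixedPoints R A) = (F : Set A) := by
    ext a
    rw [SetLike.mem_coe, eF, Subgroup.mem_subgroupOf, Subgroup.mem_centralizer_iff,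
      MulAction.mem_fixedPoints]
    constructor
    · rintro h _ ⟨m, hm, rfl⟩
      exact mul_inv_eq_iff_eq_mul.1 (congrArg Subtype.val (h ⟨m, hm⟩))
    · intro h x
      exact Subtype.ext (mul_inv_eq_iff_eq_mul.2 (h _ ⟨x.1, x.2, rfl⟩))
  obtain ⟨j, hj, hFj⟩ : ∃ j ≤ n, Nat.card F = 2 ^ j :=
    (Nat.dvd_prime_pow Nat.prime_two).1 (hA ▸ F.card_subgroup_dvd_card)
  have hmod : 2 ^ n ≡ 2 ^ j [MOD p] := by
    rw [← hA, ← hFj]
    have h := R.2.card_modEq_card_fixedPoints (α := A)
    rw [hFix] at h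
    exact h
  rcases hj.lt_or_eq with hlt | rfl
  · exact hord j hlt hmod
  · have hF : F = ⊤ := Subgroup.eq_top_of_card_eq F (by rw [hFj, hA])
    have hRH : (R : Subgroup N) ≤ H := fun x hx => by
      rw [eH, Subgroup.mem_subgroupOf, Subgroup.mem_centralizer_singleton_iff]
      have h : (⟨d, hd⟩ : A) ∈ F := hF ▸ Subgroup.mem_top _
      rw [eF, Subgroup.mem_subgroupOf, Subgroup.mem_centralizer_iff] at h
      exact h _ ⟨x, hx, rfl⟩
    exact R.not_dvd_index ((hidx ▸ hp).trans (Subgroup.index_dvd_of_le hRH))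

end CfsgLib.PLocal.U6J
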