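import Cfsg.Agent.Lib.PLocal.M22JCover
import Cfsg.Agent.Lib.PLocal.U6JOrbitPrime

/-!
A double cover of a group of type M(22) as the centraliser of an involution `d`: the conjugates of
`d` in the preimage of a span, counted by the kinds of their images.
-/

set_option autoImplicit false
set_option linter.unusedSectionVars false
set_option linter.unusedSimpArgs false

namespace CfsgLib.PLocal.M22J

open CfsgLib.Trans3 CfsgLib.Trans3.Fi CfsgLib.PLocal.U6J

/-- Over each element of `S` lie exactly `k` members of `Δ`. -/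
def Fib {C X : Type*} [Group C] [DecidableEq C] [Group X] (π : C →* X) (z : C) (Δ : Finset C)
    (S : Set X) (k : ℕ) : Prop :=
  ∀ v : C, π v ∈ S → ((if v ∈ Δ then 1 else 0) + if v * z ∈ Δ then 1 else 0) = k

section Fib

variable {C X : Type*} [Group C] [DecidableEq C] [Group X] {π : C →* X} {z : C} {Δ : Finset C}
  {S : Set X}

theorem Fib.zero (hf : Fib π z Δ S 0) {v : C} (hv : π v ∈ S) : v ∉ Δ := fun hm => by
  have := hf v hv
  rw [if_pos hm] at this
  omega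

theorem Fib.two (hf : Fib π z Δ S 2) {v : C} (hv : π v ∈ S) : v ∈ Δ := by
  by_contra hm
  have := hf v hv
  rw [if_neg hm] at this
  split_ifs at this <;> omega

theorem Fib.one_unique (hC : DCov π z) (hf : Fib π z Δ S 1) {u v : C} (hu : u ∈ Δ) (hv : v ∈ Δ)
    (hS : π u ∈ S) (e : π u = π v) : u = v := by
  rcases dcov_eq hC e.symm with k | k
  · exact k.symm
  · exfalso
    have := hf u hS
    rw [if_pos hu, if_pos (k ▸ hv)] at this
    omega

theorem Fib.one_exists (hC : DCov π z) (hf : Fib π z Δ S 1) {w : X} (hw : w ∈ S) :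
    ∃ v ∈ Δ, π v = w := by
  obtain ⟨v, rfl⟩ := hC.surj w
  by_cases hv : v ∈ Δ
  · exact ⟨v, hv, rfl⟩
  refine ⟨v * z, ?_, by rw [map_mul, dcov_map_z hC, mul_one]⟩
  by_contra hn
  have := hf v hw
  rw [if_neg hv, if_neg hn] at this
  omega

theorem Fib.one_outside (hC : DCov π z) (hf : Fib π z Δ S 1) {w : X} (hw : w ∈ S) :
    ∃ v, π v = w ∧ v ∉ Δ := by
  obtain ⟨v, hv, rfl⟩ := hf.one_exists hC hw
  refine ⟨v * z, by rw [map_mul, dcov_map_z hC, mul_one], fun hm => ?_⟩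
  have := hf v hw
  rw [if_pos hv, if_pos hm] at this
  omega

end Fib

section Main

variable {G : Type*} [Group G] [Finite G] {d : G} {X : Type*} [Group X] [Finite X]
variable {π : ↥(Subgroup.centralizer ({d} : Set G)) →* X}
variable {z : ↥(Subgroup.centralizer ({d} : Set G))} {D : Set X}
variable (hzd : (z : G) = d) (hd : orderOf d = 2) (hC : DCov π z)
  (hD : Cfsg.IsThreeTranspositionGroup D)
  (hP : Cfsg.IsPrimitiveUnderConj D) (h : Cfsg.IsOfTypeM22 X D)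
  (hsq : ∀ u : ↥(Subgroup.centralizer ({d} : Set G)), π u ∈ D → u * u = 1)
  (hperf : _root_.commutator ↥(Subgroup.centralizer ({d} : Set G)) = ⊤)
  (hnwc : ∃ g : G, g * d * g⁻¹ ∈ Subgroup.centralizer ({d} : Set G) ∧ g * d * g⁻¹ ≠ d)
variable {Y : Finset X} (hE : Clique22 D Y)
variable {A : Subgroup G}
  (eA : A = ((Subgroup.closure (Y : Set X)).comap π).map
    (Subgroup.centralizer ({d} : Set G)).subtype)
variable {Δ : Finset ↥(Subgroup.centralizer ({d} : Set G))}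
  (eΔ : ∀ u, u ∈ Δ ↔ π u ∈ Subgroup.closure (Y : Set X) ∧ IsConj d (u : G))
include hzd hd hC hD hP h hsq hperf hnwc hE eA

/-- The stabiliser of the covering involution in the normaliser stabilises the clique. -/
theorem stab_fix {n : G} (hn : n ∈ Subgroup.normalizer (A : Set G)) (hnd : n * d * n⁻¹ = d) :
    ∃ c : ↥(Subgroup.centralizer ({d} : Set G)), (c : G) = n ∧ π c ∈ setFix (Y : Set X) := by
  have hnC : n ∈ Subgroup.centralizer ({d} : Set G) := by
    rw [Subgroup.mem_centralizer_singleton_iff]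
    exact mul_inv_eq_iff_eq_mul.1 hnd
  refine ⟨⟨n, hnC⟩, rfl, (m22j_fix_iff hD hP h hE).2 (Subgroup.mem_normalizer_iff.2 fun w => ?_)⟩
  obtain ⟨v, rfl⟩ := hC.surj w
  have key := Subgroup.mem_normalizer_iff.1 hn (v : G)
  have hm : ∀ u : ↥(Subgroup.centralizer ({d} : Set G)),
      (u : G) ∈ A ↔ π u ∈ Subgroup.closure (Y : Set X) := fun u => by
    rw [eA, Subgroup.mem_map]
    exact ⟨fun ⟨u', hu', e⟩ => Subtype.ext e ▸ hu', fun hu => ⟨u, hu, rfl⟩⟩
  rw [hm, show n * (v : G) * n⁻¹ =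
    ((⟨n, hnC⟩ * v * ⟨n, hnC⟩⁻¹ : ↥(Subgroup.centralizer ({d} : Set G))) : G) from rfl, hm,
    map_mul, map_mul, map_inv] at key
  exact key

/-- What stabilises the clique normalises the preimage of the span. -/
theorem fix_norm {c : ↥(Subgroup.centralizer ({d} : Set G))} (hc : π c ∈ setFix (Y : Set X)) :
    (c : G) ∈ Subgroup.normalizer (A : Set G) := by
  have hn := Subgroup.mem_normalizer_iff.1 ((m22j_fix_iff hD hP h hE).1 hc)
  refine Subgroup.mem_normalizer_iff.2 fun a => ?_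
  rw [eA]
  constructor
  · rintro ⟨v, hv, rfl⟩
    refine ⟨c * v * c⁻¹, ?_, rfl⟩
    rw [SetLike.mem_coe, Subgroup.mem_comap, map_mul, map_mul, map_inv]
    exact (hn _).1 hv
  · rintro ⟨v, hv, e⟩
    refine ⟨c⁻¹ * v * c, ?_, ?_⟩
    · rw [SetLike.mem_coe, Subgroup.mem_comap, hn, map_mul, map_mul, map_inv]
      simpa [mul_assoc] using hv
    · show (c : G)⁻¹ * (v : G) * (c : G) = a
      rw [show (v : G) = (c : G) * a * (c : G)⁻¹ from e]
      group

include eΔ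

theorem delta_conj {c : ↥(Subgroup.centralizer ({d} : Set G))} (hc : π c ∈ setFix (Y : Set X))
    {u : ↥(Subgroup.centralizer ({d} : Set G))} (hu : u ∈ Δ) : c * u * c⁻¹ ∈ Δ := by
  rw [eΔ] at hu ⊢
  refine ⟨?_, hu.2.trans (isConj_iff.2 ⟨(c : G), rfl⟩)⟩
  rw [map_mul, map_mul, map_inv]
  exact (Subgroup.mem_normalizer_iff.1 ((m22j_fix_iff hD hP h hE).1 hc) _).1 hu.1

theorem delta_one : (1 : ↥(Subgroup.centralizer ({d} : Set G))) ∉ Δ := fun hm =>
  invol_ne_one hd (isConj_one_left.1 ((eΔ 1).1 hm).2)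

theorem delta_z : z ∈ Δ :=
  (eΔ z).2 ⟨by rw [dcov_map_z hC]; exact one_mem _, hzd.symm ▸ IsConj.refl d⟩

/-- The normaliser is transitive on the conjugates. -/
theorem delta_orbit :
    {x : G | ∃ m ∈ Subgroup.normalizer (A : Set G), m * d * m⁻¹ = x} =
      ((↑) : ↥(Subgroup.centralizer ({d} : Set G)) → G) '' (Δ : Set _) := by
  ext x
  constructor
  · rintro ⟨m, hm, rfl⟩
    have hdA : d ∈ A := eA ▸ ⟨z, by rw [SetLike.mem_coe, Subgroup.mem_comap, dcov_map_z hC]; exact one_mem _, hzd⟩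
    have hx := (Subgroup.mem_normalizer_iff.1 hm d).1 hdA
    rw [eA] at hx
    obtain ⟨u, hu, e⟩ := hx
    exact ⟨u, (eΔ u).2 ⟨hu, (show (u : G) = m * d * m⁻¹ from e) ▸ isConj_iff.2 ⟨m, rfl⟩⟩, e⟩
  · rintro ⟨u, hu, rfl⟩
    obtain ⟨h1, h2⟩ := (eΔ u).1 hu
    rw [eA]
    exact span22_norm hzd hd hC hD hP h hsq hperf hnwc hE ⟨u, h1, rfl⟩ h2

/-- Carrying `z` to any conjugate. -/
theorem delta_move {x : ↥(Subgroup.centralizer ({d} : Set G))} (hx : x ∈ Δ) :
    ∃ τ : ↥((Subgroup.closure (Y : Set X)).comap π) → ↥((Subgroup.closure (Y : Set X)).comap π),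
      (∀ u v, τ (u * v) = τ u * τ v) ∧ (∀ u, ((τ u).1 ∈ Δ ↔ u.1 ∈ Δ)) ∧
        (∀ hz, (τ ⟨z, hz⟩).1 = x) ∧ Function.Surjective τ ∧ Function.Injective τ := by
  obtain ⟨n, hn, e⟩ : (x : G) ∈ {x : G | ∃ m ∈ Subgroup.normalizer (A : Set G), m * d * m⁻¹ = x} := by
    rw [delta_orbit hzd hd hC hD hP h hsq hperf hnwc hE eA eΔ]
    exact ⟨x, hx, rfl⟩
  have hmem : ∀ (m : G), m ∈ Subgroup.normalizer (A : Set G) →
      ∀ u : ↥((Subgroup.closure (Y : Set X)).comap π),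
      ∃ v : ↥((Subgroup.closure (Y : Set X)).comap π), (v.1 : G) = m * (u.1 : G) * m⁻¹ :=
    fun m hm' u => by
      have h1 : m * (u.1 : G) * m⁻¹ ∈ A :=
        (Subgroup.mem_normalizer_iff.1 hm' _).1 (eA ▸ ⟨u.1, u.2, rfl⟩)
      rw [eA] at h1
      obtain ⟨v, hv, e'⟩ := h1
      exact ⟨⟨v, hv⟩, e'⟩
  choose τ hτ using hmem n hn
  refine ⟨τ, fun u v => Subtype.ext (Subtype.ext ?_), fun u => ?_, fun hz => Subtype.ext ?_,
    fun v => ?_, fun u v e' => ?_⟩
  · simp only [hτ, Subgroup.coe_mul, mul_assoc]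
    group
  · rw [eΔ, eΔ]
    have h1 := Subgroup.mem_comap.1 (τ u).2
    have h2 := Subgroup.mem_comap.1 u.2
    simp only [h1, h2, true_and, hτ]
    exact ⟨fun k => k.trans (isConj_iff.2 ⟨n⁻¹, by group⟩), fun k => k.trans (isConj_iff.2 ⟨n, rfl⟩)⟩
  · rw [hτ]
    show n * (z : G) * n⁻¹ = x
    rw [hzd, e]
  · obtain ⟨u, hu⟩ := hmem n⁻¹ (inv_mem hn) v
    exact ⟨u, Subtype.ext (Subtype.ext (by rw [hτ, hu]; group))⟩
  · have := congrArg (fun w : ↥((Subgroup.closure (Y : Set X)).comap π) => (w.1 : G)) e'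
    simp only [hτ] at this
    exact Subtype.ext (Subtype.ext (mul_left_cancel (mul_right_cancel this)))

/-- The count. -/
theorem delta_count [DecidableEq ↥(Subgroup.centralizer ({d} : Set G))] :
    ∃ x₁ ≤ 2, ∃ x₂ ≤ 2, ∃ x₃ ≤ 2, Fib π z Δ (Y : Set X) x₁ ∧
      Fib π z Δ (pairSet (Y : Set X)) x₂ ∧ Fib π z Δ (tripleSet (Y : Set X)) x₃ ∧
      Δ.card = 1 + 22 * x₁ + 231 * x₂ + 770 * x₃ := by
  classical
  obtain ⟨W, eW⟩ : ∃ W, W = Subgroup.closure (Y : Set X) := ⟨_, rfl⟩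
  obtain ⟨hkind, nP, hPp, hTp⟩ := m22j_kinds hD hP h hE
  obtain ⟨fib, efib⟩ : ∃ fib : X → ℕ, fib = fun w => (Δ.filter fun u => π u = w).card := ⟨_, rfl⟩
  have fmem : ∀ v, fib (π v) = (if v ∈ Δ then 1 else 0) + if v * z ∈ Δ then 1 else 0 := by
    intro v
    have hne : v ≠ v * z := fun e => hC.ne (mul_eq_left.1 e.symm)
    simp only [efib]
    rw [show (Δ.filter fun u => π u = π v) = ({v, v * z} : Finset _).filter (· ∈ Δ) from ?_,
      Finset.card_filter, Finset.sum_pair hne]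
    ext u
    simp only [Finset.mem_filter, Finset.mem_insert, Finset.mem_singleton]
    constructor
    · rintro ⟨hu, k⟩
      exact ⟨dcov_eq hC k, hu⟩
    · rintro ⟨rfl | rfl, hu⟩
      exacts [⟨hu, rfl⟩, ⟨hu, by rw [map_mul, dcov_map_z hC, mul_one]⟩]
  have hfconst : ∀ {a b : X}, (∃ k ∈ setFix (Y : Set X), k * a * k⁻¹ = b) → fib a ≤ fib b := by
    rintro a b ⟨k, hk, rfl⟩
    obtain ⟨c, rfl⟩ := hC.surj k
    rw [efib]
    refine Finset.card_le_card_of_injOn (fun u => c * u * c⁻¹) (fun u hu => ?_)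
      (fun u _ v _ e => mul_left_cancel (mul_right_cancel e))
    simp only [Finset.coe_filter, Set.mem_ofPred_eq] at hu ⊢
    exact ⟨delta_conj hzd hd hC hD hP h hsq hperf hnwc hE eA eΔ hk hu.1,
      by rw [map_mul, map_mul, map_inv, hu.2]⟩
  have hle2 : ∀ w, fib w ≤ 2 := fun w => by
    obtain ⟨v, rfl⟩ := hC.surj w
    rw [fmem]
    split_ifs <;> omega
  haveI := Fintype.ofFinite X
  obtain ⟨W1, hW1⟩ : ∃ W1 : Finset X, ∀ w, w ∈ W1 ↔ w ∈ W ∧ w ≠ 1 :=
    ⟨Finset.univ.filter fun w => w ∈ W ∧ w ≠ 1, fun w => by simp⟩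
  obtain ⟨P0, hP0⟩ : ∃ P0 : Finset X, ∀ w, w ∈ P0 ↔ w ∈ pairSet (Y : Set X) :=
    ⟨(Set.toFinite _).toFinset, fun w => Set.Finite.mem_toFinset _⟩
  obtain ⟨T0, hT0⟩ : ∃ T0 : Finset X, ∀ w, w ∈ T0 ↔ w ∈ tripleSet (Y : Set X) :=
    ⟨(Set.toFinite _).toFinset, fun w => Set.Finite.mem_toFinset _⟩
  have hunion : Y ∪ P0 ∪ T0 = W1 := by
    ext w
    simp only [Finset.mem_union, hP0, hT0, hW1, eW]
    constructor
    · rintro ((k | k) | k)
      exacts [⟨Subgroup.subset_closure k, invol_ne_one (hD.1.1 w (hE.sub w k))⟩,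
        ⟨(hPp w k).2.2, (hPp w k).2.1⟩, ⟨(hTp w k).2.2.2, (hTp w k).2.1⟩]
    · rintro ⟨k1, k2⟩
      rcases hkind w k1 k2 with k | k | k <;> tauto
  have d1 : Disjoint Y P0 := Finset.disjoint_left.2 fun w k1 k2 => (hPp w ((hP0 w).1 k2)).1 k1
  have d2 : Disjoint (Y ∪ P0) T0 := Finset.disjoint_left.2 fun w k1 k2 => by
    rcases Finset.mem_union.1 k1 with k | k
    exacts [(hTp w ((hT0 w).1 k2)).1 k, (hTp w ((hT0 w).1 k2)).2.2.1 ((hP0 w).1 k)]
  have nP0 : P0.card = 231 := by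
    rw [← Set.ncard_coe_finset, ← nP]; exact congrArg _ (Set.ext hP0)
  have nW1 : W1.card = 1023 := by
    have : (insert 1 W1).card = 1024 := by
      rw [← Set.ncard_coe_finset, show ((insert 1 W1 : Finset X) : Set X) = (W : Set X) from
        Set.ext fun w => by
          simp only [Finset.coe_insert, Set.mem_insert_iff, Finset.mem_coe, hW1, SetLike.mem_coe]
          exact ⟨fun k => k.elim (fun e => e ▸ one_mem W) (·.1), fun k => or_iff_not_imp_left.2 (⟨k, ·⟩)⟩,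
        ← Nat.card_coe_set_eq, eW]
      exact (clique_closure hD hP h hE).1
    rw [Finset.card_insert_of_notMem (by simp [hW1])] at this
    omega
  have nT0 : T0.card = 770 := by
    rw [← hunion, Finset.card_union_of_disjoint d2, Finset.card_union_of_disjoint d1, hE.card,
      nP0] at nW1
    omega
  obtain ⟨a₁, ha₁⟩ := Finset.card_pos.1 (show 0 < Y.card by rw [hE.card]; norm_num)
  obtain ⟨a₂, ha₂⟩ := Finset.card_pos.1 (show 0 < P0.card by rw [nP0]; norm_num)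
  obtain ⟨a₃, ha₃⟩ := Finset.card_pos.1 (show 0 < T0.card by rw [nT0]; norm_num)
  have c1 : ∀ w ∈ Y, fib w = fib a₁ := fun w hw =>
    le_antisymm (hfconst (m22j_trans_one hD hP h hE hw ha₁))
      (hfconst (m22j_trans_one hD hP h hE ha₁ hw))
  have hp2 : ∀ {v w}, v ∈ P0 → w ∈ P0 → ∃ k ∈ setFix (Y : Set X), k * v * k⁻¹ = w := by
    intro v w hv hw
    rw [hP0] at hv hw
    obtain ⟨a, ha, b, hb, hab, rfl⟩ := hv
    obtain ⟨a', ha', b', hb', hab', rfl⟩ := hw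
    obtain ⟨k, hk, ea, eb⟩ := m22j_trans_two hD hP h hE (Finset.mem_coe.1 ha) (Finset.mem_coe.1 hb)
      hab (Finset.mem_coe.1 ha') (Finset.mem_coe.1 hb') hab'
    exact ⟨k, hk, by rw [← ea, ← eb]; group⟩
  have c2 : ∀ w ∈ P0, fib w = fib a₂ := fun w hw =>
    le_antisymm (hfconst (hp2 hw ha₂)) (hfconst (hp2 ha₂ hw))
  have c3 : ∀ w ∈ T0, fib w = fib a₃ := fun w hw =>
    le_antisymm (hfconst (m22j_trans_three hD hP h hE ((hT0 w).1 hw) ((hT0 _).1 ha₃)))
      (hfconst (m22j_trans_three hD hP h hE ((hT0 _).1 ha₃) ((hT0 w).1 hw)))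
  refine ⟨fib a₁, hle2 _, fib a₂, hle2 _, fib a₃, hle2 _, fun v hv => ?_, fun v hv => ?_,
    fun v hv => ?_, ?_⟩
  · rw [← fmem, c1 _ hv]
  · rw [← fmem, c2 _ ((hP0 _).2 hv)]
  · rw [← fmem, c3 _ ((hT0 _).2 hv)]
  have f1 : fib 1 = 1 := by
    rw [← map_one π, fmem, if_neg (delta_one hzd hd hC hD hP h hsq hperf hnwc hE eA eΔ), one_mul,
      if_pos (delta_z hzd hd hC hD hP h hsq hperf hnwc hE eA eΔ)]
  have hsum := Finset.card_eq_sum_card_fiberwise (f := π) (s := Δ) (t := insert 1 W1)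
    fun u hu => by
      simp only [Finset.mem_coe, Finset.mem_insert, hW1, eW]
      have := ((eΔ u).1 hu).1
      tauto
  rw [Finset.sum_insert (by simp [hW1]), ← hunion, Finset.sum_union d2, Finset.sum_union d1] at hsum
  simp only [efib] at c1 c2 c3 f1 ⊢
  rw [hsum, f1, Finset.sum_congr rfl c1, Finset.sum_congr rfl c2, Finset.sum_congr rfl c3]
  simp only [Finset.sum_const, smul_eq_mul, hE.card, nP0, nT0]
  ring

/-- Some other conjugate lies in the preimage. -/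
theorem delta_gt : 1 < Δ.card := by
  obtain ⟨g, hgC, hgne⟩ := id hnwc
  have hy2 : (⟨g * d * g⁻¹, hgC⟩ : ↥(Subgroup.centralizer ({d} : Set G))) * ⟨g * d * g⁻¹, hgC⟩ = 1 :=
    Subtype.ext (by
      show g * d * g⁻¹ * (g * d * g⁻¹) = 1
      rw [show g * d * g⁻¹ * (g * d * g⁻¹) = g * (d * d) * g⁻¹ by group, invol_mul_self hd]
      group)
  obtain ⟨k, hk⟩ := m22j_invol_mem hD hP h hE (x := π ⟨g * d * g⁻¹, hgC⟩)
    (by rw [← map_mul, hy2, map_one])
  obtain ⟨c, rfl⟩ := hC.surj k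
  refine Finset.one_lt_card.2 ⟨c * ⟨g * d * g⁻¹, hgC⟩ * c⁻¹, (eΔ _).2 ⟨?_, ?_⟩, z,
    delta_z hzd hd hC hD hP h hsq hperf hnwc hE eA eΔ, ?_⟩
  · rw [map_mul, map_mul, map_inv]; exact hk
  · exact (isConj_iff.2 ⟨g, rfl⟩ : IsConj d (g * d * g⁻¹)).trans (isConj_iff.2 ⟨(c : G), rfl⟩)
  · intro e
    rw [mul_inv_eq_iff_eq_mul, ← (hC.central c).eq] at e
    exact hgne ((congrArg Subtype.val (mul_left_cancel e)).trans hzd)

/-- No prime factor of large order. -/
theorem delta_prime {p : ℕ} (hp : p.Prime) (hpd : p ∣ Δ.card)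
    (hord : ∀ j < 11, 2 ^ 11 % p ≠ 2 ^ j % p) : False := by
  haveI := Fact.mk hp
  refine orbit_prime (A := A) (n := 11) ?_ (d := d) ?_ ?_ hord
  · rw [eA, Subgroup.card_map_of_injective (Subgroup.subtype_injective _),
      cover22_card hC hD hP h hsq hE]
    norm_num
  · exact eA ▸ ⟨z, by rw [SetLike.mem_coe, Subgroup.mem_comap, dcov_map_z hC]; exact one_mem _, hzd⟩
  · rwa [delta_orbit hzd hd hC hD hP h hsq hperf hnwc hE eA eΔ,
      Set.ncard_image_of_injective _ Subtype.val_injective, Set.ncard_coe_finset]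

end Main

end CfsgLib.PLocal.M22J
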