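import Cfsg.Agent.Lib.PLocal.U6JSpan
import Cfsg.Agent.Lib.Trans3.Fi.M22Elem

/-!
A maximal commuting set of 22 members of a group of type M(22): the stabiliser is transitive on
ordered triples, and the span consists of the products of at most three of its members.
-/

set_option autoImplicit false
set_option linter.unusedSectionVars false
set_option linter.unusedSimpArgs false

namespace CfsgLib.PLocal.M22J

open CfsgLib.Trans3 CfsgLib.Trans3.Fi CfsgLib.PLocal.U6J

/-- The products of three distinct elements of a set. -/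
def tripleSet {G : Type*} [Mul G] (E : Set G) : Set G :=
  {w | ∃ a ∈ E, ∃ b ∈ E, ∃ c ∈ E, a ≠ b ∧ a ≠ c ∧ b ≠ c ∧ w = a * b * c}

variable {G : Type*} [Group G] [Finite G] {D : Set G}

theorem clique22_conj [DecidableEq G] (hD : Cfsg.IsThreeTranspositionGroup D) {X : Finset G}
    (hX : Clique22 D X) (g : G) : Clique22 D (X.image fun x => g * x * g⁻¹) := by
  refine ⟨fun y hy => ?_, fun y hy y' hy' => ?_, ?_⟩
  · obtain ⟨x, hx, rfl⟩ := Finset.mem_image.1 hy
    exact hD.2.1 g x (hX.sub x hx)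
  · obtain ⟨x, hx, rfl⟩ := Finset.mem_image.1 hy
    obtain ⟨x', hx', rfl⟩ := Finset.mem_image.1 hy'
    exact (commute_conj_iff g x x').2 (hX.comm x hx x' hx')
  · rw [Finset.card_image_of_injective _ fun a b e => mul_left_cancel (mul_right_cancel e), hX.card]

variable (hD : Cfsg.IsThreeTranspositionGroup D) (hP : Cfsg.IsPrimitiveUnderConj D)
variable (h : Cfsg.IsOfTypeM22 G D)
variable {X : Finset G} (hX : Clique22 D X)
include hD hP h hX

/-- A 2-group holds at most one span. -/
theorem m22j_unique {Y : Finset G} (hY : Clique22 D Y) {P : Subgroup G} (hP2 : IsPGroup 2 P)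
    (hXP : ∀ x ∈ X, x ∈ P) (hYP : ∀ y ∈ Y, y ∈ P) : Y = X :=
  Finset.eq_of_subset_of_card_le (fun y hy => clique_mem hD hP h hX (hY.sub y hy) fun x hx =>
    commute_of_mem_two_group hD.1 hP2 (hY.sub y hy) (hX.sub x hx) (hYP y hy) (hXP x hx))
    (by rw [hX.card, hY.card])

/-- Elements moving some members of the clique into it can be taken to fix it. -/
theorem m22j_adjust [DecidableEq G] {g : G} {F : Finset G} (hF : F ⊆ X)
    (hgF : ∀ x ∈ F, g * x * g⁻¹ ∈ X) :
    ∃ k ∈ setFix (X : Set G), ∀ x ∈ F, k * x * k⁻¹ = g * x * g⁻¹ := by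
  haveI : Fact (Nat.Prime 2) := ⟨Nat.prime_two⟩
  obtain ⟨F', eF'⟩ : ∃ F', F' = F.image fun x => g * x * g⁻¹ := ⟨_, rfl⟩
  have hF' : F' ⊆ X := eF' ▸ fun y hy => by
    obtain ⟨x, hx, rfl⟩ := Finset.mem_image.1 hy
    exact hgF x hx
  obtain ⟨H, eH⟩ : ∃ H, H = Subgroup.centralizer (F' : Set G) := ⟨_, rfl⟩
  obtain ⟨Y, eY⟩ : ∃ Y, Y = X.image fun x => g * x * g⁻¹ := ⟨_, rfl⟩
  have hY : Clique22 D Y := eY ▸ clique22_conj hD hX g
  have two : ∀ Z : Finset G, Clique22 D Z → F' ⊆ Z →
      ∃ Q : Sylow 2 H, ∀ z ∈ Z, z ∈ (Q : Subgroup H).map H.subtype := by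
    intro Z hZ hFZ
    have hle : Subgroup.closure (Z : Set G) ≤ H := by
      rw [eH, Subgroup.closure_le]
      exact fun z hz => Subgroup.mem_centralizer_iff.2 fun y hy => hZ.comm y (hFZ hy) z hz
    have h2 : IsPGroup 2 (Subgroup.closure (Z : Set G)) :=
      isPGroup_two_closure_of_commute hZ.comm fun u hu => Trans3.sq_one hD.1 (hZ.sub u hu)
    obtain ⟨Q, hQ⟩ := (h2.of_equiv (Subgroup.subgroupOfEquivOfLe hle).symm).exists_le_sylow
    exact ⟨Q, fun z hz => ⟨⟨z, hle (Subgroup.subset_closure hz)⟩,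
      hQ (Subgroup.mem_subgroupOf.2 (Subgroup.subset_closure hz)), rfl⟩⟩
  obtain ⟨Q, hQ⟩ := two X hX hF'
  obtain ⟨Q', hQ'⟩ := two Y hY (eY ▸ eF' ▸ Finset.image_subset_image hF)
  obtain ⟨u, hu⟩ := MulAction.exists_smul_eq H Q' Q
  obtain ⟨Z, eZ⟩ : ∃ Z, Z = Y.image fun y => (u : G) * y * (u : G)⁻¹ := ⟨_, rfl⟩
  have hZ : Clique22 D Z := eZ ▸ clique22_conj hD hY u
  have hZQ : ∀ z ∈ Z, z ∈ (Q : Subgroup H).map H.subtype := by
    intro z hz
    rw [eZ] at hz
    obtain ⟨y, hy, rfl⟩ := Finset.mem_image.1 hz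
    obtain ⟨q, hq, e⟩ := hQ' y hy
    refine ⟨u * q * u⁻¹, ?_, by simp [← e]⟩
    rw [← hu]
    exact ⟨q, hq, rfl⟩
  have hZX := m22j_unique hD hP h hX hZ (Q.isPGroup'.map H.subtype) hQ hZQ
  refine ⟨u * g, fun e he => ?_, fun x hx => ?_⟩
  · rw [← hZX, eZ, eY, Finset.mem_coe]
    refine Finset.mem_image.2 ⟨_, Finset.mem_image.2 ⟨e, he, rfl⟩, ?_⟩
    group
  · have hc : Commute (u : G) (g * x * g⁻¹) := (Subgroup.mem_centralizer_iff.1
      (eH ▸ u.2 : (u : G) ∈ Subgroup.centralizer (F' : Set G)) _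
      (eF' ▸ Finset.mem_image_of_mem _ hx)).symm
    calc (u : G) * g * x * ((u : G) * g)⁻¹ = u * (g * x * g⁻¹) * (u : G)⁻¹ := by group
      _ = g * x * g⁻¹ := conj_eq_of_commute hc

theorem m22j_nbr {a b : G} (ha : a ∈ X) (hb : b ∈ X) (hne : a ≠ b) : b ∈ nbrs D a :=
  ⟨hX.sub b hb, Ne.symm hne, hX.comm a ha b hb⟩

/-- The stabiliser is transitive on the members. -/
theorem m22j_trans_one {a a' : G} (ha : a ∈ X) (ha' : a' ∈ X) :
    ∃ k ∈ setFix (X : Set G), k * a * k⁻¹ = a' := by
  classical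
  obtain ⟨g, hg⟩ := hP.1 a (hX.sub a ha) a' (hX.sub a' ha')
  obtain ⟨k, hk, e⟩ := m22j_adjust hD hP h hX (g := g) (F := {a}) (by simpa using ha)
    (fun x hx => by rw [Finset.mem_singleton] at hx; rw [hx, hg]; exact ha')
  exact ⟨k, hk, by rw [e a (by simp), hg]⟩

/-- The stabiliser is transitive on ordered pairs. -/
theorem m22j_trans_two {a b a' b' : G} (ha : a ∈ X) (hb : b ∈ X) (hab : a ≠ b) (ha' : a' ∈ X)
    (hb' : b' ∈ X) (hab' : a' ≠ b') :
    ∃ k ∈ setFix (X : Set G), k * a * k⁻¹ = a' ∧ k * b * k⁻¹ = b' := by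
  classical
  obtain ⟨g, hg⟩ := hP.1 a (hX.sub a ha) a' (hX.sub a' ha')
  have hn : g * b * g⁻¹ ∈ nbrs D a' := hg ▸ ⟨hD.2.1 g b (hX.sub b hb),
    fun e => hab (mul_left_cancel (mul_right_cancel e)).symm,
    (commute_conj_iff g a b).2 (hX.comm a ha b hb)⟩
  obtain ⟨u, hu, eu⟩ := conj_lift hD hP h (hX.sub a' ha') hn (m22j_nbr hD hP h hX ha' hb' hab')
  have ea : u * g * a * (u * g)⁻¹ = a' := by
    calc u * g * a * (u * g)⁻¹ = u * (g * a * g⁻¹) * u⁻¹ := by group
      _ = a' := by rw [hg]; exact conj_eq_of_commute (commute_Hd hu).symm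
  have eb : u * g * b * (u * g)⁻¹ = b' := by rw [← eu]; group
  obtain ⟨k, hk, e⟩ := m22j_adjust hD hP h hX (g := u * g) (F := {a, b})
    (by simp [Finset.insert_subset_iff, ha, hb]) (fun x hx => by
      simp only [Finset.mem_insert, Finset.mem_singleton] at hx
      rcases hx with rfl | rfl
      exacts [ea ▸ ha', eb ▸ hb'])
  exact ⟨k, hk, (e a (by simp)).trans ea, (e b (by simp)).trans eb⟩

/-- The stabiliser is transitive on the products of three members. -/
theorem m22j_trans_three {u v : G} (hu : u ∈ tripleSet (X : Set G))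
    (hv : v ∈ tripleSet (X : Set G)) : ∃ k ∈ setFix (X : Set G), k * u * k⁻¹ = v := by
  classical
  obtain ⟨a, ha, b, hb, c, hc, hab, hac, hbc, rfl⟩ := hu
  obtain ⟨a', ha', b', hb', c', hc', hab', hac', hbc', rfl⟩ := hv
  simp only [Finset.mem_coe] at ha hb hc ha' hb' hc'
  have n := @m22j_nbr G _ _ D hD hP h X hX
  obtain ⟨g, ea, eb, ec⟩ := triple_conj hD hP h (hX.sub a ha) (n ha hb hab) (n ha hc hac)
    (n hb hc hbc) (hX.sub a' ha') (n ha' hb' hab') (n ha' hc' hac') (n hb' hc' hbc')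
  obtain ⟨k, hk, e⟩ := m22j_adjust hD hP h hX (g := g) (F := {a, b, c})
    (by simp [Finset.insert_subset_iff, ha, hb, hc]) (fun x hx => by
      simp only [Finset.mem_insert, Finset.mem_singleton] at hx
      rcases hx with rfl | rfl | rfl
      exacts [ea ▸ ha', eb ▸ hb', ec ▸ hc'])
  refine ⟨k, hk, ?_⟩
  rw [← ea, ← eb, ← ec, ← e a (by simp), ← e b (by simp), ← e c (by simp)]
  group

/-- The stabiliser of the clique normalises the span, and conversely. -/
theorem m22j_fix_iff {g : G} :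
    g ∈ setFix (X : Set G) ↔ g ∈ Subgroup.normalizer (Subgroup.closure (X : Set G) : Set G) := by
  classical
  constructor
  · intro hg
    have he : (fun a => g * a * g⁻¹) '' (X : Set G) = X := by
      rw [← Finset.coe_image, Finset.coe_inj]
      exact Finset.eq_of_subset_of_card_le (fun y hy => by
        obtain ⟨x, hx, rfl⟩ := Finset.mem_image.1 hy
        exact hg x hx) (by rw [(clique22_conj hD hX g).card, hX.card])
    refine Subgroup.mem_normalizer_iff.2 fun n => ?_
    conv_rhs => rw [show Subgroup.closure (X : Set G) =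
      (Subgroup.closure (X : Set G)).map (MulAut.conj g).toMonoidHom by
        rw [MonoidHom.map_closure]
        exact congrArg _ he.symm]
    exact (Subgroup.mem_map_iff_mem (f := (MulAut.conj g).toMonoidHom) (MulAut.conj g).injective).symm
  · intro hg e he
    refine clique_mem hD hP h hX (hD.2.1 g e (hX.sub e he)) fun x hx => ?_
    exact (clique_elem hD hX ((Subgroup.mem_normalizer_iff.1 hg e).1 (Subgroup.subset_closure he))).2
      x (Subgroup.subset_closure hx)

/-- The span: products of at most three members, the three kinds being disjoint. -/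
theorem m22j_kinds :
    (∀ w ∈ Subgroup.closure (X : Set G), w ≠ 1 →
      w ∈ X ∨ w ∈ pairSet (X : Set G) ∨ w ∈ tripleSet (X : Set G)) ∧
    (pairSet (X : Set G)).ncard = 231 ∧
    (∀ w ∈ pairSet (X : Set G), w ∉ X ∧ w ≠ 1 ∧ w ∈ Subgroup.closure (X : Set G)) ∧
    (∀ w ∈ tripleSet (X : Set G), w ∉ X ∧ w ≠ 1 ∧ w ∉ pairSet (X : Set G) ∧
      w ∈ Subgroup.closure (X : Set G)) := by
  classical
  have hcard := (clique_closure hD hP h hX).1
  obtain ⟨I, eI⟩ : ∃ I : ℕ → Finset G, I = fun k => (X.powersetCard k).image fprod := ⟨_, rfl⟩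
  have fl : ∀ l : List G, l.Nodup → (∀ x ∈ l, x ∈ X) → fprod l.toFinset = l.prod := fun l hl hsub =>
    fprod_list (fun x hx y hy => hX.comm x (hsub x (List.mem_toFinset.1 hx)) y
      (hsub y (List.mem_toFinset.1 hy))) hl (fun x => List.mem_toFinset.symm)
  have iff1 : ∀ w, w ∈ I 1 ↔ w ∈ X := fun w => by
    rw [eI, Finset.mem_image]
    constructor
    · rintro ⟨s, hs, rfl⟩
      obtain ⟨hsX, hs1⟩ := Finset.mem_powersetCard.1 hs
      obtain ⟨x, rfl⟩ := Finset.card_eq_one.1 hs1
      simpa [fprod] using hsX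
    · exact fun hw => ⟨{w}, Finset.mem_powersetCard.2 ⟨by simpa using hw, by simp⟩, by simp [fprod]⟩
  have iff2 : ∀ w, w ∈ I 2 ↔ w ∈ pairSet (X : Set G) := fun w => by
    rw [eI, Finset.mem_image]
    constructor
    · rintro ⟨s, hs, rfl⟩
      obtain ⟨hsX, hs2⟩ := Finset.mem_powersetCard.1 hs
      obtain ⟨a, b, hab, rfl⟩ := Finset.card_eq_two.1 hs2
      refine ⟨a, hsX (by simp), b, hsX (by simp), hab, ?_⟩
      have := fl [a, b] (by simp [hab]) (fun x hx => hsX (by simpa using hx))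
      simpa using this
    · rintro ⟨a, ha, b, hb, hab, rfl⟩
      refine ⟨[a, b].toFinset, Finset.mem_powersetCard.2 ⟨fun x hx => ?_, by simp [hab]⟩, ?_⟩
      · simp only [List.mem_toFinset, List.mem_cons, List.not_mem_nil, or_false] at hx
        rcases hx with rfl | rfl <;> assumption
      · rw [fl [a, b] (by simp [hab]) (fun x hx => by simp at hx; rcases hx with rfl | rfl <;> assumption)]
        simp
  have iff3 : ∀ w, w ∈ I 3 ↔ w ∈ tripleSet (X : Set G) := fun w => by
    rw [eI, Finset.mem_image]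
    constructor
    · rintro ⟨s, hs, rfl⟩
      obtain ⟨hsX, hs3⟩ := Finset.mem_powersetCard.1 hs
      obtain ⟨a, b, c, hab, hac, hbc, rfl⟩ := Finset.card_eq_three.1 hs3
      refine ⟨a, hsX (by simp), b, hsX (by simp), c, hsX (by simp), hab, hac, hbc, ?_⟩
      have := fl [a, b, c] (by simp [hab, hac, hbc]) (fun x hx => hsX (by simpa using hx))
      simpa [mul_assoc] using this
    · rintro ⟨a, ha, b, hb, c, hc, hab, hac, hbc, rfl⟩
      refine ⟨[a, b, c].toFinset, Finset.mem_powersetCard.2 ⟨fun x hx => ?_, by simp [hab, hac, hbc]⟩, ?_⟩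
      · simp only [List.mem_toFinset, List.mem_cons, List.not_mem_nil, or_false] at hx
        rcases hx with rfl | rfl | rfl <;> assumption
      · rw [fl [a, b, c] (by simp [hab, hac, hbc])
          (fun x hx => by simp at hx; rcases hx with rfl | rfl | rfl <;> assumption)]
        simp [mul_assoc]
  have hfac : ∀ k, ∀ y ∈ I k, ∃ s, Fac D k y s := by
    intro k y hy
    rw [eI] at hy
    obtain ⟨s, hs, rfl⟩ := Finset.mem_image.1 hy
    obtain ⟨hsX, hk⟩ := Finset.mem_powersetCard.1 hs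
    exact ⟨_, clique_fac hD hX hsX hk⟩
  have hdis : ∀ i j, i < j → j ≤ 3 → Disjoint (I i) (I j) := by
    intro i j hij hj
    rw [Finset.disjoint_left]
    intro y hy hy'
    obtain ⟨s, hs⟩ := hfac i y hy
    obtain ⟨t, ht⟩ := hfac j y hy'
    exact fac_ne hD (by omega) hij hs ht fun k hk hk1 _ => m22_noRel_le hD h hk1 (by omega)
  have hsame : ∀ k, k ≤ 2 → ∀ s ∈ X.powersetCard k, ∀ t ∈ X.powersetCard k,
      fprod s = fprod t → s = t := by
    intro k hk s hs t ht e
    rw [Finset.mem_powersetCard] at hs ht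
    rcases Nat.eq_zero_or_pos k with rfl | hk0
    · rw [Finset.card_eq_zero] at hs ht
      rw [hs.2, ht.2]
    have := determined hD (m := k) (by omega) (fun _ => (m22_noRel hD h).2.1)
      (fun h' => absurd h' (by omega)) (clique_fac hD hX hs.1 hs.2)
      (e ▸ clique_fac hD hX ht.1 ht.2)
    ext x
    simpa using this x
  have hsmall : ∀ k, k ≤ 2 → (I k).card = Nat.choose 22 k := by
    intro k hk
    rw [eI]
    show ((X.powersetCard k).image fprod).card = _
    rw [Finset.card_image_of_injOn fun s hs t ht e => hsame k hk s hs t ht e,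
      Finset.card_powersetCard, hX.card]
  have h3 : Nat.choose 22 3 ≤ 2 * (I 3).card := by
    rw [← hX.card, ← Finset.card_powersetCard 3 X, eI]
    refine Finset.card_le_mul_card_image _ 2 fun y hy => ?_
    obtain ⟨s, hs, rfl⟩ := Finset.mem_image.1 hy
    obtain ⟨hsX, hs3⟩ := Finset.mem_powersetCard.1 hs
    obtain ⟨B, hB, hsB, huB⟩ := block_data hD hP h hX hsX hs3
    refine (Finset.card_le_card (t := {s, B \ s}) fun t ht => ?_).trans Finset.card_le_two
    rw [Finset.mem_filter, Finset.mem_powersetCard] at ht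
    rw [Finset.mem_insert, Finset.mem_singleton]
    by_cases hst : Disjoint s t
    · refine Or.inr ?_
      have hu : CBlock X (s ∪ t) := by
        refine ⟨Finset.union_subset hsX ht.1.1, by rw [Finset.card_union_of_disjoint hst, hs3, ht.1.2],
          ?_⟩
        rw [fprod_union hst (fun x hx y hy => hX.comm x (Finset.union_subset hsX ht.1.1 hx) y
          (Finset.union_subset hsX ht.1.1 hy)), ht.2, fac_sq hD (clique_fac hD hX hsX hs3)]
      rw [← huB _ hu Finset.subset_union_left]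
      exact (Finset.union_sdiff_cancel_left hst).symm
    · refine Or.inl ?_
      obtain ⟨x, hxs, hxt⟩ := Finset.not_disjoint_iff.1 hst
      have h1 := clique_split hD hX (Finset.singleton_subset_iff.2 hxs) hsX
      have h2 := clique_split hD hX (Finset.singleton_subset_iff.2 hxt) ht.1.1
      rw [ht.2, h1] at h2
      have e := hsame 2 le_rfl (s \ {x}) (Finset.mem_powersetCard.2
          ⟨Finset.sdiff_subset.trans hsX, by
            rw [Finset.card_sdiff_of_subset (Finset.singleton_subset_iff.2 hxs), hs3]; simp⟩)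
        (t \ {x}) (Finset.mem_powersetCard.2
          ⟨Finset.sdiff_subset.trans ht.1.1, by
            rw [Finset.card_sdiff_of_subset (Finset.singleton_subset_iff.2 hxt), ht.1.2]; simp⟩)
        (mul_left_cancel h2)
      rw [← Finset.union_sdiff_of_subset (Finset.singleton_subset_iff.2 hxs), e,
        Finset.union_sdiff_of_subset (Finset.singleton_subset_iff.2 hxt)]
  have i0 : I 0 = {1} := by rw [eI]; simp [fprod]
  have hU : ((I 0 ∪ I 1) ∪ (I 2 ∪ I 3)).card = (I 0).card + (I 1).card + ((I 2).card + (I 3).card) := by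
    rw [Finset.card_union_of_disjoint, Finset.card_union_of_disjoint (hdis 0 1 (by omega) (by omega)),
      Finset.card_union_of_disjoint (hdis 2 3 (by omega) (by omega))]
    simp only [Finset.disjoint_union_left, Finset.disjoint_union_right]
    exact ⟨⟨hdis 0 2 (by omega) (by omega), hdis 1 2 (by omega) (by omega)⟩,
      ⟨hdis 0 3 (by omega) (by omega), hdis 1 3 (by omega) (by omega)⟩⟩
  have hsub : ∀ k, ∀ y ∈ I k, y ∈ Subgroup.closure (X : Set G) := by
    intro k y hy
    rw [eI] at hy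
    obtain ⟨s, hs, rfl⟩ := Finset.mem_image.1 hy
    exact fprod_mem (Finset.mem_powersetCard.1 hs).1
  have heq : ((((I 0 ∪ I 1) ∪ (I 2 ∪ I 3)) : Finset G) : Set G) =
      (Subgroup.closure (X : Set G) : Set G) := by
    refine Set.eq_of_subset_of_ncard_le (fun y hy => ?_) ?_ (Set.toFinite _)
    · simp only [Finset.coe_union, Set.mem_union, Finset.mem_coe] at hy
      rcases hy with (hy | hy) | (hy | hy) <;> exact hsub _ y hy
    · rw [Set.ncard_coe_finset, hU, hsmall 0 (by omega), hsmall 1 (by omega), hsmall 2 le_rfl,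
        ← Nat.card_coe_set_eq]
      show Nat.card ↥(Subgroup.closure (X : Set G)) ≤ _
      rw [hcard, show Nat.choose 22 0 = 1 from rfl, show Nat.choose 22 1 = 22 from rfl,
        show Nat.choose 22 2 = 231 from rfl]
      rw [show Nat.choose 22 3 = 1540 from rfl] at h3
      omega
  have d := fun i j hij hj => Finset.disjoint_left.1 (hdis i j hij hj)
  refine ⟨fun w hw hw1 => ?_, ?_, fun w hw => ?_, fun w hw => ?_⟩
  · have hm : w ∈ ((((I 0 ∪ I 1) ∪ (I 2 ∪ I 3)) : Finset G) : Set G) := heq ▸ hw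
    simp only [Finset.coe_union, Set.mem_union, Finset.mem_coe, i0, Finset.mem_singleton, iff1, iff2,
      iff3] at hm
    tauto
  · rw [show pairSet (X : Set G) = (I 2 : Set G) from Set.ext fun w => (iff2 w).symm,
      Set.ncard_coe_finset, hsmall 2 le_rfl]
    rfl
  · have hm := (iff2 w).2 hw
    exact ⟨fun hc => d 1 2 (by omega) (by omega) ((iff1 w).2 hc) hm,
      fun e => d 0 2 (by omega) (by omega) (by rw [i0, e]; simp) hm, hsub 2 w hm⟩
  · have hm := (iff3 w).2 hw
    exact ⟨fun hc => d 1 3 (by omega) (by omega) ((iff1 w).2 hc) hm,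
      fun e => d 0 3 (by omega) (by omega) (by rw [i0, e]; simp) hm,
      fun hc => d 2 3 (by omega) (by omega) ((iff2 w).2 hc) hm, hsub 3 w hm⟩

/-- Every involution is conjugate into the span. -/
theorem m22j_invol_mem {x : G} (hx : x * x = 1) :
    ∃ g : G, g * x * g⁻¹ ∈ Subgroup.closure (X : Set G) := by
  classical
  by_cases h1 : x = 1
  · exact ⟨1, by simp [h1]⟩
  haveI : Fact (Nat.Prime 2) := ⟨Nat.prime_two⟩
  obtain ⟨m, l, -, -, -, -, hmem, hco, hprod⟩ := m22_invol hD hP h h1 hx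
  obtain ⟨Q, hQ⟩ := (isPGroup_two_closure_of_commute (E := {u | u ∈ l}) hco
    fun u hu => Trans3.sq_one hD.1 (hmem u hu)).exists_le_sylow
  obtain ⟨P, hPs⟩ := (isPGroup_two_closure_of_commute (E := (X : Set G)) hX.comm
    fun u hu => Trans3.sq_one hD.1 (hX.sub u hu)).exists_le_sylow
  obtain ⟨g, hg⟩ := MulAction.exists_smul_eq G Q P
  refine ⟨g, ?_⟩
  have hl : ∀ u ∈ l, g * u * g⁻¹ ∈ Subgroup.closure (X : Set G) := fun u hu => by
    refine Subgroup.subset_closure (clique_mem hD hP h hX (hD.2.1 g u (hmem u hu)) fun y hy => ?_)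
    refine commute_of_mem_two_group hD.1 P.isPGroup' (hD.2.1 g u (hmem u hu)) (hX.sub y hy) ?_
      (hPs (Subgroup.subset_closure hy))
    rw [← hg]
    exact ⟨u, hQ (Subgroup.subset_closure hu), rfl⟩
  have key : ∀ l' : List G, (∀ u ∈ l', g * u * g⁻¹ ∈ Subgroup.closure (X : Set G)) →
      g * l'.prod * g⁻¹ ∈ Subgroup.closure (X : Set G) := by
    intro l'
    induction l' with
    | nil => intro _; simp
    | cons u t ih =>
      intro hu
      rw [List.prod_cons, show g * (u * t.prod) * g⁻¹ = g * u * g⁻¹ * (g * t.prod * g⁻¹) by group]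
      exact mul_mem (hu u List.mem_cons_self) (ih fun y hy => hu y (List.mem_cons_of_mem _ hy))
  rw [← hprod]
  exact key l hl

end CfsgLib.PLocal.M22J
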