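import Cfsg.Agent.Lib.PLocal.M22JPre

/-!
A perfect double cover of a group of type M(22) does not split over a span compatibly with the
stabiliser: such a splitting would pass to the double cover of `PSU₆(2)` in the centraliser of a
member.
-/

set_option autoImplicit false
set_option linter.unusedSectionVars false
set_option linter.unusedSimpArgs false

namespace CfsgLib.PLocal.M22J

open CfsgLib.Trans3 CfsgLib.Trans3.Fi CfsgLib.PLocal.U6J

variable {C X : Type*} [Group C] [Finite C] [Group X] [Finite X] {π : C →* X} {z : C}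
variable {D : Set X} (hC : DCov π z) (hD : Cfsg.IsThreeTranspositionGroup D)
  (hP : Cfsg.IsPrimitiveUnderConj D) (h : Cfsg.IsOfTypeM22 X D)
include hC hD hP h

/-- No compatible splitting over a span. -/
theorem m22j_nonsplit (hperf : _root_.commutator C = ⊤) {Y : Finset X} (hY : Clique22 D Y)
    (φ : ↥((Subgroup.closure (Y : Set X)).comap π) →* ℤˣ)
    (hz : ∀ hh : z ∈ (Subgroup.closure (Y : Set X)).comap π, φ ⟨z, hh⟩ = -1)
    (hinv : ∀ u (hu : u ∈ (Subgroup.closure (Y : Set X)).comap π) (c : C), π c ∈ setFix (Y : Set X) →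
      ∀ hh : c * u * c⁻¹ ∈ (Subgroup.closure (Y : Set X)).comap π, φ ⟨_, hh⟩ = φ ⟨u, hu⟩) :
    False := by
  classical
  obtain ⟨a, haY⟩ := Finset.card_pos.1 (show 0 < Y.card by rw [hY.card]; norm_num)
  have ha : a ∈ D := hY.sub a haY
  obtain ⟨A, eA⟩ : ∃ A, A = (Subgroup.closure (Y : Set X)).comap π := ⟨_, rfl⟩
  have hzA : z ∈ A := by rw [eA, Subgroup.mem_comap, dcov_map_z hC]; exact one_mem _
  obtain ⟨τ, hτ, hτA, hτφ⟩ : ∃ τ, π τ = a ∧ ∃ hh : τ ∈ (Subgroup.closure (Y : Set X)).comap π,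
      φ ⟨τ, hh⟩ = 1 := by
    obtain ⟨t, ht⟩ := hC.surj a
    have htA : t ∈ (Subgroup.closure (Y : Set X)).comap π := by
      rw [Subgroup.mem_comap, ht]; exact Subgroup.subset_closure haY
    rcases Int.units_eq_one_or (φ ⟨t, htA⟩) with e | e
    · exact ⟨t, ht, htA, e⟩
    · refine ⟨t * z, by rw [map_mul, ht, dcov_map_z hC, mul_one], mul_mem htA (eA ▸ hzA), ?_⟩
      rw [show (⟨t * z, mul_mem htA (eA ▸ hzA)⟩ : ↥((Subgroup.closure (Y : Set X)).comap π)) =
        ⟨t, htA⟩ * ⟨z, eA ▸ hzA⟩ from rfl, map_mul, e, hz]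
      rfl
  have hττ : τ * τ = 1 := by
    rcases (hC.ker (τ * τ)).1 (by rw [map_mul, hτ, Trans3.sq_one hD.1 ha]) with e | e
    · exact e
    · exfalso
      have h1 : φ (⟨τ, hτA⟩ * ⟨τ, hτA⟩) = -1 := by
        rw [show (⟨τ, hτA⟩ * ⟨τ, hτA⟩ : ↥((Subgroup.closure (Y : Set X)).comap π)) =
          ⟨z, eA ▸ hzA⟩ from Subtype.ext e]
        exact hz _
      rw [map_mul, hτφ] at h1
      exact absurd h1 (by decide)
  have ha1 : a ≠ 1 := invol_ne_one (hD.1.1 a ha)
  obtain ⟨H, eH⟩ : ∃ H, H = (Subgroup.centralizer ({a} : Set X)).comap π := ⟨_, rfl⟩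
  have hH : ∀ x, x ∈ H ↔ Commute (π x) a := fun x => by
    rw [eH, Subgroup.mem_comap, Subgroup.mem_centralizer_singleton_iff]; rfl
  have hτc : ∀ x ∈ H, Commute x τ := fun x hx =>
    m22j_lift_central hC hD hP h (hτ.symm ▸ ha) (hτ.symm ▸ (hH x).1 hx)
  have hτH : τ ∈ H := (hH τ).2 (hτ ▸ Commute.refl a)
  obtain ⟨N, eN⟩ : ∃ N : Subgroup H, N = Subgroup.zpowers (⟨τ, hτH⟩ : H) := ⟨_, rfl⟩
  haveI : N.Normal := ⟨fun n hn g => by
    rw [eN, Subgroup.mem_zpowers_iff] at hn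
    obtain ⟨k, rfl⟩ := hn
    rw [show Commute g ((⟨τ, hτH⟩ : H) ^ k) from
        (Commute.zpow_right (Subtype.ext (hτc g.1 g.2).eq) k), mul_inv_cancel_right, eN]
    exact Subgroup.zpow_mem_zpowers _ k⟩
  have hN : ∀ x : H, x ∈ N ↔ (x : C) = 1 ∨ (x : C) = τ := fun x => by
    rw [eN, Subgroup.mem_zpowers_iff]
    constructor
    · rintro ⟨k, rfl⟩
      rcases Int.even_or_odd k with ⟨j, rfl⟩ | ⟨j, rfl⟩
      · left
        rw [← two_mul, zpow_mul, zpow_two, show (⟨τ, hτH⟩ : H) * ⟨τ, hτH⟩ = 1 from Subtype.ext hττ,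
          one_zpow]
        rfl
      · right
        rw [zpow_add, zpow_mul, zpow_two, show (⟨τ, hτH⟩ : H) * ⟨τ, hτH⟩ = 1 from Subtype.ext hττ,
          one_zpow, one_mul, zpow_one]
    · rintro (e | e)
      · exact ⟨0, by rw [zpow_zero]; exact Subtype.ext e.symm⟩
      · exact ⟨1, by rw [zpow_one]; exact Subtype.ext e.symm⟩
  let f₀ : ↥H →* ↥(Hd D a) := MonoidHom.mk' (fun x => ⟨π x, by
    rw [m22_gate hD hP h ha]; exact Subgroup.mem_centralizer_singleton_iff.2 ((hH x).1 x.2).eq⟩)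
    fun x y => Subtype.ext (map_mul π (x : C) (y : C))
  obtain ⟨f, ef⟩ : ∃ f : ↥H →* Qd D a, f = (QuotientGroup.mk' _).comp f₀ := ⟨_, rfl⟩
  have hfsurj : Function.Surjective f := by
    rw [ef, MonoidHom.coe_comp]
    refine Function.Surjective.comp (QuotientGroup.mk'_surjective _) fun y => ?_
    obtain ⟨u, hu⟩ := hC.surj y.1
    refine ⟨⟨u, (hH u).2 ?_⟩, Subtype.ext hu⟩
    rw [hu]
    exact (commute_Hd y.2).symm
  have hfker : ∀ x : H, f x = 1 ↔ π x = 1 ∨ π x = a := fun x => by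
    rw [ef]
    show (QuotientGroup.mk (f₀ x) : Qd D a) = 1 ↔ _
    rw [QuotientGroup.eq_one_iff]
    refine ⟨fun hx => m22_center_mem' hD hP h ha hx, fun hx => central_Hd fun y hy => ?_⟩
    show Commute (π (x : C)) y
    rcases hx with e | e <;> rw [e]
    exacts [Commute.one_left y, hy.2.2]
  have hle : N ≤ f.ker := fun x hx => by
    rw [MonoidHom.mem_ker, hfker]
    rcases (hN x).1 hx with e | e <;> rw [e]
    exacts [Or.inl (map_one π), Or.inr hτ]
  have hzH : z ∈ H := (hH z).2 (by rw [dcov_map_z hC]; exact Commute.one_left a)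
  obtain ⟨σ, eσ⟩ : ∃ σ : ↥H ⧸ N →* Qd D a, σ = QuotientGroup.lift N f hle := ⟨_, rfl⟩
  have σmk : ∀ x : H, σ (QuotientGroup.mk x) = f x := fun x => by rw [eσ]; rfl
  have hC' : DCov σ (QuotientGroup.mk ⟨z, hzH⟩) := by
    refine ⟨fun q => ?_, fun e => ?_, fun q => ?_, fun q => ?_⟩
    · obtain ⟨x, rfl⟩ := hfsurj q; exact ⟨_, σmk x⟩
    · rcases (hN _).1 ((QuotientGroup.eq_one_iff _).1 e) with e' | e'
      · exact hC.ne e'
      · exact ha1 (hτ ▸ (congrArg π (show z = τ from e')) ▸ dcov_map_z hC)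
    · obtain ⟨x, rfl⟩ := QuotientGroup.mk_surjective q
      show QuotientGroup.mk x * QuotientGroup.mk _ = QuotientGroup.mk _ * QuotientGroup.mk x
      rw [← QuotientGroup.mk_mul, ← QuotientGroup.mk_mul]
      exact congrArg _ (Subtype.ext (hC.central x.1).eq)
    · obtain ⟨x, rfl⟩ := QuotientGroup.mk_surjective q
      rw [σmk, hfker, QuotientGroup.eq_one_iff, hN]
      constructor
      · rintro (e | e)
        · rcases (hC.ker _).1 e with e' | e'
          · exact Or.inl (Or.inl e')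
          · exact Or.inr (congrArg _ (Subtype.ext e'))
        · rcases dcov_eq hC (e.trans hτ.symm) with e' | e'
          · exact Or.inl (Or.inr e')
          · refine Or.inr (QuotientGroup.eq.2 ((hN _).2 (Or.inr ?_)))
            show (x : C)⁻¹ * z = τ
            rw [e', _root_.mul_inv_rev, inv_eq_of_mul_eq_one_right (dcov_sq hC),
              inv_eq_of_mul_eq_one_right hττ, ← (hC.central τ).eq, mul_assoc, dcov_sq hC, mul_one]
      · rintro ((e | e) | e)
        · exact Or.inl (by rw [e, map_one])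
        · exact Or.inr (by rw [e, hτ])
        · rcases (hN _).1 (QuotientGroup.eq.1 e.symm) with e' | e'
          · have : (x : C) = z := (inv_mul_eq_one.1 e').symm
            exact Or.inl (by rw [this, dcov_map_z hC])
          · have : (x : C) = z * τ := inv_mul_eq_iff_eq_mul.1 e'
            exact Or.inr (by rw [this, map_mul, dcov_map_z hC, one_mul, hτ])
  have hU := m22_isU6 hD h ha
  have hDb := (nice_m22 hD h).group_Db ha
  -- perfectness
  obtain ⟨M, eM⟩ : ∃ M, M = _root_.commutator (↥H ⧸ N) := ⟨_, rfl⟩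
  have hMsurj : ∀ q, ∃ m ∈ M, σ m = σ q := fun q => by
    have h1 : M.map σ = ⊤ := by
      rw [eM, map_commutator_eq, MonoidHom.range_eq_top.2 hC'.surj]
      have hp : _root_.commutator ↥(Hd D a) = ⊤ := (m22_perfect hD hP h ha).commutator_eq_top
      have hq : _root_.commutator (Qd D a) = ⊤ := by
        have := congrArg (Subgroup.map (QuotientGroup.mk' (Subgroup.center ↥(Hd D a)))) hp
        rwa [map_commutator_eq, MonoidHom.range_eq_top.2 (QuotientGroup.mk'_surjective _),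
          Subgroup.map_top_of_surjective _ (QuotientGroup.mk'_surjective _), ← commutator_def] at this
      exact (commutator_def (Qd D a)) ▸ hq
    show σ q ∈ M.map σ
    rw [h1]
    exact Subgroup.mem_top _
  have hperf' : _root_.commutator (↥H ⧸ N) = ⊤ := by
    by_contra hne
    rw [← eM] at hne
    haveI : M.Normal := by rw [eM]; infer_instance
    have hzM : QuotientGroup.mk ⟨z, hzH⟩ ∉ M := fun hz' => hne <| eq_top_iff.2 fun q _ => by
      obtain ⟨m, hm, em⟩ := hMsurj q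
      rcases dcov_eq hC' em.symm with e | e <;> rw [e]
      exacts [hm, mul_mem hm hz']
    have hidx : M.index = 2 := Subgroup.index_eq_two_iff.2 ⟨QuotientGroup.mk ⟨z, hzH⟩, fun q => by
      obtain ⟨m, hm, em⟩ := hMsurj q
      rcases dcov_eq hC' em.symm with e | e <;> rw [e]
      · exact Or.inr ⟨hm, fun hc => hzM ((Subgroup.mul_mem_cancel_left _ hm).1 hc)⟩
      · refine Or.inl ⟨?_, fun hc => hzM ((Subgroup.mul_mem_cancel_left _ hm).1 hc)⟩
        rw [mul_assoc, dcov_sq hC', mul_one]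
        exact hm⟩
    have sgn : ∀ x y : ↥H ⧸ N, (if x * y ∈ M then (1 : ℤˣ) else -1) =
        (if x ∈ M then 1 else -1) * (if y ∈ M then 1 else -1) := fun x y => by
      rw [if_congr (Subgroup.mul_mem_iff_of_index_two hidx) rfl rfl]
      by_cases hx : x ∈ M <;> by_cases hy : y ∈ M <;> simp [hx, hy]
    subst eH
    exact m22j_no_sign hC hD hP h hperf ha
      ((MonoidHom.mk' (fun q : _ ⧸ N => if q ∈ M then (1 : ℤˣ) else -1) sgn).comp
        (QuotientGroup.mk' N)) fun hh => if_neg hzM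
  -- the bars
  obtain ⟨E, eE⟩ : ∃ E : Set (Qd D a), E = {q | ∃ x ∈ Y, ∃ hx : x ∈ nbrs D a, q = bar hx} := ⟨_, rfl⟩
  have hnb : ∀ x ∈ Y, x ≠ a → x ∈ nbrs D a := fun x hx hne =>
    ⟨hY.sub x hx, hne, hY.comm a haY x hx⟩
  have hE : Clique (Db D a) E := by
    refine ⟨?_, ?_, ?_⟩
    · rw [eE]; rintro _ ⟨x, -, hx, rfl⟩; exact bar_mem hx
    · rw [eE]
      rintro _ ⟨x, hxY, hx, rfl⟩ _ ⟨y, hyY, hy, rfl⟩
      exact (commute_bar (pre_of_group hD) hx hy).2 (hY.comm x hxY y hyY)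
    · rw [eE, show (21 : ℕ) = (Y.erase a).card by rw [Finset.card_erase_of_mem haY, hY.card],
        ← Set.ncard_coe_finset]
      symm
      refine Set.ncard_congr (fun x hx => bar (hnb x (Finset.mem_of_mem_erase hx)
        (Finset.ne_of_mem_erase hx))) (fun x hx => ⟨x, Finset.mem_of_mem_erase hx, _, rfl⟩)
        (fun x y hx hy e => (nice_m22 hD h).bar_inj ha _ _ e) ?_
      rintro _ ⟨x, hxY, hx, rfl⟩
      exact ⟨x, Finset.mem_erase.2 ⟨hx.2.1, hxY⟩, rfl⟩
  -- the descended sign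
  obtain ⟨K, eK⟩ : ∃ K : Subgroup (↥H ⧸ N), K = (Subgroup.closure E).comap σ := ⟨_, rfl⟩
  have hKA : ∀ x : H, QuotientGroup.mk x ∈ K → (x : C) ∈ (Subgroup.closure (Y : Set X)).comap π := by
    intro x hx
    rw [eK, Subgroup.mem_comap, σmk] at hx
    have hgen : Subgroup.closure E ≤ ((Subgroup.closure (Y : Set X)).subgroupOf (Hd D a)).map
        (QuotientGroup.mk' _) := by
      rw [Subgroup.closure_le, eE]
      rintro _ ⟨y, hyY, hy, rfl⟩
      exact ⟨⟨y, Subgroup.subset_closure hy⟩, Subgroup.subset_closure hyY, rfl⟩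
    obtain ⟨w, hw, e⟩ := hgen hx
    rw [ef] at e
    have e' : (QuotientGroup.mk w : Qd D a) = QuotientGroup.mk (f₀ x) := e
    rw [SetLike.mem_coe, Subgroup.mem_subgroupOf] at hw
    rw [Subgroup.mem_comap]
    have hm : (w : X)⁻¹ * π (x : C) = 1 ∨ (w : X)⁻¹ * π (x : C) = a :=
      m22_center_mem' hD hP h ha (QuotientGroup.eq.1 e')
    rcases hm with e'' | e''
    · rw [← inv_mul_eq_one.1 e'']; exact hw
    · rw [inv_mul_eq_iff_eq_mul.1 e'']; exact mul_mem hw (Subgroup.subset_closure haY)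
  obtain ⟨K₀, eK₀⟩ : ∃ K₀ : Subgroup H, K₀ = K.comap (QuotientGroup.mk' N) := ⟨_, rfl⟩
  let p : ↥K₀ →* ↥K := MonoidHom.mk' (fun x => ⟨QuotientGroup.mk x.1, by
    have hx : x.1 ∈ K.comap (QuotientGroup.mk' N) := eK₀ ▸ x.2
    exact hx⟩) fun _ _ => rfl
  have hp : Function.Surjective p := fun k => by
    obtain ⟨x, hx⟩ := QuotientGroup.mk_surjective k.1
    exact ⟨⟨x, eK₀ ▸ (show QuotientGroup.mk x ∈ K from hx ▸ k.2)⟩, Subtype.ext hx⟩
  let φ₀ : ↥K₀ →* ℤˣ := MonoidHom.mk' (fun x => φ ⟨x.1.1, hKA x.1 (by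
    have hx : x.1 ∈ K.comap (QuotientGroup.mk' N) := eK₀ ▸ x.2
    exact hx)⟩) fun x y => by
      rw [← map_mul]; exact congrArg φ (Subtype.ext rfl)
  have hkk : p.ker ≤ φ₀.ker := fun x hx => by
    rw [MonoidHom.mem_ker] at hx ⊢
    have hx1 : (QuotientGroup.mk x.1 : ↥H ⧸ N) = 1 := congrArg Subtype.val hx
    rcases (hN _).1 ((QuotientGroup.eq_one_iff _).1 hx1) with e | e
    · exact (congrArg φ (Subtype.ext e)).trans (map_one φ)
    · exact (congrArg φ (Subtype.ext e)).trans hτφ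
  let φ' : ↥K →* ℤˣ := MonoidHom.liftOfSurjective p hp ⟨φ₀, hkk⟩
  have hφ' : ∀ x : ↥K₀, φ' (p x) = φ₀ x := fun x =>
    MonoidHom.liftOfRightInverse_comp_apply p _ _ ⟨φ₀, hkk⟩ x
  subst eK
  refine u6j_nonsplit hU hDb hC' hperf' hE φ' (fun hh => ?_) fun u hu c hc hh => ?_
  · exact (hφ' ⟨⟨z, hzH⟩, eK₀ ▸ (show QuotientGroup.mk _ ∈ _ from hh)⟩).trans (hz _)
  obtain ⟨x, rfl⟩ := QuotientGroup.mk_surjective u
  obtain ⟨k, rfl⟩ := QuotientGroup.mk_surjective c
  have hfix : π (k : C) ∈ setFix (Y : Set X) := by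
    intro y hy
    have hka : Commute (π (k : C)) a := (hH k).1 k.2
    by_cases hya : y = a
    · subst hya; rw [conj_eq_of_commute hka]; exact hy
    have hyn := hnb y hy hya
    have hyn' : π (k : C) * y * (π (k : C))⁻¹ ∈ nbrs D a := by
      refine ⟨hD.2.1 _ y hyn.1, fun e => hya ?_, ?_⟩
      · exact mul_left_cancel (mul_right_cancel (e.trans (conj_eq_of_commute hka).symm))
      · have := (commute_conj_iff (π (k : C)) a y).2 hyn.2.2
        rwa [conj_eq_of_commute hka] at this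
    have hm := hc (bar hyn) (eE ▸ ⟨y, hy, hyn, rfl⟩)
    rw [σmk, ef, eE] at hm
    obtain ⟨y', hy', hy'n, e⟩ := hm
    have e' : bar hyn' = bar hy'n := by
      rw [← e]
      show QuotientGroup.mk _ = QuotientGroup.mk (f₀ k) * QuotientGroup.mk _ * (QuotientGroup.mk (f₀ k))⁻¹
      rw [← QuotientGroup.mk_inv, ← QuotientGroup.mk_mul, ← QuotientGroup.mk_mul]
      rfl
    rw [(nice_m22 hD h).bar_inj ha hyn' hy'n e']
    exact hy'
  have hxK : x ∈ K₀ := eK₀ ▸ hu
  have hcK : k * x * k⁻¹ ∈ K₀ := by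
    rw [eK₀, Subgroup.mem_comap, map_mul, map_mul, map_inv]
    exact hh
  exact (hφ' ⟨_, hcK⟩).trans ((hinv x.1 (hKA x hu) k.1 hfix _).trans (hφ' ⟨x, hxK⟩).symm)

end CfsgLib.PLocal.M22J
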