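import Cfsg.Agent.Lib.PLocal.OffenderLocalMain
import Cfsg.Agent.Lib.PLocal.ElemControl
import Cfsg.Agent.Lib.Solvable.PCore

/-!
# Irreducible modules without a section `S₃` have no offenders

Let `J` be generated by the minimal offenders in a Sylow `2`-subgroup `S` and `U` an irreducible
submodule of `C(J)` for `L = N(J)`. By induction over the subgroups `H` for which `S ∩ H` is a Sylow
subgroup, `N_H(D) ≤ N(U)` implies `H ≤ N(U)`: otherwise an offender is induced on `U` inside `L`.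
For `H` the whole group this contradicts irreducibility.
-/

set_option autoImplicit false

namespace CfsgLib.PLocal.NoOffender

open Subgroup CfsgLib.Fusion CfsgLib.Fusion.Offender CfsgLib.PLocal.RightClosed

universe u

variable {V : Type u} [CommGroup V] [Finite V]

/-- The join of the minimal offenders inside `S ∩ H`. -/
def offJoin (S H : Subgroup (MulAut V)) : Subgroup (MulAut V) :=
  sSup {B | IsMinOff B ∧ B ≤ S ∧ B ≤ H}

theorem offJoin_le (S H : Subgroup (MulAut V)) : offJoin S H ≤ S ⊓ H :=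
  sSup_le fun _ hB => le_inf hB.2.1 hB.2.2

theorem le_offJoin {S H B : Subgroup (MulAut V)} (hB : IsMinOff B) (hS : B ≤ S) (hH : B ≤ H) :
    B ≤ offJoin S H :=
  le_sSup ⟨hB, hS, hH⟩

theorem offJoin_gen (S H : Subgroup (MulAut V)) :
    offJoin S H ≤ sSup {B | IsMinOff B ∧ B ≤ offJoin S H} :=
  sSup_le fun _ hB => le_sSup ⟨hB.1, le_offJoin hB.1 hB.2.1 hB.2.2⟩

theorem conj_eq_of_le {g : MulAut V} {P : Subgroup (MulAut V)} (h : conjSub g P ≤ P) :
    conjSub g P = P :=
  eq_of_le_of_card_ge h (card_conjSub g P).ge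

theorem conj_le_of_mem {g : MulAut V} {P H : Subgroup (MulAut V)} (hg : g ∈ H) (hP : P ≤ H) :
    conjSub g P ≤ H := by
  rintro _ ⟨x, hx, rfl⟩
  exact H.mul_mem (H.mul_mem hg (hP hx)) (H.inv_mem hg)

/-- Elements of `S ∩ H` normalize the join. -/
theorem offJoin_normalised {S H : Subgroup (MulAut V)} {t : MulAut V} (htS : t ∈ S) (htH : t ∈ H) :
    conjSub t (offJoin S H) = offJoin S H := by
  refine conj_eq_of_le ?_
  rw [conjSub, map_le_iff_le_comap]
  exact sSup_le fun B hB => map_le_iff_le_comap.1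
    (le_offJoin (hB.1.conjSub t) (conj_le_of_mem htS hB.2.1) (conj_le_of_mem htH hB.2.2))

theorem le_of_conj_le {m : MulAut V} {K M : Subgroup (MulAut V)} (hm : m ∈ M)
    (hle : conjSub m K ≤ M) : K ≤ M := fun k hk => by
  have h3 := M.mul_mem (M.mul_mem (M.inv_mem hm) (hle (conj_mem_conjSub (g := m) hk))) hm
  simpa [mul_assoc] using h3

theorem mem_norm_of_eq {g : MulAut V} {P : Subgroup (MulAut V)} (h : conjSub g P = P) :
    g ∈ Subgroup.normalizer (P : Set (MulAut V)) :=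
  mem_normalizer_iff_map_conj_eq.2 h

theorem eq_of_mem_norm {g : MulAut V} {P : Subgroup (MulAut V)}
    (h : g ∈ Subgroup.normalizer (P : Set (MulAut V))) : conjSub g P = P :=
  mem_normalizer_iff_map_conj_eq.1 h

/-- The automorphisms in `G` preserving `U`. -/
def stabSub (G : Subgroup (MulAut V)) (U : Subgroup V) : Subgroup (MulAut V) where
  carrier := {g | g ∈ G ∧ ∀ u ∈ U, g u ∈ U}
  one_mem' := ⟨G.one_mem, fun _ hu => hu⟩
  mul_mem' := fun {a b} ha hb => ⟨G.mul_mem ha.1 hb.1, fun u hu => ha.2 _ (hb.2 u hu)⟩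
  inv_mem' := fun {a} ha => ⟨G.inv_mem ha.1, fun u hu => by
    have hm : U.map a.toMonoidHom = U := eq_of_le_of_card_ge
      (by rintro _ ⟨w, hw, rfl⟩; exact ha.2 w hw) (card_map_of_injective a.injective).ge
    obtain ⟨w, hw, hwu⟩ := hm.ge hu
    rw [← hwu]
    show a⁻¹ (a w) ∈ U
    rwa [MulAut.inv_apply_self]⟩

theorem fixOf_invariant {G P : Subgroup (MulAut V)} (hP : ∀ g ∈ G, conjSub g P = P) :
    ∀ g ∈ G, ∀ v ∈ fixOf P, g v ∈ fixOf P := fun g hg v hv => by
  rw [← hP g hg, fixOf_conjSub]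
  exact ⟨v, hv, rfl⟩

theorem fixOf_ne_bot (hV : IsPGroup 2 V) (hne : (⊥ : Subgroup V) ≠ ⊤) {P : Subgroup (MulAut V)}
    (hP : IsPGroup 2 P) : fixOf P ≠ ⊥ := fun h => by
  obtain ⟨u, hu, hfix⟩ := exists_fixed_mod hV hP (W := (⊥ : Subgroup V))
    (fun b _ w hw => by rw [mem_bot.1 hw, map_one]; exact one_mem _) hne
  exact hu (h ▸ fun b hb => mul_inv_eq_one.1 (mem_bot.1 (hfix b hb)))

section Step

variable {G S L : Subgroup (MulAut V)} {U : Subgroup V}
  (hsq : ∀ v : V, v * v = 1) (hfree : NoThree G) (hSG : S ≤ G) (hS : IsPGroup 2 S)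
  (hSL : S ≤ L)
  (hUfix : ∀ B, IsMinOff B → B ≤ S → U ≤ fixOf B)
  (hIH : ∀ B, B ≤ L → IsPGroup 2 B → (∀ b ∈ B, ∀ b' ∈ B, ∀ u ∈ U, b (b' u) = b' (b u)) →
    (∃ b ∈ B, ∃ u ∈ U, b u ≠ u) →
    ¬ Nat.card U * Nat.card ↥(B ⊓ kerOn U) ≤ Nat.card B * Nat.card ↥(U ⊓ fixOf B))

include hsq hfree hSG hS hSL hUfix hIH

/-- The induction over subgroups. -/
theorem le_stab : ∀ (n : ℕ) (H : Subgroup (MulAut V)), Nat.card H = n → H ≤ G →
    ¬ 2 ∣ (S ⊓ H).relIndex H →
    H ⊓ Subgroup.normalizer ((offJoin S H : Subgroup (MulAut V)) : Set (MulAut V)) ≤ stabSub G U →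
    H ≤ stabSub G U := by
  haveI : Fact (Nat.Prime 2) := ⟨Nat.prime_two⟩
  intro n
  induction n using Nat.strong_induction_on with
  | _ n ih =>
    intro H hn hHG hidx hND
    by_contra hHnot
    obtain ⟨T, hT⟩ : ∃ T, T = S ⊓ H := ⟨_, rfl⟩
    obtain ⟨M, hM⟩ : ∃ M, M = H ⊓ stabSub G U := ⟨_, rfl⟩
    obtain ⟨D, hD⟩ : ∃ D, D = (Cfsg.pCore 2 H).map H.subtype := ⟨_, rfl⟩
    rw [← hT] at hidx
    have hTH : T ≤ H := hT ▸ inf_le_right
    have hTS : T ≤ S := hT ▸ inf_le_left
    have hTp : IsPGroup 2 T := hS.to_le hTS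
    have hMH : M ≤ H := hM ▸ inf_le_left
    have hMne : M ≠ H := fun he => hHnot (he ▸ (hM ▸ inf_le_right : M ≤ stabSub G U))
    have hMlt : Nat.card M < Nat.card H :=
      lt_of_le_of_ne (card_le_of_le hMH) fun he => hMne (eq_of_le_of_card_ge hMH he.ge)
    have hJH : offJoin S H ≤ T := hT ▸ offJoin_le S H
    have hTM : T ≤ M := fun t ht => by
      rw [hM]
      exact ⟨hTH ht, hND ⟨hTH ht, mem_norm_of_eq (offJoin_normalised (hTS ht) (hTH ht))⟩⟩
    have hidxM : ¬ 2 ∣ T.relIndex M := fun h => hidx (h.trans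
      (Dvd.intro _ (relIndex_mul_relIndex T M H hTM hMH)))
    have hDH : D ≤ H := hD ▸ map_subtype_le _
    haveI hpn : (Cfsg.pCore 2 H).Normal := CfsgLib.Solvable.pCore_normal 2 H
    have hDn : ∀ g ∈ H, ∀ d ∈ D, g * d * g⁻¹ ∈ D := by
      intro g hg d hd
      rw [hD] at hd ⊢
      obtain ⟨d, hd', rfl⟩ := hd
      exact ⟨⟨g, hg⟩ * d * ⟨g, hg⟩⁻¹, hpn.conj_mem d hd' _, rfl⟩
    have hDp : IsPGroup 2 D := hD ▸ (CfsgLib.Solvable.pCore_isPGroup 2).map _
    have hDT : D ≤ T := by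
      obtain ⟨k, hk, hkD⟩ := exists_conj_le_of_sylow hTp hTH hidx hDp hDH
      rwa [conj_eq_of_le (fun x hx => by
        obtain ⟨d, hd, rfl⟩ := hx; exact hDn k hk d hd)] at hkD
    have hmaxD : ∀ P ≤ H, IsPGroup 2 P → (∀ g ∈ H, conjSub g P = P) → P ≤ D := by
      intro P hPH hP hPn
      have hN : (P.subgroupOf H).Normal := ⟨fun p hp g => by
        rw [mem_subgroupOf] at hp ⊢
        exact (hPn g g.2).le (conj_mem_conjSub hp)⟩
      intro p hp
      rw [hD]
      exact ⟨⟨p, hPH hp⟩, CfsgLib.Solvable.le_pCore hN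
        (hP.of_equiv (subgroupOfEquivOfLe hPH).symm) hp, rfl⟩
    -- proper subgroups containing a member outside `D` lie in `M`
    have hclaim : ∀ K, K ≤ H → K ≠ H → ∀ B, IsMinOff B → B ≤ T → B ≤ K → ¬ B ≤ D → K ≤ M := by
      by_contra hbad
      push Not at hbad
      obtain ⟨K₁, hK₁H, hK₁ne, B₁, hB₁, hB₁T, hB₁K, hB₁D, hK₁M⟩ := hbad
      obtain ⟨K, ⟨hKH, hKne, hKM, B, hB, hBT, hBK, hBD⟩, hmax⟩ := Set.exists_max_image
        {K : Subgroup (MulAut V) | K ≤ H ∧ K ≠ H ∧ ¬ K ≤ M ∧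
          ∃ B, IsMinOff B ∧ B ≤ T ∧ B ≤ K ∧ ¬ B ≤ D}
        (fun K => Nat.card (offJoin S K)) (Set.toFinite _)
        ⟨K₁, hK₁H, hK₁ne, hK₁M, B₁, hB₁, hB₁T, hB₁K, hB₁D⟩
      obtain ⟨E, hE⟩ : ∃ E, E = offJoin S K := ⟨_, rfl⟩
      have hBE : B ≤ E := hE ▸ le_offJoin hB (hBT.trans hTS) hBK
      have hES : E ≤ S := hE ▸ (offJoin_le S K).trans inf_le_left
      have hEK : E ≤ K := hE ▸ (offJoin_le S K).trans inf_le_right
      have hET : E ≤ T := hT ▸ le_inf hES (hEK.trans hKH)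
      obtain ⟨N, hN⟩ : ∃ N, N = H ⊓ Subgroup.normalizer (E : Set (MulAut V)) := ⟨_, rfl⟩
      have hEN : E ≤ N := hN ▸ le_inf (hEK.trans hKH) le_normalizer
      have hgenE : E ≤ sSup {B | IsMinOff B ∧ B ≤ E} := hE ▸ offJoin_gen S K
      have hNne : N ≠ H := fun he => hBD (hBE.trans (hmaxD E (hEK.trans hKH) (hS.to_le hES)
        fun g hg => eq_of_mem_norm (hN ▸ he.ge hg : g ∈ H ⊓ _).2))
      have hNM : N ≤ M := by
        by_cases hall : ∀ C, IsMinOff C → C ≤ T → C ≤ E
        · have hEH : E = offJoin S H := le_antisymm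
            (hgenE.trans (sSup_le fun C hC => le_offJoin hC.1 (hC.2.trans hES)
              (hC.2.trans (hEK.trans hKH))))
            (sSup_le fun C hC => hall C hC.1 (hT ▸ le_inf hC.2.1 hC.2.2))
          rw [hM, hN, hEH]
          exact le_inf inf_le_left hND
        · push Not at hall
          obtain ⟨C, hC, hCR, hCE⟩ := exists_member_normalizing (D := E) hTp IsMinOff
            (fun g _ B _ h => h.conjSub g) hET hgenE hall
          by_contra hNot
          have h1 := hmax N ⟨hN ▸ inf_le_left, hNne, hNot, B, hB, hBT, hBE.trans hEN, hBD⟩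
          rw [← hE] at h1
          have hle : E ≤ offJoin S N := hgenE.trans (sSup_le fun C hC =>
            le_offJoin hC.1 (hC.2.trans hES) (hC.2.trans hEN))
          refine hCE ((eq_of_le_of_card_ge hle h1).ge.trans' ?_)
          exact le_offJoin hC ((hCR.trans inf_le_left).trans hTS)
            (hN ▸ le_inf ((hCR.trans inf_le_left).trans hTH) (hCR.trans inf_le_right))
      obtain ⟨W, hW⟩ := ((hS.to_le hES).of_equiv (subgroupOfEquivOfLe hEK).symm).exists_le_sylow
      obtain ⟨T', hT'⟩ : ∃ T', T' = (W : Subgroup K).map K.subtype := ⟨_, rfl⟩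
      have hT'K : T' ≤ K := hT' ▸ map_subtype_le _
      have hT'p : IsPGroup 2 T' := hT' ▸ W.isPGroup'.map _
      have hET' : E ≤ T' := fun d hd => hT' ▸ ⟨⟨d, hEK hd⟩, hW hd, rfl⟩
      have hKlt : Nat.card K < n := hn ▸ lt_of_le_of_ne (card_le_of_le hKH)
        fun he => hKne (eq_of_le_of_card_ge hKH he.ge)
      -- moving `K` by an element of `M`
      have hmove : ∀ m ∈ M, conjSub m K ≤ H ∧ conjSub m K ≠ H ∧
          (conjSub m E ≤ T → ∃ C, IsMinOff C ∧ C ≤ T ∧ C ≤ conjSub m K ∧ ¬ C ≤ D) := by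
        intro m hm
        refine ⟨conj_le_of_mem (hMH hm) hKH, fun he => ?_, fun hmE => ⟨conjSub m B, hB.conjSub m,
          (conjSub_mono hBE).trans hmE, conjSub_mono hBK, fun hle => hBD fun b hb => ?_⟩⟩
        · have : Nat.card H ≤ Nat.card K := by rw [← card_conjSub m K, he]
          omega
        · have := hDn m⁻¹ (H.inv_mem (hMH hm)) _ (hle (conj_mem_conjSub hb))
          simpa [mul_assoc] using this
      by_cases hTE : ∀ C, IsMinOff C → C ≤ T' → C ≤ E
      · have hT'N : T' ≤ N := fun t ht => by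
          rw [hN]
          refine ⟨hKH (hT'K ht), mem_norm_of_eq (conj_eq_of_le ?_)⟩
          rw [conjSub, map_le_iff_le_comap]
          refine hgenE.trans (sSup_le fun C hC => map_le_iff_le_comap.1 ?_)
          exact hTE _ (hC.1.conjSub t) (conj_le_of_mem ht (hC.2.trans hET'))
        obtain ⟨m, hm, hmT⟩ := exists_conj_le_of_sylow hTp hTM hidxM hT'p (hT'N.trans hNM)
        obtain ⟨hm1, -, -⟩ := hmove m hm
        obtain ⟨K', hK'⟩ : ∃ K', K' = conjSub m K := ⟨_, rfl⟩
        rw [← hK'] at hm1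
        have hT'K' : conjSub m T' ≤ K' := hK' ▸ conjSub_mono hT'K
        have hidx' : ¬ 2 ∣ (conjSub m T').relIndex K' := by
          rw [hK', conjSub, conjSub, relIndex_map_map_of_injective _ _ (MulAut.conj m).injective,
            hT']
          exact not_dvd_relIndex_of_sylow W
        have hSK : S ⊓ K' = conjSub m T' := (eq_of_le_of_card_ge (le_inf (hmT.trans hTS) hT'K')
          (card_le_of_sylow (hT'p.map _) hT'K' hidx' (hS.to_le inf_le_left) inf_le_right)).symm
        have hjoin : offJoin S K' = conjSub m E := by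
          refine le_antisymm (sSup_le fun C hC => ?_) ?_
          · have hC1 : conjSub m⁻¹ C ≤ T' := by
              have h1 := conjSub_mono (g := m⁻¹) (le_inf hC.2.1 hC.2.2 : C ≤ S ⊓ K')
              rwa [hSK, ← conjSub_mul, inv_mul_cancel, conjSub_one] at h1
            have h2 := conjSub_mono (g := m) (hTE _ (hC.1.conjSub _) hC1)
            rwa [← conjSub_mul, mul_inv_cancel, conjSub_one] at h2
          · rw [conjSub, map_le_iff_le_comap]
            refine hgenE.trans (sSup_le fun C hC => map_le_iff_le_comap.1 ?_)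
            exact le_offJoin (hC.1.conjSub m) ((conjSub_mono (hC.2.trans hET')).trans
              (hmT.trans hTS)) (hK' ▸ conjSub_mono (hC.2.trans hEK))
        have hnorm : K' ⊓ Subgroup.normalizer ((offJoin S K' : Subgroup (MulAut V)) :
            Set (MulAut V)) ≤ M := by
          rintro y ⟨hyK, hyn⟩
          rw [hjoin] at hyn
          have hy' : m⁻¹ * y * m ∈ N := by
            rw [hN]
            refine ⟨hKH (mem_conjSub.1 (hK' ▸ hyK)), mem_norm_of_eq ?_⟩
            rw [conjSub_mul, conjSub_mul, eq_of_mem_norm hyn, ← conjSub_mul, inv_mul_cancel,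
              conjSub_one]
          have := M.mul_mem (M.mul_mem hm (hNM hy')) (M.inv_mem hm)
          simpa [mul_assoc] using this
        have hres := ih (Nat.card K') (by rw [hK', card_conjSub]; exact hKlt) K' rfl
          (hm1.trans hHG) (by rw [hSK]; exact hidx') (hnorm.trans (hM ▸ inf_le_right))
        exact hKM (le_of_conj_le hm (hK' ▸ hM ▸ le_inf hm1 hres))
      · push Not at hTE
        obtain ⟨C, hC, hCR, hCE⟩ := exists_member_normalizing (D := E) hT'p IsMinOff
          (fun g _ B _ h => h.conjSub g) hET' hgenE hTE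
        have hRM : T' ⊓ Subgroup.normalizer (E : Set (MulAut V)) ≤ M :=
          le_trans (hN ▸ le_inf (inf_le_left.trans (hT'K.trans hKH)) inf_le_right) hNM
        obtain ⟨m, hm, hmR⟩ := exists_conj_le_of_sylow hTp hTM hidxM (hT'p.to_le inf_le_left) hRM
        obtain ⟨hm1, hm2, hm3⟩ := hmove m hm
        have hER : E ≤ T' ⊓ Subgroup.normalizer (E : Set (MulAut V)) := le_inf hET' le_normalizer
        have hnotM : ¬ conjSub m K ≤ M := fun hle => hKM (le_of_conj_le hm hle)
        have h1 := hmax (conjSub m K)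
          ⟨hm1, hm2, hnotM, hm3 ((conjSub_mono hER).trans hmR)⟩
        rw [← hE] at h1
        have hle : conjSub m (E ⊔ C) ≤ offJoin S (conjSub m K) := by
          rw [conjSub, Subgroup.map_sup, sup_le_iff]
          refine ⟨map_le_iff_le_comap.2 (hgenE.trans (sSup_le fun C' hC' => ?_)),
            le_offJoin (hC.conjSub m) (((conjSub_mono hCR).trans hmR).trans hTS)
              (conjSub_mono ((hCR.trans inf_le_left).trans hT'K))⟩
          rw [← map_le_iff_le_comap]
          exact le_offJoin (hC'.1.conjSub m) (((conjSub_mono (hC'.2.trans hER)).trans hmR).trans hTS)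
            (conjSub_mono (hC'.2.trans hEK))
        have h2 : Nat.card ↥(E ⊔ C) ≤ Nat.card E := by
          rw [← card_conjSub m (E ⊔ C)]
          exact (card_le_of_le hle).trans h1
        exact hCE ((eq_of_le_of_card_ge le_sup_left h2).ge.trans' le_sup_right)
    -- a member outside `D`
    obtain ⟨A, hA, hAT, hAD⟩ : ∃ A, IsMinOff A ∧ A ≤ T ∧ ¬ A ≤ D := by
      by_contra! hall
      refine hHnot fun g hg => hND ⟨hg, mem_norm_of_eq (conj_eq_of_le ?_)⟩
      rw [conjSub, map_le_iff_le_comap]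
      refine sSup_le fun C hC => map_le_iff_le_comap.1 ?_
      have hCD : conjSub g C ≤ D := by
        rintro _ ⟨c, hc, rfl⟩
        exact hDn g hg c (hall C hC.1 (hT ▸ le_inf hC.2.1 hC.2.2) hc)
      exact le_offJoin (hC.1.conjSub g) (hCD.trans (hDT.trans hTS)) (hCD.trans hDH)
    have hAM : A ≤ M := hAT.trans hTM
    have hover : ∀ K ≤ H, K ≠ H → A ≤ K → K ≤ M := fun K hK hne hAK =>
      hclaim K hK hne A hA hAT hAK hAD
    have hgen : ∀ g ∈ H, g ∉ M → A ⊔ conjSub g A = H := by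
      intro g hg hgM
      by_contra hne
      have hgA : conjSub g A ≤ M := le_sup_right.trans (hover _
        (sup_le (hAT.trans hTH) (conj_le_of_mem hg (hAT.trans hTH))) hne le_sup_left)
      obtain ⟨m, hm, hmT⟩ := exists_conj_le_of_sylow (R := conjSub g A) hTp hTM hidxM (hA.1.1.map _) hgA
      rw [← conjSub_mul] at hmT
      have hkH : m * g ∈ H := H.mul_mem (hMH hm) hg
      have hne' : conjSub (m * g) M ≠ H := fun he => by
        have : Nat.card H = Nat.card M := by rw [← card_conjSub (m * g) M, he]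
        omega
      have hkA : ¬ conjSub (m * g) A ≤ D := fun hle => hAD fun a ha => by
        have := hDn (m * g)⁻¹ (H.inv_mem hkH) _ (hle (conj_mem_conjSub ha))
        simpa [mul_assoc] using this
      have hkM : conjSub (m * g) M = M := conj_eq_of_le (hclaim _ (conj_le_of_mem hkH hMH) hne'
        _ (hA.conjSub _) hmT (conjSub_mono hAM) hkA)
      have hNne : H ⊓ Subgroup.normalizer (M : Set (MulAut V)) ≠ H := fun he => by
        refine hMne (le_antisymm hMH fun h hh => ?_)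
        have hTh : conjSub h T ≤ M := (conjSub_mono hTM).trans (eq_of_mem_norm (he.ge hh).2).le
        obtain ⟨m', hm', hm'T⟩ := exists_conj_le_of_sylow (R := conjSub h T) hTp hTM hidxM (hTp.map _) hTh
        rw [← conjSub_mul] at hm'T
        have hk : m' * h ∈ H := H.mul_mem (hMH hm') hh
        have hmem : m' * h ∈ M := by
          rw [hM]
          refine ⟨hk, hND ⟨hk, mem_norm_of_eq (conj_eq_of_le ?_)⟩⟩
          rw [conjSub, map_le_iff_le_comap]
          refine sSup_le fun C hC => map_le_iff_le_comap.1 ?_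
          have hCT := (conjSub_mono (g := m' * h) (hT ▸ le_inf hC.2.1 hC.2.2 : C ≤ T)).trans hm'T
          exact le_offJoin (hC.1.conjSub _) (hCT.trans hTS) (hCT.trans hTH)
        simpa [← mul_assoc] using M.mul_mem (M.inv_mem hm') hmem
      have hmgM : m * g ∈ M := hover _ inf_le_left hNne
        (le_inf (hAT.trans hTH) (hAM.trans le_normalizer)) ⟨hkH, mem_norm_of_eq hkM⟩
      exact hgM (by simpa [← mul_assoc] using M.mul_mem (M.inv_mem hm) hmgM)
    have hcore : ∀ a ∈ A, (∀ g ∈ H, g * a * g⁻¹ ∈ M) → a ∈ D := by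
      intro a ha haM
      let K₀ : Subgroup (MulAut V) :=
        { carrier := {x | x ∈ H ∧ ∀ g ∈ H, g * x * g⁻¹ ∈ M}
          one_mem' := ⟨H.one_mem, fun g _ => by simp⟩
          mul_mem' := fun {x y} hx hy => ⟨H.mul_mem hx.1 hy.1, fun g hg => by
            simpa [mul_assoc] using M.mul_mem (hx.2 g hg) (hy.2 g hg)⟩
          inv_mem' := fun {x} hx => ⟨H.inv_mem hx.1, fun g hg => by
            simpa [mul_assoc] using M.inv_mem (hx.2 g hg)⟩ }
      have hK₀n : ∀ g ∈ H, conjSub g K₀ ≤ K₀ := by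
        rintro g hg _ ⟨x, hx, rfl⟩
        refine ⟨H.mul_mem (H.mul_mem hg hx.1) (H.inv_mem hg), fun k hk => ?_⟩
        simpa [mul_assoc] using hx.2 (k * g) (H.mul_mem hk hg)
      obtain ⟨T₀, hT₀⟩ : ∃ T₀, T₀ = T ⊓ K₀ := ⟨_, rfl⟩
      have haT₀ : a ∈ T₀ := hT₀ ▸ ⟨hAT ha, hTH (hAT ha), haM⟩
      have hT₀T : T₀ ≤ T := hT₀ ▸ inf_le_left
      obtain ⟨N₀, hN₀⟩ : ∃ N₀, N₀ = H ⊓ Subgroup.normalizer (T₀ : Set (MulAut V)) := ⟨_, rfl⟩
      by_cases hne : N₀ = H
      · exact hmaxD T₀ (hT₀T.trans hTH) (hTp.to_le hT₀T)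
          (fun g hg => eq_of_mem_norm (hN₀ ▸ hne.ge hg : g ∈ H ⊓ _).2) haT₀
      exfalso
      have hAN : A ≤ N₀ := fun b hb => hN₀ ▸ ⟨hTH (hAT hb), mem_norm_of_eq (conj_eq_of_le (by
        rw [hT₀]
        exact le_inf ((conjSub_mono inf_le_left).trans (conj_le_of_mem (hAT hb) le_rfl))
          ((conjSub_mono inf_le_right).trans (hK₀n b (hTH (hAT hb))))))⟩
      have hN₀M : N₀ ≤ M := hover N₀ (hN₀ ▸ inf_le_left) hne hAN
      refine hMne (le_antisymm hMH fun h hh => ?_)
      have hK₀h : conjSub h T₀ ≤ K₀ := (conjSub_mono (hT₀ ▸ inf_le_right)).trans (hK₀n h hh)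
      have hhM : conjSub h T₀ ≤ M := fun x hx => by
        simpa using (hK₀h hx).2 1 H.one_mem
      obtain ⟨m', hm', hm'T⟩ :=
        exists_conj_le_of_sylow hTp hTM hidxM ((hTp.to_le hT₀T).map _) hhM
      have hk : m' * h ∈ N₀ := by
        rw [hN₀]
        refine ⟨H.mul_mem (hMH hm') hh, mem_norm_of_eq (conj_eq_of_le ?_)⟩
        rw [conjSub_mul]
        exact (le_inf hm'T ((conjSub_mono hK₀h).trans (hK₀n m' (hMH hm')))).trans_eq hT₀.symm
      simpa [← mul_assoc] using M.mul_mem (M.inv_mem hm') (hN₀M hk)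
    have hUA : U ≤ fixOf A := hUfix A hA (hAT.trans hTS)
    have hloc : Local H M A D U :=
      { hsq := hsq
        free := hfree.mono hHG
        hMH := hMH
        hA := hA
        hAM := hAM
        hDM := hDT.trans hTM
        hDn := hDn
        hAD := hAD
        hover := hover
        gen := hgen
        core := hcore
        out := SetLike.exists_of_lt (lt_of_le_of_ne hMH hMne)
        hUA := hUA
        hUM := fun m hm => (hM ▸ hm : m ∈ H ⊓ stabSub G U).2.2
        hUZ := fun hle => hHnot fun g hg =>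
          ⟨hHG hg, fun u hu => by rw [hle hu g hg]; exact hu⟩ }
    obtain ⟨B, hBD, hBc, hBm, hBle⟩ := hloc.exists_offender
    exact hIH B (hBD.trans (hDT.trans (hTS.trans hSL))) (hDp.to_le hBD) hBc hBm hBle

end Step

/-- The induction on the order of the group. -/
theorem no_offender_aux : ∀ (n : ℕ) (V : Type u) [CommGroup V] [Finite V]
    (G : Subgroup (MulAut V)), Nat.card G = n → IsPGroup 2 V → NoThree G →
    (∀ W : Subgroup V, (∀ g ∈ G, ∀ w ∈ W, g w ∈ W) → W = ⊥ ∨ W = ⊤) →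
    ∀ A : Subgroup (MulAut V), A ≤ G → ¬ IsOff A := by
  haveI : Fact (Nat.Prime 2) := ⟨Nat.prime_two⟩
  intro n
  induction n using Nat.strong_induction_on with
  | _ n ih =>
    intro V _ _ G hn hV hfree hirr A₀ hA₀G hA₀
    have hne : (⊥ : Subgroup V) ≠ ⊤ := fun he => hA₀.2.2.1 ((eq_bot_iff_forall _).2 fun a _ =>
      MulEquiv.ext fun v => by
        rw [mem_bot.1 (he ▸ mem_top v : v ∈ (⊥ : Subgroup V)), map_one, map_one])
    -- exponent two
    have hsq : ∀ v : V, v * v = 1 := by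
      let σ : V →* V := MonoidHom.mk' (fun v => v * v) fun a b => by rw [mul_mul_mul_comm]
      rcases hirr σ.range (by
        rintro g - _ ⟨v, rfl⟩; exact ⟨g v, (map_mul g v v).symm⟩) with h | h
      · exact fun v => mem_bot.1 (h ▸ ⟨v, rfl⟩ : σ v ∈ (⊥ : Subgroup V))
      · exfalso
        obtain ⟨v, hv, hv1⟩ : ∃ v : V, v * v = 1 ∧ v ≠ 1 := by
          obtain ⟨w, -, hw⟩ := SetLike.exists_of_lt (lt_top_iff_ne_top.2 hne)
          obtain ⟨k, hk⟩ := IsPGroup.iff_card.1 hV
          rcases Nat.eq_zero_or_pos k with rfl | hk0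
          · haveI : Subsingleton V := (Nat.card_eq_one_iff_unique.1 hk).1
            exact absurd (mem_bot.2 (Subsingleton.elim w 1)) hw
          obtain ⟨v, hv⟩ := exists_prime_orderOf_dvd_card' (G := V) 2 (hk ▸ dvd_pow_self 2 hk0.ne')
          exact ⟨v, by rw [← pow_two, ← hv]; exact pow_orderOf_eq_one v,
            fun h1 => by rw [h1, orderOf_one] at hv; omega⟩
        exact hv1 ((Finite.injective_iff_surjective.2 (MonoidHom.range_eq_top.1 h))
          (show σ v = σ 1 by show v * v = 1 * 1; rw [hv, one_mul]))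
    have hfixtop : ∀ P : Subgroup (MulAut V), fixOf P = ⊤ → P = ⊥ := fun P h =>
      (eq_bot_iff_forall _).2 fun p hp => MulEquiv.ext fun v => (h ▸ mem_top v : v ∈ fixOf P) p hp
    have hO2 : ∀ P ≤ G, IsPGroup 2 P → (∀ g ∈ G, conjSub g P = P) → P = ⊥ := fun P _ hP hPn =>
      (hirr _ (fixOf_invariant hPn)).elim (fun h => absurd h (fixOf_ne_bot hV hne hP)) (hfixtop P)
    obtain ⟨W₀⟩ : Nonempty (Sylow 2 G) := inferInstance
    obtain ⟨S, hSdef⟩ : ∃ S, S = (W₀ : Subgroup G).map G.subtype := ⟨_, rfl⟩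
    have hSG : S ≤ G := hSdef ▸ map_subtype_le _
    have hS : IsPGroup 2 S := hSdef ▸ W₀.isPGroup'.map _
    have hidx : ¬ 2 ∣ S.relIndex G := hSdef ▸ not_dvd_relIndex_of_sylow W₀
    obtain ⟨B₀, hB₀A, hB₀⟩ := exists_isMinOff_le hA₀
    obtain ⟨g₀, hg₀, hB₀S⟩ := exists_conj_le_of_sylow hS hSG hidx hB₀.1.1 (hB₀A.trans hA₀G)
    obtain ⟨J, hJ⟩ : ∃ J, J = offJoin S G := ⟨_, rfl⟩
    have hJne : J ≠ ⊥ := fun h => (hB₀.conjSub g₀).1.2.2.1
      (le_bot_iff.1 (h ▸ hJ ▸ le_offJoin (hB₀.conjSub g₀) hB₀S (hB₀S.trans hSG)))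
    have hJS : J ≤ S := hJ ▸ (offJoin_le S G).trans inf_le_left
    obtain ⟨L, hL⟩ : ∃ L, L = G ⊓ Subgroup.normalizer (J : Set (MulAut V)) := ⟨_, rfl⟩
    have hLG : L ≤ G := hL ▸ inf_le_left
    have hSL : S ≤ L := fun s hs => hL ▸
      ⟨hSG hs, mem_norm_of_eq (hJ ▸ offJoin_normalised hs (hSG hs))⟩
    have hLlt : Nat.card L < n := by
      rw [← hn]
      refine lt_of_le_of_ne (card_le_of_le hLG) fun he => hJne ?_
      have hLe := eq_of_le_of_card_ge hLG he.ge
      exact hO2 J (hJS.trans hSG) (hS.to_le hJS) fun g hg =>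
        eq_of_mem_norm (hL ▸ hLe.ge hg : g ∈ G ⊓ _).2
    have hfixJ := fixOf_invariant (G := L) (P := J) fun g hg =>
      eq_of_mem_norm (hL ▸ hg : g ∈ G ⊓ _).2
    obtain ⟨U, ⟨hUL, hUJ, hUne⟩, hUmin⟩ := Set.exists_min_image
      {U : Subgroup V | (∀ g ∈ L, ∀ u ∈ U, g u ∈ U) ∧ U ≤ fixOf J ∧ U ≠ ⊥}
      (fun U => Nat.card U) (Set.toFinite _)
      ⟨fixOf J, hfixJ, le_rfl, fixOf_ne_bot hV hne (hS.to_le hJS)⟩
    have hUfix : ∀ B, IsMinOff B → B ≤ S → U ≤ fixOf B := fun B hB hBS =>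
      hUJ.trans (fixOf_anti (hJ ▸ le_offJoin hB hBS (hBS.trans hSG)))
    -- no offender on `U`
    have hIH : ∀ B, B ≤ L → IsPGroup 2 B →
        (∀ b ∈ B, ∀ b' ∈ B, ∀ u ∈ U, b (b' u) = b' (b u)) → (∃ b ∈ B, ∃ u ∈ U, b u ≠ u) →
        ¬ Nat.card U * Nat.card ↥(B ⊓ kerOn U) ≤ Nat.card B * Nat.card ↥(U ⊓ fixOf B) := by
      intro B hBL hB hBc hBm hle
      let π := restrictHom L U hUL
      have hirr' : ∀ W : Subgroup U, (∀ g ∈ π.range, ∀ w ∈ W, g w ∈ W) → W = ⊥ ∨ W = ⊤ := by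
        intro W hW
        by_cases hW1 : W.map U.subtype = ⊥
        · exact Or.inl ((map_eq_bot_iff_of_injective _ U.subtype_injective).1 hW1)
        refine Or.inr ?_
        have hinv : ∀ g ∈ L, ∀ u ∈ W.map U.subtype, g u ∈ W.map U.subtype := by
          rintro g hg _ ⟨w, hw, rfl⟩
          exact ⟨_, hW _ ⟨⟨g, hg⟩, rfl⟩ w hw, rfl⟩
        have heq : W.map U.subtype = U := eq_of_le_of_card_ge (map_subtype_le _)
          (hUmin _ ⟨hinv, (map_subtype_le _).trans hUJ, hW1⟩)
        refine eq_top_iff.2 fun w _ => ?_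
        obtain ⟨w', hw', he⟩ := heq.ge w.2
        rwa [← Subtype.ext he]
      have hcard : Nat.card π.range < n :=
        lt_of_le_of_lt (Nat.card_le_card_of_surjective π.rangeRestrict
          π.rangeRestrict_surjective) hLlt
      refine ih _ hcard U π.range rfl (hV.to_subgroup U)
        ((hfree.mono hLG).restrict hUL) hirr' ((B.subgroupOf L).map π) (map_le_range _ _)
        ⟨(hB.of_equiv (subgroupOfEquivOfLe hBL).symm).map _, ?_, ?_, ?_⟩
      · rintro _ ⟨b, hb, rfl⟩ _ ⟨c, hc, rfl⟩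
        exact MulEquiv.ext fun u => Subtype.ext (hBc _ hb _ hc u u.2)
      · intro hbot
        obtain ⟨b, hb, u, hu, hbu⟩ := hBm
        have h1 : π ⟨b, hBL hb⟩ = 1 := mem_bot.1 (hbot ▸ mem_map_of_mem π
          (show (⟨b, hBL hb⟩ : L) ∈ B.subgroupOf L from hb))
        have h2 : π ⟨b, hBL hb⟩ (⟨u, hu⟩ : U) = ⟨u, hu⟩ := DFunLike.congr_fun h1 _
        exact hbu (congrArg Subtype.val h2)
      · have h1 : Nat.card B = Nat.card ↥(B ⊓ kerOn U) * Nat.card ((B.subgroupOf L).map π) := by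
          rw [← Nat.card_congr (subgroupOfEquivOfLe hBL).toEquiv,
            card_eq_inf_ker_mul_map (B.subgroupOf L) π]
          congr 1
          rw [← card_map_of_injective L.subtype_injective]
          refine congrArg (fun P : Subgroup (MulAut V) => Nat.card P) ?_
          ext b
          constructor
          · rintro ⟨b, ⟨hb1, hb2⟩, rfl⟩
            refine ⟨hb1, fun u hu => ?_⟩
            have h2 : π b (⟨u, hu⟩ : U) = ⟨u, hu⟩ := DFunLike.congr_fun (MonoidHom.mem_ker.1 hb2) _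
            exact congrArg Subtype.val h2
          · rintro ⟨hb1, hb2⟩
            exact ⟨⟨b, hBL hb1⟩, ⟨hb1, MonoidHom.mem_ker.2 (MulEquiv.ext fun u =>
              Subtype.ext (hb2 u u.2))⟩, rfl⟩
        have h2 : Nat.card ↥(U ⊓ fixOf B) ≤ Nat.card (fixOf ((B.subgroupOf L).map π)) :=
          Nat.card_le_card_of_injective
            (fun u => ⟨⟨(u : V), u.2.1⟩, by
              rintro _ ⟨b, hb, rfl⟩; exact Subtype.ext (u.2.2 _ hb)⟩)
            fun a b e => Subtype.ext (congrArg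
              (fun w : fixOf ((B.subgroupOf L).map π) => ((w : U) : V)) e)
        refine Nat.le_of_mul_le_mul_right ?_ (Nat.card_pos (α := ↥(B ⊓ kerOn U)))
        refine hle.trans ((Nat.mul_le_mul_left _ h2).trans (le_of_eq ?_))
        rw [h1]; ring
    have hGU : G ≤ stabSub G U := le_stab hsq hfree hSG hS hSL hUfix hIH _ G rfl le_rfl
      (by rwa [inf_eq_left.2 hSG]) (by
        rw [← hJ, ← hL]; exact fun g hg => ⟨hLG hg, hUL g hg⟩)
    rcases hirr U fun g hg => (hGU hg).2 with h | h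
    · exact hUne h
    · exact hJne (hfixtop J (top_le_iff.1 (h ▸ hUJ)))

/-- An irreducible module without a section `S₃` has no offender. -/
theorem noOffIrr : CfsgLib.PLocal.NoOffIrr.{u} :=
  fun V _ _ G hV hfree _ hirr => no_offender_aux _ V G rfl hV hfree hirr

end CfsgLib.PLocal.NoOffender
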