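import Cfsg.Agent.Lib.PLocal.TransferFailure

/-!
# Groups with a normal Sylow subgroup
-/

namespace CfsgLib.PLocal

open Subgroup

variable {p : ℕ} [hp : Fact p.Prime] {G : Type*} [Group G] [Finite G]

/-- `O_{p'}(G) = 1` and a normal Sylow `p`-subgroup give `C(O_p(G)) ≤ O_p(G)`. -/
theorem centralizer_pCore_le_of_normal_sylow (S : Sylow p G) (hn : (S : Subgroup G).Normal)
    (hO : Cfsg.pPrimeCore p G = ⊥) :
    centralizer ((Cfsg.pCore p G : Subgroup G) : Set G) ≤ Cfsg.pCore p G := by
  haveI := Cfsg.pCore_normal p G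
  have hSQ : (S : Subgroup G) ≤ Cfsg.pCore p G := CfsgLib.Solvable.le_pCore hn S.2
  set C := centralizer ((Cfsg.pCore p G : Subgroup G) : Set G) with hC
  obtain ⟨SC, hSC⟩ := CfsgLib.Transfer.exists_sylow_eq_subgroupOf S C
  have hcen : ∀ x ∈ (SC : Subgroup C), ∀ y : C, x * y = y * x := fun x hx y => by
    rw [hSC] at hx
    exact Subtype.ext (mem_centralizer_iff.1 y.2 _ (hSQ hx))
  have hB := CfsgLib.Transfer.hasNormalPComplement_of_normalizer_le_centralizer SC
    fun y _ => mem_centralizer_iff.2 fun x hx => hcen x hx y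
  rw [CfsgLib.Transfer.hasNormalPComplement_iff_coprime_pResidual] at hB
  have hKn : ((Cfsg.pResidual p C).map C.subtype).Normal := by
    haveI := CfsgLib.Transfer.pResidual_characteristic (p := p) (G := C)
    infer_instance
  have hK1 : Cfsg.pResidual p C = ⊥ := by
    have : (Cfsg.pResidual p C).map C.subtype ≤ Cfsg.pPrimeCore p G :=
      le_sSup ⟨hKn, by rwa [card_map_of_injective C.subtype_injective]⟩
    rwa [hO, le_bot_iff, map_eq_bot_iff_of_injective _ C.subtype_injective] at this
  haveI := CfsgLib.Transfer.pResidual_normal (p := p) (G := C)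
  have hCp : IsPGroup p C :=
    (CfsgLib.Transfer.isPGroup_quotient_of_pResidual_le le_rfl :
      IsPGroup p (C ⧸ Cfsg.pResidual p C)).of_equiv
      ((QuotientGroup.quotientMulEquivOfEq hK1).trans QuotientGroup.quotientBot)
  exact CfsgLib.Solvable.le_pCore inferInstance hCp

end CfsgLib.PLocal
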