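import Cfsg.Agent.Lib.PLocal.Replace
import Mathlib.GroupTheory.Index
import Mathlib.GroupTheory.QuotientGroup.Basic

/-!
# Right closed groups of homomorphisms and offenders

`X`, `V` are finite elementary abelian `2`-groups and `S` is a group of homomorphisms `X → V` closed
under composition with a set of injective endomorphisms. If every invariant subgroup is at most `n`
times the size of the restriction of `S`, and every nontrivial invariant subgroup is larger than `n`,
then on every nontrivial subgroup `U` some group of restrictions from `S` is an offender.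
-/

set_option autoImplicit false

namespace CfsgLib.PLocal.RightClosed

open Subgroup

universe u v w

/-- Invariance under a set of endomorphisms. -/
def Inv {X : Type u} [CommGroup X] (Sig : Set (X →* X)) (P : Subgroup X) : Prop :=
  ∀ σ ∈ Sig, ∀ x ∈ P, σ x ∈ P

theorem Inv.sup {X : Type u} [CommGroup X] {Sig : Set (X →* X)} {P Q : Subgroup X}
    (hP : Inv Sig P) (hQ : Inv Sig Q) : Inv Sig (P ⊔ Q) := fun σ hσ x hx =>
  (sup_le (fun p hp => mem_sup_left (hP σ hσ p hp)) (fun q hq => mem_sup_right (hQ σ hσ q hq)) :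
    P ⊔ Q ≤ (P ⊔ Q).comap σ) hx

theorem Inv.inf {X : Type u} [CommGroup X] {Sig : Set (X →* X)} {P Q : Subgroup X}
    (hP : Inv Sig P) (hQ : Inv Sig Q) : Inv Sig (P ⊓ Q) := fun σ hσ x hx =>
  ⟨hP σ hσ x hx.1, hQ σ hσ x hx.2⟩

theorem Inv.bot {X : Type u} [CommGroup X] (Sig : Set (X →* X)) : Inv Sig (⊥ : Subgroup X) :=
  fun σ _ x hx => by rw [mem_bot.1 hx, map_one]; exact one_mem _

instance finite_hom {G : Type u} {H : Type v} [MulOneClass G] [MulOneClass H] [Finite G] [Finite H] :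
    Finite (G →* H) :=
  Finite.of_injective (fun f : G →* H => (f : G → H)) DFunLike.coe_injective

/-- The order of a subgroup splits along a homomorphism. -/
theorem card_eq_inf_ker_mul_map {G : Type u} {H : Type v} [Group G] [Group H] (E : Subgroup G)
    (f : G →* H) : Nat.card E = Nat.card ↥(E ⊓ f.ker) * Nat.card (E.map f) := by
  have h := Subgroup.card_mul_index (f.comp E.subtype).ker
  rw [Subgroup.index_ker, MonoidHom.range_comp, Subgroup.range_subtype] at h
  have hk : ((f.comp E.subtype).ker).map E.subtype = E ⊓ f.ker := by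
    rw [← MonoidHom.comap_ker, Subgroup.map_comap_eq, Subgroup.range_subtype]
  rw [← hk, Subgroup.card_map_of_injective E.subtype_injective]
  exact h.symm

/-- The product formula in an abelian group. -/
theorem card_sup_mul_card_inf {G : Type u} [CommGroup G] (A B : Subgroup G) :
    Nat.card ↥(A ⊔ B) * Nat.card ↥(A ⊓ B) = Nat.card A * Nat.card B := by
  have h1 : Nat.card ↥(A ⊓ B) * A.relIndex B = Nat.card B := by
    have := card_mul_index ((A ⊓ B).subgroupOf B)
    rw [Nat.card_congr (subgroupOfEquivOfLe (inf_le_right : A ⊓ B ≤ B)).toEquiv] at this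
    rwa [← inf_relIndex_right, relIndex]
  have h2 : Nat.card A * A.relIndex (A ⊔ B) = Nat.card ↥(A ⊔ B) := by
    have := card_mul_index (A.subgroupOf (A ⊔ B))
    rwa [Nat.card_congr (subgroupOfEquivOfLe (le_sup_left : A ≤ A ⊔ B)).toEquiv] at this
  rw [sup_comm] at h2
  rw [relIndex_sup_right, sup_comm] at h2
  rw [← h1, ← h2]
  ring

/-- In a group of exponent `2` a nontrivial element avoids some subgroup of index `2`. -/
theorem exists_index_two {G : Type u} [CommGroup G] [Finite G] (h2 : ∀ x : G, x * x = 1) {x : G}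
    (hx : x ≠ 1) : ∃ K : Subgroup G, x ∉ K ∧ K.index = 2 := by
  obtain ⟨K, hK, hmax⟩ := Set.exists_max_image {K : Subgroup G | x ∉ K} (fun K => Nat.card K)
    (Set.toFinite _) ⟨⊥, fun h => hx (mem_bot.1 h)⟩
  have hinv : ∀ y : G, y⁻¹ = y := fun y => inv_eq_of_mul_eq_one_left (h2 y)
  have key : ∀ y, y ∉ K → y * x ∈ K := by
    intro y hy
    have hxm : x ∈ K ⊔ zpowers y := by
      by_contra hh
      exact hy ((eq_of_le_of_card_ge le_sup_left (hmax _ hh)).ge (mem_sup_right (mem_zpowers y)))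
    obtain ⟨k, hk, z, hz, hkz⟩ := mem_sup.1 hxm
    obtain ⟨i, rfl⟩ := mem_zpowers_iff.1 hz
    obtain ⟨j, rfl⟩ | ⟨j, rfl⟩ := Int.even_or_odd i
    · rw [zpow_add, ← mul_zpow, h2, one_zpow, mul_one] at hkz
      exact absurd (hkz ▸ hk) hK
    · rw [zpow_add, two_mul, zpow_add, ← mul_zpow, h2, one_zpow, one_mul, zpow_one] at hkz
      rwa [← hkz, mul_left_comm, h2, mul_one]
  refine ⟨K, hK, index_eq_two_iff.2 ⟨x, fun b => ?_⟩⟩
  by_cases hb : b ∈ K
  · exact Or.inr ⟨hb, fun h => hK (by simpa using K.mul_mem (K.inv_mem hb) h)⟩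
  · exact Or.inl ⟨key b hb, hb⟩

/-- A group of exponent `2` has at most as many homomorphisms to a group of order `2` as elements. -/
theorem card_hom_le {μ : Type v} [CommGroup μ] (hμ : Nat.card μ = 2) :
    ∀ (n : ℕ) (G : Type u) [CommGroup G] [Finite G], Nat.card G = n → (∀ x : G, x * x = 1) →
      Nat.card (G →* μ) ≤ Nat.card G := by
  haveI : Finite μ := Nat.finite_of_card_ne_zero (by omega)
  intro n
  induction n using Nat.strong_induction_on with
  | _ n ih =>
    intro G _ _ hn h2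
    by_cases h1 : ∀ x : G, x = 1
    · haveI : Subsingleton (G →* μ) := ⟨fun f g => MonoidHom.ext fun x => by
        rw [h1 x, map_one, map_one]⟩
      exact Finite.card_le_one_iff_subsingleton.2 inferInstance |>.trans Nat.card_pos
    push Not at h1
    obtain ⟨x, hx⟩ := h1
    obtain ⟨K, hK, hK2⟩ := exists_index_two h2 hx
    have hlt : Nat.card K < n := by
      rw [← hn, ← K.card_mul_index, hK2]
      have : 0 < Nat.card K := Nat.card_pos
      omega
    have hle := ih _ hlt K rfl fun k => Subtype.ext (h2 k)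
    calc Nat.card (G →* μ) ≤ Nat.card ((K →* μ) × μ) := by
          refine Nat.card_le_card_of_injective (fun f => (f.comp K.subtype, f x)) fun f g hfg => ?_
          simp only [Prod.mk.injEq] at hfg
          refine MonoidHom.ext fun b => ?_
          have hmem : ∀ k ∈ K, f k = g k := fun k hk => DFunLike.congr_fun hfg.1 ⟨k, hk⟩
          by_cases hb : b ∈ K
          · exact hmem b hb
          · have hbx : b * x ∈ K := by
              refine (mul_mem_iff_of_index_two hK2).2 ⟨fun h => absurd h hb, fun h => absurd h hK⟩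
            have h3 := hmem _ hbx
            rwa [map_mul, map_mul, hfg.2, mul_left_inj] at h3
      _ = Nat.card (K →* μ) * 2 := by rw [Nat.card_prod, hμ]
      _ ≤ Nat.card K * 2 := by gcongr
      _ = Nat.card G := by rw [← hK2, K.card_mul_index]

/-- For a simple domain, closed groups of homomorphisms have order a power of the order of it. -/
theorem exists_card_eq_pow {X : Type u} [CommGroup X] [Finite X] {V : Type v} [CommGroup V] [Finite V]
    (hX : ∀ x : X, x * x = 1) (hV : ∀ x : V, x * x = 1) {Sig : Set (X →* X)}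
    (hsimple : ∀ P : Subgroup X, Inv Sig P → P = ⊥ ∨ P = ⊤) :
    ∀ (n : ℕ) (K : Subgroup V), Nat.card K = n → ∀ E : Subgroup (X →* V),
      (∀ e ∈ E, ∀ x, e x ∈ K) → (∀ σ ∈ Sig, ∀ e ∈ E, e.comp σ ∈ E) →
      ∃ k, Nat.card E = Nat.card X ^ k := by
  intro n
  induction n using Nat.strong_induction_on with
  | _ n ih =>
    intro K hn E hEK hEσ
    by_cases hK : K = ⊥
    · refine ⟨0, ?_⟩
      rw [pow_zero, card_eq_one, eq_bot_iff]
      intro e he
      exact mem_bot.2 (MonoidHom.ext fun x => mem_bot.1 (hK ▸ hEK e he x))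
    obtain ⟨z, hzK, hz⟩ : ∃ z ∈ K, z ≠ (1 : V) := by
      by_contra! h
      exact hK ((eq_bot_iff_forall _).2 h)
    obtain ⟨K₀, hz₀, hK₀⟩ := exists_index_two hV hz
    let lam : V →* V ⧸ K₀ := QuotientGroup.mk' K₀
    have hμ : Nat.card (V ⧸ K₀) = 2 := by rw [← index_eq_card, hK₀]
    let L : (X →* V) →* (X →* V ⧸ K₀) := MonoidHom.mk' (fun e => lam.comp e)
      fun a b => MonoidHom.comp_mul lam a b
    have hLσ : ∀ σ : X →* X, ∀ e, L (e.comp σ) = (L e).comp σ := fun _ _ => rfl
    rw [card_eq_inf_ker_mul_map E L]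
    have hlt : Nat.card ↥(K ⊓ K₀) < n := by
      rw [← hn]
      refine lt_of_le_of_ne (card_le_of_le inf_le_left) fun h => hz₀ ?_
      exact ((eq_of_le_of_card_ge inf_le_left h.ge).ge hzK).2
    obtain ⟨i, hi⟩ := ih _ hlt (K ⊓ K₀) rfl (E ⊓ L.ker)
      (fun e he x => ⟨hEK e he.1 x, (QuotientGroup.eq_one_iff _).1 (DFunLike.congr_fun he.2 x)⟩)
      fun σ hσ e he => ⟨hEσ σ hσ e he.1, by
        show L (e.comp σ) = 1
        rw [hLσ, show L e = 1 from he.2, MonoidHom.one_comp]⟩
    rw [hi]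
    by_cases hL : E.map L = ⊥
    · exact ⟨i, by rw [hL, card_bot, mul_one]⟩
    refine ⟨i + 1, ?_⟩
    rw [pow_succ]
    congr 1
    have hμ2 : ∀ y : V ⧸ K₀, y * y = 1 := fun y => by
      obtain ⟨y, rfl⟩ := QuotientGroup.mk_surjective y
      rw [← QuotientGroup.mk_mul, hV, QuotientGroup.mk_one]
    refine le_antisymm ((card_le_card_group _).trans (card_hom_le hμ _ X rfl hX)) ?_
    let ev : X →* (↥(E.map L) →* V ⧸ K₀) := MonoidHom.mk'
      (fun x => MonoidHom.mk' (fun e => (e : X →* V ⧸ K₀) x) fun a b => rfl)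
      fun a b => MonoidHom.ext fun e => map_mul (e : X →* V ⧸ K₀) a b
    have hev : Inv Sig ev.ker := by
      intro σ hσ x hx
      refine MonoidHom.ext fun e => ?_
      obtain ⟨e', he', hee'⟩ := mem_map.1 e.2
      have h1 := DFunLike.congr_fun (hx : ev x = 1)
        ⟨L (e'.comp σ), mem_map_of_mem L (hEσ σ hσ e' he')⟩
      show (e : X →* V ⧸ K₀) (σ x) = 1
      rw [← hee']
      exact h1
    rcases hsimple _ hev with h | h
    · refine (Nat.card_le_card_of_injective ev ((MonoidHom.ker_eq_bot_iff ev).1 h)).trans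
        (card_hom_le hμ _ _ rfl fun e => Subtype.ext (MonoidHom.ext fun x => hμ2 _))
    · refine absurd ((eq_bot_iff_forall _).2 fun e he => MonoidHom.ext fun x => ?_) hL
      exact DFunLike.congr_fun (MonoidHom.mem_ker.1 (h ▸ mem_top x : x ∈ ev.ker)) ⟨e, he⟩

variable {X : Type u} [CommGroup X] {V : Type v} [CommGroup V]

/-- Restriction to a subgroup. -/
def restr (P : Subgroup X) : (X →* V) →* (P →* V) :=
  MonoidHom.mk' (fun s => s.comp P.subtype) fun _ _ => rfl

theorem restr_apply (P : Subgroup X) (s : X →* V) (p : P) : restr P s p = s p := rfl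

variable [Finite X] [Finite V]

/-- Both orders are powers of `q` on invariant subgroups of a sum of simple ones of order `q`. -/
theorem exists_pow_pair (hX : ∀ x : X, x * x = 1) (hV : ∀ x : V, x * x = 1) {Sig : Set (X →* X)}
    {S : Subgroup (X →* V)} (hS : ∀ σ ∈ Sig, ∀ s ∈ S, s.comp σ ∈ S) {ι : Type w}
    (I : ι → Subgroup X) (q : ℕ) (hI : ∀ i, Inv Sig (I i))
    (hsimple : ∀ i P, Inv Sig P → P ≤ I i → P = ⊥ ∨ P = I i)
    (hq : ∀ i, I i = ⊥ ∨ Nat.card (I i) = q) :
    ∀ (n : ℕ) (F : Subgroup X), Nat.card F = n → Inv Sig F → F ≤ iSup I →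
      ∃ k j, Nat.card F = q ^ k ∧ Nat.card (S.map (restr F)) = q ^ j := by
  intro n
  induction n using Nat.strong_induction_on with
  | _ n ih =>
    intro F hn hF hFle
    by_cases hF0 : F = ⊥
    · refine ⟨0, 0, by rw [hF0, card_bot, pow_zero], ?_⟩
      rw [pow_zero, card_eq_one, eq_bot_iff]
      rintro _ ⟨s, -, rfl⟩
      refine mem_bot.2 (MonoidHom.ext fun p => ?_)
      rw [restr_apply, show (p : X) = 1 from mem_bot.1 (hF0 ▸ p.2), map_one]
      rfl
    obtain ⟨K, ⟨hK, hKle, hFK⟩, hmax⟩ := Set.exists_max_image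
      {K : Subgroup X | Inv Sig K ∧ K ≤ iSup I ∧ ¬ F ≤ K} (fun K => Nat.card K) (Set.toFinite _)
      ⟨⊥, Inv.bot Sig, bot_le, fun h => hF0 (le_bot_iff.1 h)⟩
    obtain ⟨i, hi⟩ : ∃ i, ¬ I i ≤ K := by
      by_contra! h
      exact hFK (hFle.trans (iSup_le h))
    have hIK : I i ⊓ K = ⊥ := by
      rcases hsimple i _ ((hI i).inf hK) inf_le_left with h | h
      · exact h
      · exact absurd (h ▸ inf_le_right) hi
    have hFKI : F ≤ K ⊔ I i := by
      by_contra h
      exact hi ((eq_of_le_of_card_ge le_sup_left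
        (hmax _ ⟨hK.sup (hI i), sup_le hKle (le_iSup I i), h⟩)).ge.trans' le_sup_right)
    -- an invariant subgroup between `F ⊓ K` and `F` is one of the two
    have hbetween : ∀ P, Inv Sig P → P ≤ F → F ⊓ K ≤ P → P = F ⊓ K ∨ P = F := by
      intro P hP hPF hKP
      rcases hsimple i _ ((hP.sup hK).inf (hI i)) inf_le_right with h | h
      · refine Or.inl (le_antisymm (le_inf hPF fun p hp => ?_) hKP)
        obtain ⟨k, hk, x, hx, hkx⟩ := mem_sup.1 (hFKI (hPF hp))
        have hxb : x ∈ (P ⊔ K) ⊓ I i := ⟨by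
          rw [show x = k⁻¹ * p by rw [← hkx, inv_mul_cancel_left]]
          exact mul_mem (mem_sup_right (K.inv_mem hk)) (mem_sup_left hp), hx⟩
        have hx1 : x ∈ (⊥ : Subgroup X) := h ▸ hxb
        rw [← hkx, mem_bot.1 hx1, mul_one]
        exact hk
      · refine Or.inr (le_antisymm hPF fun f hf => ?_)
        have hle : K ⊔ I i ≤ P ⊔ K := sup_le le_sup_right (h ▸ inf_le_left)
        obtain ⟨p, hp, k, hk, hpk⟩ := mem_sup.1 (hle (hFKI hf))
        rw [← hpk]
        refine P.mul_mem hp (hKP ⟨?_, hk⟩)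
        rw [show k = p⁻¹ * f by rw [← hpk, inv_mul_cancel_left]]
        exact F.mul_mem (F.inv_mem (hPF hp)) hf
    have hne : F ⊓ K ≠ F := fun h => hFK (h ▸ inf_le_right)
    have hFsup : F ⊔ K = K ⊔ I i := by
      refine le_antisymm (sup_le hFKI le_sup_left) (sup_le le_sup_right ?_)
      rcases hsimple i _ ((hF.sup hK).inf (hI i)) inf_le_right with h | h
      · refine absurd (le_antisymm inf_le_left (le_inf le_rfl fun f hf => ?_)) hne
        obtain ⟨k, hk, x, hx, hkx⟩ := mem_sup.1 (hFKI hf)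
        have hxb : x ∈ (F ⊔ K) ⊓ I i := ⟨by
          rw [show x = k⁻¹ * f by rw [← hkx, inv_mul_cancel_left]]
          exact mul_mem (mem_sup_right (K.inv_mem hk)) (mem_sup_left hf), hx⟩
        have hx1 : x ∈ (⊥ : Subgroup X) := h ▸ hxb
        rw [← hkx, mem_bot.1 hx1, mul_one]
        exact hk
      · exact h ▸ inf_le_left
    have hqi : Nat.card (I i) = q := (hq i).resolve_left fun h => hi (h ▸ bot_le)
    have hcardF : Nat.card F = Nat.card ↥(F ⊓ K) * q := by
      have h1 := card_sup_mul_card_inf F K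
      have h2 := card_sup_mul_card_inf (I i) K
      rw [hIK, card_bot, mul_one, sup_comm, ← hFsup, hqi] at h2
      rw [h2] at h1
      refine Nat.eq_of_mul_eq_mul_right (Nat.card_pos (α := K)) ?_
      rw [← h1]; ring
    have hlt : Nat.card ↥(F ⊓ K) < n := by
      rw [← hn]
      exact lt_of_le_of_ne (card_le_of_le inf_le_left) fun h =>
        hne (eq_of_le_of_card_ge inf_le_left h.ge)
    obtain ⟨k, j, hk, hj⟩ := ih _ hlt (F ⊓ K) rfl (hF.inf hK) (inf_le_left.trans hFle)
    -- the restrictions that vanish on `F ⊓ K`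
    let N : Subgroup F := (F ⊓ K).subgroupOf F
    have hNker : ∀ e : F →* V, (∀ p : F, (p : X) ∈ F ⊓ K → e p = 1) → N ≤ e.ker :=
      fun e he p hp => he p hp
    let σF : ∀ σ, σ ∈ Sig → (F →* F) := fun σ hσ =>
      (σ.comp F.subtype).codRestrict F fun f => hF σ hσ f f.2
    have hNσ : ∀ σ (hσ : σ ∈ Sig), N ≤ N.comap (σF σ hσ) := fun σ hσ p hp =>
      (hF.inf hK) σ hσ p hp
    let SigQ : Set (F ⧸ N →* F ⧸ N) :=
      {t | ∃ σ, ∃ hσ : σ ∈ Sig, t = QuotientGroup.map N N (σF σ hσ) (hNσ σ hσ)}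
    have hQcard : Nat.card (F ⧸ N) = q := by
      have h1 := N.card_mul_index
      rw [Nat.card_congr (subgroupOfEquivOfLe (inf_le_left : F ⊓ K ≤ F)).toEquiv, hcardF,
        index_eq_card] at h1
      exact Nat.eq_of_mul_eq_mul_left Nat.card_pos h1
    have hQsimple : ∀ P : Subgroup (F ⧸ N), Inv SigQ P → P = ⊥ ∨ P = ⊤ := by
      intro P hP
      let P₀ := (P.comap (QuotientGroup.mk' N)).map F.subtype
      have hP₀ : Inv Sig P₀ := by
        rintro σ hσ _ ⟨p, hp, rfl⟩
        exact ⟨σF σ hσ p, hP _ ⟨σ, hσ, rfl⟩ _ hp, rfl⟩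
      rcases hbetween P₀ hP₀ (map_subtype_le _) (fun p hp => ⟨⟨p, hp.1⟩, by
          show (QuotientGroup.mk (⟨p, hp.1⟩ : F) : F ⧸ N) ∈ P
          rw [(QuotientGroup.eq_one_iff _).2 (show (⟨p, hp.1⟩ : F) ∈ N from hp)]
          exact P.one_mem, rfl⟩) with h | h
      · refine Or.inl ((eq_bot_iff_forall _).2 fun y hy => ?_)
        obtain ⟨p, rfl⟩ := QuotientGroup.mk_surjective y
        exact (QuotientGroup.eq_one_iff p).2 (h.le ⟨p, hy, rfl⟩)
      · refine Or.inr (eq_top_iff.2 fun y _ => ?_)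
        obtain ⟨p, rfl⟩ := QuotientGroup.mk_surjective y
        obtain ⟨p', hp', hpp'⟩ := h.ge p.2
        rwa [show p' = p from Subtype.ext hpp'] at hp'
    let r : (F →* V) →* (↥(F ⊓ K) →* V) := MonoidHom.mk'
      (fun e => e.comp (Subgroup.inclusion inf_le_left)) fun _ _ => rfl
    let pre : (F ⧸ N →* V) →* (F →* V) := MonoidHom.mk' (fun e => e.comp (QuotientGroup.mk' N))
      fun _ _ => rfl
    have hprei : Function.Injective pre := fun a b hab =>
      MonoidHom.ext fun y => by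
        obtain ⟨p, rfl⟩ := QuotientGroup.mk_surjective y
        exact DFunLike.congr_fun hab p
    obtain ⟨m, hm⟩ := exists_card_eq_pow (V := V) (Sig := SigQ)
      (fun y => by
        obtain ⟨p, rfl⟩ := QuotientGroup.mk_surjective y
        rw [← QuotientGroup.mk_mul, show p * p = 1 from Subtype.ext (hX p), QuotientGroup.mk_one])
      hV hQsimple _ ⊤ rfl ((S.map (restr F) ⊓ r.ker).comap pre) (fun e _ x => mem_top _) (by
        rintro t ⟨σ, hσ, rfl⟩ e ⟨he1, he2⟩
        obtain ⟨s, hs, hse⟩ := he1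
        have hEq : pre (e.comp (QuotientGroup.map N N (σF σ hσ) (hNσ σ hσ))) =
            restr F (s.comp σ) := MonoidHom.ext fun p => by
          show e (QuotientGroup.mk (σF σ hσ p)) = s (σ p)
          exact (DFunLike.congr_fun hse (σF σ hσ p)).symm
        refine ⟨hEq ▸ mem_map_of_mem _ (hS σ hσ s hs), ?_⟩
        refine MonoidHom.ext fun p => ?_
        show e (QuotientGroup.mk (σF σ hσ (Subgroup.inclusion inf_le_left p))) = 1
        exact DFunLike.congr_fun he2 ⟨σ p, (hF.inf hK) σ hσ p p.2⟩)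
    have hmap : ((S.map (restr F) ⊓ r.ker).comap pre).map pre = S.map (restr F) ⊓ r.ker := by
      refine map_comap_eq_self fun e he => ?_
      exact ⟨QuotientGroup.lift N e (hNker e fun p hp => DFunLike.congr_fun he.2 ⟨p, hp⟩),
        MonoidHom.ext fun p => rfl⟩
    refine ⟨k + 1, m + j, by rw [hcardF, hk, pow_succ], ?_⟩
    rw [card_eq_inf_ker_mul_map (S.map (restr F)) r, ← hmap, card_map_of_injective hprei, hm,
      hQcard, pow_add]
    congr 1
    rw [Subgroup.map_map, ← hj]
    rfl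

/-- **Offenders from right closed groups of homomorphisms.** -/
theorem exists_offender (hX : ∀ x : X, x * x = 1) (hV : ∀ x : V, x * x = 1) {Sig : Set (X →* X)}
    (hinj : ∀ σ ∈ Sig, Function.Injective σ) {S : Subgroup (X →* V)}
    (hS : ∀ σ ∈ Sig, ∀ s ∈ S, s.comp σ ∈ S) (n : ℕ)
    (hb : ∀ P, Inv Sig P → Nat.card P ≤ n * Nat.card (S.map (restr P)))
    (hs : ∀ P, Inv Sig P → P ≠ ⊥ → n < Nat.card P) {U : Subgroup X} (hU : U ≠ ⊥) :
    ∃ E : Subgroup (U →* V), E ≤ S.map (restr U) ∧ E ≠ ⊥ ∧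
      Nat.card U ≤ Nat.card E * Nat.card ↥(⨅ e ∈ E, MonoidHom.ker e) := by
  -- a minimal left closed group of maps composable with `S`
  let T₀ : Subgroup (U →* X) :=
    { carrier := {t | ∀ s ∈ S, s.comp t ∈ S.map (restr U)}
      one_mem' := fun s hs => by rw [MonoidHom.comp_one]; exact one_mem _
      mul_mem' := fun {a b} ha hb s hs => by
        rw [MonoidHom.comp_mul]; exact mul_mem (ha s hs) (hb s hs)
      inv_mem' := fun {a} ha s hs => by
        rw [show s.comp a⁻¹ = (s.comp a)⁻¹ from MonoidHom.ext fun x => map_inv s (a x)]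
        exact inv_mem (ha s hs) }
  let Closed : Subgroup (U →* X) → Prop := fun T => ∀ σ ∈ Sig, ∀ t ∈ T, σ.comp t ∈ T
  have hT₀ : Closed T₀ := fun σ hσ t ht s hs => by
    rw [← MonoidHom.comp_assoc]; exact ht _ (hS σ hσ s hs)
  have hT₀ne : T₀ ≠ ⊥ := fun h => hU ((eq_bot_iff_forall _).2 fun u hu => by
    have : U.subtype ∈ T₀ := fun s hs => mem_map_of_mem _ hs
    exact DFunLike.congr_fun (mem_bot.1 (h ▸ this)) ⟨u, hu⟩)
  obtain ⟨T, ⟨hT, hTle, hTne⟩, hmin⟩ := Set.exists_min_image
    {T : Subgroup (U →* X) | Closed T ∧ T ≤ T₀ ∧ T ≠ ⊥} (fun T => Nat.card T) (Set.toFinite _)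
    ⟨T₀, hT₀, le_rfl, hT₀ne⟩
  have hTmin : ∀ T' ≤ T, Closed T' → T' = ⊥ ∨ T' = T := fun T' hle hcl =>
    or_iff_not_imp_left.2 fun hne =>
      eq_of_le_of_card_ge hle (hmin T' ⟨hcl, hle.trans hTle, hne⟩)
  let ev : U → (U →* X) →* X := fun u => MonoidHom.mk' (fun t => t u) fun _ _ => rfl
  let I : U → Subgroup X := fun u => T.map (ev u)
  have hI : ∀ u, Inv Sig (I u) := by
    rintro u σ hσ _ ⟨t, ht, rfl⟩
    exact ⟨σ.comp t, hT σ hσ t ht, rfl⟩
  have hsimple : ∀ u P, Inv Sig P → P ≤ I u → P = ⊥ ∨ P = I u := by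
    intro u P hP hle
    rcases hTmin (T ⊓ P.comap (ev u)) inf_le_left
      (fun σ hσ t ht => ⟨hT σ hσ t ht.1, hP σ hσ _ ht.2⟩) with h | h
    · refine Or.inl ((eq_bot_iff_forall _).2 fun p hp => ?_)
      obtain ⟨t, ht, rfl⟩ := hle hp
      rw [show t = 1 from mem_bot.1 (h ▸ (⟨ht, hp⟩ : t ∈ T ⊓ P.comap (ev u))), map_one]
    · exact Or.inr (le_antisymm hle (map_le_iff_le_comap.2 (h ▸ inf_le_right)))
  have hq : ∀ u, I u = ⊥ ∨ Nat.card (I u) = Nat.card T := by
    intro u
    rcases hTmin (T ⊓ (ev u).ker) inf_le_left (fun σ hσ t ht => ⟨hT σ hσ t ht.1, by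
      show σ (t u) = 1
      rw [show t u = 1 from ht.2, map_one]⟩) with h | h
    · refine Or.inr ?_
      have := card_eq_inf_ker_mul_map T (ev u)
      rw [h, card_bot, one_mul] at this
      exact this.symm
    · exact Or.inl ((Subgroup.map_eq_bot_iff _).2 (h ▸ inf_le_right))
  have hPI : Inv Sig (iSup I) := fun σ hσ x hx =>
    (iSup_le fun u p hp => mem_iSup_of_mem u (hI u σ hσ p hp) : iSup I ≤ (iSup I).comap σ) hx
  have hnq : n < Nat.card T := by
    obtain ⟨u, hu⟩ : ∃ u, I u ≠ ⊥ := by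
      by_contra! h
      refine hTne ((eq_bot_iff_forall _).2 fun t ht => MonoidHom.ext fun u => ?_)
      exact mem_bot.1 (h u ▸ (⟨t, ht, rfl⟩ : t u ∈ I u))
    exact (hq u).resolve_left hu ▸ hs _ (hI u) hu
  -- the measure `|C_S(P)| |P|`
  let C : Subgroup X → Subgroup (X →* V) := fun P => S ⊓ (restr P).ker
  have hC : ∀ P, Nat.card S = Nat.card (C P) * Nat.card (S.map (restr P)) := fun P =>
    card_eq_inf_ker_mul_map S (restr P)
  let Φ : Subgroup X → ℕ := fun P => Nat.card (C P) * Nat.card P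
  obtain ⟨P₁, hP₁, hP₁max⟩ := Set.exists_max_image {P : Subgroup X | P ≤ iSup I} Φ
    (Set.toFinite _) ⟨⊥, (bot_le : ⊥ ≤ iSup I)⟩
  obtain ⟨P, ⟨hPle, hPΦ⟩, hPmax⟩ := Set.exists_max_image
    {P : Subgroup X | P ≤ iSup I ∧ Φ P₁ ≤ Φ P} (fun P => Nat.card P) (Set.toFinite _)
    ⟨P₁, hP₁, le_rfl⟩
  have hsub : ∀ A B : Subgroup X, Φ A * Φ B ≤ Φ (A ⊔ B) * Φ (A ⊓ B) := by
    intro A B
    have h1 : Nat.card (C A) * Nat.card (C B) ≤
        Nat.card (C (A ⊔ B)) * Nat.card (C (A ⊓ B)) := by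
      rw [← card_sup_mul_card_inf (C A) (C B), mul_comm (Nat.card (C (A ⊔ B)))]
      refine Nat.mul_le_mul (card_le_of_le ?_) (card_le_of_le ?_)
      · refine sup_le (fun s hs => ⟨hs.1, MonoidHom.ext fun p => ?_⟩)
          fun s hs => ⟨hs.1, MonoidHom.ext fun p => ?_⟩
        · exact DFunLike.congr_fun hs.2 ⟨p, p.2.1⟩
        · exact DFunLike.congr_fun hs.2 ⟨p, p.2.2⟩
      · intro s hs
        refine ⟨hs.1.1, MonoidHom.ext fun p => ?_⟩
        obtain ⟨a, ha, b, hb, hab⟩ := mem_sup.1 p.2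
        show s p = 1
        rw [← hab, map_mul, show s a = 1 from DFunLike.congr_fun hs.1.2 ⟨a, ha⟩,
          show s b = 1 from DFunLike.congr_fun hs.2.2 ⟨b, hb⟩, one_mul]
    calc Φ A * Φ B = (Nat.card (C A) * Nat.card (C B)) * (Nat.card A * Nat.card B) := by
          simp only [Φ]; ring
      _ ≤ (Nat.card (C (A ⊔ B)) * Nat.card (C (A ⊓ B))) *
          (Nat.card ↥(A ⊔ B) * Nat.card ↥(A ⊓ B)) := by
          rw [card_sup_mul_card_inf A B]
          exact Nat.mul_le_mul_right _ h1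
      _ = Φ (A ⊔ B) * Φ (A ⊓ B) := by simp only [Φ]; ring
  have hinv : Inv Sig P := by
    intro σ hσ x hx
    let Q := P.map σ
    have hQle : Q ≤ iSup I := by
      rintro _ ⟨p, hp, rfl⟩
      exact hPI σ hσ p (hPle hp)
    have hQΦ : Φ P ≤ Φ Q := by
      let g : P →* Q := σ.subgroupMap P
      let ι : (Q →* V) →* (P →* V) := MonoidHom.mk' (fun e => e.comp g) fun _ _ => rfl
      have hι : Function.Injective ι := fun a b hab => MonoidHom.ext fun y => by
        obtain ⟨p, rfl⟩ := σ.subgroupMap_surjective P y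
        exact DFunLike.congr_fun hab p
      have hle : (S.map (restr Q)).map ι ≤ S.map (restr P) := by
        rintro _ ⟨_, ⟨s, hs, rfl⟩, rfl⟩
        exact ⟨s.comp σ, hS σ hσ s hs, rfl⟩
      have h1 : Nat.card (S.map (restr Q)) ≤ Nat.card (S.map (restr P)) :=
        (card_map_of_injective hι).ge.trans (card_le_of_le hle)
      refine Nat.mul_le_mul ?_ (card_map_of_injective (hinj σ hσ)).ge
      refine Nat.le_of_mul_le_mul_right ?_ (Nat.card_pos (α := S.map (restr P)))
      rw [← hC P, hC Q]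
      exact Nat.mul_le_mul_left _ h1
    have hpos : ∀ A : Subgroup X, 0 < Φ A := fun A => Nat.mul_pos Nat.card_pos Nat.card_pos
    have hsupΦ : Φ P₁ ≤ Φ (P ⊔ Q) := by
      have h1 := hsub P Q
      have h2 := hP₁max (P ⊓ Q) (inf_le_left.trans hPle)
      have h3 : Φ P₁ * Φ P₁ ≤ Φ (P ⊔ Q) * Φ P₁ :=
        ((Nat.mul_le_mul hPΦ (hPΦ.trans hQΦ)).trans h1).trans (Nat.mul_le_mul_left _ h2)
      exact Nat.le_of_mul_le_mul_right h3 (hpos _)
    exact (eq_of_le_of_card_ge le_sup_left (hPmax _ ⟨sup_le hPle hQle, hsupΦ⟩)).ge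
      (mem_sup_right ⟨x, hx, rfl⟩)
  obtain ⟨k, j, hk, hj⟩ := exists_pow_pair hX hV hS I _ hI hsimple hq _ P rfl hinv hPle
  have hkj : Nat.card P ≤ Nat.card (S.map (restr P)) := by
    rw [hk, hj]
    refine Nat.pow_le_pow_right Nat.card_pos ?_
    by_contra hlt
    have h1 := hb P hinv
    rw [hk, hj] at h1
    have h2 : Nat.card T * Nat.card T ^ j ≤ Nat.card T ^ k := by
      rw [← pow_succ']
      exact Nat.pow_le_pow_right Nat.card_pos (by omega)
    have h3 : n * Nat.card T ^ j < Nat.card T * Nat.card T ^ j :=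
      Nat.mul_lt_mul_of_pos_right hnq (pow_pos Nat.card_pos j)
    omega
  have hher : ∀ A ≤ iSup I, Nat.card A ≤ Nat.card (S.map (restr A)) := by
    intro A hA
    refine Nat.le_of_mul_le_mul_left ?_ (Nat.card_pos (α := C A))
    rw [← hC A, hC P]
    exact ((hP₁max A hA).trans hPΦ).trans (Nat.mul_le_mul_left _ hkj)
  -- composition
  let E : Subgroup (U →* V) := closure {e | ∃ s ∈ S, ∃ t ∈ T, e = s.comp t}
  let KT : Subgroup U := ⨅ t ∈ T, MonoidHom.ker t
  have hcomp : ∀ (m : ℕ) (W : Subgroup U), Nat.card W = m →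
      Nat.card W ≤ Nat.card (E.map (restr W)) * Nat.card ↥(W ⊓ KT) := by
    intro m
    induction m using Nat.strong_induction_on with
    | _ m ih =>
      intro W hm
      by_cases hW : W ≤ KT
      · rw [inf_eq_left.2 hW]
        exact Nat.le_mul_of_pos_left _ Nat.card_pos
      obtain ⟨w, hwW, t, ht, hw⟩ : ∃ w ∈ W, ∃ t ∈ T, t w ≠ 1 := by
        by_contra! h
        exact hW fun w hw => by
          simp only [KT, mem_iInf, MonoidHom.mem_ker]
          exact fun t ht => h w hw t ht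
      let W' := W ⊓ MonoidHom.ker t
      have hlt : Nat.card W' < m := by
        rw [← hm]
        refine lt_of_le_of_ne (card_le_of_le inf_le_left) fun h => hw ?_
        exact ((eq_of_le_of_card_ge inf_le_left h.ge).ge hwW).2
      have h1 := ih _ hlt W' rfl
      have hcW : Nat.card W = Nat.card W' * Nat.card (W.map t) := card_eq_inf_ker_mul_map W t
      let r : (W →* V) →* (W' →* V) := MonoidHom.mk'
        (fun e => e.comp (Subgroup.inclusion inf_le_left)) fun _ _ => rfl
      have hr : (E.map (restr W)).map r = E.map (restr W') := by rw [Subgroup.map_map]; rfl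
      let g : W →* W.map t := t.subgroupMap W
      let ι : (↥(W.map t) →* V) →* (W →* V) := MonoidHom.mk' (fun e => e.comp g) fun _ _ => rfl
      have hι : Function.Injective ι := fun a b hab => MonoidHom.ext fun y => by
        obtain ⟨p, rfl⟩ := t.subgroupMap_surjective W y
        exact DFunLike.congr_fun hab p
      have hle : (S.map (restr (W.map t))).map ι ≤ E.map (restr W) ⊓ r.ker := by
        rintro _ ⟨_, ⟨s, hs, rfl⟩, rfl⟩
        refine ⟨⟨s.comp t, subset_closure ⟨s, hs, t, ht, rfl⟩, rfl⟩, MonoidHom.ext fun p => ?_⟩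
        show s (t p) = 1
        rw [show t (p : U) = 1 from p.2.2, map_one]
      have h2 : Nat.card (W.map t) ≤ Nat.card ↥(E.map (restr W) ⊓ r.ker) :=
        ((hher _ fun y hy => by
          obtain ⟨p, -, rfl⟩ := hy
          exact mem_iSup_of_mem p ⟨t, ht, rfl⟩).trans (card_map_of_injective hι).ge).trans
          (card_le_of_le hle)
      calc Nat.card W = Nat.card W' * Nat.card (W.map t) := hcW
        _ ≤ Nat.card (E.map (restr W')) * Nat.card ↥(W' ⊓ KT) *
            Nat.card ↥(E.map (restr W) ⊓ r.ker) := Nat.mul_le_mul h1 h2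
        _ = Nat.card (E.map (restr W)) * Nat.card ↥(W' ⊓ KT) := by
          rw [card_eq_inf_ker_mul_map (E.map (restr W)) r, hr]; ring
        _ ≤ _ := Nat.mul_le_mul_left _ (card_le_of_le (inf_le_inf_right _ inf_le_left))
  have hmain : Nat.card U ≤ Nat.card E * Nat.card KT := by
    have h := hcomp _ ⊤ rfl
    rw [card_top, top_inf_eq] at h
    refine h.trans (Nat.mul_le_mul_right _ ?_)
    have h2 := card_eq_inf_ker_mul_map E (restr (⊤ : Subgroup U))
    rw [h2]
    exact Nat.le_mul_of_pos_left _ Nat.card_pos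
  refine ⟨E, (closure_le _).2 ?_, ?_, hmain.trans (Nat.mul_le_mul_left _ (card_le_of_le ?_))⟩
  · rintro _ ⟨s, hs, t, ht, rfl⟩
    exact hTle ht s hs
  · intro hE
    rw [hE, card_bot, one_mul] at hmain
    have hK : KT = ⊤ := eq_top_of_card_eq _ (le_antisymm (card_le_card_group _) hmain)
    refine hTne ((eq_bot_iff_forall _).2 fun t ht => MonoidHom.ext fun u => ?_)
    have hu : u ∈ KT := hK ▸ mem_top u
    simp only [KT, mem_iInf, MonoidHom.mem_ker] at hu
    exact hu t ht
  · intro u hu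
    simp only [mem_iInf, MonoidHom.mem_ker]
    intro e he
    have hle : E ≤ (MonoidHom.mk' (fun e : U →* V => e u) fun _ _ => rfl).ker := by
      refine (closure_le _).2 ?_
      rintro _ ⟨s, hs, t, ht, rfl⟩
      show s (t u) = 1
      simp only [KT, mem_iInf, MonoidHom.mem_ker] at hu
      rw [hu t ht, map_one]
    exact hle he

end CfsgLib.PLocal.RightClosed
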