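import Cfsg.Agent.Lib.Fusion.OffenderMain
import Cfsg.Agent.Lib.PLocal.OffenderClosed

/-!
# A minimal offender and a module of a maximal subgroup

`H` is generated by the minimal offender `A` and any conjugate of it from outside `M`. If `M` fixes a
subgroup `U ≤ C(A)` not centralised by `H` and no element of order three is inverted on a section,
then some subgroup of the normal `2`-subgroup `D` induces an offender on `U`: the conjugates of
`A ∩ D` move `U` into `C(H)`, and they form a right closed group of homomorphisms.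
-/

set_option autoImplicit false
set_option linter.unusedSectionVars false

namespace CfsgLib.PLocal.NoOffender

open Subgroup CfsgLib.Fusion CfsgLib.Fusion.Offender CfsgLib.PLocal.RightClosed

universe u

variable {V : Type u} [CommGroup V]

/-- The commutator map of an automorphism. -/
def cm (g : MulAut V) : V →* V where
  toFun v := g v * v⁻¹
  map_one' := by rw [map_one, inv_one, mul_one]
  map_mul' a b := by rw [map_mul, mul_inv, mul_mul_mul_comm]

theorem cm_apply (g : MulAut V) (v : V) : cm g v = g v * v⁻¹ := rfl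

theorem cm_mul_self (g : MulAut V) (v : V) : cm g v * v = g v := inv_mul_cancel_right _ _

theorem cm_mul (g h : MulAut V) (v : V) : cm (g * h) v = g (cm h v) * cm g v := by
  rw [cm_apply, cm_apply, cm_apply, map_mul, map_inv, MulAut.mul_apply, mul_assoc,
    inv_mul_cancel_left]

theorem cm_eq_one {g : MulAut V} {v : V} : cm g v = 1 ↔ g v = v := mul_inv_eq_one

/-- The commutator map of a conjugate. -/
theorem cm_conj (g k : MulAut V) (v : V) : cm g (k v) = k (cm (k⁻¹ * g * k) v) := by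
  rw [cm_apply, cm_apply, map_mul, map_inv, MulAut.mul_apply, MulAut.mul_apply,
    MulAut.apply_inv_self]

variable [Finite V]

/-- The setting: `H` is generated by `A` and any conjugate from outside `M`. -/
structure Local (H M A D : Subgroup (MulAut V)) (U : Subgroup V) : Prop where
  hsq : ∀ v : V, v * v = 1
  free : NoThree H
  hMH : M ≤ H
  hA : IsMinOff A
  hAM : A ≤ M
  hDM : D ≤ M
  hDn : ∀ g ∈ H, ∀ d ∈ D, g * d * g⁻¹ ∈ D
  hAD : ¬ A ≤ D
  hover : ∀ K ≤ H, K ≠ H → A ≤ K → K ≤ M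
  gen : ∀ g ∈ H, g ∉ M → A ⊔ conjSub g A = H
  core : ∀ a ∈ A, (∀ g ∈ H, g * a * g⁻¹ ∈ M) → a ∈ D
  out : ∃ g ∈ H, g ∉ M
  hUA : U ≤ fixOf A
  hUM : ∀ m ∈ M, ∀ u ∈ U, m u ∈ U
  hUZ : ¬ U ≤ fixOf H

namespace Local

variable {H M A D : Subgroup (MulAut V)} {U : Subgroup V} (h : Local H M A D U)

include h

theorem hV : IsPGroup 2 V := fun v => ⟨1, by rw [pow_one, pow_two]; exact h.hsq v⟩

theorem A_le : A ≤ H := h.hAM.trans h.hMH

theorem conj_le {g : MulAut V} (hg : g ∈ H) : conjSub g A ≤ H := by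
  rintro _ ⟨a, ha, rfl⟩
  exact H.mul_mem (H.mul_mem hg (h.A_le ha)) (H.inv_mem hg)

theorem fix_Z {k : MulAut V} (hk : k ∈ H) {z : V} (hz : z ∈ fixOf H) : k z = z := hz k hk

theorem Z_le_X : fixOf H ≤ fixOf A := fixOf_anti h.A_le

theorem Z_le_Y {g : MulAut V} (hg : g ∈ H) : fixOf H ≤ fixOf (conjSub g A) :=
  fixOf_anti (h.conj_le hg)

theorem quad {a : MulAut V} (ha : a ∈ A) (v : V) : cm a v ∈ fixOf A :=
  h.hA.quadratic h.hV v a ha

theorem quad' {g a : MulAut V} (ha : a ∈ conjSub g A) (v : V) : cm a v ∈ fixOf (conjSub g A) :=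
  (h.hA.conjSub g).quadratic h.hV v a ha

theorem sq_one {g a : MulAut V} (ha : a ∈ conjSub g A) : a * a = 1 := by
  refine MulEquiv.ext fun v => cm_eq_one.1 ?_
  rw [cm_mul, h.quad' ha v a ha, h.hsq]

theorem sq_one' {a : MulAut V} (ha : a ∈ A) : a * a = 1 :=
  h.sq_one (g := 1) (by rwa [conjSub_one])

theorem inter {g : MulAut V} (hg : g ∈ H) (hgM : g ∉ M) {v : V} (hv : v ∈ fixOf A)
    (hv' : v ∈ fixOf (conjSub g A)) : v ∈ fixOf H := by
  intro k hk
  rw [← h.gen g hg hgM] at hk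
  exact (sup_le hv hv' : A ⊔ conjSub g A ≤ stabElt v) hk

theorem inv_sum {g : MulAut V} (hg : g ∈ H) (hgM : g ∉ M) {k : MulAut V} (hk : k ∈ H) {v : V}
    (hv : v ∈ fixOf A ⊔ fixOf (conjSub g A)) : k v ∈ fixOf A ⊔ fixOf (conjSub g A) := by
  obtain ⟨R, hR⟩ : ∃ R, R = fixOf A ⊔ fixOf (conjSub g A) := ⟨_, rfl⟩
  rw [← hR] at hv ⊢
  let St : Subgroup (MulAut V) :=
    { carrier := {k | ∀ r ∈ R, k r ∈ R}
      one_mem' := fun r hr => hr
      mul_mem' := fun {a b} ha hb r hr => ha _ (hb r hr)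
      inv_mem' := fun {a} ha r hr => by
        have hm : R.map a.toMonoidHom = R := eq_of_le_of_card_ge
          (by rintro _ ⟨w, hw, rfl⟩; exact ha w hw) (card_map_of_injective a.injective).ge
        obtain ⟨w, hw, hwr⟩ := hm.ge hr
        rw [← hwr]
        show a⁻¹ (a w) ∈ R
        rwa [MulAut.inv_apply_self] }
  have hle : A ⊔ conjSub g A ≤ St := sup_le
    (fun a ha r hr => by
      rw [← cm_mul_self]
      exact R.mul_mem (hR ▸ mem_sup_left (h.quad ha r)) hr)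
    (fun a ha r hr => by
      rw [← cm_mul_self]
      exact R.mul_mem (hR ▸ mem_sup_right (h.quad' ha r)) hr)
  rw [h.gen g hg hgM] at hle
  exact hle hk v hv

theorem Y_le_sum {g g' : MulAut V} (hg : g ∈ H) (hgM : g ∉ M) (hg' : g' ∈ H) :
    fixOf (conjSub g' A) ≤ fixOf A ⊔ fixOf (conjSub g A) := by
  rw [fixOf_conjSub]
  rintro _ ⟨x, hx, rfl⟩
  exact h.inv_sum hg hgM hg' (mem_sup_left hx)

/-- A member of `A` outside `D` moves every point of `C(A^g)` modulo `C(H)`. -/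
theorem inj {g b : MulAut V} (hg : g ∈ H) (hgM : g ∉ M) (hb : b ∈ A) (hbD : b ∉ D) {y : V}
    (hy : y ∈ fixOf (conjSub g A)) (hby : cm b y ∈ fixOf H) : y ∈ fixOf H := by
  by_contra hyZ
  refine hbD (h.core b hb fun k hk => ?_)
  have key : ∀ g' ∈ H, g' ∉ M → g'⁻¹ * b * g' ∈ M := by
    intro g' hg' hg'M
    obtain ⟨x, hx, y', hy', hxy⟩ := mem_sup.1 (h.Y_le_sum hg' hg'M hg hy)
    have hy'Z : y' ∉ fixOf H := fun hm =>
      hyZ (h.inter hg hgM (hxy ▸ mul_mem hx (h.Z_le_X hm)) hy)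
    have hby' : cm b y' ∈ fixOf H := by
      rw [← hxy, map_mul, show cm b x = 1 from cm_eq_one.2 (hx b hb), one_mul] at hby
      exact hby
    let St : Subgroup (MulAut V) :=
      { carrier := {k | k ∈ H ∧ cm k y' ∈ fixOf H}
        one_mem' := ⟨H.one_mem, by
          rw [show cm (1 : MulAut V) y' = 1 from cm_eq_one.2 rfl]; exact one_mem _⟩
        mul_mem' := fun {a c} ha hc => ⟨H.mul_mem ha.1 hc.1, by
          rw [cm_mul, h.fix_Z ha.1 hc.2]; exact mul_mem hc.2 ha.2⟩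
        inv_mem' := fun {a} ha => ⟨H.inv_mem ha.1, by
          have e := cm_mul a⁻¹ a y'
          rw [inv_mul_cancel, h.fix_Z (H.inv_mem ha.1) ha.2,
            show cm (1 : MulAut V) y' = 1 from cm_eq_one.2 rfl] at e
          rw [eq_inv_of_mul_eq_one_right e.symm]
          exact inv_mem ha.2⟩ }
    have hStH : St ≤ H := fun _ hk => hk.1
    have hA'St : conjSub g' A ≤ St := fun a ha => ⟨h.conj_le hg' ha, by
      rw [cm_eq_one.2 (hy' a ha)]; exact one_mem _⟩
    have hne : St ≠ H := by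
      intro he
      refine hy'Z (h.inter hg' hg'M (fun a ha => ?_) hy')
      let χ : H →* V := MonoidHom.mk' (fun k => cm (k : MulAut V) y') fun k l => by
        show cm ((k : MulAut V) * (l : MulAut V)) y' = _
        rw [cm_mul, h.fix_Z k.2 (he.ge l.2).2, mul_comm]
      have hker : (⟨g' * a * g'⁻¹, h.conj_le hg' (conj_mem_conjSub ha)⟩ : H) ∈ χ.ker :=
        MonoidHom.mem_ker.2 (cm_eq_one.2 (hy' _ (conj_mem_conjSub ha)))
      have h2 := (inferInstance : χ.ker.Normal).conj_mem _ hker (⟨g', hg'⟩⁻¹ : H)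
      have h3 : (⟨g', hg'⟩⁻¹ : H) * ⟨g' * a * g'⁻¹, h.conj_le hg' (conj_mem_conjSub ha)⟩ *
          (⟨g', hg'⟩⁻¹ : H)⁻¹ = ⟨a, h.A_le ha⟩ := Subtype.ext (by simp [mul_assoc])
      rw [h3, MonoidHom.mem_ker] at h2
      exact cm_eq_one.1 h2
    have hK := h.hover (conjSub g'⁻¹ St)
      (by rintro _ ⟨k, hk, rfl⟩; exact H.mul_mem (H.mul_mem (H.inv_mem hg') hk.1)
            (H.inv_mem (H.inv_mem hg')))
      (fun he => hne (eq_of_le_of_card_ge hStH (by rw [← card_conjSub g'⁻¹ St, he])))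
      (fun a ha => by
        rw [mem_conjSub, inv_inv]
        exact hA'St (conj_mem_conjSub ha))
    have := hK (conj_mem_conjSub (g := g'⁻¹) (P := St) (⟨h.A_le hb, hby'⟩ : b ∈ St))
    rwa [inv_inv] at this
  by_cases hkM : k⁻¹ ∈ M
  · simpa using M.mul_mem (M.mul_mem (M.inv_mem hkM) (h.hAM hb)) hkM
  · simpa using key k⁻¹ (H.inv_mem hk) hkM

/-- The mirror image of `inj`. -/
theorem inj' {g b : MulAut V} (hg : g ∈ H) (hgM : g ∉ M) (hb : b ∈ conjSub g A) (hbD : b ∉ D)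
    {x : V} (hx : x ∈ fixOf A) (hbx : cm b x ∈ fixOf H) : x ∈ fixOf H := by
  obtain ⟨a, ha, rfl⟩ := hb
  have ha' : (MulAut.conj g).toMonoidHom a = g * a * g⁻¹ := rfl
  rw [ha'] at hbD hbx
  have h1 : g⁻¹ x ∈ fixOf (conjSub g⁻¹ A) := by
    rw [fixOf_conjSub]; exact ⟨x, hx, rfl⟩
  have h2 : cm a (g⁻¹ x) ∈ fixOf H := by
    rw [cm_conj, inv_inv, h.fix_Z (H.inv_mem hg) hbx]; exact hbx
  have h3 := h.inj (H.inv_mem hg) (fun hm => hgM (by simpa using M.inv_mem hm)) ha
    (fun hd => hbD (h.hDn g hg a hd)) h1 h2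
  have h4 := h.fix_Z hg h3
  rw [MulAut.apply_inv_self] at h4
  rwa [← h4] at h3

omit h in
/-- The subgroup generated by the conjugates of `A ∩ D`. -/
def nsub (H A D : Subgroup (MulAut V)) : Subgroup (MulAut V) :=
  closure {n | ∃ k ∈ H, ∃ a ∈ A ⊓ D, n = k * a * k⁻¹}

theorem nsub_le : nsub H A D ≤ D :=
  (closure_le _).2 fun _ ⟨k, hk, a, ha, e⟩ => e ▸ h.hDn k hk a ha.2

theorem nsub_le_H : nsub H A D ≤ H := h.nsub_le.trans (h.hDM.trans h.hMH)

theorem conj_le_nsub {k : MulAut V} (hk : k ∈ H) : conjSub k (A ⊓ D) ≤ nsub H A D := by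
  rintro _ ⟨a, ha, rfl⟩
  exact subset_closure ⟨k, hk, a, ha, rfl⟩

theorem nsub_conj {k n : MulAut V} (hk : k ∈ H) (hn : n ∈ nsub H A D) :
    k⁻¹ * n * k ∈ nsub H A D := by
  have hle : nsub H A D ≤ (nsub H A D).comap (MulAut.conj k⁻¹).toMonoidHom := by
    refine (closure_le _).2 ?_
    rintro _ ⟨l, hl, a, ha, rfl⟩
    exact subset_closure ⟨k⁻¹ * l, H.mul_mem (H.inv_mem hk) hl, a, ha, by
      show k⁻¹ * (l * a * l⁻¹) * k⁻¹⁻¹ = _
      group⟩
  simpa using hle hn

theorem nsub_U {n : MulAut V} (hn : n ∈ nsub H A D) : ∀ u ∈ U, cm n u ∈ fixOf H := by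
  let St : Subgroup (MulAut V) :=
    { carrier := {k | k ∈ H ∧ ∀ u ∈ U, cm k u ∈ fixOf H}
      one_mem' := ⟨H.one_mem, fun u _ => by
        rw [show cm (1 : MulAut V) u = 1 from cm_eq_one.2 rfl]; exact one_mem _⟩
      mul_mem' := fun {a c} ha hc => ⟨H.mul_mem ha.1 hc.1, fun u hu => by
        rw [cm_mul, h.fix_Z ha.1 (hc.2 u hu)]; exact mul_mem (hc.2 u hu) (ha.2 u hu)⟩
      inv_mem' := fun {a} ha => ⟨H.inv_mem ha.1, fun u hu => by
        have e := cm_mul a⁻¹ a u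
        rw [inv_mul_cancel, h.fix_Z (H.inv_mem ha.1) (ha.2 u hu),
          show cm (1 : MulAut V) u = 1 from cm_eq_one.2 rfl] at e
        rw [eq_inv_of_mul_eq_one_right e.symm]
        exact inv_mem (ha.2 u hu)⟩ }
  have hle : nsub H A D ≤ St := by
    refine (closure_le _).2 ?_
    rintro _ ⟨k, hk, a, ha, rfl⟩
    have hnD := h.hDn k hk a ha.2
    refine ⟨h.hMH (h.hDM hnD), fun u hu => ?_⟩
    by_cases hkM : k ∈ M
    · have hfix : (k * a * k⁻¹) u = u := by
        rw [MulAut.mul_apply, MulAut.mul_apply, h.hUA (h.hUM _ (M.inv_mem hkM) u hu) a ha.1,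
          MulAut.apply_inv_self]
      rw [cm_eq_one.2 hfix]
      exact one_mem _
    · exact h.inter hk hkM (mul_mem (h.hUA (h.hUM _ (h.hDM hnD) u hu)) (inv_mem (h.hUA hu)))
        (h.quad' (conj_mem_conjSub ha.1) u)
  exact (hle hn).2

omit h in
/-- The submodule generated by `U`, with the fixed points. -/
def modU (H : Subgroup (MulAut V)) (U : Subgroup V) : Subgroup V :=
  closure {v | v ∈ fixOf H ∨ ∃ k ∈ H, ∃ u ∈ U, v = k u}

theorem modU_inv {k : MulAut V} (hk : k ∈ H) {v : V} (hv : v ∈ modU H U) : k v ∈ modU H U := by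
  have hle : modU H U ≤ (modU H U).comap k.toMonoidHom := by
    refine (closure_le _).2 ?_
    rintro v (hv | ⟨l, hl, u, hu, rfl⟩)
    · exact subset_closure (Or.inl (by rw [MulEquiv.coe_toMonoidHom, h.fix_Z hk hv]; exact hv))
    · exact subset_closure (Or.inr ⟨k * l, H.mul_mem hk hl, u, hu, rfl⟩)
  exact hle hv

theorem modU_cm {k : MulAut V} (hk : k ∈ H) {v : V} (hv : v ∈ modU H U) : cm k v ∈ modU H U :=
  mul_mem (h.modU_inv hk hv) (inv_mem hv)

theorem nsub_mod {n : MulAut V} (hn : n ∈ nsub H A D) {v : V} (hv : v ∈ modU H U) :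
    cm n v ∈ fixOf H := by
  have hle : modU H U ≤ (fixOf H).comap (cm n) := by
    refine (closure_le _).2 ?_
    rintro v (hv | ⟨l, hl, u, hu, rfl⟩)
    · show cm n v ∈ fixOf H
      rw [cm_eq_one.2 (hv n (h.nsub_le_H hn))]; exact one_mem _
    · show cm n (l u) ∈ fixOf H
      have h1 := h.nsub_U (h.nsub_conj hl hn) u hu
      rw [cm_conj, h.fix_Z hl h1]; exact h1
  exact hle hv

theorem cm_cm {n k : MulAut V} (hn : n ∈ nsub H A D) (hk : k ∈ H) {v : V} (hv : v ∈ modU H U) :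
    cm n (cm k v) = cm (k⁻¹ * n * k * n⁻¹) v := by
  have hn' := h.nsub_conj hk hn
  have e1 : cm n⁻¹ v = (cm n v)⁻¹ := by
    have e := cm_mul n⁻¹ n v
    rw [inv_mul_cancel, h.fix_Z (H.inv_mem (h.nsub_le_H hn)) (h.nsub_mod hn hv),
      show cm (1 : MulAut V) v = 1 from cm_eq_one.2 rfl] at e
    exact eq_inv_of_mul_eq_one_right e.symm
  rw [cm_mul (k⁻¹ * n * k) n⁻¹,
    h.fix_Z (h.nsub_le_H hn') (h.nsub_mod ((nsub H A D).inv_mem hn) hv), e1,
    cm_apply k v, map_mul, map_inv, cm_conj, h.fix_Z hk (h.nsub_mod hn' hv), mul_comm]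

end Local

end CfsgLib.PLocal.NoOffender
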