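import Cfsg.Agent.Lib.PLocal.OffenderLocal

/-!
# The offender on a module of the maximal subgroup

The conjugates of `A ∩ D` give a right closed group of homomorphisms on the submodule generated by
`U`; a nontrivial invariant subgroup smaller than the bound would give a section `S₃`.
-/

set_option autoImplicit false
set_option linter.unusedSectionVars false

namespace CfsgLib.PLocal.NoOffender

open Subgroup CfsgLib.Fusion CfsgLib.Fusion.Offender CfsgLib.PLocal.RightClosed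

universe u

variable {V : Type u} [CommGroup V] [Finite V]

namespace Local

variable {H M A D : Subgroup (MulAut V)} {U : Subgroup V} (h : Local H M A D U)

include h

/-- The offender on `U`. -/
theorem exists_offender : ∃ B : Subgroup (MulAut V), B ≤ D ∧
    (∀ b ∈ B, ∀ b' ∈ B, ∀ u ∈ U, b (b' u) = b' (b u)) ∧ (∃ b ∈ B, ∃ u ∈ U, b u ≠ u) ∧
    Nat.card U * Nat.card ↥(B ⊓ kerOn U) ≤ Nat.card B * Nat.card ↥(U ⊓ fixOf B) := by
  obtain ⟨g, hg, hgM⟩ := h.out
  let X' : Subgroup V := modU H U ⊓ fixOf A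
  have hX'R : ∀ x : X', (x : V) ∈ modU H U := fun x => x.2.1
  let Z' : Subgroup X' := (fixOf H).subgroupOf X'
  let Xb := X' ⧸ Z'
  have hXb2 : ∀ x : Xb, x * x = 1 := fun x => by
    obtain ⟨x, rfl⟩ := QuotientGroup.mk_surjective x
    rw [← QuotientGroup.mk_mul, show x * x = 1 from Subtype.ext (h.hsq x), QuotientGroup.mk_one]
  let ψ : ∀ n : MulAut V, n ∈ H → (Xb →* V) := fun n hn =>
    QuotientGroup.lift Z' ((cm n).comp X'.subtype) fun z hz => cm_eq_one.2 (hz n hn)
  have hψ : ∀ n hn (x : X'), ψ n hn (QuotientGroup.mk x) = cm n x := fun _ _ _ => rfl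
  let Φ : ↥(nsub H A D) →* (Xb →* V) := MonoidHom.mk' (fun n => ψ n (h.nsub_le_H n.2))
    fun a b => MonoidHom.ext fun x => by
      obtain ⟨x, rfl⟩ := QuotientGroup.mk_surjective x
      show cm ((a : MulAut V) * (b : MulAut V)) x = cm (a : MulAut V) x * cm (b : MulAut V) x
      rw [cm_mul, h.fix_Z (h.nsub_le_H a.2) (h.nsub_mod b.2 (hX'R x)), mul_comm]
  have hΦ : ∀ (n : nsub H A D) (x : X'), Φ n (QuotientGroup.mk x) = cm (n : MulAut V) x :=
    fun _ _ => rfl
  -- the operators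
  obtain ⟨A', hA'⟩ : ∃ A', A' = conjSub g A := ⟨_, rfl⟩
  have hA'H : A' ≤ H := hA' ▸ h.conj_le hg
  let sig : MulAut V → MulAut V → (V →* V) := fun b b' => (cm b).comp (cm b')
  let Sig : Set (Xb →* Xb) := {t | ∃ b b', b ∈ A ∧ b ∉ D ∧ b' ∈ A' ∧ b' ∉ D ∧
    ∀ x : X', ∃ hx : sig b b' x ∈ X', t (QuotientGroup.mk x) = QuotientGroup.mk ⟨_, hx⟩}
  have hmem : ∀ b b', b ∈ A → b' ∈ A' → ∀ x : X', sig b b' x ∈ X' := fun b b' hb hb' x =>
    ⟨h.modU_cm (h.A_le hb) (h.modU_cm (hA'H hb') (hX'R x)), h.quad hb _⟩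
  have hSigEx : ∀ b b', b ∈ A → b ∉ D → b' ∈ A' → b' ∉ D →
      ∃ t ∈ Sig, ∀ x : X', ∃ hx : sig b b' x ∈ X',
        t (QuotientGroup.mk x) = QuotientGroup.mk ⟨_, hx⟩ := by
    intro b b' hb hbD hb' hb'D
    let f : X' →* X' := ((sig b b').comp X'.subtype).codRestrict X' (hmem b b' hb hb')
    have hf : Z' ≤ Z'.comap f := fun z hz => by
      show cm b (cm b' z) ∈ fixOf H
      rw [show cm b' (z : V) = 1 from cm_eq_one.2 (hz b' (hA'H hb')), map_one]; exact one_mem _
    refine ⟨QuotientGroup.map Z' Z' f hf, ⟨b, b', hb, hbD, hb', hb'D, fun x => ?_⟩, fun x => ?_⟩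
    · exact ⟨hmem b b' hb hb' x, rfl⟩
    · exact ⟨hmem b b' hb hb' x, rfl⟩
  have hSinj : ∀ t ∈ Sig, Function.Injective t := by
    rintro t ⟨b, b', hb, hbD, hb', hb'D, ht⟩
    rw [← MonoidHom.ker_eq_bot_iff, eq_bot_iff]
    intro y hy
    obtain ⟨x, rfl⟩ := QuotientGroup.mk_surjective y
    obtain ⟨hx, e⟩ := ht x
    rw [MonoidHom.mem_ker, e, QuotientGroup.eq_one_iff] at hy
    refine mem_bot.2 ((QuotientGroup.eq_one_iff _).2 ?_)
    exact h.inj' hg hgM (hA' ▸ hb') hb'D x.2.2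
      (h.inj hg hgM hb hbD (h.quad' (hA' ▸ hb') x) hy)
  have hS : ∀ t ∈ Sig, ∀ s ∈ Φ.range, s.comp t ∈ Φ.range := by
    rintro t ⟨b, b', hb, hbD, hb', hb'D, ht⟩ _ ⟨n, rfl⟩
    have h1 := h.nsub_conj (h.A_le hb) n.2
    have hn1 : b⁻¹ * n * b * (n : MulAut V)⁻¹ ∈ nsub H A D := mul_mem h1 (inv_mem n.2)
    have h2 := h.nsub_conj (hA'H hb') hn1
    refine ⟨⟨_, mul_mem h2 (inv_mem hn1)⟩, MonoidHom.ext fun y => ?_⟩
    obtain ⟨x, rfl⟩ := QuotientGroup.mk_surjective y
    obtain ⟨hx, e⟩ := ht x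
    rw [MonoidHom.comp_apply, e, hΦ, hΦ]
    show cm _ (x : V) = cm (n : MulAut V) (cm b (cm b' x))
    rw [h.cm_cm n.2 (h.A_le hb) (h.modU_cm (hA'H hb') (hX'R x)),
      h.cm_cm hn1 (hA'H hb') (hX'R x)]
  -- the index
  obtain ⟨m, hm⟩ : ∃ m, m = D.relIndex A := ⟨_, rfl⟩
  have hAm : Nat.card A = m * Nat.card ↥(A ⊓ D) := by
    have h1 := card_mul_index ((A ⊓ D).subgroupOf A)
    rw [Nat.card_congr (subgroupOfEquivOfLe (inf_le_left : A ⊓ D ≤ A)).toEquiv] at h1
    rw [hm, ← inf_relIndex_left, relIndex, mul_comm]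
    exact h1.symm
  -- the bound on the orders
  have hb : ∀ P : Subgroup Xb, Inv Sig P →
      Nat.card P ≤ m * Nat.card (Φ.range.map (restr P)) := by
    intro P _
    let A₀ := conjSub g (A ⊓ D)
    let Pt : Subgroup V := (P.comap (QuotientGroup.mk' Z')).map X'.subtype
    have hPtX : Pt ≤ fixOf A := fun v hv => by
      obtain ⟨x, -, rfl⟩ := hv
      exact x.2.2
    have hcardP : Nat.card Pt = Nat.card P * Nat.card Z' := by
      rw [card_map_of_injective X'.subtype_injective,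
        card_eq_inf_ker_mul_map (P.comap (QuotientGroup.mk' Z')) (QuotientGroup.mk' Z'),
        map_comap_eq_self_of_surjective (QuotientGroup.mk'_surjective _), QuotientGroup.ker_mk',
        inf_eq_right.2 fun z hz => by
          show QuotientGroup.mk z ∈ P
          rw [(QuotientGroup.eq_one_iff z).2 hz]; exact one_mem _, mul_comm]
    have hZ'card : Nat.card Z' = Nat.card (fixOf H) :=
      Nat.card_congr (subgroupOfEquivOfLe (show fixOf H ≤ X' from
        le_inf (fun z hz => subset_closure (Or.inl hz)) h.Z_le_X)).toEquiv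
    let B := A₀ ⊓ kerOn Pt
    have hA₀ : A₀ ≤ A' := hA' ▸ conjSub_mono inf_le_left
    have hBA : B ≤ A' := inf_le_left.trans hA₀
    have hmin' : IsMinOff A' := hA' ▸ h.hA.conjSub g
    have hBV : Nat.card B * Nat.card (fixOf B) ≤ Nat.card V := by
      by_cases hB1 : B = ⊥
      · rw [hB1, card_bot, one_mul]; exact card_le_card_group _
      by_contra hlt
      refine hmin'.2 B (lt_of_le_of_ne hBA fun he => h.hAD ?_)
        ⟨hmin'.1.1.to_le hBA, fun a ha b hb => hmin'.1.2.1 a (hBA ha) b (hBA hb), hB1, (not_le.1 hlt).le⟩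
      intro a ha
      have h1 : g * a * g⁻¹ ∈ A₀ := (he.ge (hA' ▸ conj_mem_conjSub ha)).1
      rw [mem_conjSub] at h1
      simpa [mul_assoc] using h1.2
    have hsup : Pt ⊔ fixOf A' ≤ fixOf B :=
      sup_le (fun v hv b hb => hb.2 v hv) (fixOf_anti hBA)
    have h1 : Nat.card Pt * Nat.card (fixOf A') ≤ Nat.card (fixOf B) * Nat.card (fixOf H) := by
      rw [← card_sup_mul_card_inf]
      exact Nat.mul_le_mul (card_le_of_le hsup)
        (card_le_of_le fun v hv => h.inter hg hgM (hPtX hv.1) (hA' ▸ hv.2))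
    rw [hcardP, hZ'card] at h1
    have h2 : Nat.card P * Nat.card (fixOf A') ≤ Nat.card (fixOf B) := by
      refine Nat.le_of_mul_le_mul_right ?_ (Nat.card_pos (α := fixOf H))
      rwa [mul_right_comm]
    have h3 : Nat.card V ≤ Nat.card A' * Nat.card (fixOf A') := hmin'.1.2.2.2
    have h4 : Nat.card P * Nat.card B ≤ Nat.card A' := by
      refine Nat.le_of_mul_le_mul_right ?_ (Nat.card_pos (α := fixOf A'))
      rw [mul_right_comm, mul_comm _ (Nat.card B)]
      exact (Nat.mul_le_mul_left _ h2).trans (hBV.trans h3)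
    have h5 : Nat.card A₀ ≤ Nat.card B * Nat.card (Φ.range.map (restr P)) := by
      have hA₀N : A₀ ≤ nsub H A D := h.conj_le_nsub hg
      rw [← Nat.card_congr (subgroupOfEquivOfLe hA₀N).toEquiv,
        card_eq_inf_ker_mul_map (A₀.subgroupOf (nsub H A D)) ((restr P).comp Φ)]
      refine Nat.mul_le_mul ?_ (card_le_of_le ?_)
      · rw [← card_map_of_injective (nsub H A D).subtype_injective]
        refine card_le_of_le ?_
        rintro _ ⟨n, ⟨hn1, hn2⟩, rfl⟩
        refine ⟨hn1, ?_⟩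
        rintro _ ⟨x, hx, rfl⟩
        exact cm_eq_one.1 (DFunLike.congr_fun (MonoidHom.mem_ker.1 hn2)
          ⟨QuotientGroup.mk x, hx⟩)
      · rw [← Subgroup.map_map]
        exact map_mono (map_le_range _ _)
    refine Nat.le_of_mul_le_mul_right ?_ (Nat.card_pos (α := B))
    calc Nat.card P * Nat.card B ≤ Nat.card A' := h4
      _ = m * Nat.card A₀ := by rw [hA', card_conjSub, card_conjSub, hAm]
      _ ≤ m * (Nat.card B * Nat.card (Φ.range.map (restr P))) := Nat.mul_le_mul_left _ h5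
      _ = _ := by ring
  -- nontrivial invariant subgroups are large
  have hs : ∀ P : Subgroup Xb, Inv Sig P → P ≠ ⊥ → m < Nat.card P := by
    intro P hP hP1
    obtain ⟨y₀, hy₀P, hy₀⟩ : ∃ y₀ ∈ P, y₀ ≠ 1 := by
      by_contra! hh
      exact hP1 ((eq_bot_iff_forall _).2 hh)
    obtain ⟨x, rfl⟩ := QuotientGroup.mk_surjective y₀
    have hxZ : (x : V) ∉ fixOf H := fun hz => hy₀ ((QuotientGroup.eq_one_iff x).2 hz)
    obtain ⟨a₀, ha₀, ha₀D⟩ := SetLike.not_le_iff_exists.1 h.hAD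
    let b' := g * a₀ * g⁻¹
    have hb' : b' ∈ A' := hA' ▸ conj_mem_conjSub ha₀
    have hb'D : b' ∉ D := fun hd => ha₀D (by
      have := h.hDn g⁻¹ (H.inv_mem hg) _ hd
      simpa [b', mul_assoc] using this)
    obtain ⟨y, hy⟩ : ∃ y, y = cm b' (x : V) := ⟨_, rfl⟩
    have hyR : y ∈ modU H U := hy ▸ h.modU_cm (hA'H hb') (hX'R x)
    have hyY : y ∈ fixOf (conjSub g A) := hy ▸ h.quad' (hA' ▸ hb') x
    have hyZ : y ∉ fixOf H := fun hz =>
      hxZ (h.inj' hg hgM (hA' ▸ hb') hb'D x.2.2 (hy ▸ hz))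
    have hmemA : ∀ a : A, cm (a : MulAut V) y ∈ X' :=
      fun a => ⟨h.modU_cm (h.A_le a.2) hyR, h.quad a.2 y⟩
    let χ : A →* Xb := MonoidHom.mk' (fun a => QuotientGroup.mk ⟨cm (a : MulAut V) y, hmemA a⟩)
      fun a c => by
        rw [← QuotientGroup.mk_mul]
        congr 1
        refine Subtype.ext ?_
        show cm ((a : MulAut V) * (c : MulAut V)) y = cm (a : MulAut V) y * cm (c : MulAut V) y
        rw [cm_mul, h.quad c.2 y a a.2, mul_comm]
    have hχD : ∀ a : A, (a : MulAut V) ∈ D → χ a = 1 := fun a ha =>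
      (QuotientGroup.eq_one_iff _).2 (h.nsub_mod
        (subset_closure ⟨1, H.one_mem, a, ⟨a.2, ha⟩, by rw [one_mul, inv_one, mul_one]⟩) hyR)
    have hχP : χ.range ≤ P := by
      rintro _ ⟨a, rfl⟩
      by_cases ha : (a : MulAut V) ∈ D
      · rw [hχD a ha]; exact one_mem _
      obtain ⟨t, ht, htx⟩ := hSigEx a b' a.2 ha hb' hb'D
      obtain ⟨hx', e⟩ := htx x
      have hval : χ a = t (QuotientGroup.mk x) := by
        rw [e]
        show QuotientGroup.mk _ = QuotientGroup.mk _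
        congr 1
        refine Subtype.ext ?_
        show cm (a : MulAut V) y = cm (a : MulAut V) (cm b' (x : V))
        rw [← hy]
      exact hval ▸ hP t ht _ hy₀P
    have hker : χ.ker ≤ D.subgroupOf A := fun a ha => by
      by_contra haD
      exact hyZ (h.inj hg hgM a.2 haD hyY ((QuotientGroup.eq_one_iff (⟨_, hmemA a⟩ : X')).1 ha))
    have hle : m ≤ Nat.card χ.range := by
      rw [← index_ker χ, hm]
      exact Nat.le_of_dvd (Nat.pos_of_ne_zero index_ne_zero_of_finite) (index_dvd_of_le hker)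
    refine lt_of_le_of_ne (hle.trans (card_le_of_le hχP)) fun hmeq => ?_
    -- otherwise a section `S₃`
    obtain ⟨c, hc⟩ : (QuotientGroup.mk x : Xb) ∈ χ.range :=
      (eq_of_le_of_card_ge hχP (hmeq ▸ hle)).ge hy₀P
    have hcD : (c : MulAut V) ∉ D := fun hd => hy₀ (hc.symm.trans (hχD c hd))
    have hc' : (QuotientGroup.mk ⟨cm (c : MulAut V) y, hmemA c⟩ : Xb) = QuotientGroup.mk x := hc
    have hcx : cm (c : MulAut V) y / (x : V) ∈ fixOf H := by
      have h3 := (QuotientGroup.eq_iff_div_mem).1 hc'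
      exact h3
    obtain ⟨b, hb, hbeq⟩ : ∃ b ∈ A, b = (c : MulAut V) := ⟨c, c.2, rfl⟩
    rw [← hbeq] at hcx
    let π : V →* V ⧸ fixOf H := QuotientGroup.mk' (fixOf H)
    have hπ : ∀ v w : V, π v = π w ↔ v / w ∈ fixOf H := fun v w => QuotientGroup.eq_iff_div_mem
    have hπ2 : ∀ v : V, π v * π v = 1 := fun v => by rw [← map_mul, h.hsq, map_one]
    have hπk : ∀ k ∈ H, ∀ v w : V, π v = π w → π (k v) = π (k w) := by
      intro k hk v w he
      rw [hπ] at he ⊢
      rw [← map_div, h.fix_Z hk he]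
      exact he
    have hbH : b ∈ H := h.A_le hb
    have hb'H : b' ∈ H := hA'H hb'
    have hlH : b * b' ∈ H := H.mul_mem hbH hb'H
    have ebx : π (b x) = π x := by rw [x.2.2 b hb]
    have eby : π (b y) = π x * π y := by
      rw [← cm_mul_self b y, map_mul, (hπ _ _).2 hcx]
    have eb'x : π (b' x) = π y * π x := by rw [← cm_mul_self b' (x : V), map_mul, hy]
    have eb'y : π (b' y) = π y := by rw [hyY b' (hA' ▸ hb')]
    have elx : π ((b * b') x) = π y := by
      rw [MulAut.mul_apply, hπk b hbH _ (y * x) (by rw [eb'x, map_mul]), map_mul, map_mul,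
        eby, ebx, mul_comm (π x) (π y), mul_assoc, hπ2, mul_one]
    have ely : π ((b * b') y) = π x * π y := by
      rw [MulAut.mul_apply, hπk b hbH _ y eb'y, eby]
    have elxy : π ((b * b') ((x : V) * y)) = π x := by
      rw [map_mul, map_mul, elx, ely, mul_comm (π y), mul_assoc, hπ2, mul_one]
    let W : Subgroup V := fixOf H ⊔ closure {(x : V), y}
    have hW : ∀ k ∈ H, π (k x) ∈ W.map π → π (k y) ∈ W.map π → ∀ w ∈ W, k w ∈ W := by
      intro k hk h1 h2
      have hback : ∀ v, π v ∈ W.map π → v ∈ W := fun v ⟨w, hw, he⟩ => by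
        have := W.mul_mem (mem_sup_left ((hπ _ _).1 he.symm) : v / w ∈ W) hw
        rwa [div_mul_cancel] at this
      have hle : W ≤ W.comap k.toMonoidHom := sup_le
        (fun z hz => mem_sup_left (by
          rw [MulEquiv.coe_toMonoidHom, h.fix_Z hk hz]; exact hz))
        ((closure_le _).2 (by rintro s (rfl | rfl); exacts [hback _ h1, hback _ h2]))
      exact fun w hw => hle hw
    have htriv : ∀ k ∈ H, π (k x) = π x → π (k y) = π y → ∀ w ∈ W, k w * w⁻¹ ∈ fixOf H := by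
      intro k hk h1 h2
      have hle : W ≤ (π.comp k.toMonoidHom).eqLocus π := sup_le
        (fun z hz => congrArg π (h.fix_Z hk hz))
        ((closure_le _).2 (by rintro s (rfl | rfl) <;> assumption))
      exact fun w hw => by rw [← div_eq_mul_inv]; exact (hπ _ _).1 (hle hw)
    have hxW : (x : V) ∈ W := mem_sup_right (subset_closure (Or.inl rfl))
    have hyW : y ∈ W := mem_sup_right (subset_closure (Or.inr rfl))
    have hbb : b * b = 1 := h.sq_one' hb
    have hb'b' : b' * b' = 1 := h.sq_one (hA' ▸ hb')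
    have hfin := h.free W (fixOf H) b (b * b') hbH hlH le_sup_left
      (fun u _ => by rw [h.hsq]; exact one_mem _)
      (hW b hbH (ebx ▸ mem_map_of_mem π hxW) (eby ▸ by
        rw [← map_mul]; exact mem_map_of_mem π (W.mul_mem hxW hyW)))
      (hW _ hlH (elx ▸ mem_map_of_mem π hyW) (ely ▸ by
        rw [← map_mul]; exact mem_map_of_mem π (W.mul_mem hxW hyW)))
      (fun z hz => by rw [h.fix_Z hbH hz]; exact hz)
      (fun z hz => by rw [h.fix_Z hlH hz]; exact hz)
      (fun u _ => by rw [hbb, MulAut.one_apply, mul_inv_cancel]; exact one_mem _)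
      (htriv _ (H.pow_mem hlH 3)
        (by
          rw [pow_succ, pow_succ, pow_one, MulAut.mul_apply, MulAut.mul_apply,
            hπk _ hlH _ ((x : V) * y) ((hπk _ hlH _ y elx).trans (by rw [ely, map_mul])), elxy])
        (by
          rw [pow_succ, pow_succ, pow_one, MulAut.mul_apply, MulAut.mul_apply,
            hπk _ hlH _ (x : V) ((hπk _ hlH _ ((x : V) * y) (by rw [ely, map_mul])).trans elxy),
            elx]))
      (fun u _ => by
        rw [show b * (b * b') * b⁻¹ * (b * b') = 1 by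
          rw [show b⁻¹ = b from inv_eq_of_mul_eq_one_left hbb]
          calc b * (b * b') * b * (b * b') = b * b * b' * (b * b) * b' := by group
            _ = 1 := by rw [hbb, one_mul, mul_one, hb'b']]
        rw [MulAut.one_apply, mul_inv_cancel]; exact one_mem _)
      x hxW
    have he : π y = π x := by rw [← elx]; exact (hπ _ _).2 (by rw [div_eq_mul_inv]; exact hfin)
    have hxy : (x : V) / y ∈ fixOf H := (hπ _ _).1 he.symm
    refine hxZ (h.inter hg hgM x.2.2 ?_)
    have := mul_mem (h.Z_le_Y hg hxy) hyY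
    rwa [div_mul_cancel] at this
  -- the image of `U`
  have hUX : U ≤ X' := le_inf
    (fun u hu => subset_closure (Or.inr ⟨1, H.one_mem, u, hu, rfl⟩)) h.hUA
  obtain ⟨Ub, hUb⟩ : ∃ Ub : Subgroup Xb,
      Ub = (U.subgroupOf X').map (QuotientGroup.mk' Z') := ⟨_, rfl⟩
  have hUb1 : Ub ≠ ⊥ := fun he => h.hUZ fun u hu => by
    have h1 : (QuotientGroup.mk (⟨u, hUX hu⟩ : X') : Xb) ∈ Ub := hUb ▸ ⟨⟨u, hUX hu⟩, hu, rfl⟩
    rw [he, mem_bot, QuotientGroup.eq_one_iff] at h1
    exact h1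
  obtain ⟨E, hE, hE1, hcard⟩ :=
    RightClosed.exists_offender hXb2 h.hsq hSinj hS m hb hs hUb1
  let Ψ := (restr Ub).comp Φ
  let B := (E.comap Ψ).map (nsub H A D).subtype
  have hEr : (E.comap Ψ).map Ψ = E := map_comap_eq_self (hE.trans (by
    rintro _ ⟨_, ⟨n, rfl⟩, rfl⟩; exact ⟨n, rfl⟩))
  have hmk : ∀ u (hu : u ∈ U), (QuotientGroup.mk (⟨u, hUX hu⟩ : X') : Xb) ∈ Ub := fun u hu =>
    hUb ▸ ⟨⟨u, hUX hu⟩, hu, rfl⟩
  have hΨ : ∀ (n : nsub H A D) u (hu : u ∈ U), Ψ n ⟨_, hmk u hu⟩ = cm (n : MulAut V) u :=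
    fun _ _ _ => rfl
  refine ⟨B, (map_subtype_le _).trans h.nsub_le, ?_, ?_, ?_⟩
  · rintro _ ⟨b, -, rfl⟩ _ ⟨c, -, rfl⟩ u hu
    have h1 := h.nsub_mod b.2 (subset_closure (Or.inr ⟨1, H.one_mem, u, hu, rfl⟩))
    have h2 := h.nsub_mod c.2 (subset_closure (Or.inr ⟨1, H.one_mem, u, hu, rfl⟩))
    show (b : MulAut V) ((c : MulAut V) u) = (c : MulAut V) ((b : MulAut V) u)
    simp only [MulAut.one_apply] at h1 h2
    rw [← cm_mul_self (c : MulAut V) u, ← cm_mul_self (b : MulAut V) u, map_mul, map_mul,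
      h.fix_Z (h.nsub_le_H b.2) h2, h.fix_Z (h.nsub_le_H c.2) h1, ← cm_mul_self (b : MulAut V) u,
      ← cm_mul_self (c : MulAut V) u]
    exact mul_left_comm _ _ _
  · obtain ⟨e, he, he1⟩ : ∃ e ∈ E, e ≠ 1 := by
      by_contra! hh
      exact hE1 ((eq_bot_iff_forall _).2 hh)
    obtain ⟨n, hn, rfl⟩ := hEr.ge he
    by_contra! hh
    refine he1 (MonoidHom.ext fun y => ?_)
    obtain ⟨x, hx, hxy⟩ := hUb.le y.2
    rw [show y = ⟨_, hmk (x : V) hx⟩ from Subtype.ext hxy.symm]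
    exact (hΨ n (x : V) hx).trans (cm_eq_one.2 (hh _ ⟨n, hn, rfl⟩ _ hx))
  · let Kf : Subgroup Ub := ⨅ e ∈ E, MonoidHom.ker e
    let Uh := U.subgroupOf X'
    let r : Uh →* Ub := ((QuotientGroup.mk' Z').comp Uh.subtype).codRestrict Ub
      fun u => hUb ▸ ⟨u, u.2, rfl⟩
    have hr : Function.Surjective r := fun y => by
      obtain ⟨x, hx, hxy⟩ := hUb.le y.2
      exact ⟨⟨x, hx⟩, Subtype.ext hxy⟩
    have hcU : Nat.card U = Nat.card r.ker * Nat.card Ub := by
      rw [← Nat.card_congr (subgroupOfEquivOfLe hUX).toEquiv, ← card_mul_index r.ker, index_ker,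
        MonoidHom.range_eq_top.2 hr, card_top]
    have hpre : Nat.card (Kf.comap r) = Nat.card r.ker * Nat.card Kf := by
      rw [card_eq_inf_ker_mul_map (Kf.comap r) r, map_comap_eq_self_of_surjective hr,
        inf_eq_right.2 (MonoidHom.ker_le_comap r Kf)]
    have hfix : Nat.card (Kf.comap r) ≤ Nat.card ↥(U ⊓ fixOf B) := by
      refine Nat.card_le_card_of_injective
        (fun w => ⟨((w : Uh) : X'), (w : Uh).2, ?_⟩) fun a b e => ?_
      · rintro _ ⟨n, hn, rfl⟩
        have h1 : r (w : Uh) ∈ Kf := w.2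
        simp only [Kf, mem_iInf, MonoidHom.mem_ker] at h1
        exact cm_eq_one.1 (h1 (Ψ n) hn)
      · exact Subtype.ext (Subtype.ext (Subtype.ext (congrArg (fun w : ↥(U ⊓ fixOf B) => (w : V)) e)))
    have hB : Nat.card ↥(B ⊓ kerOn U) * Nat.card E ≤ Nat.card B := by
      rw [card_map_of_injective (nsub H A D).subtype_injective,
        card_eq_inf_ker_mul_map (E.comap Ψ) Ψ, hEr]
      refine Nat.mul_le_mul_right _ ?_
      rw [← card_map_of_injective (nsub H A D).subtype_injective]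
      refine card_le_of_le ?_
      rintro _ ⟨⟨n, hn, rfl⟩, hk⟩
      refine ⟨n, ⟨hn, MonoidHom.mem_ker.2 (MonoidHom.ext fun y => ?_)⟩, rfl⟩
      obtain ⟨x, hx, hxy⟩ := hUb.le y.2
      rw [show y = ⟨_, hmk (x : V) hx⟩ from Subtype.ext hxy.symm]
      exact (hΨ n (x : V) hx).trans (cm_eq_one.2 (hk x hx))
    calc Nat.card U * Nat.card ↥(B ⊓ kerOn U)
        ≤ Nat.card r.ker * (Nat.card E * Nat.card Kf) * Nat.card ↥(B ⊓ kerOn U) := by
          rw [hcU]; exact Nat.mul_le_mul_right _ (Nat.mul_le_mul_left _ hcard)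
      _ = (Nat.card ↥(B ⊓ kerOn U) * Nat.card E) * (Nat.card r.ker * Nat.card Kf) := by ring
      _ ≤ _ := Nat.mul_le_mul hB (hpre ▸ hfix)

end Local

end CfsgLib.PLocal.NoOffender
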