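import Mathlib

/-!
# Groups of order 320 with derived group of order 64

All groups `G` of order 320 with a normal subgroup `D` of order 64, special with centre of order 4,
on which an element of order 5 acts fixed-point-freely modulo the centre are isomorphic.
-/

set_option autoImplicit false

namespace CfsgLib.PLocal.Order320

open scoped commutatorElement

variable {G : Type*} [Group G]

/-- The configuration. -/
structure Frame (G : Type*) [Group G] where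
  /-- the Sylow 2-subgroup -/
  D : Subgroup G
  /-- its centre -/
  C : Subgroup G
  /-- the element of order 5 -/
  s : G
  hG : Nat.card G = 320
  hD : Nat.card D = 64
  hC : Nat.card C = 4
  normal : D.Normal
  le : C ≤ D
  le_comm : C ≤ ⁅D, D⁆
  central : ∀ c ∈ C, ∀ d ∈ D, c * d = d * c
  fixed : ∀ c ∈ C, s * c = c * s
  sq_one : ∀ c ∈ C, c * c = 1
  comm_mem : ∀ x ∈ D, ∀ y ∈ D, ⁅x, y⁆ ∈ C
  sq_mem : ∀ x ∈ D, x * x ∈ C
  s_pow : s ^ 5 = 1
  s_notMem : s ∉ D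
  fpf : ∀ x ∈ D, ⁅s, x⁆ ∈ C → x ∈ C

/-- The relations between the conjugates of a special element. -/
structure Rels (s x v₁ v₂ : G) : Prop where
  pow : s ^ 5 = 1
  v₁_sq : v₁ * v₁ = 1
  v₂_sq : v₂ * v₂ = 1
  sv₁ : s * v₁ = v₁ * s
  sv₂ : s * v₂ = v₂ * s
  xv₁ : x * v₁ = v₁ * x
  xv₂ : x * v₂ = v₂ * x
  vv : v₁ * v₂ = v₂ * v₁
  c1 : x * (s * x * s⁻¹) = v₁ * (s * x * s⁻¹ * x)
  c2 : x * (s ^ 2 * x * (s ^ 2)⁻¹) = v₂ * (s ^ 2 * x * (s ^ 2)⁻¹ * x)
  c3 : x * (s ^ 3 * x * (s ^ 3)⁻¹) = v₂ * (s ^ 3 * x * (s ^ 3)⁻¹ * x)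
  sq : x * x = v₁ * v₂
  prod : x * (s * x * s⁻¹) * (s ^ 2 * x * (s ^ 2)⁻¹) * (s ^ 3 * x * (s ^ 3)⁻¹) *
    (s ^ 4 * x * (s ^ 4)⁻¹) = 1

theorem Rels.prod_pair {H : Type*} [Group H] {s x v₁ v₂ : G} {s' x' v₁' v₂' : H}
    (h : Rels s x v₁ v₂) (h' : Rels s' x' v₁' v₂') :
    Rels (s, s') (x, x') (v₁, v₁') (v₂, v₂') where
  pow := Prod.ext h.pow h'.pow
  v₁_sq := Prod.ext h.v₁_sq h'.v₁_sq
  v₂_sq := Prod.ext h.v₂_sq h'.v₂_sq
  sv₁ := Prod.ext h.sv₁ h'.sv₁
  sv₂ := Prod.ext h.sv₂ h'.sv₂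
  xv₁ := Prod.ext h.xv₁ h'.xv₁
  xv₂ := Prod.ext h.xv₂ h'.xv₂
  vv := Prod.ext h.vv h'.vv
  c1 := Prod.ext h.c1 h'.c1
  c2 := Prod.ext h.c2 h'.c2
  c3 := Prod.ext h.c3 h'.c3
  sq := Prod.ext h.sq h'.sq
  prod := Prod.ext h.prod h'.prod

theorem card_closure_le_of_sq {G : Type*} [Group G] [Finite G] {S : Subgroup G} {a : G}
    (ha : ∀ u ∈ S, a * u * a⁻¹ ∈ S) (h2 : a * a ∈ S) :
    Nat.card (Subgroup.closure ((S : Set G) ∪ {a}) : Subgroup G) ≤ 2 * Nat.card S := by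
  classical
  have ha' : ∀ u ∈ S, a⁻¹ * u * a ∈ S := by
    intro u hu
    have h := ha _ (mul_mem (mul_mem (inv_mem h2) hu) h2)
    rwa [show a * ((a * a)⁻¹ * u * (a * a)) * a⁻¹ = a⁻¹ * u * a by group] at h
  obtain ⟨T, hT⟩ : ∃ T : Subgroup G, ∀ g, g ∈ T ↔ g ∈ S ∨ g * a⁻¹ ∈ S :=
    ⟨{ carrier := {g | g ∈ S ∨ g * a⁻¹ ∈ S}
       one_mem' := Or.inl (one_mem S)
       mul_mem' := fun {g h} hg hh => by
        rcases hg with hg | hg <;> rcases hh with hh | hh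
        · exact Or.inl (mul_mem hg hh)
        · exact Or.inr (by rw [mul_assoc]; exact mul_mem hg hh)
        · exact Or.inr (by
            rw [show g * h * a⁻¹ = g * a⁻¹ * (a * h * a⁻¹) by group]
            exact mul_mem hg (ha h hh))
        · exact Or.inl (by
            rw [show g * h = g * a⁻¹ * (a * (h * a⁻¹) * a⁻¹) * (a * a) by group]
            exact mul_mem (mul_mem hg (ha _ hh)) h2)
       inv_mem' := fun {g} hg => by
        rcases hg with hg | hg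
        · exact Or.inl (inv_mem hg)
        · exact Or.inr (by
            rw [show g⁻¹ * a⁻¹ = a⁻¹ * (g * a⁻¹)⁻¹ * a * (a * a)⁻¹ by group]
            exact mul_mem (ha' _ (inv_mem hg)) (inv_mem h2)) }, fun g => Iff.rfl⟩
  have hle : Subgroup.closure ((S : Set G) ∪ {a}) ≤ T := by
    rw [Subgroup.closure_le]
    rintro g (hg | hg)
    · exact (hT g).2 (Or.inl hg)
    · exact (hT g).2 (Or.inr (by rw [Set.mem_singleton_iff.1 hg, mul_inv_cancel]; exact one_mem S))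
  refine (Subgroup.card_le_of_le hle).trans ?_
  have : Nat.card (S × Fin 2) = 2 * Nat.card S := by rw [Nat.card_prod, Nat.card_fin, mul_comm]
  rw [← this]
  refine Nat.card_le_card_of_surjective (fun p => if p.2 = 0 then ⟨p.1, (hT _).2 (Or.inl p.1.2)⟩ else
    ⟨(p.1 : G) * a, (hT _).2 (Or.inr (by rw [mul_inv_cancel_right]; exact p.1.2))⟩) ?_
  rintro ⟨g, hg⟩
  rcases (hT g).1 hg with h | h
  · exact ⟨(⟨g, h⟩, 0), by simp⟩
  · exact ⟨(⟨g * a⁻¹, h⟩, 1), by simp⟩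

/-- The group generated by `s` and `x` has at most 320 elements. -/
theorem Rels.card_le [Finite G] {s x v₁ v₂ : G} (h : Rels s x v₁ v₂) :
    Nat.card (Subgroup.closure ({s, x} : Set G)) ≤ 320 := by
  classical
  obtain ⟨e, he⟩ : ∃ e : ℕ → G, e = fun i => s ^ i * x * (s ^ i)⁻¹ := ⟨_, rfl⟩
  have he0 : e 0 = x := by simp [he]
  have hshift : ∀ i, s * e i * s⁻¹ = e (i + 1) := fun i => by
    simp only [he, pow_succ', mul_inv_rev, mul_assoc]
  obtain ⟨W₀, hW₀⟩ : ∃ W₀ : Subgroup G, W₀ = Subgroup.closure ({v₁, v₂} : Set G) := ⟨_, rfl⟩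
  have hv : ∀ u ∈ W₀, (∀ i, e i * u = u * e i) ∧ s * u = u * s := by
    intro u hu
    have hs : s ∈ Subgroup.centralizer ({v₁, v₂} : Set G) := Subgroup.mem_centralizer_iff.2 fun w hw => by
      rcases hw with rfl | rfl
      exacts [h.sv₁.symm, h.sv₂.symm]
    have hx : x ∈ Subgroup.centralizer ({v₁, v₂} : Set G) := Subgroup.mem_centralizer_iff.2 fun w hw => by
      rcases hw with rfl | rfl
      exacts [h.xv₁.symm, h.xv₂.symm]
    rw [← Subgroup.centralizer_closure, ← hW₀] at hs hx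
    refine ⟨fun i => ?_, ((Subgroup.mem_centralizer_iff.1 hs) u hu).symm⟩
    refine ((Subgroup.mem_centralizer_iff.1 ?_) u hu).symm
    rw [he]
    exact mul_mem (mul_mem (pow_mem hs i) hx) (inv_mem (pow_mem hs i))
  have hc0 : Nat.card W₀ ≤ 4 := by
    have h1 : Nat.card (Subgroup.zpowers v₁) ≤ 2 := by
      rw [Nat.card_zpowers]
      exact Nat.le_of_dvd two_pos (orderOf_dvd_of_pow_eq_one (by rw [pow_two]; exact h.v₁_sq))
    have h2 := card_closure_le_of_sq (S := Subgroup.zpowers v₁) (a := v₂)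
      (fun u hu => by
        obtain ⟨i, rfl⟩ := Subgroup.mem_zpowers_iff.1 hu
        rw [((Commute.zpow_right (show Commute v₂ v₁ from h.vv.symm) i)).eq, mul_inv_cancel_right]
        exact hu)
      (by rw [h.v₂_sq]; exact one_mem _)
    refine le_trans ?_ (h2.trans (Nat.mul_le_mul_left 2 h1))
    refine Subgroup.card_le_of_le ?_
    rw [hW₀]
    refine Subgroup.closure_mono ?_
    rintro w (rfl | rfl)
    exacts [Or.inl (Subgroup.mem_zpowers _), Or.inr rfl]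
  have hm1 : v₁ ∈ W₀ := hW₀ ▸ Subgroup.subset_closure (Or.inl rfl)
  have hm2 : v₂ ∈ W₀ := hW₀ ▸ Subgroup.subset_closure (Or.inr rfl)
  have hsq : ∀ i, e i * e i ∈ W₀ := by
    intro i
    have hc := ((Commute.pow_left (show Commute s v₁ from h.sv₁) i).mul_right
      (Commute.pow_left (show Commute s v₂ from h.sv₂) i)).eq
    rw [he]
    dsimp only
    rw [show s ^ i * x * (s ^ i)⁻¹ * (s ^ i * x * (s ^ i)⁻¹) = s ^ i * (x * x) * (s ^ i)⁻¹ by group,
      h.sq, hc, mul_inv_cancel_right]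
    exact mul_mem hm1 hm2
  have hcm : ∀ i j, i < j → j ≤ 3 → ∃ u ∈ W₀, e i * e j = u * (e j * e i) := by
    intro i j hij hj
    obtain ⟨u, hu, e'⟩ : ∃ u ∈ W₀, x * e (j - i) = u * (e (j - i) * x) := by
      obtain ⟨d, hd, hd1, hd3⟩ : ∃ d, d = j - i ∧ 1 ≤ d ∧ d ≤ 3 := ⟨_, rfl, by omega, by omega⟩
      rw [← hd, he]
      interval_cases d
      · exact ⟨v₁, hm1, by simpa using h.c1⟩
      · exact ⟨v₂, hm2, h.c2⟩
      · exact ⟨v₂, hm2, h.c3⟩
    refine ⟨u, hu, ?_⟩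
    have hc : s ^ i * u = u * s ^ i := (Commute.pow_left (show Commute s u from (hv u hu).2) i).eq
    have hj' : e j = s ^ i * e (j - i) * (s ^ i)⁻¹ := by
      simp only [he]
      conv_lhs => rw [show j = i + (j - i) by omega, pow_add]
      group
    rw [hj', show e i = s ^ i * x * (s ^ i)⁻¹ by rw [he],
      show s ^ i * x * (s ^ i)⁻¹ * (s ^ i * e (j - i) * (s ^ i)⁻¹) =
        s ^ i * (x * e (j - i)) * (s ^ i)⁻¹ by group, e', ← mul_assoc (s ^ i), hc]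
    group
  obtain ⟨W, hW⟩ : ∃ W : ℕ → Subgroup G,
      W = fun n => Subgroup.closure ((W₀ : Set G) ∪ e '' Set.Iio n) := ⟨_, rfl⟩
  have hstep : ∀ n, n ≤ 4 → Nat.card (W n) ≤ 4 * 2 ^ n := by
    intro n
    induction n with
    | zero =>
      intro _
      rw [hW]
      dsimp only
      rw [show (e '' Set.Iio 0) = ∅ by simp, Set.union_empty, Subgroup.closure_eq]
      simpa using hc0
    | succ n ih =>
      intro hn
      have hsub : (W₀ : Set G) ⊆ W n := fun u hu => by rw [hW]; exact Subgroup.subset_closure (Or.inl hu)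
      have hnorm : ∀ u ∈ W n, e n * u * (e n)⁻¹ ∈ W n := by
        intro u hu
        have hle : W n ≤ (W n).comap (MulAut.conj (e n)).toMonoidHom := by
          conv_lhs => rw [hW]
          rw [Subgroup.closure_le]
          rintro z (hz | ⟨i, hi, rfl⟩)
          · show e n * z * (e n)⁻¹ ∈ W n
            rw [(hv z hz).1 n, mul_inv_cancel_right]
            exact hsub hz
          · show e n * e i * (e n)⁻¹ ∈ W n
            obtain ⟨u', hu', e'⟩ := hcm i n hi (by omega)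
            have h' : e n * e i = u'⁻¹ * (e i * e n) := by rw [e', inv_mul_cancel_left]
            rw [h', ← mul_assoc, mul_inv_cancel_right]
            refine mul_mem (hsub (inv_mem hu')) ?_
            rw [hW]
            exact Subgroup.subset_closure (Or.inr ⟨i, hi, rfl⟩)
        exact hle hu
      have h2 := card_closure_le_of_sq hnorm (hsub (hsq n))
      refine le_trans ?_ (h2.trans ?_)
      · refine Subgroup.card_le_of_le ?_
        conv_lhs => rw [hW]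
        rw [Subgroup.closure_le]
        rintro z (hz | ⟨i, hi, rfl⟩)
        · exact Subgroup.subset_closure (Or.inl (hsub hz))
        · rcases Nat.lt_succ_iff_lt_or_eq.1 hi with hi | rfl
          · refine Subgroup.subset_closure (Or.inl ?_)
            rw [hW]
            exact Subgroup.subset_closure (Or.inr ⟨i, hi, rfl⟩)
          · exact Subgroup.subset_closure (Or.inr rfl)
      · rw [pow_succ]
        have := ih (by omega)
        omega
  obtain ⟨V, hV⟩ : ∃ V : Subgroup G, V = W 4 := ⟨_, rfl⟩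
  have hmem : ∀ i, i < 4 → e i ∈ V := fun i hi => by
    rw [hV, hW]; exact Subgroup.subset_closure (Or.inr ⟨i, hi, rfl⟩)
  have he4 : e 4 ∈ V := by
    have e' := eq_inv_of_mul_eq_one_right h.prod
    rw [show e 4 = s ^ 4 * x * (s ^ 4)⁻¹ by rw [he], e']
    refine inv_mem (mul_mem (mul_mem (mul_mem ?_ ?_) ?_) ?_)
    · exact he0 ▸ hmem 0 (by norm_num)
    · have := hmem 1 (by norm_num); simpa [he] using this
    · have := hmem 2 (by norm_num); simpa [he] using this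
    · have := hmem 3 (by norm_num); simpa [he] using this
  have hVs : ∀ u ∈ V, s * u * s⁻¹ ∈ V := by
    intro u hu
    have hle : V ≤ V.comap (MulAut.conj s).toMonoidHom := by
      conv_lhs => rw [hV, hW]
      rw [Subgroup.closure_le]
      rintro z (hz | ⟨i, hi, rfl⟩)
      · show s * z * s⁻¹ ∈ V
        rw [(hv z hz).2, mul_inv_cancel_right, hV, hW]
        exact Subgroup.subset_closure (Or.inl hz)
      · show s * e i * s⁻¹ ∈ V
        rw [hshift]
        rcases (show i + 1 < 4 ∨ i + 1 = 4 by have hi' : i < 4 := hi; omega) with h' | h'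
        · exact hmem _ h'
        · rw [h']; exact he4
    exact hle hu
  have hVpow : ∀ (k : ℕ), ∀ u ∈ V, s ^ k * u * (s ^ k)⁻¹ ∈ V := by
    intro k
    induction k with
    | zero => intro u hu; simpa using hu
    | succ k ih =>
      intro u hu
      rw [pow_succ', mul_inv_rev, show s * s ^ k * u * ((s ^ k)⁻¹ * s⁻¹) = s * (s ^ k * u * (s ^ k)⁻¹) * s⁻¹
        by group]
      exact hVs _ (ih u hu)
  have hmul5 : ∀ i j, s ^ ((i + j) % 5) = s ^ i * s ^ j := fun i j => by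
    rw [← pow_eq_pow_mod _ h.pow, pow_add]
  obtain ⟨T, hT⟩ : ∃ T : Subgroup G, ∀ g, g ∈ T ↔ ∃ u ∈ V, ∃ k : Fin 5, g = u * s ^ (k : ℕ) :=
    ⟨{ carrier := {g | ∃ u ∈ V, ∃ k : Fin 5, g = u * s ^ (k : ℕ)}
       one_mem' := ⟨1, one_mem V, 0, by simp⟩
       mul_mem' := by
        rintro _ _ ⟨u, hu, i, rfl⟩ ⟨w, hw, j, rfl⟩
        refine ⟨u * (s ^ (i : ℕ) * w * (s ^ (i : ℕ))⁻¹), mul_mem hu (hVpow _ w hw),
          ⟨((i : ℕ) + j) % 5, Nat.mod_lt _ (by norm_num)⟩, ?_⟩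
        rw [hmul5]
        group
       inv_mem' := by
        rintro _ ⟨u, hu, i, rfl⟩
        obtain ⟨j, hj⟩ : ∃ j : Fin 5, s ^ (j : ℕ) * s ^ (i : ℕ) = 1 := by
          refine ⟨⟨(5 - (i : ℕ)) % 5, Nat.mod_lt _ (by norm_num)⟩, ?_⟩
          show s ^ ((5 - (i : ℕ)) % 5) * s ^ (i : ℕ) = 1
          rw [← pow_eq_pow_mod _ h.pow, ← pow_add, show 5 - (i : ℕ) + i = 5 by omega, h.pow]
        refine ⟨s ^ (j : ℕ) * u⁻¹ * (s ^ (j : ℕ))⁻¹, hVpow _ _ (inv_mem hu), j, ?_⟩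
        rw [inv_mul_cancel_right, mul_inv_rev, eq_inv_of_mul_eq_one_left hj] }, fun g => Iff.rfl⟩
  have hle : Subgroup.closure ({s, x} : Set G) ≤ T := by
    rw [Subgroup.closure_le]
    rintro g hg
    rcases hg with hg | hg
    · exact (hT g).2 ⟨1, one_mem V, 1, by simp [hg]⟩
    · exact (hT g).2 ⟨x, he0 ▸ hmem 0 (by norm_num), 0, by simp [Set.mem_singleton_iff.1 hg]⟩
  refine (Subgroup.card_le_of_le hle).trans ?_
  have hcard : Nat.card V ≤ 64 := by
    have := hstep 4 le_rfl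
    rw [hV]
    omega
  refine (Nat.card_le_card_of_surjective
    (fun p : V × Fin 5 => (⟨(p.1 : G) * s ^ (p.2 : ℕ), (hT _).2 ⟨_, p.1.2, p.2, rfl⟩⟩ : T)) ?_).trans ?_
  · rintro ⟨g, hg⟩
    obtain ⟨u, hu, k, rfl⟩ := (hT g).1 hg
    exact ⟨(⟨u, hu⟩, k), rfl⟩
  · rw [Nat.card_prod, Nat.card_fin]
    omega

/-- Transport of a frame along an isomorphism. -/
def Frame.map {H : Type*} [Group H] (F : Frame G) (e : G ≃* H) : Frame H where
  D := F.D.map e.toMonoidHom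
  C := F.C.map e.toMonoidHom
  s := e F.s
  hG := by rw [← Nat.card_congr e.toEquiv, F.hG]
  hD := by rw [Subgroup.card_map_of_injective (f := e.toMonoidHom) e.injective, F.hD]
  hC := by rw [Subgroup.card_map_of_injective (f := e.toMonoidHom) e.injective, F.hC]
  normal := F.normal.map e.toMonoidHom e.surjective
  le := Subgroup.map_mono F.le
  le_comm := by rw [← Subgroup.map_commutator]; exact Subgroup.map_mono F.le_comm
  central := by
    rintro _ ⟨c, hc, rfl⟩ _ ⟨d, hd, rfl⟩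
    rw [← map_mul, ← map_mul, F.central c hc d hd]
  fixed := by
    rintro _ ⟨c, hc, rfl⟩
    show e F.s * e c = e c * e F.s
    rw [← map_mul, ← map_mul, F.fixed c hc]
  sq_one := by
    rintro _ ⟨c, hc, rfl⟩
    rw [← map_mul, F.sq_one c hc, map_one]
  comm_mem := by
    rintro _ ⟨x, hx, rfl⟩ _ ⟨y, hy, rfl⟩
    rw [← map_commutatorElement]
    exact Subgroup.mem_map_of_mem _ (F.comm_mem x hx y hy)
  sq_mem := by
    rintro _ ⟨x, hx, rfl⟩
    rw [← map_mul]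
    exact Subgroup.mem_map_of_mem _ (F.sq_mem x hx)
  s_pow := by rw [← map_pow, F.s_pow, map_one]
  s_notMem := by
    rintro ⟨x, hx, h⟩
    exact F.s_notMem (e.injective h ▸ hx)
  fpf := by
    rintro _ ⟨x, hx, rfl⟩ h
    refine Subgroup.mem_map_of_mem _ (F.fpf x hx ((Subgroup.mem_map_iff_mem (f := e.toMonoidHom) e.injective).1 ?_))
    rw [map_commutatorElement]
    exact h

theorem Frame.s_order [Finite G] (F : Frame G) : orderOf F.s = 5 := by
  have : Fact (Nat.Prime 5) := ⟨by norm_num⟩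
  exact orderOf_eq_prime F.s_pow fun h => F.s_notMem (h ▸ one_mem _)

/-- An `s`-invariant subgroup between `C` and `D` is `C` or `D`. -/
theorem Frame.eq_top_of_invariant [Finite G] (F : Frame G) {W : Subgroup G} (hCW : F.C ≤ W)
    (hWD : W ≤ F.D) (hW : ∀ w ∈ W, F.s * w * F.s⁻¹ ∈ W) {w : G} (hw : w ∈ W) (hwC : w ∉ F.C) :
    W = F.D := by
  classical
  have : Fact (Nat.Prime 5) := ⟨by norm_num⟩
  obtain ⟨K, hK⟩ : ∃ K : Subgroup G, K = Subgroup.zpowers F.s := ⟨_, rfl⟩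
  have hKp : IsPGroup 5 K := IsPGroup.of_card (n := 1) (by rw [hK, Nat.card_zpowers, F.s_order, pow_one])
  have hKN : K ≤ Subgroup.normalizer (W : Set G) := by
    rw [hK, Subgroup.zpowers_le]
    refine Subgroup.mem_normalizer_iff.2 fun n => ⟨fun hn => hW n hn, fun hn => ?_⟩
    have h4 := hW _ (hW _ (hW _ (hW _ hn)))
    rwa [show F.s * (F.s * (F.s * (F.s * (F.s * n * F.s⁻¹) * F.s⁻¹) * F.s⁻¹) * F.s⁻¹) * F.s⁻¹ =
      F.s ^ 5 * n * (F.s ^ 5)⁻¹ by simp only [pow_succ, pow_zero, one_mul, mul_inv_rev, mul_assoc], F.s_pow, one_mul, inv_one, mul_one] at h4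
  let act : MulAction K W :=
    { smul := fun k w => ⟨k.1 * w.1 * k.1⁻¹, (Subgroup.mem_normalizer_iff.1 (hKN k.2) w.1).1 w.2⟩
      one_smul := fun w => Subtype.ext (show (1 : G) * w.1 * (1 : G)⁻¹ = w.1 by group)
      mul_smul := fun a b w => Subtype.ext
        (show (a.1 * b.1) * w.1 * (a.1 * b.1)⁻¹ = a.1 * (b.1 * w.1 * b.1⁻¹) * a.1⁻¹ by group) }
  have hfix : ∀ w : W, w ∈ MulAction.fixedPoints K W ↔ w.1 ∈ F.C := by
    intro w
    constructor
    · intro h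
      have e : F.s * w.1 * F.s⁻¹ = w.1 := congrArg Subtype.val (h ⟨F.s, hK ▸ Subgroup.mem_zpowers _⟩)
      refine F.fpf w.1 (hWD w.2) ?_
      rw [commutatorElement_def, e, mul_inv_cancel]
      exact one_mem _
    · intro h k
      refine Subtype.ext ?_
      show k.1 * w.1 * k.1⁻¹ = w.1
      have hk : k.1 ∈ Subgroup.centralizer ({w.1} : Set G) := by
        have hk' : k.1 ∈ Subgroup.zpowers F.s := hK.le k.2
        refine (Subgroup.zpowers_le.2 ?_) hk'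
        rw [Subgroup.mem_centralizer_singleton_iff]
        exact F.fixed _ h
      rw [Subgroup.mem_centralizer_singleton_iff] at hk
      rw [hk, mul_inv_cancel_right]
  have hmod := hKp.card_modEq_card_fixedPoints (p := 5) W
  rw [Nat.card_congr (Equiv.subtypeEquivRight hfix),
    show Nat.card {w : W // w.1 ∈ F.C} = Nat.card F.C from Nat.card_congr
      { toFun := fun w => ⟨w.1.1, w.2⟩
        invFun := fun c => ⟨⟨c.1, hCW c.2⟩, c.2⟩
        left_inv := fun w => rfl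
        right_inv := fun c => rfl }, F.hC] at hmod
  have hdvd : Nat.card W ∣ 2 ^ 6 := by
    have := Subgroup.card_dvd_of_le hWD
    rwa [F.hD] at this
  obtain ⟨k, hk, hk'⟩ := (Nat.dvd_prime_pow Nat.prime_two).1 hdvd
  refine Subgroup.eq_of_le_of_card_ge hWD ?_
  rw [F.hD, hk']
  have h4 : 4 < Nat.card W := by
    refine lt_of_le_of_ne (F.hC ▸ Subgroup.card_le_of_le hCW) fun h => hwC ?_
    rw [Subgroup.eq_of_le_of_card_ge hCW (by rw [F.hC, ← h])]
    exact hw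
  rw [hk'] at hmod h4
  rw [Nat.ModEq] at hmod
  interval_cases k <;> simp_all

/-- Existence of the special generators. -/
theorem Frame.exists_rels [Finite G] (F : Frame G) :
    ∃ x v₁ v₂, Rels F.s x v₁ v₂ ∧ Subgroup.closure ({F.s, x} : Set G) = ⊤ := by
  classical
  obtain ⟨x₀, hx₀D, hx₀C⟩ : ∃ x ∈ F.D, x ∉ F.C := by
    by_contra h
    push Not at h
    have := Subgroup.card_le_of_le (show F.D ≤ F.C from h)
    rw [F.hD, F.hC] at this
    omega
  have hs : ∀ d ∈ F.D, ∀ i : ℕ, F.s ^ i * d * (F.s ^ i)⁻¹ ∈ F.D :=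
    fun d hd i => F.normal.conj_mem d hd _
  obtain ⟨P, hP⟩ : ∃ P : G → G, P = fun x => x * (F.s * x * F.s⁻¹) * (F.s ^ 2 * x * (F.s ^ 2)⁻¹) *
      (F.s ^ 3 * x * (F.s ^ 3)⁻¹) * (F.s ^ 4 * x * (F.s ^ 4)⁻¹) := ⟨_, rfl⟩
  have hsD : ∀ d ∈ F.D, F.s * d * F.s⁻¹ ∈ F.D := fun d hd => F.normal.conj_mem d hd _
  have hPC : P x₀ ∈ F.C := by
    have hPD : P x₀ ∈ F.D := by
      rw [hP]
      exact mul_mem (mul_mem (mul_mem (mul_mem hx₀D (hsD _ hx₀D)) (hs _ hx₀D 2)) (hs _ hx₀D 3)) (hs _ hx₀D 4)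
    refine F.fpf _ hPD ?_
    have e : F.s * P x₀ * F.s⁻¹ = (x₀⁻¹ * P x₀) * x₀ := by
      rw [hP]
      dsimp only
      have h5 : F.s ^ 5 * x₀ * (F.s ^ 5)⁻¹ = x₀ := by rw [F.s_pow]; group
      calc _ = (F.s * x₀ * F.s⁻¹) * (F.s ^ 2 * x₀ * (F.s ^ 2)⁻¹) * (F.s ^ 3 * x₀ * (F.s ^ 3)⁻¹) *
            (F.s ^ 4 * x₀ * (F.s ^ 4)⁻¹) * (F.s ^ 5 * x₀ * (F.s ^ 5)⁻¹) := by group
        _ = _ := by rw [h5]; group
    rw [commutatorElement_def, e]
    have := F.comm_mem x₀⁻¹ (inv_mem hx₀D) _ hPD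
    rwa [commutatorElement_def, inv_inv] at this
  obtain ⟨x, hx⟩ : ∃ x, x = x₀ * P x₀ := ⟨_, rfl⟩
  have hxD : x ∈ F.D := hx ▸ mul_mem hx₀D (F.le hPC)
  have hxC : x ∉ F.C := hx ▸ fun h => hx₀C (((Subgroup.mul_mem_cancel_right _ hPC)).1 h)
  have hp2 := F.sq_one _ hPC
  have hPx : P x = 1 := by
    have hi : ∀ i : ℕ, F.s ^ i * x * (F.s ^ i)⁻¹ = F.s ^ i * x₀ * (F.s ^ i)⁻¹ * P x₀ := by
      intro i
      have hc := (Commute.pow_left (show Commute F.s (P x₀) from F.fixed _ hPC) i).inv_left.eq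
      rw [hx, mul_assoc (F.s ^ i * x₀), hc, mul_assoc (F.s ^ i) (x₀ * P x₀), mul_assoc x₀, ← hc]
      simp only [mul_assoc]
    have h1 : F.s * x * F.s⁻¹ = F.s * x₀ * F.s⁻¹ * P x₀ := by simpa using hi 1
    have hpair : ∀ y z : G, z ∈ F.D → y * P x₀ * (z * P x₀) = y * z := fun y z hz => by
      rw [← F.central _ hPC z hz, ← mul_assoc (y * P x₀), mul_assoc y, hp2, mul_one]
    have e : P x = x * (F.s * x * F.s⁻¹) * ((F.s ^ 2 * x * (F.s ^ 2)⁻¹) *
        (F.s ^ 3 * x * (F.s ^ 3)⁻¹)) * (F.s ^ 4 * x * (F.s ^ 4)⁻¹) := by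
      rw [hP]; simp only [mul_assoc]
    rw [e, h1, hi 2, hi 3, hi 4, hx, hpair _ _ (hsD _ hx₀D), hpair _ _ (hs _ hx₀D 3)]
    have e0 : P x₀ = x₀ * (F.s * x₀ * F.s⁻¹) * ((F.s ^ 2 * x₀ * (F.s ^ 2)⁻¹) *
        (F.s ^ 3 * x₀ * (F.s ^ 3)⁻¹)) * (F.s ^ 4 * x₀ * (F.s ^ 4)⁻¹) := by
      rw [hP]; simp only [mul_assoc]
    rw [← mul_assoc, ← e0, hp2]
  obtain ⟨e, he⟩ : ∃ e : ℕ → G, e = fun i => F.s ^ i * x * (F.s ^ i)⁻¹ := ⟨_, rfl⟩
  have hei : ∀ i, F.s ^ i * x * (F.s ^ i)⁻¹ = e i := fun i => by rw [he]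
  have heD : ∀ i, e i ∈ F.D := fun i => hei i ▸ hs x hxD i
  have he0 : e 0 = x := by simp [he]
  have he5 : e 5 = x := by simp [he, F.s_pow]
  have he1 : F.s * x * F.s⁻¹ = e 1 := by simp [he]
  have hcs : ∀ (j : ℕ) (c : G), c ∈ F.C → F.s ^ j * c * (F.s ^ j)⁻¹ = c := fun j c hc => by
    rw [(Commute.pow_left (show Commute F.s c from F.fixed c hc) j).eq, mul_inv_cancel_right]
  have hshift : ∀ i j k : ℕ, ⁅e (i + k), e (j + k)⁆ = ⁅e i, e j⁆ := by
    intro i j k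
    refine Eq.trans ?_ (hcs k _ (F.comm_mem _ (heD i) _ (heD j)))
    simp only [he, commutatorElement_def, Nat.add_comm i k, Nat.add_comm j k, pow_add]
    group
  have hinvC : ∀ c ∈ F.C, c⁻¹ = c := fun c hc => inv_eq_of_mul_eq_one_right (F.sq_one c hc)
  have hsymm : ∀ a ∈ F.D, ∀ b ∈ F.D, ⁅a, b⁆ = ⁅b, a⁆ := fun a ha b hb => by
    rw [← hinvC _ (F.comm_mem b hb a ha), commutatorElement_inv]
  have hbl : ∀ a ∈ F.D, ∀ b ∈ F.D, ∀ c ∈ F.D, ⁅a * b, c⁆ = ⁅a, c⁆ * ⁅b, c⁆ := by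
    intro a ha b hb c hc
    have h1 := F.central _ (F.comm_mem b hb c hc) a ha
    calc ⁅a * b, c⁆ = a * ⁅b, c⁆ * a⁻¹ * ⁅a, c⁆ := by simp only [commutatorElement_def]; group
      _ = ⁅b, c⁆ * ⁅a, c⁆ := by rw [← h1, mul_inv_cancel_right]
      _ = _ := F.central _ (F.comm_mem b hb c hc) _ (F.le (F.comm_mem a ha c hc))
  have hbr : ∀ a ∈ F.D, ∀ b ∈ F.D, ∀ c ∈ F.D, ⁅c, a * b⁆ = ⁅c, a⁆ * ⁅c, b⁆ := by
    intro a ha b hb c hc
    rw [hsymm c hc _ (mul_mem ha hb), hbl a ha b hb c hc, hsymm a ha c hc, hsymm b hb c hc]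
  have hsquare : ∀ a ∈ F.D, ∀ b ∈ F.D, a * b * (a * b) = ⁅b, a⁆ * (a * a * (b * b)) := by
    intro a ha b hb
    rw [← mul_assoc ⁅b, a⁆, ← mul_assoc ⁅b, a⁆ a a, F.central _ (F.comm_mem b hb a ha) a ha]
    simp only [commutatorElement_def]
    group
  obtain ⟨v₁, hv₁⟩ : ∃ v, v = ⁅x, e 1⁆ := ⟨_, rfl⟩
  obtain ⟨v₂, hv₂⟩ : ∃ v, v = ⁅x, e 2⁆ := ⟨_, rfl⟩
  have hv₁C : v₁ ∈ F.C := hv₁ ▸ F.comm_mem _ hxD _ (heD 1)
  have hv₂C : v₂ ∈ F.C := hv₂ ▸ F.comm_mem _ hxD _ (heD 2)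
  have hx3 : ⁅x, e 3⁆ = v₂ := by
    rw [hsymm _ hxD _ (heD 3), hv₂]
    have := hshift 0 2 3
    rwa [zero_add, show 2 + 3 = 5 from rfl, he5, he0] at this
  have hsq : x * x = v₁ * v₂ := by
    have hu := F.sq_mem x hxD
    have hei2 : ∀ i, e i * e i = x * x := fun i => by
      rw [← hcs i _ hu, ← hei i]; group
    have hQ : x * e 1 * (e 2 * e 3) * (x * e 1 * (e 2 * e 3)) = x * x := by
      have h4 : e 4 = (x * e 1 * (e 2 * e 3))⁻¹ := by
        refine eq_inv_of_mul_eq_one_right ?_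
        rw [← hPx, hP, ← he1, ← hei 2, ← hei 3, ← hei 4]
        simp only [mul_assoc]
      have h := congrArg (·⁻¹) (hei2 4)
      rw [hinvC _ hu, mul_inv_rev, h4, inv_inv] at h
      exact h
    have e10 : ⁅e 1, x⁆ = v₁ := by rw [hv₁, hsymm _ hxD _ (heD 1)]
    have e20 : ⁅e 2, x⁆ = v₂ := by rw [hv₂, hsymm _ hxD _ (heD 2)]
    have e30 : ⁅e 3, x⁆ = v₂ := by rw [hsymm _ (heD 3) _ hxD, hx3]
    have e21 : ⁅e 2, e 1⁆ = v₁ := by rw [← e10, ← he0]; exact hshift 1 0 1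
    have e32 : ⁅e 3, e 2⁆ = v₁ := by rw [← e10, ← he0]; exact hshift 1 0 2
    have e31 : ⁅e 3, e 1⁆ = v₂ := by rw [← e20, ← he0]; exact hshift 2 0 1
    rw [hsquare _ (mul_mem hxD (heD 1)) _ (mul_mem (heD 2) (heD 3)), hsquare _ hxD _ (heD 1),
      hsquare _ (heD 2) _ (heD 3), hei2 1, hei2 2, hei2 3, F.sq_one _ hu, mul_one, mul_one, e10, e32,
      F.sq_one _ hv₁C, mul_one, hbr x hxD _ (heD 1) _ (mul_mem (heD 2) (heD 3)),
      hbl _ (heD 2) _ (heD 3) x hxD, hbl _ (heD 2) _ (heD 3) _ (heD 1), e20, e30, e21, e31,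
      F.sq_one _ hv₂C, one_mul] at hQ
    exact hQ.symm
  have hrel : ∀ y : G, x * y = ⁅x, y⁆ * (y * x) := fun y => by rw [commutatorElement_def]; group
  refine ⟨x, v₁, v₂, ⟨F.s_pow, F.sq_one _ hv₁C, F.sq_one _ hv₂C, F.fixed _ hv₁C, F.fixed _ hv₂C,
    (F.central _ hv₁C _ hxD).symm, (F.central _ hv₂C _ hxD).symm, F.central _ hv₁C _ (F.le hv₂C),
    by rw [he1, hv₁]; exact hrel _, by rw [hei 2, hv₂]; exact hrel _,
    by rw [hei 3, ← hx3]; exact hrel _, hsq, by rw [hP] at hPx; exact hPx⟩, ?_⟩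
  obtain ⟨H, hH⟩ : ∃ H : Subgroup G, H = Subgroup.closure {F.s, x} := ⟨_, rfl⟩
  rw [← hH]
  have hsH : F.s ∈ H := hH ▸ Subgroup.subset_closure (Or.inl rfl)
  have hxH : x ∈ H := hH ▸ Subgroup.subset_closure (Or.inr rfl)
  have hAC : H ⊓ F.D ≤ Subgroup.normalizer (F.C : Set G) := fun a ha =>
    Subgroup.centralizer_le_normalizer _ (Subgroup.mem_centralizer_iff.2 fun c hc => F.central c hc a ha.2)
  have hsets := Subgroup.coe_mul_of_left_le_normalizer_right (H ⊓ F.D) F.C hAC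
  have hAD : H ⊓ F.D ⊔ F.C = F.D := by
    refine F.eq_top_of_invariant le_sup_right (sup_le inf_le_right F.le) ?_
      (Subgroup.mem_sup_left (Subgroup.mem_inf.2 ⟨hxH, hxD⟩)) hxC
    intro w hw
    rw [← SetLike.mem_coe, hsets] at hw
    obtain ⟨a, ha, c, hc, rfl⟩ := hw
    rw [show F.s * (a * c) * F.s⁻¹ = F.s * a * F.s⁻¹ * (F.s * c * F.s⁻¹) by group, F.fixed c hc,
      mul_inv_cancel_right]
    exact Subgroup.mul_mem _ (Subgroup.mem_sup_left (Subgroup.mem_inf.2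
      ⟨mul_mem (mul_mem hsH ha.1) (inv_mem hsH), hsD a ha.2⟩)) (Subgroup.mem_sup_right hc)
  have hCH : F.C ≤ H := by
    refine F.le_comm.trans (Subgroup.commutator_le.2 fun d hd d' hd' => ?_)
    rw [← hAD, ← SetLike.mem_coe, hsets] at hd hd'
    obtain ⟨a, ha, c, hc, rfl⟩ := hd
    obtain ⟨a', ha', c', hc', rfl⟩ := hd'
    have h1 : ⁅a * c, a' * c'⁆ = ⁅a, a'⁆ := by
      rw [hbl a ha.2 c (F.le hc) _ (mul_mem ha'.2 (F.le hc')), hbr a' ha'.2 c' (F.le hc') a ha.2,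
        commutatorElement_eq_one_iff_mul_comm.2 (F.central c hc _ (mul_mem ha'.2 (F.le hc'))),
        commutatorElement_eq_one_iff_mul_comm.2 (F.central c' hc' _ ha.2).symm, mul_one, mul_one]
    rw [h1, commutatorElement_def]
    exact mul_mem (mul_mem (mul_mem ha.1 ha'.1) (inv_mem ha.1)) (inv_mem ha'.1)
  have hDH : F.D ≤ H := hAD ▸ sup_le inf_le_left hCH
  refine Subgroup.eq_top_of_card_eq _ ?_
  rw [F.hG]
  have h1 : Nat.card H ∣ 320 := F.hG ▸ Subgroup.card_subgroup_dvd_card H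
  have h2 : 64 ∣ Nat.card H := F.hD ▸ Subgroup.card_dvd_of_le hDH
  have h3 : 5 ∣ Nat.card H := by
    have h := Subgroup.card_dvd_of_le (Subgroup.zpowers_le.2 hsH)
    rwa [Nat.card_zpowers, F.s_order] at h
  exact Nat.dvd_antisymm h1 (Nat.Coprime.mul_dvd_of_dvd_of_dvd (by norm_num : Nat.Coprime 64 5) h2 h3)

/-- Any two configurations give isomorphic groups. -/
theorem Frame.iso {H : Type*} [Group H] (F : Frame G) (F' : Frame H) : Nonempty (G ≃* H) := by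
  have : Finite G := Nat.finite_of_card_ne_zero (by rw [F.hG]; norm_num)
  have : Finite H := Nat.finite_of_card_ne_zero (by rw [F'.hG]; norm_num)
  obtain ⟨x, v₁, v₂, hr, hgen⟩ := F.exists_rels
  obtain ⟨x', v₁', v₂', hr', hgen'⟩ := F'.exists_rels
  have hcard := (hr.prod_pair hr').card_le
  obtain ⟨K, hK⟩ : ∃ K : Subgroup (G × H), K = Subgroup.closure {(F.s, F'.s), (x, x')} := ⟨_, rfl⟩
  rw [← hK] at hcard
  have hb1 : Function.Bijective ((MonoidHom.fst G H).comp K.subtype) := by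
    have hsurj : Function.Surjective ((MonoidHom.fst G H).comp K.subtype) := by
      rw [← MonoidHom.range_eq_top, MonoidHom.range_comp, Subgroup.range_subtype, hK, MonoidHom.map_closure,
        Set.image_pair]
      exact hgen
    exact hsurj.bijective_of_nat_card_le (by rw [F.hG]; exact hcard)
  have hb2 : Function.Bijective ((MonoidHom.snd G H).comp K.subtype) := by
    have hsurj : Function.Surjective ((MonoidHom.snd G H).comp K.subtype) := by
      rw [← MonoidHom.range_eq_top, MonoidHom.range_comp, Subgroup.range_subtype, hK, MonoidHom.map_closure,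
        Set.image_pair]
      exact hgen'
    exact hsurj.bijective_of_nat_card_le (by rw [F'.hG]; exact hcard)
  exact ⟨(MulEquiv.ofBijective _ hb1).symm.trans (MulEquiv.ofBijective _ hb2)⟩

end CfsgLib.PLocal.Order320
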