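import Cfsg.Agent.Lib.PLocal.Order320

/-!
# A group of order 320 with derived group of order 64 and centre four gives a frame
-/

set_option autoImplicit false

namespace CfsgLib.PLocal.Order320

open scoped commutatorElement

variable {G : Type*} [Group G] [Finite G]

/-- The conjugation by an element of order 5 on an invariant set: counting fixed points. -/
theorem card_modEq_fixed {H : Type*} [Group H] [Finite H] {s : H} (hs : s ^ 5 = 1) (W : Subgroup H)
    (hW : ∀ w ∈ W, s * w * s⁻¹ ∈ W) :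
    Nat.card W ≡ Nat.card {w : W // s * w.1 = w.1 * s} [MOD 5] := by
  classical
  have : Fact (Nat.Prime 5) := ⟨by norm_num⟩
  have hKp : IsPGroup 5 (Subgroup.zpowers s) := by
    obtain ⟨k, -, hk⟩ := (Nat.dvd_prime_pow (Nat.prime_five)).1
      (show orderOf s ∣ 5 ^ 1 by rw [pow_one]; exact orderOf_dvd_of_pow_eq_one hs)
    exact IsPGroup.of_card (n := k) (by rw [Nat.card_zpowers, hk])
  have hKN : Subgroup.zpowers s ≤ Subgroup.normalizer (W : Set H) := by
    rw [Subgroup.zpowers_le]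
    refine Subgroup.mem_normalizer_iff.2 fun n => ⟨fun hn => hW n hn, fun hn => ?_⟩
    have h4 := hW _ (hW _ (hW _ (hW _ hn)))
    rwa [show s * (s * (s * (s * (s * n * s⁻¹) * s⁻¹) * s⁻¹) * s⁻¹) * s⁻¹ =
      s ^ 5 * n * (s ^ 5)⁻¹ by simp only [pow_succ, pow_zero, one_mul, mul_inv_rev, mul_assoc],
      hs, one_mul, inv_one, mul_one] at h4
  let act : MulAction (Subgroup.zpowers s) W :=
    { smul := fun k w => ⟨k.1 * w.1 * k.1⁻¹, (Subgroup.mem_normalizer_iff.1 (hKN k.2) w.1).1 w.2⟩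
      one_smul := fun w => Subtype.ext (show (1 : H) * w.1 * (1 : H)⁻¹ = w.1 by group)
      mul_smul := fun a b w => Subtype.ext
        (show (a.1 * b.1) * w.1 * (a.1 * b.1)⁻¹ = a.1 * (b.1 * w.1 * b.1⁻¹) * a.1⁻¹ by group) }
  have hfix : ∀ w : W, w ∈ MulAction.fixedPoints (Subgroup.zpowers s) W ↔ s * w.1 = w.1 * s := by
    intro w
    constructor
    · intro h
      exact mul_inv_eq_iff_eq_mul.1 (congrArg Subtype.val (h ⟨s, Subgroup.mem_zpowers _⟩))
    · intro h k
      refine Subtype.ext ?_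
      show k.1 * w.1 * k.1⁻¹ = w.1
      obtain ⟨i, hi⟩ := Subgroup.mem_zpowers_iff.1 k.2
      rw [← hi, (Commute.zpow_left (show Commute s w.1 from h) i).eq, mul_inv_cancel_right]
  have hmod := hKp.card_modEq_card_fixedPoints (p := 5) W
  rwa [Nat.card_congr (Equiv.subtypeEquivRight hfix)] at hmod

theorem exists_frame (hG : Nat.card G = 320) (hD : Nat.card (commutator G) = 64)
    (hZ : IsKleinFour (Subgroup.center (commutator G))) : Nonempty (Frame G) := by
  classical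
  have : Fact (Nat.Prime 2) := ⟨Nat.prime_two⟩
  have : Fact (Nat.Prime 5) := ⟨Nat.prime_five⟩
  obtain ⟨D, hDdef⟩ : ∃ D : Subgroup G, D = commutator G := ⟨_, rfl⟩
  have hDn : D.Normal := hDdef ▸ inferInstanceAs (commutator G).Normal
  obtain ⟨s, hs⟩ := exists_prime_orderOf_dvd_card' (G := G) 5 (by rw [hG]; norm_num)
  have hs5 : s ^ 5 = 1 := hs ▸ pow_orderOf_eq_one s
  have hD' : Nat.card D = 64 := hDdef ▸ hD
  have hsD : s ∉ D := fun h => by
    have := Subgroup.card_dvd_of_le (Subgroup.zpowers_le.2 h)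
    rw [Nat.card_zpowers, hs, hD'] at this
    norm_num at this
  obtain ⟨C, hC⟩ : ∃ C : Subgroup G, C = ⁅D, D⁆ := ⟨_, rfl⟩
  have hCn : C.Normal := hC ▸ Subgroup.commutator_normal D D
  have hCD : C ≤ D := hC ▸ Subgroup.commutator_le_left D D
  have hcomm : ∀ x ∈ D, ∀ y ∈ D, ⁅x, y⁆ ∈ C := fun x hx y hy => hC ▸ Subgroup.commutator_mem_commutator hx hy
  have hgen : ∀ g : G, ∃ d ∈ D, ∃ i : ℕ, g = d * s ^ i := by
    intro g
    have hidx : D.index = 5 := by
      have := D.card_mul_index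
      rw [hD', hG] at this
      omega
    have hne : (s : G ⧸ D) ≠ 1 := fun h => hsD ((QuotientGroup.eq_one_iff s).1 h)
    have hz : Subgroup.zpowers (s : G ⧸ D) = ⊤ :=
      zpowers_eq_top_of_prime_card (p := 5) (by rw [← Subgroup.index_eq_card]; exact hidx) hne
    obtain ⟨i, hi⟩ := (Submonoid.mem_powers_iff _ _).1 (mem_powers_iff_mem_zpowers.2
      (hz.ge (Subgroup.mem_top (g : G ⧸ D))))
    refine ⟨g * (s ^ i)⁻¹, ?_, i, by group⟩
    rw [← QuotientGroup.eq_one_iff, QuotientGroup.mk_mul, QuotientGroup.mk_inv, QuotientGroup.mk_pow, hi,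
      mul_inv_cancel]
  -- the quotient `D / C`
  obtain ⟨π, hπ⟩ : ∃ π : D →* D ⧸ C.subgroupOf D, π = QuotientGroup.mk' _ := ⟨_, rfl⟩
  have hAcomm : ∀ a b : D ⧸ C.subgroupOf D, a * b = b * a := by
    intro a b
    induction a using QuotientGroup.induction_on with
    | H a =>
    induction b using QuotientGroup.induction_on with
    | H b =>
    rw [← commutatorElement_eq_one_iff_mul_comm]
    exact (QuotientGroup.eq_one_iff ⁅a, b⁆).2 (hcomm a.1 a.2 b.1 b.2)
  obtain ⟨τ, hτ⟩ : ∃ τ : D →* D ⧸ C.subgroupOf D,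
      ∀ d : D, τ d = π ⟨s * d.1 * s⁻¹ * d.1⁻¹, mul_mem (hDn.conj_mem _ d.2 s) (inv_mem d.2)⟩ := by
    refine ⟨MonoidHom.mk' (fun d => π ⟨s * d.1 * s⁻¹ * d.1⁻¹, mul_mem (hDn.conj_mem _ d.2 s) (inv_mem d.2)⟩)
      (fun a b => ?_), fun d => rfl⟩
    obtain ⟨σ, hσ⟩ : ∃ σ : D →* D, σ = MonoidHom.mk' (fun d => ⟨s * d.1 * s⁻¹, hDn.conj_mem _ d.2 s⟩)
        (fun a b => Subtype.ext (show s * (a.1 * b.1) * s⁻¹ = s * a.1 * s⁻¹ * (s * b.1 * s⁻¹) by group)) :=
      ⟨_, rfl⟩
    have e : ∀ d : D, π ⟨s * d.1 * s⁻¹ * d.1⁻¹, mul_mem (hDn.conj_mem _ d.2 s) (inv_mem d.2)⟩ =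
        π (σ d) * π d⁻¹ := fun d => by rw [← map_mul, hσ]; rfl
    rw [e, e, e, map_mul, map_mul, mul_inv_rev, map_mul, mul_assoc, mul_assoc,
      hAcomm (π b⁻¹) (π a⁻¹), ← mul_assoc (π (σ b)), hAcomm (π (σ b)) (π a⁻¹), mul_assoc]
  -- `[s, D] C = D`
  obtain ⟨R, hR⟩ : ∃ R : Subgroup G, R = Subgroup.map D.subtype (τ.range.comap π) := ⟨_, rfl⟩
  have hRmem : ∀ d (hd : d ∈ D), d ∈ R ↔ π ⟨d, hd⟩ ∈ τ.range := by
    intro d hd
    rw [hR]
    constructor
    · rintro ⟨d', h', e⟩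
      rwa [show (⟨d, hd⟩ : D) = d' from Subtype.ext e.symm]
    · intro h
      exact ⟨⟨d, hd⟩, h, rfl⟩
  have hRD : R ≤ D := hR ▸ Subgroup.map_subtype_le _
  have hCR : C ≤ R := fun c hc => (hRmem c (hCD hc)).2 (by
    rw [show π ⟨c, hCD hc⟩ = 1 by rw [hπ]; exact (QuotientGroup.eq_one_iff _).2 hc]
    exact one_mem _)
  have hsR : ∀ d ∈ D, ⁅s, d⁆ ∈ R := fun d hd => by
    rw [commutatorElement_def, hRmem _ (mul_mem (hDn.conj_mem _ hd s) (inv_mem hd))]
    exact ⟨⟨d, hd⟩, hτ _⟩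
  have hRnD : D ≤ Subgroup.normalizer (R : Set G) := by
    intro d hd
    refine Subgroup.mem_normalizer_iff.2 fun n => ?_
    have key : ∀ n ∈ R, ∀ d ∈ D, d * n * d⁻¹ ∈ R := fun n hn d hd => by
      rw [show d * n * d⁻¹ = ⁅d, n⁆ * n by rw [commutatorElement_def]; group]
      exact mul_mem (hCR (hcomm d hd n (hRD hn))) hn
    refine ⟨fun hn => key n hn d hd, fun hn => ?_⟩
    have := key _ hn d⁻¹ (inv_mem hd)
    rwa [show d⁻¹ * (d * n * d⁻¹) * d⁻¹⁻¹ = n by group] at this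
  have hRs : ∀ n ∈ R, s * n * s⁻¹ ∈ R := fun n hn => by
    rw [show s * n * s⁻¹ = ⁅s, n⁆ * n by rw [commutatorElement_def]; group]
    exact mul_mem (hsR n (hRD hn)) hn
  have hRn : R.Normal := by
    refine Subgroup.normalizer_eq_top_iff.1 (eq_top_iff.2 fun g _ => ?_)
    obtain ⟨d, hd, i, rfl⟩ := hgen g
    refine mul_mem (hRnD hd) (pow_mem ?_ i)
    exact Subgroup.mem_normalizer_iff_map_conj_eq.2 (Subgroup.eq_of_le_of_card_ge (by
      rintro _ ⟨n, hn, rfl⟩
      exact hRs n hn) (le_of_eq (Subgroup.card_map_of_injective (MulAut.conj s).injective).symm))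
  have hRtop : R = D := by
    refine le_antisymm hRD ?_
    conv_lhs => rw [hDdef, commutator_def]
    refine Subgroup.commutator_le.2 fun g _ g' _ => ?_
    rw [← QuotientGroup.eq_one_iff, ← QuotientGroup.mk'_apply, map_commutatorElement,
      commutatorElement_eq_one_iff_mul_comm]
    have hsd : ∀ d ∈ D, Commute (s : G ⧸ R) (d : G ⧸ R) := fun d hd => by
      refine commutatorElement_eq_one_iff_mul_comm.1 ?_
      exact (QuotientGroup.eq_one_iff ⁅s, d⁆).2 (hsR d hd)
    have hdd : ∀ d ∈ D, ∀ d' ∈ D, Commute (d : G ⧸ R) (d' : G ⧸ R) := fun d hd d' hd' => by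
      refine commutatorElement_eq_one_iff_mul_comm.1 ?_
      exact (QuotientGroup.eq_one_iff ⁅d, d'⁆).2 (hCR (hcomm d hd d' hd'))
    obtain ⟨d, hd, i, rfl⟩ := hgen g
    obtain ⟨d', hd', j, rfl⟩ := hgen g'
    simp only [QuotientGroup.mk'_apply, QuotientGroup.mk_mul, QuotientGroup.mk_pow]
    exact (((hdd d hd d' hd').mul_right ((hsd d hd).symm.pow_right j)).mul_left
      (((hsd d' hd').pow_left i).mul_right ((Commute.refl (s : G ⧸ R)).pow_pow i j))).eq
  have hτsurj : Function.Surjective τ := by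
    intro a
    induction a using QuotientGroup.induction_on with
    | H a =>
    have h := (hRmem a.1 a.2).1 (hRtop.ge a.2)
    rw [hπ] at h
    exact h
  have hτker : ∀ x (hx : x ∈ D), τ ⟨x, hx⟩ = 1 ↔ x ∈ C := by
    have hle : C.subgroupOf D ≤ τ.ker := fun d hd => by
      rw [MonoidHom.mem_ker, hτ, hπ]
      exact (QuotientGroup.eq_one_iff _).2 (mul_mem (hCn.conj_mem _ hd s) (inv_mem hd))
    have heq : τ.ker = C.subgroupOf D := by
      refine (Subgroup.eq_of_le_of_card_ge hle ?_).symm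
      have h1 := τ.ker.card_mul_index
      rw [Subgroup.index_ker, MonoidHom.range_eq_top.2 hτsurj, Subgroup.card_top] at h1
      have h2 := Subgroup.card_eq_card_quotient_mul_card_subgroup (C.subgroupOf D)
      rw [mul_comm] at h2
      exact le_of_eq (Nat.eq_of_mul_eq_mul_right Nat.card_pos (h1.trans h2))
    intro x hx
    rw [← MonoidHom.mem_ker, heq, Subgroup.mem_subgroupOf]
  have hfpf : ∀ x ∈ D, ⁅s, x⁆ ∈ C → x ∈ C := fun x hx h => (hτker x hx).1 (by
    rw [hτ, hπ]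
    exact (QuotientGroup.eq_one_iff _).2 (show s * x * s⁻¹ * x⁻¹ ∈ C from commutatorElement_def s x ▸ h))
  have hfixC : ∀ W : Subgroup G, C ≤ W → W ≤ D → (∀ w ∈ W, s * w * s⁻¹ ∈ W) →
      Nat.card {w : W // s * w.1 = w.1 * s} = Nat.card {c : C // s * c.1 = c.1 * s} := by
    intro W hCW hWD hW
    refine Nat.card_congr
      { toFun := fun w => ⟨⟨w.1.1, hfpf _ (hWD w.1.2) (by
          rw [commutatorElement_def, w.2, mul_inv_cancel_right, mul_inv_cancel]; exact one_mem C)⟩, w.2⟩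
        invFun := fun c => ⟨⟨c.1.1, hCW c.1.2⟩, c.2⟩
        left_inv := fun w => rfl
        right_inv := fun c => rfl }
  have hCcard : Nat.card C = 4 ∧ ∀ x ∈ D, x * x ∈ C := by
    have hmodC := card_modEq_fixed hs5 C fun c hc => hCn.conj_mem c hc s
    have hmodD := card_modEq_fixed hs5 D fun c hc => hDn.conj_mem c hc s
    rw [hfixC D hCD le_rfl fun c hc => hDn.conj_mem c hc s] at hmodD
    have hDp : IsPGroup 2 D := IsPGroup.of_card (n := 6) (by rw [hD']; norm_num)
    have hne : C ≠ D := by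
      intro h
      have := hDp.isNilpotent (p := 2)
      have htop : commutator D = ⊤ := by
        refine Subgroup.map_injective D.subtype_injective ?_
        rw [Subgroup.map_subtype_commutator, ← hC, h, ← MonoidHom.range_eq_map, Subgroup.range_subtype]
      have : Nontrivial D := Finite.one_lt_card_iff_nontrivial.1 (by rw [hD']; norm_num)
      exact ne_of_lt (Group.IsSolvable.commutator_lt_top_of_nontrivial D) htop
    obtain ⟨k, hk, hk'⟩ := (Nat.dvd_prime_pow Nat.prime_two).1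
      (show Nat.card C ∣ 2 ^ 6 by have := Subgroup.card_dvd_of_le hCD; rwa [hD'] at this)
    have h5 : Nat.card C ≡ 64 [MOD 5] := hmodC.trans (hD' ▸ hmodD.symm)
    have hlt : Nat.card C < 64 := lt_of_le_of_ne (hD' ▸ Subgroup.card_le_of_le hCD) fun h =>
      hne (Subgroup.eq_of_le_of_card_ge hCD (by rw [hD', h]))
    have h4 : Nat.card C = 4 := by
      rw [hk'] at h5 hlt ⊢
      rw [Nat.ModEq] at h5
      interval_cases k <;> revert h5 hlt <;> norm_num
    refine ⟨h4, fun x hx => ?_⟩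
    -- the squares
    by_contra hxC
    have hsqhom : ∃ q : D →* D ⧸ C.subgroupOf D, ∀ d, q d = π d * π d :=
      ⟨MonoidHom.mk' (fun d => π d * π d) (fun a b => by
        rw [map_mul, mul_assoc, ← mul_assoc (π b), hAcomm (π b) (π a)]; simp only [mul_assoc]), fun d => rfl⟩
    obtain ⟨q, hq⟩ := hsqhom
    obtain ⟨W, hW⟩ : ∃ W : Subgroup G, W = Subgroup.map D.subtype (q.range.comap π) := ⟨_, rfl⟩
    have hWmem : ∀ d (hd : d ∈ D), d ∈ W ↔ π ⟨d, hd⟩ ∈ q.range := by
      intro d hd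
      rw [hW]
      constructor
      · rintro ⟨d', h', e⟩
        rwa [show (⟨d, hd⟩ : D) = d' from Subtype.ext e.symm]
      · intro h
        exact ⟨⟨d, hd⟩, h, rfl⟩
    have hWD : W ≤ D := hW ▸ Subgroup.map_subtype_le _
    have hCW : C ≤ W := fun c hc => (hWmem c (hCD hc)).2 (by
      rw [show π ⟨c, hCD hc⟩ = 1 by rw [hπ]; exact (QuotientGroup.eq_one_iff _).2 hc]
      exact one_mem _)
    have hWs : ∀ w ∈ W, s * w * s⁻¹ ∈ W := by
      intro w hw
      obtain ⟨y, hy⟩ := (hWmem w (hWD hw)).1 hw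
      refine (hWmem _ (hDn.conj_mem _ (hWD hw) s)).2 ⟨⟨s * y.1 * s⁻¹, hDn.conj_mem _ y.2 s⟩, ?_⟩
      rw [hq, hπ, ← map_mul] at hy
      rw [hq, hπ, ← map_mul]
      rw [QuotientGroup.mk'_apply, QuotientGroup.mk'_apply, QuotientGroup.eq,
        Subgroup.mem_subgroupOf] at hy
      rw [QuotientGroup.mk'_apply, QuotientGroup.mk'_apply, QuotientGroup.eq, Subgroup.mem_subgroupOf]
      have h := hCn.conj_mem _ hy s
      simp only [Subgroup.coe_mul, Subgroup.coe_inv] at h ⊢
      convert h using 1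
      group
    have hmodW := card_modEq_fixed hs5 W hWs
    rw [hfixC W hCW hWD hWs] at hmodW
    have hxW : x * x ∈ W := (hWmem _ (mul_mem hx hx)).2 ⟨⟨x, hx⟩, by rw [hq, ← map_mul]; rfl⟩
    have hW4 : 4 < Nat.card W := by
      refine lt_of_le_of_ne (h4 ▸ Subgroup.card_le_of_le hCW) fun h => hxC ?_
      rw [Subgroup.eq_of_le_of_card_ge hCW (by rw [h4, ← h])]
      exact hxW
    obtain ⟨l, hl, hl'⟩ := (Nat.dvd_prime_pow Nat.prime_two).1
      (show Nat.card W ∣ 2 ^ 6 by have := Subgroup.card_dvd_of_le hWD; rwa [hD'] at this)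
    have h5' : Nat.card W ≡ 4 [MOD 5] := hmodW.trans (h4 ▸ hmodC.symm)
    have hW64 : Nat.card W = 64 := by
      rw [hl'] at h5' hW4 ⊢
      rw [Nat.ModEq] at h5'
      interval_cases l <;> revert h5' hW4 <;> norm_num
    have hqsurj : Function.Surjective q := by
      intro a
      induction a using QuotientGroup.induction_on with
      | H a =>
      have h := (hWmem a.1 a.2).1 ((Subgroup.eq_of_le_of_card_ge hWD (by rw [hD', hW64])).ge a.2)
      rw [hπ] at h
      exact h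
    -- squaring is not onto in a non-trivial 2-group
    have hsq' : Function.Surjective (fun a : D ⧸ C.subgroupOf D => a * a) := fun a => by
      obtain ⟨d, hd⟩ := hqsurj a
      exact ⟨π d, (hq d).symm.trans hd⟩
    have hinj := Finite.injective_iff_surjective.2 hsq'
    obtain ⟨m, hm⟩ := (hDp.to_quotient (C.subgroupOf D)).exists_card_eq
    have hm1 : 1 < Nat.card (D ⧸ C.subgroupOf D) := by
      have := Subgroup.card_eq_card_quotient_mul_card_subgroup (C.subgroupOf D)
      rw [hD', Nat.card_congr (Subgroup.subgroupOfEquivOfLe hCD).toEquiv, h4] at this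
      omega
    obtain ⟨a, ha⟩ := exists_prime_orderOf_dvd_card' (G := D ⧸ C.subgroupOf D) 2 (by
      rw [hm] at hm1 ⊢
      exact dvd_pow_self 2 (by rintro rfl; simp at hm1))
    have : a = 1 := hinj (show a * a = 1 * 1 by rw [one_mul, ← pow_two, ← ha, pow_orderOf_eq_one])
    rw [this, orderOf_one] at ha
    omega
  obtain ⟨h4, hsqC⟩ := hCcard
  have hfix : ∀ c ∈ C, s * c = c * s := by
    intro c hc
    have hmod := card_modEq_fixed hs5 C fun c hc => hCn.conj_mem c hc s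
    rw [h4, Nat.ModEq] at hmod
    have hle : Nat.card {c : C // s * c.1 = c.1 * s} ≤ 4 := h4 ▸ Nat.card_le_card_of_injective _ Subtype.val_injective
    have h44 : Nat.card {c : C // s * c.1 = c.1 * s} = Nat.card C := by omega
    have hbij := (Subtype.val_injective (p := fun c : C => s * c.1 = c.1 * s)).bijective_of_nat_card_le h44.ge
    obtain ⟨c', hc'⟩ := hbij.2 ⟨c, hc⟩
    rw [show c = c'.1.1 from (congrArg Subtype.val hc').symm]
    exact c'.2
  have hCcomm : ∀ a ∈ C, ∀ b ∈ C, a * b = b * a := by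
    have := IsPGroup.commutative_of_card_eq_prime_sq (p := 2) (G := C) (by rw [h4]; norm_num)
    intro a ha b hb
    exact congrArg Subtype.val (this ⟨a, ha⟩ ⟨b, hb⟩)
  have hcentral : ∀ c ∈ C, ∀ d ∈ D, c * d = d * c := by
    intro c hc d hd
    obtain ⟨x, hx⟩ := hτsurj (π ⟨d, hd⟩)
    rw [hτ, hπ] at hx
    rw [QuotientGroup.mk'_apply, QuotientGroup.mk'_apply, QuotientGroup.eq, Subgroup.mem_subgroupOf] at hx
    have hy : ∀ e ∈ C, (s * x.1 * s⁻¹ * x.1⁻¹) * e = e * (s * x.1 * s⁻¹ * x.1⁻¹) := by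
      intro e he
      have h1 : x.1⁻¹ * e * x.1 ∈ C := by
        have := hCn.conj_mem e he x.1⁻¹
        rwa [inv_inv] at this
      have h2 : s * (x.1⁻¹ * e * x.1) * s⁻¹ = x.1⁻¹ * e * x.1 := by rw [hfix _ h1, mul_inv_cancel_right]
      have h3 : s⁻¹ * e * s = e := by rw [mul_assoc, ← hfix e he, inv_mul_cancel_left]
      calc _ = s * x.1 * (s⁻¹ * (x.1⁻¹ * e * x.1) * s) * s⁻¹ * x.1⁻¹ := by group
        _ = s * x.1 * (x.1⁻¹ * e * x.1) * s⁻¹ * x.1⁻¹ := by
          rw [show s⁻¹ * (x.1⁻¹ * e * x.1) * s = x.1⁻¹ * e * x.1 by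
            rw [mul_assoc, ← hfix _ h1, inv_mul_cancel_left]]
        _ = s * e * x.1 * s⁻¹ * x.1⁻¹ := by group
        _ = _ := by rw [hfix e he]; group
    obtain ⟨v, hv, rfl⟩ : ∃ v ∈ C, d = (s * x.1 * s⁻¹ * x.1⁻¹) * v :=
      ⟨_, hx, by simp only [Subgroup.coe_mul, Subgroup.coe_inv]; group⟩
    rw [← mul_assoc c, ← hy c hc, mul_assoc, hCcomm c hc v hv, ← mul_assoc]
  have hsq1 : ∀ c ∈ C, c * c = 1 := by
    intro c hc
    have hd : c ∈ commutator G := hDdef ▸ hCD hc
    have hmem : (⟨c, hd⟩ : commutator G) ∈ Subgroup.center (commutator G) :=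
      Subgroup.mem_center_iff.2 fun d => Subtype.ext (hcentral c hc d.1 (hDdef.symm ▸ d.2)).symm
    have := IsKleinFour.mul_self (G := Subgroup.center (commutator G)) ⟨_, hmem⟩
    exact congrArg (fun z : Subgroup.center (commutator G) => z.1.1) this
  exact ⟨{ D := D, C := C, s := s, hG := hG, hD := hD', hC := h4, normal := hDn, le := hCD,
           le_comm := hC.le, central := hcentral, fixed := hfix, sq_one := hsq1, comm_mem := hcomm,
           sq_mem := hsqC, s_pow := hs5, s_notMem := hsD, fpf := hfpf }⟩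

end CfsgLib.PLocal.Order320
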