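import Cfsg.Agent.Lib.PLocal.PairControl
import Cfsg.Agent.Lib.PLocal.ControlTransfer

/-!
# Control of transfer by a conjugacy functor together with a central functor
-/

namespace CfsgLib.PLocal

open Subgroup
open scoped commutatorElement

variable {G : Type*} [Group G] {p : ℕ}

/-- `W` with `V` controls transfer in `H` at its Sylow subgroup `T`. -/
def PairTransfer (W V : Subgroup G → Subgroup G) (H T : Subgroup G) : Prop :=
  T ⊓ ⁅H, H⁆ =
    T ⊓ ⁅H ⊓ normalizer ((W T : Subgroup G) : Set G), H ⊓ normalizer ((W T : Subgroup G) : Set G)⁆ ⊔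
      T ⊓ ⁅H ⊓ centralizer ((V T : Subgroup G) : Set G), H ⊓ centralizer ((V T : Subgroup G) : Set G)⁆

theorem PairTransfer.conj {W V : Subgroup G → Subgroup G} (hW : Cfsg.IsConjugacyFunctor p W)
    (hV : Cfsg.IsConjugacyFunctor p V) {H T : Subgroup G} (hT : IsPGroup p T)
    (h : PairTransfer W V H T) (g : G) : PairTransfer W V (conjMap g H) (conjMap g T) := by
  have h' := congrArg (conjMap g) (show _ = _ from h)
  have e1 : ∀ K : Subgroup G, conjMap g ⁅K, K⁆ = ⁅conjMap g K, conjMap g K⁆ := fun K =>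
    Subgroup.map_commutator _ _ _
  have e2 : ∀ K L : Subgroup G, conjMap g (K ⊔ L) = conjMap g K ⊔ conjMap g L := fun K L =>
    Subgroup.map_sup _ _ _
  rw [e2, conjMap_inf, conjMap_inf, conjMap_inf, e1, e1, e1, conjMap_inf, conjMap_inf,
    conjMap_normalizer, conjMap_centralizer, ← functor_conj hW hT, ← functor_conj hV hT] at h'
  exact h'

variable [Finite G] [Fact p.Prime]

theorem PairTransfer.atSylow {W V : Subgroup G → Subgroup G} (hW : Cfsg.IsConjugacyFunctor p W)
    (hV : Cfsg.IsConjugacyFunctor p V) {H T₀ T : Subgroup G} (hT₀ : SylowIn p T₀ H)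
    (h : PairTransfer W V H T₀) (hT : SylowIn p T H) : PairTransfer W V H T := by
  obtain ⟨k, hk, rfl⟩ := hT.exists_conj_eq hT₀
  have h' := h.conj hW hV hT₀.2.1 k
  rwa [conjMap_eq_self_iff.2 (le_normalizer hk)] at h'

/-- Local control of transfer by a pair above the centre of a Sylow subgroup gives global control. -/
theorem pairTransfer_top (S : Sylow p G) (hS0 : (S : Subgroup G) ≠ ⊥) (W V : Subgroup G → Subgroup G)
    (hW : Cfsg.IsConjugacyFunctor p W) (hV : Cfsg.IsConjugacyFunctor p V)
    (hWZ : ∀ H : Subgroup G, IsPGroup p H → H ⊓ centralizer (H : Set G) ≤ W H)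
    (hVmono : ∀ H K : Subgroup G, IsPGroup p H → IsPGroup p K → H ≠ ⊥ → K ≠ ⊥ →
      H ⊓ centralizer (H : Set G) ≤ K ⊓ centralizer (K : Set G) → V H ≤ V K)
    (hloc : ∀ U : Subgroup G, (S : Subgroup G) ⊓ centralizer ((S : Subgroup G) : Set G) ≤ U →
      U ≤ (S : Subgroup G) → ∃ Q, SylowIn p Q (normalizer (U : Set G)) ∧
        PairTransfer W V (normalizer (U : Set G)) Q) :
    PairTransfer W V ⊤ (S : Subgroup G) := by
  set S' : Subgroup G := (S : Subgroup G) with hS'
  set Z := S' ⊓ centralizer (S' : Set G) with hZdef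
  set L : Subgroup G :=
    S' ⊓ ⁅(⊤ : Subgroup G) ⊓ normalizer ((W S' : Subgroup G) : Set G),
      (⊤ : Subgroup G) ⊓ normalizer ((W S' : Subgroup G) : Set G)⁆ ⊔
    S' ⊓ ⁅(⊤ : Subgroup G) ⊓ centralizer ((V S' : Subgroup G) : Set G),
      (⊤ : Subgroup G) ⊓ centralizer ((V S' : Subgroup G) : Set G)⁆ with hL
  have hWL : S' ⊓ ⁅normalizer ((W S' : Subgroup G) : Set G),
      normalizer ((W S' : Subgroup G) : Set G)⁆ ≤ L := le_trans (by rw [top_inf_eq]) le_sup_left
  have hVL : S' ⊓ ⁅centralizer ((V S' : Subgroup G) : Set G),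
      centralizer ((V S' : Subgroup G) : Set G)⁆ ≤ L := le_trans (by rw [top_inf_eq]) le_sup_right
  have hmem : ∀ (T : Subgroup G) (y z : G), y ∈ normalizer (T : Set G) → z ∈ T → T ≤ S' →
      y * z * y⁻¹ * z⁻¹ ∈ S' ⊓ ⁅normalizer (T : Set G), normalizer (T : Set G)⁆ := by
    intro T y z hy hz hTS
    refine ⟨S'.mul_mem (hTS ((mem_normalizer_iff.1 hy z).1 hz)) (inv_mem (hTS hz)), ?_⟩
    have := commutator_mem_commutator hy (le_normalizer (H := T) hz)
    rwa [commutatorElement_def] at this
  have hSL : S' ⊓ ⁅normalizer (S' : Set G), normalizer (S' : Set G)⁆ ≤ L :=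
    (inf_le_inf_left _ (commutator_mono (normalizer_le_normalizer_functor hW S.2)
      (normalizer_le_normalizer_functor hW S.2))).trans hWL
  have hne0 : ∀ T : Subgroup G, T ≤ S' → T ⊔ S' ⊓ centralizer (T : Set G) ≠ ⊥ := by
    intro T hTS h0
    obtain ⟨h1, h2⟩ := sup_eq_bot_iff.1 h0
    rw [h1] at h2
    refine hS0 (eq_bot_iff.2 fun z hz => h2.le ⟨hz, mem_centralizer_iff.2 fun t ht => ?_⟩)
    rw [SetLike.mem_coe, mem_bot] at ht; subst ht; simp
  -- one step through a fully normalized subgroup
  have stepT : ∀ (T : Subgroup G) (y z : G), T ∈ fullNormSet p S' →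
      y ∈ normalizer (T : Set G) → z ∈ T →
      (∀ T' : Subgroup G, T ≤ T' → T' ≤ S' → T' ≠ S' → T' ≠ ⊥ → Z ≤ T' →
        S' ⊓ ⁅normalizer (T' : Set G), normalizer (T' : Set G)⁆ ≤ L) →
      y * z * y⁻¹ * z⁻¹ ∈ L := by
    intro T y z hT hy hz hI
    obtain ⟨n, hn, hnt⟩ := exists_normalizer_join_centralizer S hT hy
    set T' := T ⊔ S' ⊓ centralizer (T : Set G) with hT'
    have hT'S : T' ≤ S' := sup_le hT.1 inf_le_left
    have hzT' : z ∈ T' := (le_sup_left : T ≤ T') hz
    rw [← hnt z hz]
    by_cases hTe : T' = S'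
    · rw [hTe] at hn hzT'
      exact hSL (hmem S' n z hn hzT' le_rfl)
    · exact hI T' le_sup_left hT'S hTe (hne0 T hT.1)
        ((le_inf inf_le_left (inf_le_right.trans (centralizer_le hT.1))).trans le_sup_right)
        (hmem T' n z hn hzT' hT'S)
  have main : ∀ n, ∀ U : Subgroup G, U ≠ ⊥ → U ≤ S' → Z ≤ U →
      Nat.card S' - Nat.card (S' ⊓ normalizer (U : Set G) : Subgroup G) = n →
      S' ⊓ ⁅normalizer (U : Set G), normalizer (U : Set G)⁆ ≤ L := by
    intro n
    induction n using Nat.strong_induction_on with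
    | _ n ih =>
      intro U hU hUS hZU hn
      obtain ⟨U₁, hU₁, ⟨a, ha⟩, hidx⟩ := exists_fullNormalized S hUS
      obtain ⟨b, rfl, hb⟩ := exists_conj_carry S.2 ha hidx
      have hVS : conjMap b U ≤ S' := hU₁.1
      have hVne : conjMap b U ≠ ⊥ := conjMap_ne_bot hU
      set N := normalizer ((conjMap b U : Subgroup G) : Set G) with hN
      set R := S' ⊓ N with hR
      have hcard : Nat.card (S' ⊓ normalizer (U : Set G) : Subgroup G) ≤ Nat.card R := by
        rw [← card_conjMap b]; exact card_le_of_le hb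
      have hRp : IsPGroup p R := S.2.to_le inf_le_left
      have hRne : R ≠ ⊥ := fun h0 => hVne (eq_bot_iff.2 (h0 ▸ le_inf hVS le_normalizer))
      have hZR : Z ≤ R := le_inf inf_le_left
        ((inf_le_right.trans (centralizer_le hVS)).trans (centralizer_le_normalizer _))
      have hZZR : Z ≤ R ⊓ centralizer (R : Set G) :=
        le_inf hZR (inf_le_right.trans (centralizer_le (show R ≤ S' from inf_le_left)))
      have hlocR : PairTransfer W V N R := by
        obtain ⟨Q, hQ, hQf⟩ := hloc U hZU hUS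
        have hQb := hQ.conj b
        have hf := hQf.conj hW hV hQ.2.1 b
        rw [conjMap_normalizer] at hQb hf
        exact hf.atSylow hW hV hQb ((sylowIn_inf_normalizer_iff S.2).2 hidx)
      have hgoodcase : S' ⊓ ⁅N, N⁆ ≤ L := by
        have hNN : ⁅N, N⁆ ≤ N := commutator_le.2 fun x hx y hy => by
          rw [commutatorElement_def]
          exact N.mul_mem (N.mul_mem (N.mul_mem hx hy) (N.inv_mem hx)) (N.inv_mem hy)
        have e : S' ⊓ ⁅N, N⁆ = R ⊓ ⁅N, N⁆ := by rw [hR, inf_assoc, inf_eq_right.2 hNN]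
        rw [e, show R ⊓ ⁅N, N⁆ = _ from hlocR]
        refine sup_le ?_ ?_
        · refine le_trans (inf_le_inf_left _ (commutator_mono inf_le_right inf_le_right)) ?_
          rcases eq_or_lt_of_le (inf_le_left : R ≤ S') with hRS | hRS
          · rw [show R = S' from hRS]; exact hWL
          · have hlt : Nat.card R <
                Nat.card (S' ⊓ normalizer ((W R : Subgroup G) : Set G) : Subgroup G) :=
              lt_of_lt_of_le (card_lt_card_inf_normalizer S.2 hRS) (card_le_of_le
                (inf_le_inf_left _ (normalizer_le_normalizer_functor hW hRp)))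
            have hle2 : Nat.card (S' ⊓ normalizer ((W R : Subgroup G) : Set G) : Subgroup G) ≤
                Nat.card S' := card_le_of_le inf_le_left
            exact (inf_le_inf_right _ inf_le_left).trans (ih _ (by omega) (W R)
              (functor_ne_bot hW hRp hRne) ((functor_le hW hRp).trans inf_le_left)
              (hZZR.trans (hWZ R hRp)) rfl)
        · have hC : centralizer ((V R : Subgroup G) : Set G) ≤ centralizer ((V S' : Subgroup G) : Set G) :=
            centralizer_le (hVmono S' R S.2 hRp hS0 hRne hZZR)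
          exact (inf_le_inf inf_le_left
            (commutator_mono (inf_le_right.trans hC) (inf_le_right.trans hC))).trans hVL
      intro x hx
      obtain ⟨hxS, hxc⟩ := mem_inf.1 hx
      have hxN : x ∈ S' ⊓ normalizer (U : Set G) := ⟨hxS, by
        refine (commutator_le.2 fun u hu v hv => ?_) hxc
        rw [commutatorElement_def]
        exact mul_mem (mul_mem (mul_mem hu hv) (inv_mem hu)) (inv_mem hv)⟩
      have h1 : b * x * b⁻¹ ∈ L := by
        refine hgoodcase ⟨(hb (conj_mem_conjMap hxN)).1, ?_⟩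
        rw [hN, ← conjMap_normalizer, conjMap, ← Subgroup.map_commutator]
        exact conj_mem_conjMap hxc
      have hch : RChain (fullNormSet p S')
          ((S' ⊓ normalizer (U : Set G) : Subgroup G) : Set G) b⁻¹ := by
        refine rchain_of_exists_good S (fun V hV => hV.1)
          (fun T hT => exists_fullNormalized S hT) _ _ (SetLike.coe_subset_coe.2 inf_le_left) ?_
        rintro _ ⟨z, hz, rfl⟩
        show _ ∈ S'
        simpa using (hb (conj_mem_conjMap hz)).1
      have key : ∀ (A : Set G) (g : G), RChain (fullNormSet p S') A g → ∀ D : Subgroup G,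
          (D : Set G) = A → D ≠ ⊥ →
          Nat.card (S' ⊓ normalizer (U : Set G) : Subgroup G) ≤ Nat.card D →
          ∀ a ∈ A, g⁻¹ * a * g * a⁻¹ ∈ L := by
        intro A g hg
        induction hg with
        | nil A => intro D _ _ _ a _; simp [L.one_mem]
        | @step A T y g hT hy hA _ ih' =>
          intro D hD hD1 hcD a ha
          have hDT : D ≤ T := fun z hz => hA (hD ▸ hz)
          have h1 := stepT T y⁻¹ a hT (inv_mem hy) (hA ha) fun T' hTT' hT'S hne hT'0 hZT' => by
            have hlt : Nat.card T' < Nat.card (S' ⊓ normalizer (T' : Set G) : Subgroup G) :=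
              card_lt_card_inf_normalizer S.2 (lt_of_le_of_ne hT'S hne)
            have hle2 : Nat.card (S' ⊓ normalizer (T' : Set G) : Subgroup G) ≤ Nat.card S' :=
              card_le_of_le inf_le_left
            have hDTc : Nat.card D ≤ Nat.card T' := card_le_of_le (hDT.trans hTT')
            exact ih _ (by omega) T' hT'0 hT'S hZT' rfl
          have h2 := ih' (conjMap y⁻¹ D) (by
              rw [← hD]
              ext z
              constructor
              · intro hz
                have := mem_conjMap.1 hz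
                exact ⟨_, this, by group⟩
              · rintro ⟨w, hw, rfl⟩
                exact ⟨w, hw, by simp⟩) (conjMap_ne_bot hD1)
            (hcD.trans (card_conjMap _ _).ge) _ ⟨a, ha, rfl⟩
          have e : (y * g)⁻¹ * a * (y * g) * a⁻¹ =
              (g⁻¹ * (y⁻¹ * a * y) * g * (y⁻¹ * a * y)⁻¹) * (y⁻¹ * a * y⁻¹⁻¹ * a⁻¹) := by group
          rw [e]
          exact L.mul_mem h2 h1
      have h2 := key _ _ hch _ rfl (fun h0 => hU (eq_bot_iff.2 (h0 ▸ le_inf hUS le_normalizer)))
        le_rfl x hxN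
      have : x = (b⁻¹⁻¹ * x * b⁻¹ * x⁻¹)⁻¹ * (b * x * b⁻¹) := by group
      rw [this]
      exact L.mul_mem (L.inv_mem h2) h1
  refine le_antisymm ?_ (sup_le (inf_le_inf_left _ (commutator_mono le_top le_top))
    (inf_le_inf_left _ (commutator_mono le_top le_top)))
  have hfoc : S' ⊓ ⁅(⊤ : Subgroup G), ⊤⁆ = S'.focalSubgroup := by
    rw [← Subgroup.commutator_inf_eq_focalSubgroup S, inf_comm]
    rfl
  show S' ⊓ ⁅(⊤ : Subgroup G), ⊤⁆ ≤ L
  rw [hfoc, focalSubgroup_def, closure_le]
  rintro _ ⟨hcS, x, hx, u, rfl⟩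
  have hy : u * x⁻¹ * u⁻¹ ∈ S' := by
    have h := S'.mul_mem (S'.inv_mem hx) hcS
    rw [commutatorElement_def] at h
    simpa [mul_assoc] using h
  have hch : RChain (fullNormSet p S') ({x⁻¹} : Set G) u⁻¹ := by
    refine rchain_of_exists_good S (fun V hV => hV.1) (fun T hT => exists_fullNormalized S hT) _ _
      (Set.singleton_subset_iff.2 (S'.inv_mem hx)) ?_
    rintro _ ⟨z, hz, rfl⟩
    rw [Set.mem_singleton_iff] at hz
    show _ ∈ S'
    simpa [hz] using hy
  have h := rchain_mod hch (L := L) (fun T hT y hy z hz _ =>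
    stepT T y z hT hy hz fun T' _ hT'S _ hT'0 hZT' => main _ T' hT'0 hT'S hZT' rfl)
    (Set.mem_singleton x⁻¹)
  have hxL : ∀ z ∈ L, x * z * x⁻¹ ∈ L := by
    intro z hz
    have hLS : L ≤ S' := sup_le inf_le_left inf_le_left
    have := hSL (hmem S' x z (le_normalizer hx) (hLS hz) le_rfl)
    simpa [mul_assoc] using L.mul_mem this hz
  show ⁅x, u⁆ ∈ L
  simpa [commutatorElement_def, mul_assoc] using hxL _ h

end CfsgLib.PLocal
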