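import Mathlib
import Cfsg.Prelude.Def_RootSubgroups

/-!
# Quadratic pairs: root endomorphisms

A root endomorphism for `G ≤ GL(M)` is a square zero endomorphism `a` with all `1 + c • a` in `G`.
-/

set_option autoImplicit false

namespace CfsgLib.PLocal.QPair

variable {k : Type*} [Field k] {M : Type*} [AddCommGroup M] [Module k M]

local notation "GLk" => LinearMap.GeneralLinearGroup k M
local notation "𝔈" => M →ₗ[k] M

/-- The unit `1 + a` for a square zero endomorphism. -/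
def uEnd (a : 𝔈) (ha : a * a = 0) : GLk :=
  ⟨1 + a, 1 - a, by simp [mul_sub, add_mul, ha], by simp [sub_mul, mul_add, ha]⟩

theorem uEnd_coe (a : 𝔈) (ha : a * a = 0) : (uEnd a ha : 𝔈) = 1 + a := rfl

theorem uEnd_inv_coe (a : 𝔈) (ha : a * a = 0) : (((uEnd a ha)⁻¹ : GLk) : 𝔈) = 1 - a := rfl

theorem uEnd_sub_one (a : 𝔈) (ha : a * a = 0) : (uEnd a ha : 𝔈) - 1 = a := by
  simp [uEnd_coe]

theorem smul_sq {a : 𝔈} (ha : a * a = 0) (c : k) : (c • a) * (c • a) = 0 := by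
  rw [smul_mul_smul_comm, ha, smul_zero]

theorem conj_uEnd (g : GLk) (a : 𝔈) (ha : a * a = 0) :
    ((g * uEnd a ha * g⁻¹ : GLk) : 𝔈) = 1 + (g : 𝔈) * a * ((g⁻¹ : GLk) : 𝔈) := by
  rw [Units.val_mul, Units.val_mul, uEnd_coe, mul_add, add_mul, mul_one, Units.mul_inv]

theorem range_le_ker {a : 𝔈} (ha : a * a = 0) : LinearMap.range a ≤ LinearMap.ker a := by
  rintro _ ⟨m, rfl⟩
  exact LinearMap.congr_fun ha m

theorem mul_eq_zero_iff {x y : 𝔈} : x * y = 0 ↔ LinearMap.range y ≤ LinearMap.ker x := by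
  constructor
  · rintro h _ ⟨m, rfl⟩
    exact LinearMap.congr_fun h m
  · intro h
    ext m
    exact h (LinearMap.mem_range_self y m)

/-- `a` is a root endomorphism for `G`. -/
def IsRoot (G : Subgroup GLk) (a : 𝔈) : Prop :=
  a * a = 0 ∧ ∀ (c : k) (g : GLk), (g : 𝔈) = 1 + c • a → g ∈ G

variable {G : Subgroup (LinearMap.GeneralLinearGroup k M)}

theorem IsRoot.sq {a : 𝔈} (h : IsRoot G a) : a * a = 0 := h.1

theorem IsRoot.mem {a : 𝔈} (h : IsRoot G a) {g : GLk} (hg : (g : 𝔈) = 1 + a) : g ∈ G :=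
  h.2 1 g (by rw [one_smul]; exact hg)

theorem IsRoot.uEnd_mem {a : 𝔈} (h : IsRoot G a) : uEnd a h.1 ∈ G := h.mem rfl

theorem isRoot_zero : IsRoot G (0 : 𝔈) := by
  refine ⟨by simp, fun c g hg => ?_⟩
  rw [show g = 1 from Units.ext (by simpa using hg)]
  exact one_mem G

theorem IsRoot.smul {a : 𝔈} (h : IsRoot G a) (c : k) : IsRoot G (c • a) :=
  ⟨smul_sq h.1 c, fun d g hg => h.2 (d * c) g (by rw [hg, smul_smul])⟩

theorem IsRoot.neg {a : 𝔈} (h : IsRoot G a) : IsRoot G (-a) := by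
  simpa using h.smul (-1)

theorem IsRoot.add {a b : 𝔈} (ha : IsRoot G a) (hb : IsRoot G b) (h1 : a * b = 0) (h2 : b * a = 0) :
    IsRoot G (a + b) := by
  refine ⟨by simp [mul_add, add_mul, ha.1, hb.1, h1, h2], fun c g hg => ?_⟩
  have e : g = uEnd (c • a) (smul_sq ha.1 c) * uEnd (c • b) (smul_sq hb.1 c) := Units.ext (by
    simp only [hg, Units.val_mul, uEnd_coe, mul_add, add_mul, one_mul, mul_one,
      smul_mul_smul_comm, h1, smul_zero, add_zero, smul_add]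
    abel)
  rw [e]
  exact mul_mem (ha.2 c _ rfl) (hb.2 c _ rfl)

theorem IsRoot.sub {a b : 𝔈} (ha : IsRoot G a) (hb : IsRoot G b) (h1 : a * b = 0) (h2 : b * a = 0) :
    IsRoot G (a - b) := by
  rw [sub_eq_add_neg]
  exact ha.add hb.neg (by rw [mul_neg, h1, neg_zero]) (by rw [neg_mul, h2, neg_zero])

theorem IsRoot.conj {a : 𝔈} (h : IsRoot G a) {g : GLk} (hg : g ∈ G) :
    IsRoot G ((g : 𝔈) * a * ((g⁻¹ : GLk) : 𝔈)) := by
  refine ⟨?_, fun c u hu => ?_⟩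
  · rw [show (g : 𝔈) * a * ((g⁻¹ : GLk) : 𝔈) * ((g : 𝔈) * a * ((g⁻¹ : GLk) : 𝔈)) =
      (g : 𝔈) * a * (((g⁻¹ : GLk) : 𝔈) * (g : 𝔈)) * a * ((g⁻¹ : GLk) : 𝔈) by simp only [mul_assoc],
      Units.inv_mul, mul_one, mul_assoc (g : 𝔈) a a, h.1, mul_zero, zero_mul]
  · have e : u = g * uEnd (c • a) (smul_sq h.1 c) * g⁻¹ := Units.ext (by
      rw [hu, conj_uEnd, mul_smul_comm, smul_mul_assoc])
    rw [e]
    exact mul_mem (mul_mem hg (h.2 c _ rfl)) (inv_mem hg)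

/-- Conjugating a root endomorphism by `1 + s a`. -/
theorem conj_by_root (a b : 𝔈) (ha : a * a = 0) (s : k) :
    (1 + s • a) * b * (1 - s • a) = b + s • (a * b - b * a) - (s * s) • (a * b * a) := by
  simp only [add_mul, mul_sub, one_mul, mul_one, smul_mul_assoc, mul_smul_comm, smul_smul, smul_sub,
    mul_assoc]
  module

theorem IsRoot.conj_root {a b : 𝔈} (ha : IsRoot G a) (hb : IsRoot G b) (s : k) :
    IsRoot G (b + s • (a * b - b * a) - (s * s) • (a * b * a)) := by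
  rw [← conj_by_root a b ha.1 s]
  exact hb.conj (ha.smul s).uEnd_mem

/-- The rank of an endomorphism. -/
noncomputable def rk (a : 𝔈) : ℕ := Module.finrank k (LinearMap.range a)

/-- A root endomorphism of minimal positive rank. -/
def IsMin (G : Subgroup GLk) (a : 𝔈) : Prop :=
  IsRoot G a ∧ a ≠ 0 ∧ ∀ b, IsRoot G b → b ≠ 0 → rk a ≤ rk b

/-- The root endomorphisms acting like `a`, and zero. -/
def rootSet (G : Subgroup GLk) (a : 𝔈) : Set 𝔈 :=
  {x | IsRoot G x ∧ LinearMap.range x ≤ LinearMap.range a ∧ LinearMap.ker a ≤ LinearMap.ker x}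

theorem quadratic_iff {σ : GLk} :
    σ ∈ Cfsg.quadraticElements G ↔ IsRoot G ((σ : 𝔈) - 1) ∧ (σ : 𝔈) - 1 ≠ 0 := by
  constructor
  · rintro ⟨-, ⟨h1, h2⟩, h3⟩
    exact ⟨⟨h1, fun c g hg => h3 ⟨c, hg⟩⟩, h2⟩
  · rintro ⟨h, h2⟩
    exact ⟨h.mem (by abel), ⟨h.1, h2⟩, fun g ⟨c, hc⟩ => h.2 c g hc⟩

theorem uEnd_quadratic {a : 𝔈} (h : IsRoot G a) (h0 : a ≠ 0) :
    uEnd a h.1 ∈ Cfsg.quadraticElements G := by
  rw [quadratic_iff, uEnd_sub_one]
  exact ⟨h, h0⟩

theorem minimal_iff {σ : GLk} :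
    σ ∈ Cfsg.minimalQuadraticElements G ↔ IsMin G ((σ : 𝔈) - 1) := by
  constructor
  · rintro ⟨h1, h2⟩
    rw [quadratic_iff] at h1
    refine ⟨h1.1, h1.2, fun b hb hb0 => ?_⟩
    have h := h2 _ (uEnd_quadratic hb hb0)
    rw [Cfsg.commutatorRank, Cfsg.commutatorRank, uEnd_sub_one] at h
    exact h
  · rintro ⟨h1, h2, h3⟩
    refine ⟨quadratic_iff.2 ⟨h1, h2⟩, fun τ hτ => ?_⟩
    rw [quadratic_iff] at hτ
    exact h3 _ hτ.1 hτ.2

theorem rootSet_mul {a : 𝔈} (ha : a * a = 0) {x y : 𝔈} (hx : x ∈ rootSet G a)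
    (hy : y ∈ rootSet G a) : x * y = 0 :=
  mul_eq_zero_iff.2 ((hy.2.1.trans (range_le_ker ha)).trans hx.2.2)

theorem zero_mem_rootSet (a : 𝔈) : (0 : 𝔈) ∈ rootSet G a := ⟨isRoot_zero, by simp, by simp⟩

theorem self_mem_rootSet {a : 𝔈} (h : IsRoot G a) : a ∈ rootSet G a := ⟨h, le_rfl, le_rfl⟩

theorem smul_mem_rootSet {a x : 𝔈} (hx : x ∈ rootSet G a) (c : k) : c • x ∈ rootSet G a :=
  ⟨hx.1.smul c, le_trans (by
      rintro _ ⟨m, rfl⟩
      exact ⟨c • m, by simp⟩) hx.2.1,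
    fun m hm => by simp [LinearMap.mem_ker.1 (hx.2.2 hm)]⟩

theorem add_mem_rootSet {a x y : 𝔈} (ha : a * a = 0) (hx : x ∈ rootSet G a)
    (hy : y ∈ rootSet G a) : x + y ∈ rootSet G a :=
  ⟨hx.1.add hy.1 (rootSet_mul ha hx hy) (rootSet_mul ha hy hx), by
    rintro _ ⟨m, rfl⟩
    exact add_mem (hx.2.1 (LinearMap.mem_range_self x m)) (hy.2.1 (LinearMap.mem_range_self y m)),
    fun m hm => by simp [LinearMap.mem_ker.1 (hx.2.2 hm), LinearMap.mem_ker.1 (hy.2.2 hm)]⟩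

theorem neg_mem_rootSet {a x : 𝔈} (hx : x ∈ rootSet G a) : -x ∈ rootSet G a := by
  simpa using smul_mem_rootSet hx (-1)

theorem sub_mem_rootSet {a x y : 𝔈} (ha : a * a = 0) (hx : x ∈ rootSet G a)
    (hy : y ∈ rootSet G a) : x - y ∈ rootSet G a := by
  rw [sub_eq_add_neg]
  exact add_mem_rootSet ha hx (neg_mem_rootSet hy)

section Finite

variable [FiniteDimensional k M]

theorem rk_pos {a : 𝔈} (h : a ≠ 0) : 0 < rk a := by
  rw [rk, Nat.pos_iff_ne_zero, Ne, Submodule.finrank_eq_zero, LinearMap.range_eq_bot]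
  exact h

theorem IsMin.eq_zero_of_rk_lt {a b : 𝔈} (ha : IsMin G a) (hb : IsRoot G b) (h : rk b < rk a) :
    b = 0 := by
  by_contra h0
  exact absurd (ha.2.2 b hb h0) (Nat.not_le.2 h)

theorem IsMin.sameAct {a x : 𝔈} (ha : IsMin G a) (hx : x ∈ rootSet G a) (h0 : x ≠ 0) :
    LinearMap.range x = LinearMap.range a ∧ LinearMap.ker x = LinearMap.ker a := by
  have hle := ha.2.2 x hx.1 h0
  have e1 : LinearMap.range x = LinearMap.range a := Submodule.eq_of_le_of_finrank_le hx.2.1 hle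
  refine ⟨e1, (Submodule.eq_of_le_of_finrank_eq hx.2.2 ?_).symm⟩
  have := LinearMap.finrank_range_add_finrank_ker x
  have := LinearMap.finrank_range_add_finrank_ker a
  rw [e1] at *
  omega

theorem IsMin.of_mem {a x : 𝔈} (ha : IsMin G a) (hx : x ∈ rootSet G a) (h0 : x ≠ 0) : IsMin G x :=
  ⟨hx.1, h0, fun b hb hb0 => le_of_eq_of_le (by rw [rk, rk, (ha.sameAct hx h0).1]) (ha.2.2 b hb hb0)⟩

theorem IsMin.rootSet_eq {a x : 𝔈} (ha : IsMin G a) (hx : x ∈ rootSet G a) (h0 : x ≠ 0) :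
    rootSet G x = rootSet G a := by
  rw [rootSet, rootSet, (ha.sameAct hx h0).1, (ha.sameAct hx h0).2]

theorem mem_sameAction_iff {σ : GLk} (hσ : IsMin G ((σ : 𝔈) - 1)) {g : GLk} :
    g ∈ Cfsg.sameActionSubgroup G σ ↔ (g : 𝔈) - 1 ∈ rootSet G ((σ : 𝔈) - 1) := by
  constructor
  · intro hg
    induction hg using Subgroup.closure_induction with
    | mem x hx => exact ⟨(minimal_iff.1 hx.1).1, hx.2.2.le, hx.2.1.ge⟩
    | one => simpa using zero_mem_rootSet (G := G) _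
    | mul x y _ _ hx hy =>
      have e : ((x * y : GLk) : 𝔈) - 1 = ((x : 𝔈) - 1) + ((y : 𝔈) - 1) := by
        have h := rootSet_mul hσ.1.1 hx hy
        rw [sub_mul, mul_sub, one_mul, mul_one] at h
        rw [Units.val_mul, show (x : 𝔈) * (y : 𝔈) =
          ((x : 𝔈) * (y : 𝔈) - (x : 𝔈) - ((y : 𝔈) - 1)) + (x : 𝔈) + ((y : 𝔈) - 1) by abel, h]
        abel
      rw [e]
      exact add_mem_rootSet hσ.1.1 hx hy
    | inv x _ hx =>
      have e : x⁻¹ = uEnd (-((x : 𝔈) - 1)) (neg_mem_rootSet hx).1.1 := inv_eq_of_mul_eq_one_right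
        (Units.ext (by
          have h := hx.1.1
          simp only [sub_mul, mul_sub, one_mul, mul_one] at h
          rw [Units.val_mul, uEnd_coe, Units.val_one, mul_add, mul_one, mul_neg, mul_sub, mul_one,
            ← sub_eq_zero, ← neg_eq_zero, ← h]
          abel))
      rw [e, uEnd_sub_one]
      exact neg_mem_rootSet hx
  · intro hg
    by_cases h0 : (g : 𝔈) - 1 = 0
    · rw [show g = 1 from Units.ext (by simpa [sub_eq_zero] using h0)]
      exact one_mem _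
    · exact Subgroup.subset_closure ⟨minimal_iff.2 (hσ.of_mem hg h0),
        (hσ.sameAct hg h0).2, (hσ.sameAct hg h0).1⟩

end Finite

end CfsgLib.PLocal.QPair
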