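import Cfsg.Agent.Lib.PLocal.QPairRestrict

/-!
# Quadratic pairs: `G` is a central product of quasisimple groups
-/

set_option autoImplicit false

universe u

namespace CfsgLib.PLocal.QPair

open Cfsg
open scoped commutatorElement
open CfsgLib.Trans3.RankOne (mem_conjBy conj_mem_conjBy)

variable {k : Type u} [Field k] {M : Type u} [AddCommGroup M] [Module k M] [FiniteDimensional k M]

local notation "GLk" => LinearMap.GeneralLinearGroup k M
local notation "𝔈" => M →ₗ[k] M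

variable {G : Subgroup (LinearMap.GeneralLinearGroup k M)}

/-- The property asserted of a quadratic pair. -/
def HasQSDecomp (G : Subgroup (LinearMap.GeneralLinearGroup k M)) : Prop :=
  ∃ (ι : Type u) (_ : Finite ι) (Gi : ι → Subgroup (LinearMap.GeneralLinearGroup k M)),
    (∀ i, Gi i ≤ G ∧ ∀ g ∈ G, conjBy (Gi i) g = Gi i) ∧ (∀ i j, i ≠ j → ⁅Gi i, Gi j⁆ = ⊥) ∧
    (∀ i, IsQuasisimple ↥(Gi i) ∧
      Subgroup.closure (quadraticElements G ∩ (Gi i : Set (LinearMap.GeneralLinearGroup k M))) = Gi i) ∧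
    quadraticElements G ⊆ ⋃ i, (Gi i : Set (LinearMap.GeneralLinearGroup k M))

theorem compSup_closure {A : Subgroup GLk} :
    Subgroup.closure (quadraticElements G ∩ (compSup G A : Set GLk)) = compSup G A := by
  refine le_antisymm ((Subgroup.closure_le _).2 fun g hg => hg.2) (iSup₂_le fun B hB g hg => ?_)
  obtain ⟨b, hb, rfl⟩ := exists_rsub hB.1
  have hm := (mem_rsub hb).1 hg
  rcases eq_or_ne ((g : 𝔈) - 1) 0 with h0 | h0
  · rw [show g = 1 from Units.ext (sub_eq_zero.1 h0)]; exact one_mem _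
  · exact Subgroup.subset_closure ⟨quadratic_iff.2 ⟨hm.1, h0⟩, le_compSup hB hg⟩

theorem exists_min_invariant (hG : IsQuadraticPair G) :
    ∃ W : Submodule k M, W ≠ ⊥ ∧ (∀ g ∈ cenQ G, ∀ w ∈ W, (g : 𝔈) w ∈ W) ∧
      ∀ V : Submodule k M, V ≤ W → V ≠ ⊥ → (∀ g ∈ cenQ G, ∀ w ∈ V, (g : 𝔈) w ∈ V) → V = W := by
  classical
  let P : ℕ → Prop := fun d => ∃ W : Submodule k M, W ≠ ⊥ ∧
    (∀ g ∈ cenQ G, ∀ w ∈ W, (g : 𝔈) w ∈ W) ∧ Module.finrank k W = d
  have hex : ∃ d, P d := by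
    obtain ⟨m, hm⟩ := hG.1.1
    refine ⟨_, ⊤, fun h => hm ((Submodule.mem_bot k).1 (h ▸ Submodule.mem_top)), ?_, rfl⟩
    exact fun _ _ _ _ => Submodule.mem_top
  obtain ⟨W, hW0, hW, hd⟩ := Nat.find_spec hex
  refine ⟨W, hW0, hW, fun V hV hV0 hVi => Submodule.eq_of_le_of_finrank_le hV ?_⟩
  rw [hd]
  exact Nat.find_min' hex ⟨V, hV0, hVi, rfl⟩

theorem finrank_lt_of_min (h2 : (2 : k) ≠ 0) (hk : Nat.card k ≠ 3) (hG : IsQuadraticPair G)
    {W : Submodule k M} (hW : ∀ g ∈ cenQ G, ∀ w ∈ W, (g : 𝔈) w ∈ W)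
    (hmin : ∀ V : Submodule k M, V ≤ W → V ≠ ⊥ → (∀ g ∈ cenQ G, ∀ w ∈ V, (g : 𝔈) w ∈ V) → V = W)
    {A : Subgroup GLk} (hA : A ∈ quadraticRootSubgroups G) :
    Module.finrank k W < Module.finrank k M := by
  refine Submodule.finrank_lt fun htop => ?_
  obtain ⟨a, ha, rfl⟩ := exists_rsub hA
  have hcomm : ∀ g ∈ cenQ G, (g : 𝔈) * a = a * (g : 𝔈) := by
    intro g hg
    have e := congrArg Units.val (cenQ_comm hg
      ((le_iSup₂ (f := fun C (_ : C ∈ quadraticRootSubgroups G) => C) (rsub ha) hA) (uEnd_mem_rsub ha)))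
    simp only [Units.val_mul, uEnd_coe, mul_add, add_mul, mul_one, one_mul] at e
    exact add_left_cancel e
  have h := hmin (LinearMap.range a) (htop ▸ le_top) (fun h => ha.2.1 (LinearMap.range_eq_bot.1 h))
    fun g hg w ⟨m, hm⟩ => ⟨(g : 𝔈) m, by rw [← hm, ← Module.End.mul_apply, ← hcomm g hg]; rfl⟩
  refine ha.2.1 (LinearMap.ext fun m => ?_)
  obtain ⟨n, hn⟩ := (h.trans htop).ge (Submodule.mem_top (x := m))
  rw [← hn, ← Module.End.mul_apply, ha.1.1]
  rfl

theorem hasQSDecomp : ∀ (n : ℕ) {k : Type u} [Field k] {M : Type u} [AddCommGroup M] [Module k M]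
    [FiniteDimensional k M] {G : Subgroup (LinearMap.GeneralLinearGroup k M)},
    Module.finrank k M < n → (2 : k) ≠ 0 → Nat.card k ≠ 3 → IsQuadraticPair G → HasQSDecomp G := by
  intro n
  induction n with
  | zero => exact fun h => absurd h (Nat.not_lt_zero _)
  | succ n ih =>
    intro k _ M _ _ _ G hn h2 hk hG
    classical
    have := (comps_finite h2 hk hG).to_subtype
    choose rep hrep hrep' using fun P : comps G => P.2
    -- the family from the centralizer of the components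
    obtain ⟨J, hJfin, L, hL1, hL2, hL3, hL4⟩ : ∃ (J : Type u) (_ : Finite J)
        (L : J → Subgroup (LinearMap.GeneralLinearGroup k M)),
        (∀ j, L j ≤ cenQ G ∧ ∀ g ∈ cenQ G, conjBy (L j) g = L j) ∧ (∀ i j, i ≠ j → ⁅L i, L j⁆ = ⊥) ∧
        (∀ j, IsQuasisimple ↥(L j) ∧ Subgroup.closure
          (quadraticElements G ∩ (L j : Set (LinearMap.GeneralLinearGroup k M))) = L j) ∧
        ∀ σ ∈ quadraticElements G, σ ∈ cenQ G → ∃ j, σ ∈ L j := by
      by_cases hS : quadraticRootSubgroups G = ∅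
      · refine ⟨PEmpty, inferInstance, fun i => i.elim, fun i => i.elim, fun i => i.elim, fun i => i.elim,
          fun σ hσ _ => absurd hS ?_⟩
        let P : ℕ → Prop := fun d => ∃ τ ∈ quadraticElements G, commutatorRank τ = d
        obtain ⟨τ, hτ, hd⟩ := Nat.find_spec (p := P) ⟨_, σ, hσ, rfl⟩
        exact Set.nonempty_iff_ne_empty.1
          ⟨_, τ, ⟨hτ, fun ρ hρ => hd ▸ Nat.find_min' _ ⟨ρ, hρ, rfl⟩⟩, rfl⟩
      obtain ⟨A, hA⟩ := Set.nonempty_iff_ne_empty.2 hS
      obtain ⟨W, hW0, hW, hmin⟩ := exists_min_invariant hG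
      have hlt := finrank_lt_of_min h2 hk hG hW hmin hA
      obtain ⟨J, hJ, L', a1, a2, a3, a4⟩ := ih (by omega) h2 hk (isQuadraticPair_res h2 hk hG hW hW0 hmin)
      have hinj := resHom_injective h2 hk hG hW hW0
      set ρ := resHom G W hW
      have hmap : ∀ j, ((L' j).comap ρ).map ρ = L' j := fun j =>
        Subgroup.map_comap_eq_self (a1 j).1
      refine ⟨J, hJ, fun j => ((L' j).comap ρ).map (cenQ G).subtype, fun j => ⟨Subgroup.map_subtype_le _, ?_⟩,
        fun i j hij => ?_, fun j => ⟨?_, ?_⟩, fun σ hσ hσc => ?_⟩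
      · intro g hg
        beta_reduce
        have e : conjBy ((L' j).comap ρ) ⟨g, hg⟩ = (L' j).comap ρ := by
          refine Subgroup.map_injective hinj ?_
          rw [CfsgLib.Trans3.PairOver.map_conjBy, hmap]
          exact (a1 j).2 _ ⟨_, rfl⟩
        conv_rhs => rw [← e]
        exact (CfsgLib.Trans3.PairOver.map_conjBy (cenQ G).subtype _ ⟨g, hg⟩).symm
      · rw [← Subgroup.map_commutator, Subgroup.map_injective hinj
          (show (⁅(L' i).comap ρ, (L' j).comap ρ⁆).map ρ = (⊥ : Subgroup _).map ρ by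
            rw [Subgroup.map_commutator, hmap, hmap, Subgroup.map_bot]; exact a2 i j hij),
          Subgroup.map_bot]
      · refine CfsgLib.ClassK.isQuasisimple_of_mulEquiv ?_ (a3 j).1
        exact ((MulEquiv.subgroupCongr (hmap j)).symm.trans
          (((L' j).comap ρ).equivMapOfInjective ρ hinj).symm).trans
          (((L' j).comap ρ).equivMapOfInjective (cenQ G).subtype (cenQ G).subtype_injective)
      · refine le_antisymm ((Subgroup.closure_le _).2 fun g hg => hg.2) ?_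
        rintro _ ⟨g, hg, rfl⟩
        have hρg : ρ g ∈ Subgroup.map ρ (Subgroup.comap (cenQ G).subtype (Subgroup.closure (quadraticElements G ∩
            ((((L' j).comap ρ).map (cenQ G).subtype : Subgroup _) : Set _)))) := by
          refine (le_of_eq (a3 j).2.symm).trans ((Subgroup.closure_le _).2 ?_) hg
          rintro τ ⟨hτ, hτj⟩
          obtain ⟨g', rfl⟩ := (a1 j).1 hτj
          exact ⟨g', Subgroup.subset_closure
            ⟨(resHom_mem_iff h2 hk hG hW hW0 g').1 hτ, ⟨g', hτj, rfl⟩⟩, rfl⟩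
        obtain ⟨g', hg', e⟩ := hρg
        rw [← hinj e]
        exact hg'
      · obtain ⟨j, hj⟩ := Set.mem_iUnion.1 (a4 ((resHom_mem_iff h2 hk hG hW hW0 ⟨σ, hσc⟩).2 hσ))
        exact ⟨j, ⟨σ, hσc⟩, hj, rfl⟩
    have sigC : ∀ j, ∀ P : comps G, ⁅compSup G (rep P), L j⁆ = ⊥ := fun j P =>
      Subgroup.commutator_eq_bot_iff_le_centralizer.2 fun x hx => Subgroup.mem_centralizer_iff.2
        fun y hy => cenQ_comm ((hL1 j).1 hy) (compSup_le_sigma hx)
    refine ⟨comps G ⊕ J, inferInstance, Sum.elim (fun P => compSup G (rep P)) L, ?_, ?_, ?_, ?_⟩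
    · rintro (P | j)
      · exact ⟨compSup_le, fun g hg => conjBy_compSup h2 hk hG hg⟩
      · refine ⟨(hL1 j).1.trans cenQ_le, fun g hg => ?_⟩
        have hle := (sup_le (fun g hg => ?_) (fun g hg => ?_) :
          (⨆ A ∈ quadraticRootSubgroups G, A) ⊔ cenQ G ≤ Subgroup.normalizer (L j : Set _))
        · exact CfsgLib.Trans3.RankOne.conjBy_eq_self_iff.2 (hle (le_sup_cenQ h2 hk hG hg))
        · exact CfsgLib.Trans3.RankOne.conjBy_eq_self_iff.1 (conjBy_fixed fun d hd =>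
            (cenQ_comm ((hL1 j).1 hd) hg).symm)
        · exact CfsgLib.Trans3.RankOne.conjBy_eq_self_iff.1 ((hL1 j).2 g hg)
    · rintro (P | i) (Q | j) hne
      · refine compSet_commute h2 hk hG fun h => hne ?_
        rw [show P = Q from Subtype.ext ((hrep' P).symm.trans (h.trans (hrep' Q)))]
      · exact sigC j P
      · rw [Subgroup.commutator_comm]; exact sigC i Q
      · exact hL2 i j fun h => hne (by rw [h])
    · rintro (P | j)
      · exact ⟨compSup_quasisimple h2 hk hG (hrep P), compSup_closure⟩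
      · exact hL3 j
    · intro σ hσ
      rw [Set.mem_iUnion]
      rcases quadratic_cases h2 hk hG hσ with ⟨A, hA, h⟩ | h
      · refine ⟨Sum.inl ⟨compSet G A, A, hA, rfl⟩, ?_⟩
        have e : compSup G (rep ⟨compSet G A, A, hA, rfl⟩) = compSup G A := by
          rw [compSup, compSup, hrep' ⟨compSet G A, A, hA, rfl⟩]
        show σ ∈ compSup G (rep ⟨compSet G A, A, hA, rfl⟩)
        rw [e]; exact h
      · obtain ⟨j, hj⟩ := hL4 σ hσ (Subgroup.subset_closure ⟨hσ, h⟩)
        exact ⟨Sum.inr j, hj⟩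

theorem central_product (h2 : (2 : k) ≠ 0) (hk : Nat.card k ≠ 3) (hG : IsQuadraticPair G) :
    ∃ (s : ℕ) (Gi : Fin s → Subgroup GLk),
      (∀ i, Gi i ≤ G ∧ ∀ g ∈ G, conjBy (Gi i) g = Gi i) ∧ (∀ i j, i ≠ j → ⁅Gi i, Gi j⁆ = ⊥) ∧
      (⨆ i, Gi i) = G ∧
      (∀ i, IsQuasisimple ↥(Gi i) ∧
        Subgroup.closure (quadraticElements G ∩ (Gi i : Set GLk)) = Gi i) ∧
      quadraticElements G ⊆ ⋃ i, (Gi i : Set GLk) := by
  obtain ⟨ι, hι, Gi, h1, h2', h3, h4⟩ := hasQSDecomp (Module.finrank k M + 1) (G := G)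
    (Nat.lt_succ_self _) h2 hk hG
  let e := Finite.equivFin ι
  refine ⟨_, fun i => Gi (e.symm i), fun i => h1 _, fun i j hij => h2' _ _ fun h => hij (e.symm.injective h),
    le_antisymm (iSup_le fun i => (h1 _).1) ?_, fun i => h3 _, fun σ hσ => ?_⟩
  · conv_lhs => rw [← hG.2]
    rw [Subgroup.closure_le]
    intro σ hσ
    obtain ⟨i, hi⟩ := Set.mem_iUnion.1 (h4 hσ)
    exact Subgroup.mem_iSup_of_mem (e i) (by beta_reduce; rw [e.symm_apply_apply]; exact hi)
  · obtain ⟨i, hi⟩ := Set.mem_iUnion.1 (h4 hσ)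
    exact Set.mem_iUnion.2 ⟨e i, by beta_reduce; rw [e.symm_apply_apply]; exact hi⟩

end CfsgLib.PLocal.QPair
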