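import Cfsg.Agent.Lib.PLocal.QPairReduce

/-!
# Quadratic pairs: `G` is the product of `⟨Σ⟩` with its centralizer
-/

set_option autoImplicit false

universe u

namespace CfsgLib.PLocal.QPair

open Cfsg
open scoped commutatorElement

variable {k : Type u} [Field k] {M : Type u} [AddCommGroup M] [Module k M] [FiniteDimensional k M]

local notation "GLk" => LinearMap.GeneralLinearGroup k M
local notation "𝔈" => M →ₗ[k] M

variable {G : Subgroup (LinearMap.GeneralLinearGroup k M)}

/-- A quadratic element lies in one component group or centralizes all of `⟨Σ⟩`. -/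
theorem quadratic_cases (h2 : (2 : k) ≠ 0) (hk : Nat.card k ≠ 3) (hG : IsQuadraticPair G) {σ : GLk}
    (hσ : σ ∈ quadraticElements G) :
    (∃ A ∈ quadraticRootSubgroups G, σ ∈ compSup G A) ∨
      σ ∈ Subgroup.centralizer
        ((⨆ A ∈ quadraticRootSubgroups G, A : Subgroup GLk) : Set GLk) := by
  have hr := (quadratic_iff.1 hσ).1
  by_cases h : ∃ A ∈ quadraticRootSubgroups G, InSup G A ((σ : 𝔈) - 1)
  · obtain ⟨A, hA, hin⟩ := h
    exact Or.inl ⟨A, hA, hin.2 1 σ (by rw [one_smul]; abel)⟩
  · right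
    push Not at h
    refine Subgroup.le_centralizer_iff.1 (iSup₂_le fun B hB => ?_ :
      (⨆ A ∈ quadraticRootSubgroups G, A) ≤ Subgroup.centralizer ((Subgroup.closure {σ} : Subgroup GLk) : Set GLk))
      (Subgroup.subset_closure rfl)
    rw [Subgroup.centralizer_closure]
    intro g hg
    refine Subgroup.mem_centralizer_singleton_iff.2 ?_
    have hc := (inSup_or_comm h2 hk hG B _ hr).resolve_left (h B hB)
    have := compSup_comm hc (le_compSup (mem_compSet_self hB) hg)
    exact ((commute_iff σ g).2 (by rw [mul_sub, sub_mul _ _ ((σ : 𝔈) - 1), mul_one, one_mul, this])).symm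

theorem cocentral (h2 : (2 : k) ≠ 0) (hk : Nat.card k ≠ 3) (hG : IsQuadraticPair G) :
    (⨆ A ∈ quadraticRootSubgroups G, A) ⊔
      (G ⊓ Subgroup.centralizer
        ((⨆ A ∈ quadraticRootSubgroups G, A : Subgroup GLk) : Set GLk)) = G := by
  refine le_antisymm (sup_le sigmaSup_le inf_le_left) ?_
  conv_lhs => rw [← hG.2]
  rw [Subgroup.closure_le]
  intro σ hσ
  rcases quadratic_cases h2 hk hG hσ with ⟨A, -, h⟩ | h
  · exact Subgroup.mem_sup_left (compSup_le_sigma h)
  · exact Subgroup.mem_sup_right ⟨hσ.1, h⟩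

end CfsgLib.PLocal.QPair
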