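import Cfsg.Agent.Lib.PLocal.QPairUnip

/-!
# Quadratic pairs: commutators of minimal root endomorphisms
-/

set_option autoImplicit false

namespace CfsgLib.PLocal.QPair

open Submodule (map finrank_mono)
open Module (finrank)

variable {k : Type*} [Field k] {M : Type*} [AddCommGroup M] [Module k M]

local notation "GLk" => LinearMap.GeneralLinearGroup k M
local notation "𝔈" => M →ₗ[k] M

variable {G : Subgroup (LinearMap.GeneralLinearGroup k M)}

/-- The commutator of a nilpotent pair of root endomorphisms is a root endomorphism. -/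
theorem comm_isRoot {a b : 𝔈} (ha : IsRoot G a) (hb : IsRoot G b) (h1 : a * b * a = 0)
    (h2 : b * a * b = 0) : IsRoot G (a * b - b * a) := by
  have r := ha.conj_root hb 1
  rw [one_smul, one_mul, one_smul, h1, sub_zero] at r
  have hbb := hb.sq
  have := r.sub hb
    (by rw [add_mul, sub_mul, mul_assoc a b b, hbb, mul_zero, zero_add, zero_sub, h2, neg_zero])
    (by rw [mul_add, mul_sub, ← mul_assoc b b a, hbb, zero_mul, zero_add, sub_zero, ← mul_assoc, h2])
  simpa using this

section Finite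

variable [FiniteDimensional k M]

/-- An element of `rootSet G b` squeezed into the action of `a` identifies both root sets. -/
theorem rootSet_eq_of_squeeze {a b y : 𝔈} (ha : IsMin G a) (hb : IsMin G b) (hy : y ∈ rootSet G b)
    (h0 : y ≠ 0) (hr : LinearMap.range y ≤ LinearMap.range a)
    (hk : LinearMap.ker a ≤ LinearMap.ker y) : rootSet G a = rootSet G b := by
  have hy' : y ∈ rootSet G a := ⟨hy.1, hr, hk⟩
  rw [← ha.rootSet_eq hy' h0, hb.rootSet_eq hy h0]

/-- If conjugation by `1 ± a` stabilizes the root set of `b`, then `a` commutes with it. -/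
theorem comm_of_normalize (h2 : (2 : k) ≠ 0) {a b : 𝔈} (ha : IsMin G a) (hb : IsMin G b)
    (hn : ∀ x ∈ rootSet G b, cj a x 1 ∈ rootSet G b ∧ cj a x (-1) ∈ rootSet G b) :
    ∀ x ∈ rootSet G b, a * x = x * a := by
  intro x hx
  by_cases he : rootSet G a = rootSet G b
  · have hx' : x ∈ rootSet G a := he ▸ hx
    rw [rootSet_mul ha.1.sq (self_mem_rootSet ha.1) hx',
      rootSet_mul ha.1.sq hx' (self_mem_rootSet ha.1)]
  obtain ⟨hp, hm⟩ := hn x hx
  have hbb := hb.1.sq
  have hv : a * x * a ∈ rootSet G b := by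
    have h := smul_mem_rootSet (sub_mem_rootSet hbb (sub_mem_rootSet hbb hx hp)
      (sub_mem_rootSet hbb hm hx)) (2 : k)⁻¹
    convert h using 1
    simp only [cj]
    match_scalars <;> field_simp <;> ring
  have hc : a * x - x * a ∈ rootSet G b := by
    have h := smul_mem_rootSet (sub_mem_rootSet hbb hp hm) (2 : k)⁻¹
    convert h using 1
    simp only [cj]
    match_scalars <;> field_simp <;> ring
  have hv0 : a * x * a = 0 := by
    by_contra h0
    refine he (rootSet_eq_of_squeeze ha hb hv h0 ?_ ?_)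
    · rw [mul_assoc, Module.End.mul_eq_comp]
      exact LinearMap.range_comp_le_range _ _
    · intro m hm
      rw [LinearMap.mem_ker, Module.End.mul_apply, LinearMap.mem_ker.1 hm, map_zero]
  set c := a * x - x * a with hcdef
  by_contra hne
  have h0 : c ≠ 0 := sub_ne_zero.2 hne
  obtain ⟨hr, hk⟩ := hb.sameAct hc h0
  have hca : c * a = 0 := by rw [hcdef, sub_mul, hv0, mul_assoc, ha.1.sq, mul_zero, sub_zero]
  have hac : a * c = 0 := by
    rw [hcdef, mul_sub, ← mul_assoc, ha.1.sq, zero_mul, ← mul_assoc, hv0, sub_zero]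
  have h1 : x * a = 0 := mul_eq_zero_iff.2 (((mul_eq_zero_iff.1 hca).trans hk.le).trans hx.2.2)
  have h3 : a * x = 0 := mul_eq_zero_iff.2 ((hx.2.1.trans hr.ge).trans (mul_eq_zero_iff.1 hac))
  exact hne (by rw [h1, h3])

/-- The spaces attached to a non-zero commutator of a nilpotent minimal pair. -/
structure CommData (G : Subgroup GLk) (a b : 𝔈) : Prop where
  isMin : IsMin G (a * b - b * a)
  map_left : (LinearMap.range b).map a = LinearMap.range a ⊓ LinearMap.ker b
  map_right : (LinearMap.range a).map b = LinearMap.range b ⊓ LinearMap.ker a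
  disjoint : Disjoint ((LinearMap.range b).map a) ((LinearMap.range a).map b)
  range_eq : LinearMap.range (a * b - b * a) =
    (LinearMap.range a ⊓ LinearMap.ker b) ⊔ (LinearMap.range b ⊓ LinearMap.ker a)
  ker_eq : LinearMap.ker (a * b - b * a) =
    (LinearMap.range a ⊔ LinearMap.ker b) ⊓ (LinearMap.range b ⊔ LinearMap.ker a)
  rk_eq : rk (a * b - b * a) = rk a
  rk_add : finrank k ((LinearMap.range b).map a) + finrank k ((LinearMap.range a).map b) = rk a

theorem finrank_map_add (a : 𝔈) (U : Submodule k M) :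
    finrank k (U.map a) + finrank k (U ⊓ LinearMap.ker a : Submodule k M) = finrank k U := by
  have h := LinearMap.finrank_range_add_finrank_ker (a.domRestrict U)
  rw [LinearMap.range_domRestrict, LinearMap.ker_domRestrict] at h
  rwa [← Submodule.finrank_map_subtype_eq U, Submodule.map_comap_subtype] at h

theorem commData {a b : 𝔈} (ha : IsMin G a) (hb : IsMin G b) (h1 : a * b * a = 0)
    (h2 : b * a * b = 0) (h0 : a * b - b * a ≠ 0) : CommData G a b := by
  set Pa := (LinearMap.range b).map a with hPa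
  set Pb := (LinearMap.range a).map b with hPb
  have hroot := comm_isRoot ha.1 hb.1 h1 h2
  have hab : rk a = rk b := le_antisymm (ha.2.2 b hb.1 hb.2.1) (hb.2.2 a ha.1 ha.2.1)
  have la : Pa ≤ LinearMap.range a ⊓ LinearMap.ker b := le_inf LinearMap.map_le_range (by
    rintro _ ⟨_, ⟨m, rfl⟩, rfl⟩
    exact LinearMap.congr_fun h2 m)
  have lb : Pb ≤ LinearMap.range b ⊓ LinearMap.ker a := le_inf LinearMap.map_le_range (by
    rintro _ ⟨_, ⟨m, rfl⟩, rfl⟩
    exact LinearMap.congr_fun h1 m)
  have lz : LinearMap.range (a * b - b * a) ≤ Pa ⊔ Pb := by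
    rintro _ ⟨m, rfl⟩
    refine sub_mem (Submodule.mem_sup_left ⟨b m, LinearMap.mem_range_self b m, rfl⟩)
      (Submodule.mem_sup_right ⟨a m, LinearMap.mem_range_self a m, rfl⟩)
  have ea := finrank_map_add a (LinearMap.range b)
  have eb := finrank_map_add b (LinearMap.range a)
  have fa := Submodule.finrank_mono la
  have fb := Submodule.finrank_mono lb
  have fz := Submodule.finrank_mono lz
  have fs := Submodule.finrank_sup_add_finrank_inf_eq Pa Pb
  have hd := ha.2.2 _ hroot h0
  simp only [rk] at hab hd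
  rw [← hPa] at ea
  rw [← hPb] at eb
  have eqa : Pa = LinearMap.range a ⊓ LinearMap.ker b :=
    Submodule.eq_of_le_of_finrank_le la (by omega)
  have eqb : Pb = LinearMap.range b ⊓ LinearMap.ker a :=
    Submodule.eq_of_le_of_finrank_le lb (by omega)
  have eqz : LinearMap.range (a * b - b * a) = Pa ⊔ Pb :=
    Submodule.eq_of_le_of_finrank_le lz (by omega)
  have hdis : Disjoint Pa Pb := by
    rw [disjoint_iff]
    exact Submodule.finrank_eq_zero.1 (by omega)
  have hrk : rk (a * b - b * a) = rk a := le_antisymm (by simp only [rk]; omega) hd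
  refine ⟨⟨hroot, h0, fun c hc hc0 => hrk.trans_le (ha.2.2 c hc hc0)⟩, eqa, eqb, hdis,
    by rw [eqz, eqa, eqb], ?_, hrk, by show finrank k Pa + finrank k Pb = finrank k (LinearMap.range a); omega⟩
  ext m
  have sa : a (b m) = 0 ↔ m ∈ LinearMap.range a ⊔ LinearMap.ker b := by
    constructor
    · intro hm
      obtain ⟨_, ⟨w, rfl⟩, hw⟩ : b m ∈ Pb := by
        rw [eqb]; exact ⟨LinearMap.mem_range_self b m, hm⟩
      exact Submodule.mem_sup.2 ⟨a w, LinearMap.mem_range_self a w, m - a w, by simp [hw],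
        by abel⟩
    · intro hm
      obtain ⟨_, ⟨w, rfl⟩, v, hv, rfl⟩ := Submodule.mem_sup.1 hm
      have := LinearMap.congr_fun h1 w
      simp only [Module.End.mul_apply, LinearMap.zero_apply] at this
      rw [map_add, LinearMap.mem_ker.1 hv, add_zero, this]
  have sb : b (a m) = 0 ↔ m ∈ LinearMap.range b ⊔ LinearMap.ker a := by
    constructor
    · intro hm
      obtain ⟨_, ⟨w, rfl⟩, hw⟩ : a m ∈ Pa := by
        rw [eqa]; exact ⟨LinearMap.mem_range_self a m, hm⟩
      exact Submodule.mem_sup.2 ⟨b w, LinearMap.mem_range_self b w, m - b w, by simp [hw],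
        by abel⟩
    · intro hm
      obtain ⟨_, ⟨w, rfl⟩, v, hv, rfl⟩ := Submodule.mem_sup.1 hm
      have := LinearMap.congr_fun h2 w
      simp only [Module.End.mul_apply, LinearMap.zero_apply] at this
      rw [map_add, LinearMap.mem_ker.1 hv, add_zero, this]
  rw [Submodule.mem_inf, ← sa, ← sb, LinearMap.mem_ker, LinearMap.sub_apply, Module.End.mul_apply,
    Module.End.mul_apply, sub_eq_zero]
  refine ⟨fun h => ?_, fun h => by rw [h.1, h.2]⟩
  have hz := Submodule.disjoint_def.1 hdis _ ⟨b m, LinearMap.mem_range_self b m, rfl⟩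
    (h ▸ ⟨a m, LinearMap.mem_range_self a m, rfl⟩)
  exact ⟨hz, h ▸ hz⟩

/-- Commutators from two commuting-free root sets all act like a fixed non-zero one. -/
theorem comm_mem_rootSet {a b x y : 𝔈} (hz : CommData G a b)
    (hu : ∀ x ∈ rootSet G a, ∀ y ∈ rootSet G b, x * y * x = 0 ∧ y * x * y = 0)
    (hx : x ∈ rootSet G a) (hy : y ∈ rootSet G b) (ha : IsRoot G a) (hb : IsRoot G b) :
    x * y - y * x ∈ rootSet G (a * b - b * a) := by
  refine ⟨comm_isRoot hx.1 hy.1 (hu x hx y hy).1 (hu x hx y hy).2, ?_, ?_⟩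
  · rw [hz.range_eq]
    rintro _ ⟨m, rfl⟩
    refine sub_mem (Submodule.mem_sup_left ⟨hx.2.1 (LinearMap.mem_range_self x _), ?_⟩)
      (Submodule.mem_sup_right ⟨hy.2.1 (LinearMap.mem_range_self y _), ?_⟩)
    · obtain ⟨w, hw⟩ := hy.2.1 (LinearMap.mem_range_self y m)
      rw [SetLike.mem_coe, LinearMap.mem_ker, Module.End.mul_apply, ← hw]
      exact LinearMap.congr_fun (hu x hx b (self_mem_rootSet hb)).2 w
    · obtain ⟨w, hw⟩ := hx.2.1 (LinearMap.mem_range_self x m)
      rw [SetLike.mem_coe, LinearMap.mem_ker, Module.End.mul_apply, ← hw]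
      exact LinearMap.congr_fun (hu a (self_mem_rootSet ha) y hy).1 w
  · rw [hz.ker_eq]
    rintro m ⟨hm1, hm2⟩
    have e1 : x (y m) = 0 := by
      obtain ⟨_, ⟨w, rfl⟩, v, hv, rfl⟩ := Submodule.mem_sup.1 hm1
      rw [map_add, LinearMap.mem_ker.1 (hy.2.2 hv), add_zero]
      exact LinearMap.mem_ker.1 (hx.2.2 (LinearMap.congr_fun (hu a (self_mem_rootSet ha) y hy).1 w))
    have e2 : y (x m) = 0 := by
      obtain ⟨_, ⟨w, rfl⟩, v, hv, rfl⟩ := Submodule.mem_sup.1 hm2
      rw [map_add, LinearMap.mem_ker.1 (hx.2.2 hv), add_zero]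
      exact LinearMap.mem_ker.1 (hy.2.2 (LinearMap.congr_fun (hu x hx b (self_mem_rootSet hb)).2 w))
    simp [e1, e2]

end Finite

end CfsgLib.PLocal.QPair
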