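import Cfsg.Agent.Lib.PLocal.QPairRootSet

/-!
# Quadratic pairs: the components of the graph of rank one pairs
-/

set_option autoImplicit false

universe u

namespace CfsgLib.PLocal.QPair

open Cfsg
open scoped commutatorElement

variable {k : Type u} [Field k] {M : Type u} [AddCommGroup M] [Module k M] [FiniteDimensional k M]

local notation "GLk" => LinearMap.GeneralLinearGroup k M
local notation "𝔈" => M →ₗ[k] M

variable {G : Subgroup (LinearMap.GeneralLinearGroup k M)}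

/-- The member of `Σ` belonging to a minimal root endomorphism. -/
noncomputable def rsub {a : M →ₗ[k] M} (ha : IsMin G a) :
    Subgroup (LinearMap.GeneralLinearGroup k M) :=
  sameActionSubgroup G (uEnd a ha.1.1)

/-- Being in the same component of the graph of rank one pairs. -/
abbrev Reach (G : Subgroup (LinearMap.GeneralLinearGroup k M))
    (A B : Subgroup (LinearMap.GeneralLinearGroup k M)) : Prop :=
  Relation.ReflTransGen (FAdj (quadraticRootSubgroups G)) A B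

theorem isMin_uEnd {a : 𝔈} (ha : IsMin G a) : IsMin G ((uEnd a ha.1.1 : 𝔈) - 1) := by
  rw [uEnd_sub_one]; exact ha

theorem rsub_mem {a : 𝔈} (ha : IsMin G a) : rsub ha ∈ quadraticRootSubgroups G :=
  ⟨_, minimal_iff.2 (isMin_uEnd ha), rfl⟩

theorem mem_rsub {a : 𝔈} (ha : IsMin G a) {g : GLk} : g ∈ rsub ha ↔ (g : 𝔈) - 1 ∈ rootSet G a := by
  rw [rsub, mem_sameAction_iff (isMin_uEnd ha), uEnd_sub_one]

theorem uEnd_mem_rsub {a : 𝔈} (ha : IsMin G a) : uEnd a ha.1.1 ∈ rsub ha := by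
  rw [mem_rsub, uEnd_sub_one]; exact self_mem_rootSet ha.1

theorem exists_rsub {A : Subgroup GLk} (hA : A ∈ quadraticRootSubgroups G) :
    ∃ (a : 𝔈) (ha : IsMin G a), A = rsub ha := by
  obtain ⟨σ, hσ, rfl⟩ := hA
  rw [minimal_iff] at hσ
  refine ⟨_, hσ, sameAction_eq hσ (isMin_uEnd hσ) ?_⟩
  rw [uEnd_sub_one]

theorem rsub_eq {a b : 𝔈} (ha : IsMin G a) (hb : IsMin G b) (h : b ∈ rootSet G a) :
    rsub hb = rsub ha := by
  refine sameAction_eq (isMin_uEnd hb) (isMin_uEnd ha) ?_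
  rw [uEnd_sub_one, uEnd_sub_one]
  exact ha.rootSet_eq h hb.2.1

theorem conjBy_rsub {a : 𝔈} (ha : IsMin G a) {g : GLk} (hg : g ∈ G) :
    conjBy (rsub ha) g = rsub (ha.conj hg) := by
  rw [rsub, conjBy_sameAction (isMin_uEnd ha) hg]
  rw [rsub]
  refine sameAction_eq (minimal_conj (isMin_uEnd ha) hg) (isMin_uEnd (ha.conj hg)) ?_
  rw [conj_sub_one, uEnd_sub_one, uEnd_sub_one]

theorem reach_symm {A B : Subgroup GLk} (h : Reach G A B) : Reach G B A := by
  induction h with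
  | refl => exact Relation.ReflTransGen.refl
  | tail _ h2 ih => exact Relation.ReflTransGen.head ⟨h2.2.1, h2.1, RankOnePair_symm h2.2.2⟩ ih

theorem reach_conj {A B : Subgroup GLk} (h : Reach G A B) {g : GLk} (hg : g ∈ G) :
    Reach G (conjBy A g) (conjBy B g) := by
  induction h with
  | refl => exact Relation.ReflTransGen.refl
  | tail _ h2 ih =>
    exact ih.tail ⟨sigma_conj h2.1 hg, sigma_conj h2.2.1 hg,
      CfsgLib.Trans3.RankOne.isRankOnePair_conj g h2.2.2⟩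

theorem reach_of_opp (h2 : (2 : k) ≠ 0) (hk : Nat.card k ≠ 3) {a b : 𝔈} (ha : IsMin G a)
    (hb : IsMin G b) (h : Opp a b) : Reach G (rsub ha) (rsub hb) :=
  Relation.ReflTransGen.single ⟨rsub_mem ha, rsub_mem hb,
    isRankOnePair_of_opp h2 hk (isMin_uEnd ha) (isMin_uEnd hb) (by rwa [uEnd_sub_one, uEnd_sub_one])⟩

/-- In the commutator case the commutator lies in the component of either factor. -/
theorem reach_comm (h2 : (2 : k) ≠ 0) (hk : Nat.card k ≠ 3) (hG : IsQuadraticPair G) {a b : 𝔈}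
    (ha : IsMin G a) (hb : IsMin G b) (h1 : a * b * a = 0) (h1' : b * a * b = 0)
    (h0 : a * b - b * a ≠ 0) (hz : IsMin G (a * b - b * a)) : Reach G (rsub ha) (rsub hz) := by
  obtain ⟨e, he, hze⟩ := exists_opp h2 hk hG hz
  obtain ⟨c, hg⟩ := exists_graded h2 hk hz he hze
  set z := a * b - b * a with hz_def
  have za : z * a = 0 := by rw [hz_def, sub_mul, h1, mul_assoc b a a, ha.1.1, mul_zero, sub_zero]
  have az : a * z = 0 := by
    rw [hz_def, mul_sub, ← mul_assoc, ha.1.1, zero_mul, ← mul_assoc, h1, sub_zero]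
  have zb : z * b = 0 := by rw [hz_def, sub_mul, h1', mul_assoc a b b, hb.1.1, mul_zero, sub_zero]
  have bz : b * z = 0 := by
    rw [hz_def, mul_sub, ← mul_assoc, h1', ← mul_assoc, hb.1.1, zero_mul, sub_zero]
  -- the conjugates `a ± z` of `a`
  have hconj : ∀ s : k, ((uEnd (s • b) (smul_sq hb.1.1 s) : GLk) : 𝔈) * a *
      (((uEnd (s • b) (smul_sq hb.1.1 s))⁻¹ : GLk) : 𝔈) = a - s • z := fun s => by
    rw [uEnd_coe, uEnd_inv_coe, hz_def]
    simp only [add_mul, mul_sub, sub_mul, one_mul, mul_one, smul_mul_assoc, mul_smul_comm, h1',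
      smul_zero, sub_zero, smul_sub]
    abel
  have hzb : conjBy (rsub hz) (uEnd ((1 : k) • b) (smul_sq hb.1.1 1)) = rsub hz := by
    rw [conjBy_rsub hz (hb.1.smul 1).uEnd_mem]
    refine rsub_eq hz _ ?_
    rw [uEnd_coe, uEnd_inv_coe, one_smul, add_mul, one_mul, bz, add_zero, mul_sub, mul_one, zb,
      sub_zero]
    exact self_mem_rootSet hz.1
  have hzb' : conjBy (rsub hz) (uEnd ((-1 : k) • b) (smul_sq hb.1.1 (-1))) = rsub hz := by
    rw [conjBy_rsub hz (hb.1.smul (-1)).uEnd_mem]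
    refine rsub_eq hz _ ?_
    rw [uEnd_coe, uEnd_inv_coe, neg_smul, one_smul, add_mul, one_mul, neg_mul, bz, neg_zero,
      add_zero, sub_neg_eq_add, mul_add, mul_one, zb, add_zero]
    exact self_mem_rootSet hz.1
  have hcz : Reach G (rsub hg.hc) (rsub hz) := reach_symm (reach_of_opp h2 hk hz hg.hc hg.opp)
  by_cases hca : Opp a c
  · exact (reach_of_opp h2 hk ha hg.hc hca).trans hcz
  have hm : ∀ s : k, IsMin G (a - s • z) := fun s => hconj s ▸ ha.conj (hb.1.smul s).uEnd_mem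
  have base : ∀ (s : k), Opp (a - s • z) c →
      Reach G (conjBy (rsub ha) (uEnd (s • b) (smul_sq hb.1.1 s))) (rsub hz) := by
    intro s ho
    rw [conjBy_rsub ha (hb.1.smul s).uEnd_mem]
    have e : rsub (ha.conj (hb.1.smul s).uEnd_mem) = rsub (hm s) :=
      rsub_eq (hm s) _ (by rw [hconj]; exact self_mem_rootSet (hm s).1)
    rw [e]
    exact (reach_of_opp h2 hk (hm s) hg.hc ho).trans hcz
  have pull : ∀ (s : k), Opp (a - s • z) c →
      conjBy (rsub hz) (uEnd (s • b) (smul_sq hb.1.1 s)) = rsub hz → Reach G (rsub ha) (rsub hz) := by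
    intro s ho hfix
    have h := reach_conj (base s ho) (inv_mem (hb.1.smul s).uEnd_mem)
    have hfix' : conjBy (rsub hz) (uEnd (s • b) (smul_sq hb.1.1 s))⁻¹ = rsub hz := by
      conv_lhs => rw [← hfix]
      rw [CfsgLib.Trans3.RankOne.conjBy_conjBy, inv_mul_cancel, CfsgLib.Trans3.RankOne.conjBy_one]
    rw [hfix', CfsgLib.Trans3.RankOne.conjBy_conjBy, inv_mul_cancel,
      CfsgLib.Trans3.RankOne.conjBy_one] at h
    exact h
  by_cases hp : Opp (a - (1 : k) • z) c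
  · exact pull 1 hp hzb
  by_cases hn : Opp (a - (-1 : k) • z) c
  · exact pull (-1) hn hzb'
  exfalso
  have u0 := ((unip_or_opp h2 hk ha hg.hc).resolve_right hca).1
  have u1 := ((unip_or_opp h2 hk (hm 1) hg.hc).resolve_right hp).1
  have u2 := ((unip_or_opp h2 hk (hm (-1)) hg.hc).resolve_right hn).1
  rw [one_smul] at u1
  rw [neg_smul, one_smul, sub_neg_eq_add] at u2
  refine hz.2.1 ?_
  have e : (a - z) * c * (a - z) + (a + z) * c * (a + z) = a * c * a + a * c * a + (z + z) := by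
    simp only [add_mul, sub_mul, mul_add, mul_sub, hg.inv.zcz]
    abel
  rw [u0, u1, u2, add_zero, zero_add] at e
  have h4 : (2 : k) • z = 0 := by rw [two_smul]; exact e.symm
  exact (smul_eq_zero.1 h4).resolve_left h2

/-- Members of different components commute. -/
theorem comm_of_not_reach (h2 : (2 : k) ≠ 0) (hk : Nat.card k ≠ 3) (hG : IsQuadraticPair G)
    {a b : 𝔈} (ha : IsMin G a) (hb : IsMin G b) (h : ¬ Reach G (rsub ha) (rsub hb)) :
    a * b = b * a := by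
  rcases unip_or_opp h2 hk ha hb with ⟨h1, h1'⟩ | ho
  swap; · exact absurd (reach_of_opp h2 hk ha hb ho) h
  by_contra h0
  have h0' : a * b - b * a ≠ 0 := fun e => h0 (sub_eq_zero.1 e)
  have hz := (commData ha hb h1 h1' h0').isMin
  have h0'' : b * a - a * b ≠ 0 := fun e => h0 (sub_eq_zero.1 e).symm
  have hz' := (commData hb ha h1' h1 h0'').isMin
  refine h ((reach_comm h2 hk hG ha hb h1 h1' h0' hz).trans ?_)
  have e : rsub hz' = rsub hz := rsub_eq hz hz' (by
    have h := neg_mem_rootSet (self_mem_rootSet hz.1)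
    rw [neg_sub] at h
    exact h)
  rw [← e]
  exact reach_symm (reach_comm h2 hk hG hb ha h1' h1 h0'' hz')

theorem commutator_bot_of_not_reach (h2 : (2 : k) ≠ 0) (hk : Nat.card k ≠ 3) (hG : IsQuadraticPair G)
    {A B : Subgroup GLk} (hA : A ∈ quadraticRootSubgroups G) (hB : B ∈ quadraticRootSubgroups G)
    (h : ¬ Reach G A B) : ⁅A, B⁆ = ⊥ := by
  obtain ⟨a, ha, rfl⟩ := exists_rsub hA
  obtain ⟨b, hb, rfl⟩ := exists_rsub hB
  refine Subgroup.commutator_eq_bot_iff_le_centralizer.2 fun e he =>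
    Subgroup.mem_centralizer_iff.2 fun f hf => ((commute_iff e f).2 ?_).symm
  have hx := (mem_rsub ha).1 he
  have hy := (mem_rsub hb).1 hf
  rcases eq_or_ne ((e : 𝔈) - 1) 0 with h0 | hx0
  · simp [h0]
  rcases eq_or_ne ((f : 𝔈) - 1) 0 with h0 | hy0
  · simp [h0]
  refine comm_of_not_reach h2 hk hG (ha.of_mem hx hx0) (hb.of_mem hy hy0) ?_
  rwa [rsub_eq ha _ hx, rsub_eq hb _ hy]

omit [FiniteDimensional k M] in
theorem conjBy_fixed {D : Subgroup GLk} {f : GLk} (h : ∀ d ∈ D, f * d = d * f) :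
    conjBy D f = D :=
  CfsgLib.Trans3.RankOne.conjBy_eq_self_iff.2 <| Subgroup.centralizer_le_normalizer _ <|
    Subgroup.mem_centralizer_iff.2 fun d hd => (h d hd).symm

/-- `Σ` generated subgroup. -/
theorem sigmaSup_le : (⨆ A ∈ quadraticRootSubgroups G, A) ≤ G := iSup₂_le fun _ hA => sigma_le hA

/-- Components are invariant under the group generated by `Σ`. -/
theorem reach_conjBy (h2 : (2 : k) ≠ 0) (hk : Nat.card k ≠ 3) (hG : IsQuadraticPair G) {g : GLk}
    (hg : g ∈ ⨆ A ∈ quadraticRootSubgroups G, A) :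
    g ∈ G ∧ ∀ A ∈ quadraticRootSubgroups G, Reach G A (conjBy A g) := by
  let K : Subgroup GLk :=
    { carrier := {g | g ∈ G ∧ ∀ A ∈ quadraticRootSubgroups G, Reach G A (conjBy A g)}
      one_mem' := ⟨one_mem _, fun A _ => by
        rw [CfsgLib.Trans3.RankOne.conjBy_one]⟩
      mul_mem' := by
        rintro g h ⟨hg, hg'⟩ ⟨hh, hh'⟩
        refine ⟨mul_mem hg hh, fun A hA => ?_⟩
        rw [← CfsgLib.Trans3.RankOne.conjBy_conjBy]
        exact (hg' A hA).trans (reach_conj (hh' A hA) hg)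
      inv_mem' := by
        rintro g ⟨hg, hg'⟩
        refine ⟨inv_mem hg, fun A hA => reach_symm ?_⟩
        have := hg' _ (sigma_conj hA (inv_mem hg))
        rwa [CfsgLib.Trans3.RankOne.conjBy_conjBy, mul_inv_cancel,
          CfsgLib.Trans3.RankOne.conjBy_one] at this }
  refine (iSup₂_le fun B hB b hb => ?_ : (⨆ A ∈ quadraticRootSubgroups G, A) ≤ K) hg
  refine ⟨sigma_le hB hb, fun A hA => ?_⟩
  by_cases h : Reach G A B
  · have h' := reach_conj h (sigma_le hB hb)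
    rw [CfsgLib.Trans3.RankOne.conjBy_of_mem hb] at h'
    exact h.trans (reach_symm h')
  · rw [conjBy_fixed fun d hd =>
      ((Subgroup.mem_centralizer_iff.1 (Subgroup.commutator_eq_bot_iff_le_centralizer.1
        (commutator_bot_of_not_reach h2 hk hG hA hB h) hd)) b hb)]

/-- Commutation of idempotent-like products under three steps of a quadratic element. -/
theorem no_three_steps {R : Type*} [Ring R] {q q' x₀ c₀ x₁ c₁ x₂ c₂ : R} (hi : q * q' = 1)
    (hi' : q' * q = 1) (hq : q * q + 1 = q + q) (hsq : x₀ * x₀ = 0)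
    (hx : x₀ * c₀ * x₀ = x₀) (hc : c₀ * x₀ * c₀ = c₀)
    (e₁ : x₁ = q * x₀ * q') (d₁ : c₁ = q * c₀ * q') (e₂ : x₂ = q * x₁ * q') (d₂ : c₂ = q * c₁ * q')
    (a01 : Commute x₀ x₁) (a01' : Commute x₀ c₁) (b01 : Commute c₀ x₁) (b01' : Commute c₀ c₁)
    (a02 : Commute x₀ x₂) (a02' : Commute x₀ c₂) (b02 : Commute c₀ x₂) (b02' : Commute c₀ c₂)
    (a12 : Commute x₁ x₂) (a12' : Commute x₁ c₂) (b12 : Commute c₁ x₂) (b12' : Commute c₁ c₂)
    (two : ∀ r : R, r + r = 0 → r = 0) : x₀ = 0 := by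
  obtain ⟨f₀, hf₀⟩ : ∃ f, f = x₀ * c₀ := ⟨_, rfl⟩
  obtain ⟨f₁, hf₁⟩ : ∃ f, f = x₁ * c₁ := ⟨_, rfl⟩
  obtain ⟨f₂, hf₂⟩ : ∃ f, f = x₂ * c₂ := ⟨_, rfl⟩
  have hhi : ∀ r : R, q' * (q * r) = r := fun r => by rw [← mul_assoc, hi', one_mul]
  have g1 : f₁ = q * f₀ * q' := by
    rw [hf₁, hf₀, e₁, d₁]; simp only [mul_assoc, hhi]
  have g2 : f₂ = q * f₁ * q' := by
    rw [hf₂, hf₁, e₂, d₂]; simp only [mul_assoc, hhi]
  have q1 : q * f₀ = f₁ * q := by rw [g1, mul_assoc, hi', mul_one]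
  have q2 : q * f₁ = f₂ * q := by rw [g2, mul_assoc, hi', mul_one]
  have c02 : Commute f₀ f₂ := by
    subst hf₀ hf₂; exact (a02.mul_left b02).mul_right (a02'.mul_left b02')
  have c01 : Commute f₀ f₁ := by
    subst hf₀ hf₁; exact (a01.mul_left b01).mul_right (a01'.mul_left b01')
  have c12 : Commute f₁ f₂ := by
    subst hf₁ hf₂; exact (a12.mul_left b12).mul_right (a12'.mul_left b12')
  have idem : f₀ * f₀ = f₀ := by rw [hf₀, ← mul_assoc, hx]
  have idem1 : f₁ * f₁ = f₁ := by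
    rw [g1, show q * f₀ * q' * (q * f₀ * q') = q * (f₀ * f₀) * q' by simp only [mul_assoc, hhi], idem]
  have idem2 : f₂ * f₂ = f₂ := by
    rw [g2, show q * f₁ * q' * (q * f₁ * q') = q * (f₁ * f₁) * q' by simp only [mul_assoc, hhi], idem1]
  have key : (f₁ - f₂) * q + (f₁ - f₂) * q = f₀ - f₂ := by
    have e : (q * q + 1) * f₀ = (q + q) * f₀ := by rw [hq]
    have e' : f₂ * (q * q + 1) = f₂ * (q + q) := by rw [hq]
    rw [add_mul, one_mul, add_mul, mul_assoc q q f₀, q1, ← mul_assoc, q2] at e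
    rw [mul_add, mul_one, mul_add] at e'
    calc (f₁ - f₂) * q + (f₁ - f₂) * q = (f₁ * q + f₁ * q) - (f₂ * q + f₂ * q) := by
          rw [sub_mul]; abel
      _ = (f₂ * q * q + f₀) - (f₂ * (q * q) + f₂) := by rw [← e, ← e']
      _ = f₀ - f₂ := by rw [mul_assoc]; abel
  -- killing with commuting idempotents
  obtain ⟨Y', hY'⟩ : ∃ f, f = f₁ * (1 - f₂) := ⟨_, rfl⟩
  have Y1' : Y' * f₁ = Y' := by
    rw [hY', mul_assoc, sub_mul 1 f₂ f₁, one_mul, ← c12.eq]
    simp only [mul_sub, mul_one, ← mul_assoc, idem1]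
  have Y2' : Y' * f₂ = 0 := by rw [hY', mul_assoc, sub_mul 1 f₂ f₂, one_mul, idem2, sub_self, mul_zero]
  have c0Y' : Commute f₀ Y' := hY' ▸ c01.mul_right ((Commute.one_right f₀).sub_right c02)
  have hk' : Y' * q + Y' * q = f₀ * Y' := by
    have e := congrArg (Y' * ·) key
    simp only [mul_add, mul_sub, ← mul_assoc, Y1', Y2', sub_zero] at e
    rwa [← c0Y'.eq] at e
  have hY0' : (1 - f₀) * Y' = 0 := by
    have e := congrArg ((1 - f₀) * ·) hk'
    simp only [mul_add, ← mul_assoc, sub_mul 1 f₀ f₀, one_mul, idem, sub_self, zero_mul] at e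
    have h0 := two _ e
    calc (1 - f₀) * Y' = (1 - f₀) * Y' * q * q' := by rw [mul_assoc ((1 - f₀) * Y'), hi, mul_one]
      _ = 0 := by rw [h0, zero_mul]
  -- transfer inside the pair `x₀, c₀`
  have cc : Commute c₀ Y' := by
    rw [hY', hf₁, hf₂]
    exact (b01.mul_right b01').mul_right ((Commute.one_right c₀).sub_right (b02.mul_right b02'))
  have x0Y' : x₀ * Y' = 0 := by
    have h1 : c₀ * x₀ * ((1 - f₀) * Y') = c₀ * x₀ * Y' := by
      rw [sub_mul, one_mul, mul_sub, hf₀]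
      simp only [← mul_assoc]
      rw [mul_assoc c₀ x₀ x₀, hsq, mul_zero, zero_mul, zero_mul, sub_zero]
    rw [hY0', mul_zero] at h1
    calc x₀ * Y' = x₀ * (c₀ * x₀ * Y') := by simp only [← mul_assoc, hx]
      _ = 0 := by rw [← h1, mul_zero]
  have hY'0 : Y' = 0 := by
    have h1 : f₀ * Y' = 0 := by rw [hf₀, mul_assoc, cc.eq, ← mul_assoc, x0Y', zero_mul]
    rw [sub_mul, one_mul, h1, sub_zero] at hY0'
    exact hY0'
  -- `f₁ = f₁ f₂`, and a symmetric step inside `x₂, c₂`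
  have h12 : f₁ * f₂ = f₁ := by
    rw [hY', mul_sub, mul_one, sub_eq_zero] at hY'0; exact hY'0.symm
  have hsq2 : x₂ * x₂ = 0 := by
    rw [e₂, e₁]; simp only [mul_assoc, hhi]
    rw [← mul_assoc x₀ x₀, hsq, zero_mul, mul_zero, mul_zero]
  have hx2 : x₂ * c₂ * x₂ = x₂ := by
    rw [e₂, d₂, e₁, d₁]; simp only [mul_assoc, hhi]
    rw [← mul_assoc c₀ x₀, ← mul_assoc x₀ (c₀ * x₀), ← mul_assoc x₀ c₀, hx]
  have f₁0 : f₁ = 0 := by
    have h1 : c₂ * x₂ * f₁ = 0 := by
      rw [← h12, c12.eq, ← mul_assoc, hf₂, ← mul_assoc, mul_assoc c₂ x₂ x₂, hsq2, mul_zero,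
        zero_mul, zero_mul]
    have h2 : x₂ * f₁ = 0 := by rw [← hx2, mul_assoc x₂ c₂, mul_assoc x₂, h1, mul_zero]
    have cf : Commute c₂ f₁ := hf₁ ▸ a12'.symm.mul_right b12'.symm
    rw [← h12, c12.eq, hf₂, mul_assoc, cf.eq, ← mul_assoc, h2, zero_mul]
  calc x₀ = q' * (q * f₀ * q') * q * x₀ := by
        simp only [mul_assoc, hhi]; rw [hf₀, hx]
    _ = 0 := by rw [← g1, f₁0, mul_zero, zero_mul, zero_mul]

/-- Root elements fix every component. -/
theorem reach_conjBy_root (h2 : (2 : k) ≠ 0) (hk : Nat.card k ≠ 3) (hG : IsQuadraticPair G)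
    {y : 𝔈} (hy : IsRoot G y) {A : Subgroup GLk} (hA : A ∈ quadraticRootSubgroups G) :
    Reach G A (conjBy A (uEnd y hy.1)) := by
  by_contra hne
  set y' := (2 : k)⁻¹ • y with hy'
  have hr : IsRoot G y' := hy.smul _
  set q := uEnd y' hr.1 with hq
  have hqG : q ∈ G := hr.uEnd_mem
  have hqq : q * q = uEnd y hy.1 := by
    refine Units.ext ?_
    rw [hq, Units.val_mul, uEnd_coe, uEnd_coe, mul_add, mul_one, add_mul, one_mul, hr.1, add_zero,
      add_assoc, ← two_smul k y', hy', smul_smul, mul_inv_cancel₀ h2, one_smul]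
  have h01 : ¬ Reach G A (conjBy A q) := fun h => hne (by
    rw [← hqq, ← CfsgLib.Trans3.RankOne.conjBy_conjBy]
    exact h.trans (reach_conj h hqG))
  have h02 : ¬ Reach G A (conjBy (conjBy A q) q) := by
    rwa [CfsgLib.Trans3.RankOne.conjBy_conjBy, hqq]
  have h12 : ¬ Reach G (conjBy A q) (conjBy (conjBy A q) q) := fun h => h01 (by
    have := reach_conj h (inv_mem hqG)
    simpa [CfsgLib.Trans3.RankOne.conjBy_conjBy] using this)
  obtain ⟨x, hx, rfl⟩ := exists_rsub hA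
  obtain ⟨e, he, ho⟩ := exists_opp h2 hk hG hx
  obtain ⟨c, hg⟩ := exists_graded h2 hk hx he ho
  have hxc : Reach G (rsub hx) (rsub hg.hc) := reach_of_opp h2 hk hx hg.hc hg.opp
  have hxc' := reach_conj hxc hqG
  have hxc'' := reach_conj hxc' hqG
  rw [conjBy_rsub hx hqG, conjBy_rsub hg.hc hqG] at hxc'
  rw [conjBy_rsub hx hqG, conjBy_rsub hg.hc hqG, conjBy_rsub _ hqG, conjBy_rsub _ hqG] at hxc''
  rw [conjBy_rsub hx hqG] at h01 h02 h12
  rw [conjBy_rsub _ hqG] at h02 h12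
  have com : ∀ {a b : 𝔈} (ha : IsMin G a) (hb : IsMin G b) {A₀ B₀ : Subgroup GLk},
      ¬ Reach G A₀ B₀ → Reach G A₀ (rsub ha) → Reach G B₀ (rsub hb) → Commute a b :=
    fun {a b} ha hb {A₀ B₀} h hA₀ hB₀ => comm_of_not_reach h2 hk hG ha hb fun hab =>
      h (hA₀.trans (hab.trans (reach_symm hB₀)))
  have R0 : Reach G (rsub hx) (rsub hx) := Relation.ReflTransGen.refl
  have R1 : Reach G (rsub (hx.conj hqG)) (rsub (hx.conj hqG)) := Relation.ReflTransGen.refl
  have R2 : Reach G (rsub ((hx.conj hqG).conj hqG)) (rsub ((hx.conj hqG).conj hqG)) :=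
    Relation.ReflTransGen.refl
  refine hx.2.1 (no_three_steps (q := (q : 𝔈)) (q' := ((q⁻¹ : GLk) : 𝔈)) (Units.mul_inv q)
    (Units.inv_mul q) ?_ hg.inv.zz hg.inv.zcz hg.inv.czc rfl rfl rfl rfl
    (com hx (hx.conj hqG) h01 R0 R1) (com hx (hg.hc.conj hqG) h01 R0 hxc')
    (com hg.hc (hx.conj hqG) h01 hxc R1) (com hg.hc (hg.hc.conj hqG) h01 hxc hxc')
    (com hx ((hx.conj hqG).conj hqG) h02 R0 R2) (com hx ((hg.hc.conj hqG).conj hqG) h02 R0 hxc'')
    (com hg.hc ((hx.conj hqG).conj hqG) h02 hxc R2)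
    (com hg.hc ((hg.hc.conj hqG).conj hqG) h02 hxc hxc'')
    (com (hx.conj hqG) ((hx.conj hqG).conj hqG) h12 R1 R2)
    (com (hx.conj hqG) ((hg.hc.conj hqG).conj hqG) h12 R1 hxc'')
    (com (hg.hc.conj hqG) ((hx.conj hqG).conj hqG) h12 hxc' R2)
    (com (hg.hc.conj hqG) ((hg.hc.conj hqG).conj hqG) h12 hxc' hxc'') fun r hr' => ?_)
  · rw [hq, uEnd_coe]
    simp only [add_mul, mul_add, one_mul, mul_one, hr.1]
    abel
  · rw [← two_smul k] at hr'
    exact (smul_eq_zero.1 hr').resolve_left h2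

/-- `G` fixes every component. -/
theorem reach_conjBy_G (h2 : (2 : k) ≠ 0) (hk : Nat.card k ≠ 3) (hG : IsQuadraticPair G) {g : GLk}
    (hg : g ∈ G) : ∀ A ∈ quadraticRootSubgroups G, Reach G A (conjBy A g) := by
  have hg' : g ∈ Subgroup.closure (quadraticElements G) := hG.2.symm ▸ hg
  clear hg
  suffices g ∈ G ∧ ∀ A ∈ quadraticRootSubgroups G, Reach G A (conjBy A g) from this.2
  induction hg' using Subgroup.closure_induction with
  | mem x hx =>
    have hr := (quadratic_iff.1 hx).1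
    refine ⟨hx.1, fun A hA => ?_⟩
    have e : x = uEnd _ hr.1 := Units.ext (by rw [uEnd_coe]; abel)
    rw [e]
    exact reach_conjBy_root h2 hk hG hr hA
  | one => exact ⟨one_mem _, fun A _ => by rw [CfsgLib.Trans3.RankOne.conjBy_one]⟩
  | mul x y _ _ hx hy =>
    refine ⟨mul_mem hx.1 hy.1, fun A hA => ?_⟩
    rw [← CfsgLib.Trans3.RankOne.conjBy_conjBy]
    exact (hx.2 A hA).trans (reach_conj (hy.2 A hA) hx.1)
  | inv x _ hx =>
    refine ⟨inv_mem hx.1, fun A hA => reach_symm ?_⟩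
    have := hx.2 _ (sigma_conj hA (inv_mem hx.1))
    rwa [CfsgLib.Trans3.RankOne.conjBy_conjBy, mul_inv_cancel,
      CfsgLib.Trans3.RankOne.conjBy_one] at this

end CfsgLib.PLocal.QPair
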