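import Cfsg.Agent.Lib.PLocal.QPairMove

/-!
# Quadratic pairs: for a root `y` moving a component, `y x y` is a member for some member `x`
-/

set_option autoImplicit false

universe u

namespace CfsgLib.PLocal.QPair

open Cfsg
open scoped commutatorElement

variable {k : Type u} [Field k] {M : Type u} [AddCommGroup M] [Module k M] [FiniteDimensional k M]

local notation "GLk" => LinearMap.GeneralLinearGroup k M
local notation "𝔈" => M →ₗ[k] M

variable {G : Subgroup (LinearMap.GeneralLinearGroup k M)}
  {A₀ : Subgroup (LinearMap.GeneralLinearGroup k M)}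

omit [FiniteDimensional k M] in
theorem cj_one (a b : 𝔈) : cj a b (1 : k) = b + (a * b - b * a) - a * b * a := by
  rw [cj, mul_one, one_smul, one_smul]

omit [FiniteDimensional k M] in
theorem cj_neg_one (a b : 𝔈) : cj a b (-1 : k) = b - (a * b - b * a) - a * b * a := by
  rw [cj, neg_mul_neg, mul_one, neg_smul, one_smul, one_smul, ← sub_eq_add_neg]

/-- `y x y` is a member of the component when it is not zero. -/
theorem inC_yxy (h2 : (2 : k) ≠ 0) (hk : Nat.card k ≠ 3) (hG : IsQuadraticPair G) {x y : 𝔈}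
    (hy : IsRoot G y) (hx : InC G A₀ x) (hw0 : y * x * y ≠ 0) : InC G A₀ (y * x * y) := by
  obtain ⟨w, hw⟩ : ∃ w, w = y * x * y := ⟨_, rfl⟩
  rw [← hw] at hw0 ⊢
  obtain ⟨hxm, -⟩ := id hx
  have xx := hxm.1.1
  have hp := hx.cj h2 hk hG hy 1
  rcases unip_or_opp h2 hk hxm hp.1 with ⟨h1, -⟩ | ho
  · -- unipotent case
    have h5 : x * y * x * y * x = 0 := by
      have hxx : ∀ m : 𝔈, x * (x * m) = 0 := fun m => by rw [← mul_assoc, xx, zero_mul]
      have h := h1
      simp only [cj, one_smul, mul_one, mul_add, mul_sub, add_mul, sub_mul, mul_assoc, hxx, xx,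
        mul_zero, sub_zero, zero_sub, zero_add, add_zero, neg_eq_zero] at h
      simpa [mul_assoc] using h
    have h3 := xyx_eq_zero h2 hk hy hxm h5
    have hxx : ∀ m : 𝔈, x * (x * m) = 0 := fun m => by rw [← mul_assoc, xx, zero_mul]
    have hyy : ∀ m : 𝔈, y * (y * m) = 0 := fun m => by rw [← mul_assoc, hy.1, zero_mul]
    have h3' : ∀ m : 𝔈, x * (y * (x * m)) = 0 := fun m => by
      rw [← mul_assoc, ← mul_assoc, h3, zero_mul]
    have h3a : x * (y * x) = 0 := by rw [← mul_assoc, h3]
    have hm := hx.cj h2 hk hG hy (-1)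
    have ann : ∀ s t : k, cj y x s * cj y x t = 0 := by
      intro s t
      simp [cj, mul_add, add_mul, mul_sub, sub_mul, mul_assoc, xx, hxx, hy.1, hyy, h3a, h3']
    have h0 : cj y x 0 = x := by simp [cj]
    have hroot : IsRoot G w := by
      have r1 : IsRoot G (cj y x 1 - x) := by
        have := hp.1.1.sub hxm.1 (by have := ann 1 0; rwa [h0] at this)
          (by have := ann 0 1; rwa [h0] at this)
        exact this
      have r2 : IsRoot G (cj y x (-1) - x) := by
        have := hm.1.1.sub hxm.1 (by have := ann (-1) 0; rwa [h0] at this)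
          (by have := ann 0 (-1); rwa [h0] at this)
        exact this
      have a : ∀ s t : k, (cj y x s - x) * (cj y x t - x) = 0 := by
        intro s t
        have e1 := ann s 0
        have e2 := ann 0 t
        rw [h0] at e1 e2
        rw [sub_mul, mul_sub, mul_sub, ann, e1, e2, xx]; simp
      have := ((r1.add r2 (a 1 (-1)) (a (-1) 1)).smul (2 : k)⁻¹).neg
      convert this using 1
      rw [show cj y x 1 - x + (cj y x (-1) - x) = -((2 : k) • w) by
        simp only [cj_one, cj_neg_one, hw, two_smul]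
        abel, smul_neg, neg_neg, smul_smul, inv_mul_cancel₀ h2, one_smul]
    have hrk : rk w ≤ rk x := by
      rw [rk, rk, hw]
      refine (Submodule.finrank_mono (LinearMap.range_comp_le_range y (y * x))).trans ?_
      rw [Module.End.mul_eq_comp, LinearMap.range_comp]
      exact Submodule.finrank_map_le y _
    have hmin : IsMin G w := ⟨hroot, hw0, fun b hb hb0 => hrk.trans (hxm.2.2 b hb hb0)⟩
    refine InC.of_comm h2 hk hG hmin fun e he hne => ?_
    have c1 := hp.comm h2 hk hG he hne
    have c2 := hm.comm h2 hk hG he hne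
    have c3 := hx.comm h2 hk hG he hne
    have e1 : (2 : k) • w = -(cj y x 1 + cj y x (-1) - x - x) := by
      simp only [cj_one, cj_neg_one, hw, two_smul]
      abel
    have e2 : (2 : k) • (w * e) = (2 : k) • (e * w) := by
      rw [← smul_mul_assoc, ← mul_smul_comm, e1]
      simp only [neg_mul, mul_neg, sub_mul, add_mul, mul_sub, mul_add, c1, c2, c3]
    exact smul_right_injective _ h2 e2
  · -- opposite case
    obtain ⟨c, hc, hc0, hxc, hcx⟩ := ho.exists_inverse h2 hk hxm hp.1
    have hg : Graded G x c := ⟨hxm, hp.1.of_mem hc hc0,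
      ho.mono hxm hp.1 (self_mem_rootSet hxm.1) hc hxm.2.1 hc0, xx, hc.1.1, hxc, hcx⟩
    have hγ : cj y x 1 ∈ rootSet G c := by
      rw [hp.1.rootSet_eq hc hc0]; exact self_mem_rootSet hp.1.1
    obtain ⟨g1, g2⟩ := hg.symm.inv_mem_layer hγ
    have hcj : cj y x 1 = (1 + y) * x * (1 - y) := by
      have := (cj_eq y x hy.1 1)
      simp only [one_smul] at this
      exact this
    have hi : (1 - y) * (1 + y) = 1 := by
      simp only [sub_mul, mul_add, one_mul, mul_one, hy.1]; abel
    have hi' : (1 + y) * (1 - y) = 1 := by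
      simp only [add_mul, mul_sub, one_mul, mul_one, hy.1]; abel
    have hyx : c * x * ((1 + y) * x) = (1 + y) * x := by
      have h := congrArg (· * (1 + y)) g1
      simpa only [hcj, mul_assoc, hi, mul_one] using h
    have hxy : x * (1 - y) * (x * c) = x * (1 - y) := by
      have h := congrArg ((1 - y) * ·) g2
      simpa only [hcj, ← mul_assoc, hi, one_mul] using h
    obtain ⟨b, hb⟩ : ∃ b, b = c * x * y * (x * c) := ⟨_, rfl⟩
    have cxx : c * x * x = 0 := by rw [mul_assoc, xx, mul_zero]
    have xxc : x * (x * c) = 0 := by rw [← mul_assoc, xx, zero_mul]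
    have bx : b * x = c * x * y * x := by rw [hb, mul_assoc _ (x * c) x, hxc]
    have xb : x * b = x * y * (x * c) := by
      rw [hb]
      simp only [← mul_assoc, hxc]
    have eyx : y * x = b * x - x := by
      rw [bx]
      rw [add_mul, one_mul, mul_add, cxx, zero_add, ← mul_assoc] at hyx
      rw [hyx]; abel
    have exy : x * y = x + x * b := by
      rw [xb]
      rw [mul_sub, mul_one, sub_mul, xxc, zero_sub] at hxy
      rw [← sub_eq_zero, show x * y - (x + x * y * (x * c)) = -(x * y * (x * c)) - (x - x * y) by abel,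
        hxy, sub_self]
    have hwe : w = -((1 - b) * x * (1 + b)) := by
      rw [hw, eyx, sub_mul, mul_assoc b x y, exy]
      simp only [mul_add, sub_mul, one_mul, mul_one, mul_assoc]
      abel
    have hhalf : cj y x (2 : k)⁻¹ = ((2 : k) * 2)⁻¹ • ((1 + b) * x * (1 - b)) := by
      have h4 : (2 : k) * 2 ≠ 0 := mul_ne_zero h2 h2
      have e : ((2 : k) * 2) • cj y x (2 : k)⁻¹ =
          ((2 : k) * 2) • x + (2 : k) • (y * x - x * y) - w := by
        rw [cj, smul_sub, smul_add, smul_smul, smul_smul, ← hw,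
          show (2 : k) * 2 * 2⁻¹ = 2 by field_simp, show (2 : k) * 2 * (2⁻¹ * 2⁻¹) = 1 by field_simp,
          one_smul]
      rw [eq_inv_smul_iff₀ h4, e, hwe, eyx, exy, mul_smul, two_smul, two_smul, two_smul]
      simp only [mul_add, add_mul, mul_sub, sub_mul, one_mul, mul_one, mul_assoc]
      abel
    have hc' := hx.cj h2 hk hG hy (2 : k)⁻¹
    have hmin : IsMin G ((1 + b) * x * (1 - b)) := by
      refine hc'.1.of_mem ?_ ?_
      · have := smul_mem_rootSet (self_mem_rootSet hc'.1.1) ((2 : k) * 2)
        rwa [hhalf, smul_smul, mul_inv_cancel₀ (mul_ne_zero h2 h2), one_smul, ← hhalf] at this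
      · intro h0
        exact hc'.1.2.1 (by rw [hhalf, h0, smul_zero])
    have hb1 : c * x * b = b := by
      rw [hb, ← mul_assoc, ← mul_assoc (c * x), ← mul_assoc (c * x) c x, hcx]
    have hb2 : b * (x * c) = b := by
      rw [hb, mul_assoc _ (x * c), ← mul_assoc (x * c) x c, hxc]
    have hbr := (hg.layer_root h2 hk hb1 hb2 hmin).1.neg
    have h := (hx.conj h2 hk hG hbr.uEnd_mem)
    rw [uEnd_coe, uEnd_inv_coe, ← sub_eq_add_neg, sub_neg_eq_add] at h
    have hn : IsMin G (-((1 - b) * x * (1 + b))) :=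
      h.1.of_mem (neg_mem_rootSet (self_mem_rootSet h.1.1)) (neg_ne_zero.2 h.1.2.1)
    rw [hwe]
    exact h.of_mem (neg_mem_rootSet (self_mem_rootSet h.1.1)) (neg_ne_zero.2 h.1.2.1)

/-- A root moving a component has some member `x` with `y x y ≠ 0`. -/
theorem exists_yxy_ne (h2 : (2 : k) ≠ 0) (hk : Nat.card k ≠ 3) (hG : IsQuadraticPair G) {y : 𝔈}
    (hy : IsRoot G y) (hmove : ¬ ∀ x, InC G A₀ x → y * x = x * y) :
    ∃ x, InC G A₀ x ∧ y * x * y ≠ 0 := by
  by_contra hno
  push Not at hno
  have hxyx : ∀ x, InC G A₀ x → x * y * x = 0 := fun x hx => by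
    refine xyx_eq_zero h2 hk hy hx.1 ?_
    rw [show x * y * x * y * x = x * (y * x * y) * x by simp only [mul_assoc], hno x hx, mul_zero,
      zero_mul]
  obtain ⟨D, hD⟩ : ∃ D : 𝔈 → 𝔈, D = fun m => y * m - m * y := ⟨_, rfl⟩
  have hcj : ∀ x, InC G A₀ x → ∀ t, cj y x t = x + t • D x := fun x hx t => by
    simp only [hD, cj, hno x hx, smul_zero, sub_zero]
  -- products of derivatives
  have sym : ∀ x, InC G A₀ x → ∀ x', InC G A₀ x' → y * (x * x') * y = y * (x' * x) * y := by
    intro x hx x' hx'
    have e1 := hno _ (hx.cj h2 hk hG hx'.1.1 1)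
    have e2 := hno _ (hx.cj h2 hk hG hx'.1.1 (-1))
    have e3 : y * (cj x' x 1 - cj x' x (-1)) * y = 0 := by rw [mul_sub, sub_mul, e1, e2, sub_zero]
    rw [show cj x' x 1 - cj x' x (-1) = (2 : k) • (x' * x - x * x') by
      simp only [cj_one, cj_neg_one, two_smul]; abel,
      mul_smul_comm, smul_mul_assoc, smul_eq_zero, mul_sub, sub_mul, sub_eq_zero] at e3
    exact (e3.resolve_left h2).symm
  have prod : ∀ x, InC G A₀ x → ∀ x', InC G A₀ x' → D x * D x' = D x' * D x := by
    intro x hx x' hx'
    have e : ∀ a b : 𝔈, y * b * y = 0 → y * a * y = 0 → D a * D b = -(y * (a * b) * y) := by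
      intro a b hb ha
      simp only [hD, sub_mul, mul_sub]
      rw [show y * a * (y * b) = y * a * y * b by simp only [mul_assoc], ha, zero_mul,
        show a * y * (y * b) = a * (y * y) * b by simp only [mul_assoc], hy.1, mul_zero, zero_mul,
        show a * y * (b * y) = a * (y * b * y) by simp only [mul_assoc], hb, mul_zero]
      simp only [mul_assoc]; abel
    rw [e x x' (hno x' hx') (hno x hx), e x' x (hno x hx) (hno x' hx'), sym x hx x' hx']
  obtain ⟨x, hx, hne⟩ : ∃ x, InC G A₀ x ∧ y * x ≠ x * y := by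
    push Not at hmove; exact hmove
  obtain ⟨u, hu⟩ : ∃ u, u = D x := ⟨_, rfl⟩
  have hu0 : u ≠ 0 := fun h => hne (sub_eq_zero.1 (by rw [← h, hu, hD]))
  have xx := hx.1.1.1
  have xu : x * u = 0 := by
    simp only [hu, hD, mul_sub, ← mul_assoc, hxyx x hx, xx, zero_mul, sub_zero]
  have ux : u * x = 0 := by
    simp only [hu, hD, sub_mul, hxyx x hx, mul_assoc y x x, xx, mul_zero, sub_zero]
  -- the layer part of `u` vanishes
  obtain ⟨o, ho, hxo⟩ := exists_opp h2 hk hG hx.1
  obtain ⟨c, hg⟩ := exists_graded h2 hk hx.1 ho hxo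
  have hcC : InC G A₀ c := hx.of_opp h2 hk hg.hc hg.opp
  have hlayer : x * (y * c - c * y) * x = 0 := by
    have f1 := hxyx _ (hx.cj h2 hk hG hg.hc.1 1)
    have f2 := hxyx _ (hx.cj h2 hk hG hg.hc.1 (-1))
    set h := c * x - x * c with hh
    rw [show cj c x 1 = x + h - c by simp [cj, hh, hg.inv.czc]] at f1
    rw [show cj c x (-1) = x - h - c by simp [cj, hh, hg.inv.czc]; abel] at f2
    have f3 : x * y * h + h * y * x - (h * y * c + c * y * h) = 0 := by
      have e : (2 : k) • (x * y * h + h * y * x - (h * y * c + c * y * h)) = 0 := by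
        have := congrArg₂ (· - ·) f1 f2
        simp only [sub_zero] at this
        rw [← this, two_smul]
        simp only [add_mul, mul_add, sub_mul, mul_sub]
        abel
      exact (smul_eq_zero.1 e).resolve_left h2
    have l1 : x * c * h = -(x * c) := by
      rw [hh, mul_sub, ← mul_assoc (x * c) c x, mul_assoc x c c, hg.inv.cc, mul_zero, zero_mul,
        ← mul_assoc (x * c) x c, hg.inv.zcz, zero_sub]
    have l2 : h * (c * x) = c * x := by
      rw [hh, sub_mul, ← mul_assoc (c * x) c x, hg.inv.czc, mul_assoc x c, ← mul_assoc c c x,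
        hg.inv.cc, zero_mul, mul_zero, sub_zero]
    have l3 : x * c * x = x := hg.inv.zcz
    have l4 : c * (c * x) = 0 := by rw [← mul_assoc, hg.inv.cc, zero_mul]
    have l5 : x * c * c = 0 := by rw [mul_assoc, hg.inv.cc, mul_zero]
    have l6 : x * (c * x) = x := by rw [← mul_assoc, l3]
    have f4 := congrArg (fun f => x * c * f * (c * x)) f3
    simp only [mul_sub, mul_add, sub_mul, add_mul, ← mul_assoc (x * c) x, ← mul_assoc (x * c) h,
      ← mul_assoc (x * c) c, ← mul_assoc (x * c) (x * y), ← mul_assoc (x * c) (h * y),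
      ← mul_assoc (x * c) (c * y), l1, l3, l5, neg_mul, zero_mul, mul_zero, mul_assoc _ h (c * x), l2,
      mul_assoc _ c (c * x), l4, mul_assoc _ x (c * x), l6, add_zero, sub_zero] at f4
    rw [← f4, mul_sub, sub_mul]
    simp only [mul_assoc]
    abel
  have hsum : InC G A₀ (x + u) := by
    have := hx.cj h2 hk hG hy 1
    rwa [hcj x hx, one_smul, ← hu] at this
  have hmid : (1 - x * c) * (x + u) * (1 - c * x) = 0 := by
    have a1 : (1 - x * c) * x = 0 := by rw [sub_mul, one_mul, hg.inv.zcz, sub_self]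
    have a2 : x * (1 - c * x) = 0 := by rw [mul_sub, mul_one, ← mul_assoc, hg.inv.zcz, sub_self]
    simp only [hu, hD, mul_add, mul_sub (1 - x * c) (y * x), add_mul, sub_mul _ _ (1 - c * x)]
    rw [a1, zero_mul, mul_assoc (1 - x * c) (y * x), mul_assoc y x, a2, mul_zero, mul_zero,
      ← mul_assoc (1 - x * c) x y, a1, zero_mul, zero_mul, sub_zero, add_zero]
  obtain ⟨hr, -, hroot, hrk⟩ := hg.split_root h2 hsum.1 (by rw [mul_add, xx, xu, add_zero])
    (by rw [add_mul, xx, ux, add_zero]) hmid
  have er : x + u - x * c * (x + u) * (c * x) = u := by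
    have e : x * c * u * (c * x) = 0 := by
      rw [mul_sub, sub_mul] at hlayer
      rw [sub_eq_zero] at hlayer
      simp only [hu, hD, mul_sub, sub_mul]
      rw [show x * c * (y * x) * (c * x) = x * c * y * (x * c * x) by simp only [mul_assoc],
        show x * c * (x * y) * (c * x) = x * c * x * y * (c * x) by simp only [mul_assoc],
        hg.inv.zcz, sub_eq_zero]
      simp only [← mul_assoc] at hlayer ⊢
      exact hlayer.symm
    rw [mul_add, add_mul, hg.inv.zcz, ← mul_assoc x c x, hg.inv.zcz, e, add_zero, add_sub_cancel_left]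
  rw [er] at hroot hrk
  have humin : IsMin G u := ⟨hroot, hu0, fun b hb hb0 => hrk.trans (hsum.1.2.2 b hb hb0)⟩
  have huC : InC G A₀ u := InC.of_comm h2 hk hG humin fun e he hne' => by
    have h1 := hsum.comm h2 hk hG he hne'
    have h3 := hx.comm h2 hk hG he hne'
    rw [add_mul, mul_add, h3] at h1
    exact add_left_cancel h1
  -- `u` has no opposite partner
  obtain ⟨e, he, hue⟩ := exists_opp h2 hk hG humin
  have heC : InC G A₀ e := huC.of_opp h2 hk he hue
  have hep := heC.cj h2 hk hG hx.1.1 1
  have hem := heC.cj h2 hk hG hx.1.1 (-1)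
  set f := x * e - e * x with hf
  have hDf : u * D f = D f * u := by
    have e1 : (2 : k) • D f = D (cj x e 1) - D (cj x e (-1)) := by
      simp only [hD, hf, cj_one, cj_neg_one, two_smul, mul_add, mul_sub, add_mul, sub_mul]
      abel
    have e2 : (2 : k) • (u * D f) = (2 : k) • (D f * u) := by
      rw [← mul_smul_comm, ← smul_mul_assoc, e1, mul_sub, sub_mul, hu, prod x hx _ hep,
        prod x hx _ hem]
    exact smul_right_injective _ h2 e2
  have huD : u * D e = D e * u := by rw [hu]; exact prod x hx e heC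
  have hDfe : D f = (u * e - e * u) + (x * D e - D e * x) := by
    simp only [hu, hD, hf, mul_sub, sub_mul, mul_assoc]
    abel
  have hfin : u * (x * D e - D e * x) = (x * D e - D e * x) * u := by
    rw [mul_sub, sub_mul, ← mul_assoc u x, ux, zero_mul, ← mul_assoc u (D e) x, huD,
      mul_assoc (D e) u x, ux, mul_zero, mul_assoc x (D e) u, ← huD, ← mul_assoc x u, xu, zero_mul,
      mul_assoc (D e) x u, xu, mul_zero]
  rw [hDfe, mul_add, add_mul, hfin] at hDf
  have h3 := add_right_cancel hDf
  rw [mul_sub, sub_mul, ← mul_assoc u u e, humin.1.1, zero_mul, mul_assoc e u u, humin.1.1, mul_zero,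
    zero_sub, sub_zero, ← mul_assoc u e u, eq_comm, eq_neg_iff_add_eq_zero, ← two_smul k,
    smul_eq_zero] at h3
  exact hue.aba_ne hu0 (h3.resolve_left h2)

end CfsgLib.PLocal.QPair
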