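import Mathlib

/-!
# Quadratic pairs: transvections in `SL₂` over a commutative ring
-/

set_option autoImplicit false

namespace CfsgLib.PLocal.QPair

open scoped MatrixGroups

variable {R : Type*} [CommRing R]

local notation "⟪" g "⟫" => ((g : SL(2, R)) : Matrix (Fin 2) (Fin 2) R)

/-- The upper unitriangular element. -/
def up (x : R) : SL(2, R) := ⟨!![1, x; 0, 1], by simp [Matrix.det_fin_two_of]⟩

/-- The lower unitriangular element. -/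
def lo (x : R) : SL(2, R) := ⟨!![1, 0; x, 1], by simp [Matrix.det_fin_two_of]⟩

theorem up_coe (x : R) : ⟪up x⟫ = !![1, x; 0, 1] := rfl

theorem lo_coe (x : R) : ⟪lo x⟫ = !![1, 0; x, 1] := rfl

theorem det_eq (g : SL(2, R)) : ⟪g⟫ 0 0 * ⟪g⟫ 1 1 - ⟪g⟫ 0 1 * ⟪g⟫ 1 0 = 1 := by
  rw [← Matrix.det_fin_two]; exact g.2

theorem ext4 {g h : SL(2, R)} (h00 : ⟪g⟫ 0 0 = ⟪h⟫ 0 0) (h01 : ⟪g⟫ 0 1 = ⟪h⟫ 0 1)
    (h10 : ⟪g⟫ 1 0 = ⟪h⟫ 1 0) (h11 : ⟪g⟫ 1 1 = ⟪h⟫ 1 1) : g = h := by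
  apply Subtype.ext
  ext i j
  fin_cases i <;> fin_cases j <;> assumption

theorem up_mul (x y : R) : up x * up y = up (x + y) := by
  refine ext4 ?_ ?_ ?_ ?_ <;>
    simp [up_coe, Matrix.SpecialLinearGroup.coe_mul, Matrix.mul_apply, Fin.sum_univ_two, add_comm]

theorem lo_mul (x y : R) : lo x * lo y = lo (x + y) := by
  refine ext4 ?_ ?_ ?_ ?_ <;>
    simp [lo_coe, Matrix.SpecialLinearGroup.coe_mul, Matrix.mul_apply, Fin.sum_univ_two]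

theorem up_zero : up (0 : R) = 1 := by
  refine ext4 ?_ ?_ ?_ ?_ <;> simp [up_coe]

theorem lo_zero : lo (0 : R) = 1 := by
  refine ext4 ?_ ?_ ?_ ?_ <;> simp [lo_coe]

theorem up_inv (x : R) : (up x)⁻¹ = up (-x) :=
  inv_eq_of_mul_eq_one_right (by rw [up_mul, add_neg_cancel, up_zero])

theorem lo_inv (x : R) : (lo x)⁻¹ = lo (-x) :=
  inv_eq_of_mul_eq_one_right (by rw [lo_mul, add_neg_cancel, lo_zero])

/-- The additive group of `x` with `up x ∈ Γ`. -/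
def upSet (Γ : Subgroup SL(2, R)) : AddSubgroup R where
  carrier := {x | up x ∈ Γ}
  zero_mem' := by simp [up_zero, one_mem]
  add_mem' {x y} hx hy := by
    show up (x + y) ∈ Γ
    exact up_mul x y ▸ mul_mem hx hy
  neg_mem' {x} hx := by
    show up (-x) ∈ Γ
    exact up_inv x ▸ inv_mem hx

theorem mem_upSet {Γ : Subgroup SL(2, R)} {x : R} : x ∈ upSet Γ ↔ up x ∈ Γ := Iff.rfl

theorem conj_lo_apply (g : SL(2, R)) (x : R) (hd : ⟪g⟫ 1 1 = 0) :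
    g * lo x * g⁻¹ = up (-(⟪g⟫ 0 1 ^ 2 * x)) := by
  have h := det_eq g
  rw [hd, mul_zero, zero_sub] at h
  rw [mul_inv_eq_iff_eq_mul]
  refine ext4 ?_ ?_ ?_ ?_ <;>
    simp [up_coe, lo_coe, Matrix.SpecialLinearGroup.coe_mul, Matrix.mul_apply, Fin.sum_univ_two, hd]
  linear_combination (-(⟪g⟫ 0 1) * x) * h

theorem conj_up_inv_apply (g : SL(2, R)) (x : R) (hd : ⟪g⟫ 1 1 = 0) :
    g⁻¹ * up x * g = lo (-(⟪g⟫ 1 0 ^ 2 * x)) := by
  have h := det_eq g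
  rw [hd, mul_zero, zero_sub] at h
  rw [mul_assoc, inv_mul_eq_iff_eq_mul]
  refine ext4 ?_ ?_ ?_ ?_ <;>
    simp [up_coe, lo_coe, Matrix.SpecialLinearGroup.coe_mul, Matrix.mul_apply, Fin.sum_univ_two, hd]
  linear_combination (-(⟪g⟫ 1 0) * x) * h

/-- The conjugate of an upper transvection by a general element. -/
theorem conj_up_coe (g : SL(2, R)) (x : R) :
    ⟪g * up x * g⁻¹⟫ = !![1 - ⟪g⟫ 0 0 * ⟪g⟫ 1 0 * x, ⟪g⟫ 0 0 ^ 2 * x;
      -(⟪g⟫ 1 0 ^ 2 * x), 1 + ⟪g⟫ 0 0 * ⟪g⟫ 1 0 * x] := by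
  have h := det_eq g
  ext i j
  fin_cases i <;> fin_cases j <;>
    simp [up_coe, Matrix.SpecialLinearGroup.coe_mul, Matrix.SpecialLinearGroup.coe_inv,
      Matrix.adjugate_fin_two, Matrix.mul_apply, Fin.sum_univ_two] <;>
    first
      | linear_combination h
      | linear_combination (0 : R) * h

theorem mul_lo_row (g : SL(2, R)) (x : R) :
    ⟪g * lo x⟫ 1 0 = ⟪g⟫ 1 0 + x * ⟪g⟫ 1 1 ∧ ⟪g * lo x⟫ 1 1 = ⟪g⟫ 1 1 := by
  simp [lo_coe, Matrix.SpecialLinearGroup.coe_mul, Matrix.mul_apply, Fin.sum_univ_two, mul_comm]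

theorem mul_up_row (g : SL(2, R)) (x : R) :
    ⟪g * up x⟫ 1 0 = ⟪g⟫ 1 0 ∧ ⟪g * up x⟫ 1 1 = ⟪g⟫ 1 1 + x * ⟪g⟫ 1 0 := by
  simp [up_coe, Matrix.SpecialLinearGroup.coe_mul, Matrix.mul_apply, Fin.sum_univ_two, mul_comm,
    add_comm]

end CfsgLib.PLocal.QPair
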