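import Cfsg.Agent.Lib.PLocal.QPairUnip
import Cfsg.Agent.Lib.PLocal.QPairSL

/-!
# Quadratic pairs: the Fitting decomposition of two square zero endomorphisms

For `a² = 0 = b²` the space is the sum of a part where words in `a`, `b` are nilpotent and a part
`V ⊕ W` where `a : W → V` and `b : V → W` are bijective, so that `a`, `b` are given there by
`2 × 2` matrices over the algebra generated by `a b` on `V`.
-/

set_option autoImplicit false

namespace CfsgLib.PLocal.QPair

open CfsgLib.Trans3.Unipotent (flag flag_antitone step apply_mem_flag_succ)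
open scoped MatrixGroups

variable {k : Type*} [Field k] {M : Type*} [AddCommGroup M] [Module k M]

local notation "GLk" => LinearMap.GeneralLinearGroup k M
local notation "𝔈" => M →ₗ[k] M

/-- A Fitting decomposition for two square zero endomorphisms. -/
structure Frame (a b : M →ₗ[k] M) where
  /-- The nilpotent part. -/
  M₀ : Submodule k M
  /-- The invertible part. -/
  M₁ : Submodule k M
  /-- The image of `a` on the invertible part. -/
  V : Submodule k M
  /-- The image of `b` on the invertible part. -/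
  W : Submodule k M
  asq : a * a = 0
  bsq : b * b = 0
  compl : IsCompl M₀ M₁
  sup_eq : V ⊔ W = M₁
  disj : Disjoint V W
  a0 : ∀ m ∈ M₀, a m ∈ M₀
  b0 : ∀ m ∈ M₀, b m ∈ M₀
  aV : ∀ v ∈ V, a v = 0
  bW : ∀ w ∈ W, b w = 0
  aW : ∀ w ∈ W, a w ∈ V
  bV : ∀ v ∈ V, b v ∈ W
  aW_inj : ∀ w ∈ W, a w = 0 → w = 0
  bV_inj : ∀ v ∈ V, b v = 0 → v = 0
  flag_le : ∃ L, flag ({a, b} : Set (M →ₗ[k] M)) L ≤ M₁

/-- Squares zero: two steps of the flag lie in images of powers of `a b + b a`. -/
theorem flag_le_range (a b : 𝔈) (ha : a * a = 0) (hb : b * b = 0) : ∀ j : ℕ,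
    flag ({a, b} : Set 𝔈) (2 * j + 2) ≤
      LinearMap.range ((a * b + b * a) ^ j * (a * b)) ⊔ LinearMap.range ((a * b + b * a) ^ j * (b * a)) := by
  have hax : ∀ m, a (a m) = 0 := fun m => LinearMap.congr_fun ha m
  have hbx : ∀ m, b (b m) = 0 := fun m => LinearMap.congr_fun hb m
  intro j
  induction j with
  | zero =>
    refine iSup₂_le fun f hf => Submodule.map_le_iff_le_comap.2 (iSup₂_le fun g hg => ?_)
    rintro _ ⟨m, -, rfl⟩
    rw [Submodule.mem_comap]
    rcases hf with rfl | rfl <;> rcases hg with rfl | rfl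
    · rw [hax]; exact zero_mem _
    · exact Submodule.mem_sup_left ⟨m, by simp⟩
    · exact Submodule.mem_sup_right ⟨m, by simp⟩
    · rw [hbx]; exact zero_mem _
  | succ j ih =>
    set z := a * b + b * a with hz
    have hcab : Commute (z ^ j) a := Commute.pow_left (by
      show z * a = a * z
      rw [hz, add_mul, mul_add, mul_assoc b a a, ha, mul_zero, add_zero, ← mul_assoc a a b, ha,
        zero_mul, zero_add, mul_assoc]) j
    have hcba : Commute (z ^ j) b := Commute.pow_left (by
      show z * b = b * z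
      rw [hz, add_mul, mul_add, mul_assoc a b b, hb, mul_zero, zero_add, ← mul_assoc b b a, hb,
        zero_mul, add_zero, mul_assoc]) j
    have za : ∀ m, a ((z ^ j) m) = (z ^ j) (a m) := fun m => (LinearMap.congr_fun hcab.eq m).symm
    have zb : ∀ m, b ((z ^ j) m) = (z ^ j) (b m) := fun m => (LinearMap.congr_fun hcba.eq m).symm
    have zab : ∀ m, z (a (b m)) = a (b (a (b m))) := fun m => by simp [hz, hax]
    have zba : ∀ m, z (b (a m)) = b (a (b (a m))) := fun m => by simp [hz, hbx]
    rw [show 2 * (j + 1) + 2 = (2 * j + 2) + 1 + 1 by ring]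
    refine iSup₂_le fun f hf => Submodule.map_le_iff_le_comap.2 (iSup₂_le fun g hg => ?_)
    rintro _ ⟨x, hx, rfl⟩
    rw [Submodule.mem_comap]
    obtain ⟨_, ⟨m, rfl⟩, _, ⟨n, rfl⟩, rfl⟩ := Submodule.mem_sup.1 (ih hx)
    simp only [map_add, Module.End.mul_apply]
    rcases hf with rfl | rfl <;> rcases hg with rfl | rfl
    · rw [hax, hax, add_zero]; exact zero_mem _
    · rw [zb, zb, za, za, hbx, map_zero, map_zero, add_zero]
      refine Submodule.mem_sup_left ⟨m, ?_⟩
      rw [Module.End.mul_apply, Module.End.mul_apply, pow_succ, Module.End.mul_apply, zab]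
    · rw [za, za, zb, zb, hax, map_zero, map_zero, zero_add]
      refine Submodule.mem_sup_right ⟨n, ?_⟩
      rw [Module.End.mul_apply, Module.End.mul_apply, pow_succ, Module.End.mul_apply, zba]
    · rw [hbx, hbx, add_zero]; exact zero_mem _

variable [FiniteDimensional k M]

theorem exists_frame (a b : 𝔈) (ha : a * a = 0) (hb : b * b = 0) :
    ∃ F : Frame a b, F.M₁ = ⊥ → ∃ n : ℕ, (a * b) ^ n * a = 0 ∧ (b * a) ^ n * b = 0 := by
  set z := a * b + b * a with hz
  obtain ⟨N₀, hN₀⟩ := Filter.eventually_atTop.1 (LinearMap.eventually_isCompl_ker_pow_range_pow z)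
  set N := N₀ + 1
  have hc := hN₀ N (by omega)
  have hza : z * a = a * z := by
    rw [hz, add_mul, mul_add, mul_assoc b a a, ha, mul_zero, add_zero, ← mul_assoc a a b, ha,
      zero_mul, zero_add, mul_assoc]
  have hzb : z * b = b * z := by
    rw [hz, add_mul, mul_add, mul_assoc a b b, hb, mul_zero, zero_add, ← mul_assoc b b a, hb,
      zero_mul, add_zero, mul_assoc]
  have za : ∀ m, a ((z ^ N) m) = (z ^ N) (a m) := fun m =>
    (LinearMap.congr_fun ((Commute.pow_left (show Commute z a from hza) N).eq) m).symm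
  have zb : ∀ m, b ((z ^ N) m) = (z ^ N) (b m) := fun m =>
    (LinearMap.congr_fun ((Commute.pow_left (show Commute z b from hzb) N).eq) m).symm
  set M₁ := LinearMap.range (z ^ N) with hM₁
  have a1 : ∀ m ∈ M₁, a m ∈ M₁ := by
    rintro _ ⟨m, rfl⟩; exact ⟨a m, (za m).symm⟩
  have b1 : ∀ m ∈ M₁, b m ∈ M₁ := by
    rintro _ ⟨m, rfl⟩; exact ⟨b m, (zb m).symm⟩
  have z1 : ∀ m ∈ M₁, z m ∈ M₁ := fun m hm => add_mem (a1 _ (b1 _ hm)) (b1 _ (a1 _ hm))
  have zinj : ∀ m ∈ M₁, z m = 0 → m = 0 := fun m hm h =>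
    Submodule.disjoint_def.1 hc.disjoint m
      (by rw [LinearMap.mem_ker, show N = N₀ + 1 from rfl, pow_succ, Module.End.mul_apply, h, map_zero]) hm
  have zsurj : ∀ m ∈ M₁, ∃ y ∈ M₁, z y = m := by
    intro m hm
    have hinj : Function.Injective (z.restrict z1) := fun x y h => Subtype.ext (sub_eq_zero.1
      (zinj _ (sub_mem x.2 y.2) (by rw [map_sub, sub_eq_zero]; exact congrArg Subtype.val h)))
    obtain ⟨y, hy⟩ := LinearMap.injective_iff_surjective.1 hinj ⟨m, hm⟩
    exact ⟨y, y.2, congrArg Subtype.val hy⟩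
  refine ⟨
    { M₀ := LinearMap.ker (z ^ N)
      M₁ := M₁
      V := M₁.map a
      W := M₁.map b
      asq := ha
      bsq := hb
      compl := hc
      sup_eq := by
        refine le_antisymm (sup_le ?_ ?_) ?_
        · rintro _ ⟨m, hm, rfl⟩; exact a1 m hm
        · rintro _ ⟨m, hm, rfl⟩; exact b1 m hm
        · intro m hm
          obtain ⟨y, hy, rfl⟩ := zsurj m hm
          exact Submodule.mem_sup.2 ⟨_, ⟨b y, b1 y hy, rfl⟩, _, ⟨a y, a1 y hy, rfl⟩, rfl⟩
      disj := by
        rw [Submodule.disjoint_def]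
        rintro _ ⟨x, hx, rfl⟩ ⟨y, hy, hyx⟩
        refine zinj _ (a1 x hx) ?_
        show a (b (a x)) + b (a (a x)) = 0
        rw [show a (a x) = 0 from LinearMap.congr_fun ha x, map_zero, add_zero, ← hyx,
          show b (b y) = 0 from LinearMap.congr_fun hb y, map_zero]
      a0 := fun m hm => by rw [LinearMap.mem_ker, ← za, LinearMap.mem_ker.1 hm, map_zero]
      b0 := fun m hm => by rw [LinearMap.mem_ker, ← zb, LinearMap.mem_ker.1 hm, map_zero]
      aV := by rintro _ ⟨x, -, rfl⟩; exact LinearMap.congr_fun ha x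
      bW := by rintro _ ⟨x, -, rfl⟩; exact LinearMap.congr_fun hb x
      aW := by rintro _ ⟨x, hx, rfl⟩; exact ⟨b x, b1 x hx, rfl⟩
      bV := by rintro _ ⟨x, hx, rfl⟩; exact ⟨a x, a1 x hx, rfl⟩
      aW_inj := by
        rintro _ ⟨x, hx, rfl⟩ h
        refine zinj _ (b1 x hx) ?_
        show a (b (b x)) + b (a (b x)) = 0
        rw [h, map_zero, add_zero, show b (b x) = 0 from LinearMap.congr_fun hb x, map_zero]
      bV_inj := by
        rintro _ ⟨x, hx, rfl⟩ h
        refine zinj _ (a1 x hx) ?_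
        show a (b (a x)) + b (a (a x)) = 0
        rw [h, map_zero, zero_add, show a (a x) = 0 from LinearMap.congr_fun ha x, map_zero]
      flag_le := ⟨2 * N + 2, (flag_le_range a b ha hb N).trans (sup_le
        (by rintro _ ⟨m, rfl⟩; exact ⟨a (b m), rfl⟩) (by rintro _ ⟨m, rfl⟩; exact ⟨b (a m), rfl⟩))⟩ },
    fun hbot => ⟨N, ?_⟩⟩
  have hbot' : M₁ = ⊥ := hbot
  have hz0 : z ^ N = 0 := LinearMap.range_eq_bot.1 hbot'
  have key : ∀ {x y : 𝔈}, x * x = 0 → y * y = 0 → ∀ j : ℕ, (x * y + y * x) ^ j * x = (x * y) ^ j * x := by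
    intro x y hx hy j
    induction j with
    | zero => simp
    | succ j ih =>
      rw [pow_succ', mul_assoc, ih, pow_succ', mul_assoc, add_mul]
      have : y * x * ((x * y) ^ j * x) = 0 := by
        cases j with
        | zero => simp [mul_assoc, hx]
        | succ i => rw [pow_succ']; simp only [mul_assoc]; rw [← mul_assoc x x, hx]; simp
      rw [this, add_zero]
  constructor
  · rw [← key ha hb N, ← hz, hz0, zero_mul]
  · rw [← key hb ha N, add_comm, ← hz, hz0, zero_mul]

end CfsgLib.PLocal.QPair
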