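import Cfsg.Agent.Lib.PLocal.QPairOpp
import Cfsg.Agent.Lib.Trans3.RankOne

/-!
# Quadratic pairs: the root subgroups `E(σ)` and their conjugates
-/

set_option autoImplicit false

namespace CfsgLib.PLocal.QPair

variable {k : Type*} [Field k] {M : Type*} [AddCommGroup M] [Module k M]

local notation "GLk" => LinearMap.GeneralLinearGroup k M
local notation "𝔈" => M →ₗ[k] M

variable {G : Subgroup (LinearMap.GeneralLinearGroup k M)}

theorem sub_one_mul_sub_one (g h : GLk) :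
    ((g * h : GLk) : 𝔈) - 1 = ((g : 𝔈) - 1) + ((h : 𝔈) - 1) + ((g : 𝔈) - 1) * ((h : 𝔈) - 1) := by
  rw [Units.val_mul, sub_mul, mul_sub, one_mul, mul_one]
  abel

theorem conj_sub_one (g h : GLk) :
    ((g * h * g⁻¹ : GLk) : 𝔈) - 1 = (g : 𝔈) * ((h : 𝔈) - 1) * ((g⁻¹ : GLk) : 𝔈) := by
  rw [Units.val_mul, Units.val_mul, mul_sub, sub_mul, mul_one, Units.mul_inv]

/-- `E(σ)` consists of commuting elements. -/
theorem commute_iff (g h : GLk) :
    g * h = h * g ↔ ((g : 𝔈) - 1) * ((h : 𝔈) - 1) = ((h : 𝔈) - 1) * ((g : 𝔈) - 1) := by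
  constructor
  · intro e
    have e' : (g : 𝔈) * (h : 𝔈) = (h : 𝔈) * (g : 𝔈) := congrArg Units.val e
    simp only [sub_mul, mul_sub, one_mul, mul_one]
    rw [e']
    abel
  · intro e
    refine Units.ext ?_
    simp only [sub_mul, mul_sub, one_mul, mul_one] at e
    rw [Units.val_mul, Units.val_mul, ← sub_eq_zero, ← sub_eq_zero.2 e]
    abel

section Finite

variable [FiniteDimensional k M]

theorem mem_conj_rootSet {a x : 𝔈} {g : GLk} (hg : g ∈ G) :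
    x ∈ rootSet G ((g : 𝔈) * a * ((g⁻¹ : GLk) : 𝔈)) ↔
      ((g⁻¹ : GLk) : 𝔈) * x * (g : 𝔈) ∈ rootSet G a := by
  have key : ∀ {g : GLk}, g ∈ G → ∀ {a x : 𝔈}, x ∈ rootSet G a →
      (g : 𝔈) * x * ((g⁻¹ : GLk) : 𝔈) ∈ rootSet G ((g : 𝔈) * a * ((g⁻¹ : GLk) : 𝔈)) := by
    intro g hg a x hx
    refine ⟨hx.1.conj hg, ?_, ?_⟩
    · rintro _ ⟨m, rfl⟩
      obtain ⟨w, hw⟩ := hx.2.1 (LinearMap.mem_range_self x (((g⁻¹ : GLk) : 𝔈) m))
      refine ⟨(g : 𝔈) w, ?_⟩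
      simp only [Module.End.mul_apply]
      rw [← hw, ← Module.End.mul_apply ((g⁻¹ : GLk) : 𝔈), Units.inv_mul, Module.End.one_apply]
    · intro m hm
      rw [LinearMap.mem_ker, Module.End.mul_apply, Module.End.mul_apply] at hm ⊢
      have : a (((g⁻¹ : GLk) : 𝔈) m) = 0 := by
        have h := congrArg ((g⁻¹ : GLk) : 𝔈) hm
        rwa [← Module.End.mul_apply, Units.inv_mul, Module.End.one_apply, map_zero] at h
      rw [LinearMap.mem_ker.1 (hx.2.2 this), map_zero]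
  constructor
  · intro h
    have h' := key (inv_mem hg) h
    rw [inv_inv] at h'
    simpa [mul_assoc] using h'
  · intro h
    have := key hg h
    simpa [mul_assoc] using this

theorem rootSet_neg (a : 𝔈) : rootSet G (-a) = rootSet G a := by
  have hr : LinearMap.range (-a) = LinearMap.range a := LinearMap.range_neg a
  have hk : LinearMap.ker (-a) = LinearMap.ker a := by ext; simp
  rw [rootSet, rootSet, hr, hk]

theorem minimal_conj {σ g : GLk} (hσ : IsMin G ((σ : 𝔈) - 1)) (hg : g ∈ G) :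
    IsMin G (((g * σ * g⁻¹ : GLk) : 𝔈) - 1) := by
  rw [conj_sub_one]; exact hσ.conj hg

theorem conjBy_sameAction {σ g : GLk} (hσ : IsMin G ((σ : 𝔈) - 1)) (hg : g ∈ G) :
    Cfsg.conjBy (Cfsg.sameActionSubgroup G σ) g = Cfsg.sameActionSubgroup G (g * σ * g⁻¹) := by
  ext x
  rw [CfsgLib.Trans3.RankOne.mem_conjBy, mem_sameAction_iff hσ,
    mem_sameAction_iff (minimal_conj hσ hg), conj_sub_one g σ, mem_conj_rootSet hg]
  have : ((g⁻¹ * x * g : GLk) : 𝔈) - 1 = ((g⁻¹ : GLk) : 𝔈) * ((x : 𝔈) - 1) * (g : 𝔈) := by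
    have := conj_sub_one g⁻¹ x
    rwa [inv_inv] at this
  rw [this]

theorem sameAction_eq {σ τ : GLk} (hσ : IsMin G ((σ : 𝔈) - 1)) (hτ : IsMin G ((τ : 𝔈) - 1))
    (h : rootSet G ((σ : 𝔈) - 1) = rootSet G ((τ : 𝔈) - 1)) :
    Cfsg.sameActionSubgroup G σ = Cfsg.sameActionSubgroup G τ := by
  ext x; rw [mem_sameAction_iff hσ, mem_sameAction_iff hτ, h]

theorem uEnd_mem_sameAction {σ : GLk} (hσ : IsMin G ((σ : 𝔈) - 1)) {x : 𝔈}
    (hx : x ∈ rootSet G ((σ : 𝔈) - 1)) : uEnd x hx.1.1 ∈ Cfsg.sameActionSubgroup G σ := by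
  rw [mem_sameAction_iff hσ, uEnd_sub_one]; exact hx

theorem self_mem_sameAction {σ : GLk} (hσ : IsMin G ((σ : 𝔈) - 1)) :
    σ ∈ Cfsg.sameActionSubgroup G σ :=
  (mem_sameAction_iff hσ).2 (self_mem_rootSet hσ.1)

theorem sameAction_le {σ : GLk} (hσ : IsMin G ((σ : 𝔈) - 1)) :
    Cfsg.sameActionSubgroup G σ ≤ G := fun g hg =>
  ((mem_sameAction_iff hσ).1 hg).1.mem (by abel)

theorem sameAction_ne_bot {σ : GLk} (hσ : IsMin G ((σ : 𝔈) - 1)) :
    Cfsg.sameActionSubgroup G σ ≠ ⊥ := fun h => hσ.2.1 (by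
  have := h ▸ self_mem_sameAction hσ
  rw [Subgroup.mem_bot] at this
  simp [this])

theorem sameAction_isMulCommutative {σ : GLk} (hσ : IsMin G ((σ : 𝔈) - 1)) :
    IsMulCommutative (Cfsg.sameActionSubgroup G σ) := by
  refine ⟨⟨fun x y => Subtype.ext ((commute_iff _ _).2 ?_)⟩⟩
  have hx := (mem_sameAction_iff hσ).1 x.2
  have hy := (mem_sameAction_iff hσ).1 y.2
  rw [rootSet_mul hσ.1.1 hx hy, rootSet_mul hσ.1.1 hy hx]

end Finite

end CfsgLib.PLocal.QPair
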