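import Cfsg.Agent.Lib.PLocal.QPairFrame

/-!
# Quadratic pairs: the matrix model of the invertible part
-/

set_option autoImplicit false

namespace CfsgLib.PLocal.QPair

open scoped MatrixGroups

variable {k : Type*} [Field k] {M : Type*} [AddCommGroup M] [Module k M]

local notation "GLk" => LinearMap.GeneralLinearGroup k M
local notation "𝔈" => M →ₗ[k] M

variable {a b : M →ₗ[k] M}

namespace Frame

variable (F : Frame a b)

/-- `a` from `W` to `V`. -/
def aRes : F.W →ₗ[k] F.V := a.restrict F.aW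

/-- `b` from `V` to `W`. -/
def bRes : F.V →ₗ[k] F.W := b.restrict F.bV

theorem aRes_injective : Function.Injective F.aRes := fun x y h => Subtype.ext (sub_eq_zero.1
  (F.aW_inj _ (sub_mem x.2 y.2) (by rw [map_sub, sub_eq_zero]; exact congrArg Subtype.val h)))

theorem bRes_injective : Function.Injective F.bRes := fun x y h => Subtype.ext (sub_eq_zero.1
  (F.bV_inj _ (sub_mem x.2 y.2) (by rw [map_sub, sub_eq_zero]; exact congrArg Subtype.val h)))

/-- `a b` on `V`. -/
def lamEnd : Module.End k F.V := F.aRes ∘ₗ F.bRes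

/-- The algebra generated by `a b` on `V`. -/
abbrev coeff : Subalgebra k (Module.End k F.V) := Algebra.adjoin k {F.lamEnd}

instance coeffCommRing : CommRing F.coeff :=
  Algebra.adjoinCommRingOfComm k (by rintro x rfl y rfl; rfl)

/-- The generator. -/
def lam : F.coeff := ⟨F.lamEnd, Algebra.subset_adjoin rfl⟩

theorem adjoin_lam : Algebra.adjoin k ({F.lam} : Set F.coeff) = ⊤ := by
  have h : F.coeff.val '' {F.lam} = {F.lamEnd} := Set.image_singleton
  apply Subalgebra.map_injective (f := F.coeff.val) Subtype.val_injective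
  rw [AlgHom.map_adjoin, h, Algebra.map_top, Subalgebra.range_val]

variable [FiniteDimensional k M]

theorem finrank_eq : Module.finrank k F.W = Module.finrank k F.V :=
  le_antisymm (LinearMap.finrank_le_finrank_of_injective F.aRes_injective)
    (LinearMap.finrank_le_finrank_of_injective F.bRes_injective)

/-- `a : W ≃ V`. -/
noncomputable def aEquiv : F.W ≃ₗ[k] F.V :=
  LinearEquiv.ofBijective F.aRes ⟨F.aRes_injective,
    (LinearMap.injective_iff_surjective_of_finrank_eq_finrank F.finrank_eq).1 F.aRes_injective⟩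

theorem coe_aEquiv (w : F.W) : ((F.aEquiv w : F.V) : M) = a (w : M) := rfl

/-- The coordinates `(v, a w)` of the invertible part. -/
noncomputable def emb : (F.V × F.V) →ₗ[k] M :=
  F.V.subtype ∘ₗ LinearMap.fst k F.V F.V +
    F.W.subtype ∘ₗ F.aEquiv.symm.toLinearMap ∘ₗ LinearMap.snd k F.V F.V

theorem emb_apply (x y : F.V) : F.emb (x, y) = (x : M) + (F.aEquiv.symm y : M) := rfl

theorem a_emb (x y : F.V) : a (F.emb (x, y)) = F.emb (y, 0) := by
  rw [emb_apply, emb_apply, map_add, F.aV _ x.2, zero_add, map_zero, Submodule.coe_zero, add_zero,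
    ← F.coe_aEquiv, LinearEquiv.apply_symm_apply]

theorem b_emb (x y : F.V) : b (F.emb (x, y)) = F.emb (0, F.lamEnd x) := by
  rw [emb_apply, emb_apply, map_add, F.bW _ (F.aEquiv.symm y).2, add_zero, Submodule.coe_zero,
    zero_add]
  have : F.aEquiv.symm (F.lamEnd x) = F.bRes x := by
    rw [LinearEquiv.symm_apply_eq]; rfl
  rw [this]; rfl

theorem emb_injective : Function.Injective F.emb := by
  rw [← LinearMap.ker_eq_bot, LinearMap.ker_eq_bot']
  rintro ⟨x, y⟩ h
  rw [emb_apply] at h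
  have hx : (x : M) = 0 := Submodule.disjoint_def.1 F.disj _ x.2
    (by rw [eq_neg_of_add_eq_zero_left h]; exact neg_mem (F.aEquiv.symm y).2)
  rw [hx, zero_add] at h
  have hy : F.aEquiv.symm y = 0 := Subtype.ext h
  rw [LinearEquiv.map_eq_zero_iff] at hy
  exact Prod.ext (Subtype.ext hx) hy

theorem range_emb : LinearMap.range F.emb = F.M₁ := by
  rw [← F.sup_eq]
  refine le_antisymm ?_ (sup_le (fun v hv => ⟨(⟨v, hv⟩, 0), ?_⟩) fun w hw =>
    ⟨(0, F.aEquiv ⟨w, hw⟩), ?_⟩)
  · rintro _ ⟨⟨x, y⟩, rfl⟩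
    rw [emb_apply]
    exact add_mem (Submodule.mem_sup_left x.2) (Submodule.mem_sup_right (F.aEquiv.symm y).2)
  · simp [emb_apply]
  · simp [emb_apply]

/-- The coordinates of the projection to the invertible part. -/
noncomputable def proj : M →ₗ[k] (F.V × F.V) :=
  LinearMap.linearProjOfIsCompl F.M₀ F.emb F.emb_injective (by rw [range_emb]; exact F.compl.symm)

theorem proj_emb (v : F.V × F.V) : F.proj (F.emb v) = v :=
  LinearMap.linearProjOfIsCompl_apply_left _ _ _ _ _

theorem proj_of_mem {m : M} (hm : m ∈ F.M₀) : F.proj m = 0 := by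
  rw [proj, LinearMap.linearProjOfIsCompl, LinearMap.comp_apply,
    Submodule.projectionOnto_apply_of_mem_right _ hm, map_zero]

theorem decomp (m : M) : m - F.emb (F.proj m) ∈ F.M₀ ∧ F.emb (F.proj m) ∈ F.M₁ := by
  refine ⟨?_, F.range_emb ▸ LinearMap.mem_range_self _ _⟩
  obtain ⟨m₀, hm₀, m₁, hm₁, rfl⟩ :=
    Submodule.mem_sup.1 (F.compl.sup_eq_top.ge (Submodule.mem_top (x := m)))
  rw [← F.range_emb] at hm₁
  obtain ⟨v, rfl⟩ := hm₁
  simpa [F.proj_of_mem hm₀, F.proj_emb] using hm₀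

theorem ext_on {f g : 𝔈} (h₀ : ∀ m ∈ F.M₀, f m = g m) (h₁ : ∀ x y, f (F.emb (x, y)) = g (F.emb (x, y))) :
    f = g := by
  ext m
  rw [← sub_add_cancel m (F.emb (F.proj m)), map_add, map_add, h₀ _ (F.decomp m).1, ← h₁]

/-- Evaluation of a matrix over the coefficient algebra. -/
def act (A : Matrix (Fin 2) (Fin 2) F.coeff) (v : F.V × F.V) : F.V × F.V :=
  ((A 0 0 : Module.End k F.V) v.1 + (A 0 1 : Module.End k F.V) v.2,
    (A 1 0 : Module.End k F.V) v.1 + (A 1 1 : Module.End k F.V) v.2)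

theorem act_mul (A B : Matrix (Fin 2) (Fin 2) F.coeff) (v : F.V × F.V) :
    F.act (A * B) v = F.act A (F.act B v) := by
  simp only [act, Matrix.mul_apply, Fin.sum_univ_two, Subalgebra.coe_add, Subalgebra.coe_mul,
    LinearMap.add_apply, Module.End.mul_apply, map_add]
  refine Prod.ext ?_ ?_ <;> dsimp only <;> abel

theorem act_one (v : F.V × F.V) : F.act 1 v = v := by
  simp [act]

/-- `g` acts on the invertible part by the matrix `A`. -/
def Rep (g : GLk) (A : SL(2, F.coeff)) : Prop :=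
  ∀ v : F.V × F.V, (g : 𝔈) (F.emb v) = F.emb (F.act (A : Matrix (Fin 2) (Fin 2) F.coeff) v)

theorem rep_one : F.Rep 1 1 := fun v => by simp [act_one]

theorem rep_mul {g h : GLk} {A B : SL(2, F.coeff)} (hg : F.Rep g A) (hh : F.Rep h B) :
    F.Rep (g * h) (A * B) := fun v => by
  rw [Units.val_mul, Module.End.mul_apply, hh v, hg, Matrix.SpecialLinearGroup.coe_mul, act_mul]

theorem rep_inv {g : GLk} {A : SL(2, F.coeff)} (hg : F.Rep g A) : F.Rep g⁻¹ A⁻¹ := fun v => by
  conv_lhs => rw [show v = F.act (A : Matrix (Fin 2) (Fin 2) F.coeff)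
    (F.act ((A⁻¹ : SL(2, F.coeff)) : Matrix (Fin 2) (Fin 2) F.coeff) v) by
      rw [← act_mul, ← Matrix.SpecialLinearGroup.coe_mul, mul_inv_cancel,
        Matrix.SpecialLinearGroup.coe_one, act_one], ← hg]
  rw [← Module.End.mul_apply, Units.inv_mul, Module.End.one_apply]

theorem rep_unique {g : GLk} {A B : SL(2, F.coeff)} (hA : F.Rep g A) (hB : F.Rep g B) : A = B := by
  have h : ∀ v, F.act (A : Matrix (Fin 2) (Fin 2) F.coeff) v =
      F.act (B : Matrix (Fin 2) (Fin 2) F.coeff) v := fun v => F.emb_injective ((hA v).symm.trans (hB v))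
  refine ext4 ?_ ?_ ?_ ?_ <;> refine Subtype.ext (LinearMap.ext fun x => ?_)
  · simpa [act] using congrArg Prod.fst (h (x, 0))
  · simpa [act] using congrArg Prod.fst (h (0, x))
  · simpa [act] using congrArg Prod.snd (h (x, 0))
  · simpa [act] using congrArg Prod.snd (h (0, x))

theorem rep_up (c : k) : F.Rep (uEnd (c • a) (smul_sq F.asq c)) (up (c • 1)) := fun v => by
  obtain ⟨x, y⟩ := v
  rw [uEnd_coe, LinearMap.add_apply, Module.End.one_apply, LinearMap.smul_apply, a_emb,
    ← map_smul, ← map_add]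
  simp [act, up_coe]

theorem rep_lo (c : k) : F.Rep (uEnd (c • b) (smul_sq F.bsq c)) (lo (c • F.lam)) := fun v => by
  obtain ⟨x, y⟩ := v
  rw [uEnd_coe, LinearMap.add_apply, Module.End.one_apply, LinearMap.smul_apply, b_emb,
    ← map_smul, ← map_add]
  simp [act, lo_coe, lam, add_comm]

/-- The upper endomorphism with entry `r`. -/
noncomputable def upEnd (r : F.coeff) : 𝔈 :=
  F.emb ∘ₗ LinearMap.inl k F.V F.V ∘ₗ (r : Module.End k F.V) ∘ₗ LinearMap.snd k F.V F.V ∘ₗ F.proj

/-- The lower endomorphism with entry `r`. -/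
noncomputable def loEnd (r : F.coeff) : 𝔈 :=
  F.emb ∘ₗ LinearMap.inr k F.V F.V ∘ₗ (r : Module.End k F.V) ∘ₗ LinearMap.fst k F.V F.V ∘ₗ F.proj

theorem upEnd_emb (r : F.coeff) (x y : F.V) :
    F.upEnd r (F.emb (x, y)) = F.emb ((r : Module.End k F.V) y, 0) := by
  simp [upEnd, proj_emb]

theorem loEnd_emb (r : F.coeff) (x y : F.V) :
    F.loEnd r (F.emb (x, y)) = F.emb (0, (r : Module.End k F.V) x) := by
  simp [loEnd, proj_emb]

theorem upEnd_M₀ (r : F.coeff) {m : M} (hm : m ∈ F.M₀) : F.upEnd r m = 0 := by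
  simp [upEnd, proj_of_mem F hm, Prod.mk_zero_zero]

theorem loEnd_M₀ (r : F.coeff) {m : M} (hm : m ∈ F.M₀) : F.loEnd r m = 0 := by
  simp [loEnd, proj_of_mem F hm, Prod.mk_zero_zero]

theorem upEnd_sq (r : F.coeff) : F.upEnd r * F.upEnd r = 0 := F.ext_on
  (fun m hm => by simp [F.upEnd_M₀ r hm]) (fun x y => by simp [upEnd_emb, Prod.mk_zero_zero])

theorem loEnd_sq (r : F.coeff) : F.loEnd r * F.loEnd r = 0 := F.ext_on
  (fun m hm => by simp [F.loEnd_M₀ r hm]) (fun x y => by simp [loEnd_emb, Prod.mk_zero_zero])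

theorem smul_upEnd (c : k) (r : F.coeff) : F.upEnd (c • r) = c • F.upEnd r := F.ext_on
  (fun m hm => by simp [F.upEnd_M₀ _ hm]) (fun x y => by
    rw [LinearMap.smul_apply, upEnd_emb, upEnd_emb, ← map_smul]; simp)

theorem smul_loEnd (c : k) (r : F.coeff) : F.loEnd (c • r) = c • F.loEnd r := F.ext_on
  (fun m hm => by simp [F.loEnd_M₀ _ hm]) (fun x y => by
    rw [LinearMap.smul_apply, loEnd_emb, loEnd_emb, ← map_smul]; simp)

theorem eq_upEnd {g : GLk} {r : F.coeff} (h₀ : ∀ m ∈ F.M₀, (g : 𝔈) m = m)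
    (hg : F.Rep g (up r)) : (g : 𝔈) = 1 + F.upEnd r := F.ext_on
  (fun m hm => by simp [h₀ m hm, F.upEnd_M₀ r hm]) (fun x y => by
    rw [hg, LinearMap.add_apply, Module.End.one_apply, upEnd_emb, ← map_add]
    simp [act, up_coe])

theorem eq_loEnd {g : GLk} {r : F.coeff} (h₀ : ∀ m ∈ F.M₀, (g : 𝔈) m = m)
    (hg : F.Rep g (lo r)) : (g : 𝔈) = 1 + F.loEnd r := F.ext_on
  (fun m hm => by simp [h₀ m hm, F.loEnd_M₀ r hm]) (fun x y => by
    rw [hg, LinearMap.add_apply, Module.End.one_apply, loEnd_emb, ← map_add]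
    simp [act, lo_coe, add_comm])

theorem range_upEnd_le (r : F.coeff) : LinearMap.range (F.upEnd r) ≤ F.V := by
  rintro _ ⟨m, rfl⟩
  simp [upEnd, emb_apply]

theorem eq_one_of_rep_one {g : GLk} (h₀ : ∀ m ∈ F.M₀, (g : 𝔈) m = m) (hg : F.Rep g 1) : g = 1 :=
  Units.ext (F.ext_on (fun m hm => by simp [h₀ m hm]) fun x y => by simp [hg (x, y), act_one])

end Frame

end CfsgLib.PLocal.QPair
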