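import Cfsg.Agent.Lib.PLocal.QPairQuasi

/-!
# Quadratic pairs: a root element moving a component has a middle term there

If the root endomorphism `y` does not centralize a component, then some member `z` of the component
has `z y = 0 = y z` and its image inside the image of `y`.
-/

set_option autoImplicit false

universe u

namespace CfsgLib.PLocal.QPair

open Cfsg
open scoped commutatorElement

variable {k : Type u} [Field k] {M : Type u} [AddCommGroup M] [Module k M] [FiniteDimensional k M]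

local notation "GLk" => LinearMap.GeneralLinearGroup k M
local notation "𝔈" => M →ₗ[k] M

variable {G : Subgroup (LinearMap.GeneralLinearGroup k M)}
  {A₀ : Subgroup (LinearMap.GeneralLinearGroup k M)}

/-- `x` belongs to the component of `A₀`. -/
def InC (G A₀ : Subgroup (LinearMap.GeneralLinearGroup k M)) (x : M →ₗ[k] M) : Prop :=
  ∃ h : IsMin G x, rsub h ∈ compSet G A₀

theorem InC.conj (h2 : (2 : k) ≠ 0) (hk : Nat.card k ≠ 3) (hG : IsQuadraticPair G) {x : 𝔈}
    (hx : InC G A₀ x) {g : GLk} (hg : g ∈ G) :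
    InC G A₀ ((g : 𝔈) * x * ((g⁻¹ : GLk) : 𝔈)) := by
  obtain ⟨h, hC⟩ := hx
  exact ⟨h.conj hg, conjBy_rsub h hg ▸ conjBy_compSet h2 hk hG hC hg⟩

theorem InC.of_mem {x y : 𝔈} (hx : InC G A₀ x) (hy : y ∈ rootSet G x) (hy0 : y ≠ 0) :
    InC G A₀ y := by
  obtain ⟨h, hC⟩ := hx
  exact ⟨h.of_mem hy hy0, (rsub_eq h _ hy).symm ▸ hC⟩

theorem InC.of_opp (h2 : (2 : k) ≠ 0) (hk : Nat.card k ≠ 3) {x y : 𝔈} (hx : InC G A₀ x)
    (hy : IsMin G y) (ho : Opp x y) : InC G A₀ y := by
  obtain ⟨h, hC⟩ := hx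
  exact ⟨hy, rsub_mem hy, hC.2.trans (reach_of_opp h2 hk h hy ho)⟩

theorem InC.cj (h2 : (2 : k) ≠ 0) (hk : Nat.card k ≠ 3) (hG : IsQuadraticPair G) {x y : 𝔈}
    (hx : InC G A₀ x) (hy : IsRoot G y) (t : k) : InC G A₀ (cj y x t) := by
  have := hx.conj h2 hk hG (hy.smul t).uEnd_mem
  rwa [uEnd_coe, uEnd_inv_coe, ← cj_eq y x hy.1 t] at this

/-- Members of the component commute with members outside. -/
theorem InC.comm (h2 : (2 : k) ≠ 0) (hk : Nat.card k ≠ 3) (hG : IsQuadraticPair G) {x e : 𝔈}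
    (hx : InC G A₀ x) (he : IsMin G e) (hne : ¬ InC G A₀ e) : x * e = e * x :=
  comm_of_not_reach h2 hk hG hx.1 he fun h => hne ⟨he, rsub_mem he, hx.2.2.trans h⟩

/-- An element commuting with everything outside the component is inside. -/
theorem InC.of_comm (h2 : (2 : k) ≠ 0) (hk : Nat.card k ≠ 3) (hG : IsQuadraticPair G) {z : 𝔈}
    (hz : IsMin G z) (h : ∀ e, IsMin G e → ¬ InC G A₀ e → z * e = e * z) : InC G A₀ z := by
  by_contra hne
  obtain ⟨e, he, ho⟩ := exists_opp h2 hk hG hz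
  have hne' : ¬ InC G A₀ e := fun h' => hne (h'.of_opp h2 hk hz ho.symm)
  refine ho.aba_ne hz.2.1 ?_
  rw [mul_assoc, ← h e he hne', ← mul_assoc, hz.1.1, zero_mul]

/-- The group of the component centralizes what commutes with its members. -/
theorem compSup_comm {y : 𝔈} (h : ∀ x, InC G A₀ x → y * x = x * y) {g : GLk}
    (hg : g ∈ compSup G A₀) : y * (g : 𝔈) = (g : 𝔈) * y := by
  let C : Subgroup GLk :=
    { carrier := {g | y * (g : 𝔈) = (g : 𝔈) * y}
      one_mem' := by simp
      mul_mem' := by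
        intro a b ha hb
        simp only [Set.mem_setOf_eq, Units.val_mul] at ha hb ⊢
        rw [← mul_assoc, ha, mul_assoc, hb, mul_assoc]
      inv_mem' := by
        intro a ha
        simp only [Set.mem_setOf_eq] at ha ⊢
        calc y * ((a⁻¹ : GLk) : 𝔈) = ((a⁻¹ : GLk) : 𝔈) * ((a : 𝔈) * y) * ((a⁻¹ : GLk) : 𝔈) := by
              rw [← mul_assoc _ (a : 𝔈), Units.inv_mul, one_mul]
          _ = ((a⁻¹ : GLk) : 𝔈) * y := by rw [← ha]; simp only [mul_assoc, Units.mul_inv, mul_one] }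
  refine (iSup₂_le fun A hA => ?_ : compSup G A₀ ≤ C) hg
  obtain ⟨a, ha, rfl⟩ := exists_rsub hA.1
  intro g hg
  show y * (g : 𝔈) = (g : 𝔈) * y
  rcases eq_or_ne ((g : 𝔈) - 1) 0 with h0 | h0
  · rw [sub_eq_zero.1 h0, one_mul, mul_one]
  · have := h _ ((InC.of_mem ⟨ha, hA⟩ ((mem_rsub ha).1 hg) h0))
    rwa [mul_sub, sub_mul, mul_one, one_mul, sub_left_inj] at this

section Element

variable {x y : M →ₗ[k] M}

/-- The commutators of `x` with its conjugates force `x y x = 0`. -/
theorem xyx_eq_zero (h2 : (2 : k) ≠ 0) (hk : Nat.card k ≠ 3) (hy : IsRoot G y) (hx : IsMin G x)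
    (h : x * y * x * y * x = 0) : x * y * x = 0 := by
  set u := y * x - x * y with hu
  set w := y * x * y with hw
  have xx := hx.1.1
  have hxx : ∀ m : 𝔈, x * (x * m) = 0 := fun m => by rw [← mul_assoc, xx, zero_mul]
  have hyy : ∀ m : 𝔈, y * (y * m) = 0 := fun m => by rw [← mul_assoc, hy.1, zero_mul]
  have h5 : ∀ m : 𝔈, x * (y * (x * (y * (x * m)))) = 0 := fun m => by
    simp only [← mul_assoc]; rw [h, zero_mul]
  simp only [mul_assoc] at h
  set C : k → 𝔈 := fun t => x * cj y x t - cj y x t * x with hC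
  have hform : ∀ t, C t = (2 * t) • (x * y * x) - (t * t) • (x * w - w * x) := by
    intro t
    simp only [hC, cj, mul_add, add_mul, mul_sub, sub_mul, mul_smul_comm, smul_mul_assoc, smul_sub,
      mul_assoc, hxx, xx, mul_zero, smul_zero, sub_zero, zero_sub, hw, two_mul, add_smul]
    abel
  have hroot : ∀ t, IsRoot G (C t) ∧ rk (x * y * x) ≤ rk x := by
    intro t
    refine ⟨comm_isRoot hx.1 (IsMin.cj hy hx t).1 ?_ ?_, ?_⟩
    · simp [cj, mul_assoc, mul_add, add_mul, mul_sub, sub_mul, hxx, xx, h]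
    · have hxcj : x * cj y x t * x = 0 := by
        simp [cj, mul_assoc, mul_add, add_mul, mul_sub, sub_mul, hxx, xx, h]
      rcases unip_or_opp h2 hk hx (IsMin.cj hy hx t) with h' | h'
      · exact h'.2
      · exact absurd hxcj (h'.aba_ne hx.2.1)
    · rw [rk, rk, mul_assoc]
      exact Submodule.finrank_mono (LinearMap.range_comp_le_range _ _)
  have hann : C 1 * C (-1) = 0 ∧ C (-1) * C 1 = 0 := by
    rw [hform, hform]
    simp [hw, mul_add, add_mul, mul_sub, sub_mul, mul_assoc, hxx, xx, hyy, hy.1, h, h5]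
  have hr : IsRoot G (x * y * x) := by
    have := ((hroot 1).1.sub (hroot (-1)).1 hann.1 hann.2).smul ((2 : k) * 2)⁻¹
    convert this using 1
    rw [hform, hform, sub_sub_sub_comm, ← sub_smul, ← sub_smul,
      show (1 : k) * 1 - -1 * -1 = 0 by ring, zero_smul, sub_zero, smul_smul,
      show ((2 : k) * 2)⁻¹ * (2 * 1 - 2 * -1) = 1 by
        rw [show (2 : k) * 1 - 2 * -1 = 2 * 2 by ring, inv_mul_cancel₀ (mul_ne_zero h2 h2)],
      one_smul]
  by_contra h0
  have hle : LinearMap.range (x * y * x) ≤ LinearMap.range x := by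
    rw [mul_assoc]; exact LinearMap.range_comp_le_range _ _
  have heq : LinearMap.range (x * y * x) = LinearMap.range x :=
    Submodule.eq_of_le_of_finrank_le hle (hx.2.2 _ hr h0)
  refine h0 (LinearMap.ext fun m => ?_)
  obtain ⟨n, hn⟩ := heq.ge (LinearMap.mem_range_self x m)
  rw [Module.End.mul_apply, ← hn]
  have := LinearMap.congr_fun (show x * (y * (x * (y * x))) = (0 : 𝔈) from h) n
  simpa using this

/-- The layer part of a minimal conjugate of an inverse pair is a root. -/
theorem Graded.layer_root (h2 : (2 : k) ≠ 0) (hk : Nat.card k ≠ 3) {z c b : 𝔈} (hg : Graded G z c) (hb1 : c * z * b = b)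
    (hb2 : b * (z * c) = b) (hm : IsMin G ((1 + b) * z * (1 - b))) : b ∈ rootSet G c := by
  have bc : b * c = 0 := by
    rw [← hb2, mul_assoc, mul_assoc z c c, hg.inv.cc, mul_zero, mul_zero]
  have cb : c * b = 0 := by
    rw [← hb1, ← mul_assoc, ← mul_assoc, hg.inv.cc, zero_mul, zero_mul]
  have bb : b * b = 0 := by
    calc b * b = b * (c * z * b) := by rw [hb1]
      _ = 0 := by rw [← mul_assoc, ← mul_assoc, bc, zero_mul, zero_mul]
  set z' := (1 + b) * z * (1 - b) with hz'
  have zz' : z' * z' = 0 := hm.1.1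
  have hi : (1 - b) * (1 + b) = 1 := by
    simp only [sub_mul, mul_add, one_mul, mul_one, bb]; abel
  have hmid : (1 - b) * c * (1 + b) = c := by
    simp only [sub_mul, mul_add, one_mul, mul_one, bc, cb, zero_mul, add_zero, sub_zero]
  have h1' : z' * c * z' = z' := by
    calc z' * c * z' = (1 + b) * (z * ((1 - b) * c * (1 + b)) * z) * (1 - b) := by
          simp only [hz', mul_assoc]
      _ = z' := by rw [hmid, hg.inv.zcz, hz']
  have zbz : z * c * (z * b * z) = z * b * z := by
    simp only [← mul_assoc, hg.inv.zcz]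
  have key : ∀ s : k, s ≠ 0 → ∃ g ∈ G, (g : 𝔈) = (1 + b) * (1 + (s * s) • (z * b * z)) := by
    intro s hs
    have hsm := hg.hz.1.smul s
    have hcm := hg.hc.1.smul s⁻¹
    have hsm' := hm.1.smul s
    refine ⟨uEnd _ hsm'.1 * (uEnd _ hcm.1)⁻¹ * uEnd _ hsm'.1 *
      (uEnd _ hsm.1 * (uEnd _ hcm.1)⁻¹ * uEnd _ hsm.1)⁻¹,
      mul_mem (mul_mem (mul_mem hsm'.uEnd_mem (inv_mem hcm.uEnd_mem)) hsm'.uEnd_mem)
        (inv_mem (mul_mem (mul_mem hsm.uEnd_mem (inv_mem hcm.uEnd_mem)) hsm.uEnd_mem)), ?_⟩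
    simp only [mul_inv_rev, inv_inv, Units.val_mul, uEnd_coe, uEnd_inv_coe]
    have e1 : 1 + s • z' = (1 + b) * (1 + s • z) * (1 - b) := by
      rw [hz']
      simp only [mul_add, add_mul, mul_one, one_mul, smul_mul_assoc, mul_smul_comm, mul_sub, sub_mul,
        bb]
      simp only [smul_add, smul_sub]
      abel
    have e2 : (1 - b) * (1 - s⁻¹ • c) * (1 + b) = 1 - s⁻¹ • c := by
      calc (1 - b) * (1 - s⁻¹ • c) * (1 + b) = (1 - b) * (1 + b) - s⁻¹ • ((1 - b) * c * (1 + b)) := by
            simp only [mul_sub, sub_mul, mul_one, mul_smul_comm, smul_mul_assoc]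
        _ = _ := by rw [hi, hmid]
    have hn : (1 + s • z) * (1 - s⁻¹ • c) * (1 + s • z) * b =
        s • (z * b) := by
      have eb : (1 + s • z) * b = b + s • (z * b) := by rw [add_mul, one_mul, smul_mul_assoc]
      have ec : (1 - s⁻¹ • c) * (b + s • (z * b)) = s • (z * b) := by
        rw [sub_mul, one_mul, smul_mul_assoc, mul_add, cb, zero_add, mul_smul_comm, smul_smul,
          inv_mul_cancel₀ hs, one_smul, ← mul_assoc, hb1, add_sub_cancel_left]
      rw [mul_assoc _ (1 + s • z) b, eb, mul_assoc, ec, add_mul, one_mul, smul_mul_assoc,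
        mul_smul_comm, ← mul_assoc, hg.inv.zz, zero_mul, smul_zero, smul_zero, add_zero]
    have hn2 : s • (z * b) * ((1 - s • z) * (1 + s⁻¹ • c) * (1 - s • z)) =
        -((s * s) • (z * b * z)) := by
      have q1 : z * b * c = 0 := by rw [mul_assoc, bc, mul_zero]
      have q3 : z * b * z * c = z * b := by rw [mul_assoc (z * b), mul_assoc z b, hb2]
      have r1 : z * b * ((1 - s • z) * (1 + s⁻¹ • c)) = -(s • (z * b * z)) := by
        rw [← mul_assoc, mul_sub, mul_one, mul_smul_comm, mul_add, mul_one, sub_mul, mul_smul_comm,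
          q1, smul_zero, smul_mul_assoc, mul_smul_comm, q3, smul_smul, mul_inv_cancel₀ hs, one_smul]
        abel
      have r2 : z * b * z * z = 0 := by rw [mul_assoc (z * b), hg.inv.zz, mul_zero]
      rw [smul_mul_assoc, ← mul_assoc (z * b), r1, neg_mul, smul_mul_assoc, mul_sub, mul_one,
        mul_smul_comm, r2, smul_zero, sub_zero, smul_neg, smul_smul]
    have hnn : (1 + s • z) * (1 - s⁻¹ • c) * (1 + s • z) *
        ((1 - s • z) * (1 + s⁻¹ • c) * (1 - s • z)) = (1 : 𝔈) := by
      have h := congrArg Units.val (mul_inv_cancel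
        (uEnd _ hsm.1 * (uEnd _ hcm.1)⁻¹ * uEnd _ hsm.1))
      simp only [mul_inv_rev, inv_inv, Units.val_mul, Units.val_one, uEnd_coe, uEnd_inv_coe] at h
      simp only [mul_assoc] at h ⊢
      exact h
    set N := (1 + s • z) * (1 - s⁻¹ • c) * (1 + s • z)
    set N' := (1 - s • z) * (1 + s⁻¹ • c) * (1 - s • z)
    calc (1 + s • z') * (1 - s⁻¹ • c) * (1 + s • z') * ((1 - s • z) * ((1 + s⁻¹ • c) * (1 - s • z)))
        = (1 + b) * (1 + s • z) * ((1 - b) * (1 - s⁻¹ • c) * (1 + b)) * (1 + s • z) * (1 - b) *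
            N' := by rw [e1]; simp only [N', mul_assoc]
      _ = (1 + b) * (N * (1 - b) * N') := by rw [e2]; simp only [N, mul_assoc]
      _ = _ := by rw [mul_sub, mul_one, hn, sub_mul, hnn, hn2, sub_neg_eq_add]
  have hβsq : z * b * z * (z * b * z) = 0 := by
    rw [show z * b * z * (z * b * z) = z * b * (z * z) * (b * z) by simp only [mul_assoc], hg.inv.zz,
      mul_zero, zero_mul]
  have hpos : ∀ l : k, ∀ g : GLk, (g : 𝔈) = 1 + l • (z * b * z) → g ∈ G := by
    have add : ∀ l m : k, uEnd _ (smul_sq hβsq l) ∈ G → uEnd _ (smul_sq hβsq m) ∈ G →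
        uEnd _ (smul_sq hβsq (l + m)) ∈ G := by
      intro l m hl hm
      have e : uEnd _ (smul_sq hβsq (l + m)) = uEnd _ (smul_sq hβsq l) * uEnd _ (smul_sq hβsq m) := by
        refine Units.ext ?_
        simp only [Units.val_mul, uEnd_coe, add_mul, mul_add, one_mul, mul_one, smul_mul_assoc,
          mul_smul_comm, hβsq, smul_zero, add_smul]
        abel
      rw [e]
      exact mul_mem hl hm
    have diff : ∀ p q : k, p ≠ 0 → q ≠ 0 → uEnd _ (smul_sq hβsq (p * p - q * q)) ∈ G := by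
      intro p q hp hq
      obtain ⟨g₁, hg₁, e₁⟩ := key p hp
      obtain ⟨g₂, hg₂, e₂⟩ := key q hq
      have e : uEnd _ (smul_sq hβsq (p * p - q * q)) = g₂⁻¹ * g₁ := by
        rw [eq_inv_mul_iff_mul_eq]
        refine Units.ext ?_
        rw [Units.val_mul, e₂, e₁, uEnd_coe, mul_assoc]
        congr 1
        simp only [add_mul, mul_add, one_mul, mul_one, smul_mul_assoc, mul_smul_comm, smul_smul,
          hβsq, smul_zero, add_zero]
        rw [add_assoc, ← add_smul, show q * q + (p * p - q * q) = p * p by ring]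
      rw [e]
      exact mul_mem (inv_mem hg₂) hg₁
    intro l g hgl
    obtain ⟨t, ht0, ht⟩ := exists_scalar h2 hk
    obtain ⟨p, q, hpq⟩ := exists_sq_sub h2 (l / (t ^ 2 - 1))
    have one : uEnd _ (smul_sq hβsq (0 : k)) ∈ G := by
      rw [show uEnd _ (smul_sq hβsq (0 : k)) = 1 from Units.ext (by simp [uEnd_coe])]
      exact one_mem G
    have hp' : uEnd _ (smul_sq hβsq ((t ^ 2 - 1) * p ^ 2)) ∈ G := by
      rcases eq_or_ne p 0 with rfl | hp
      · convert one using 3; simp
      · convert diff (t * p) p (mul_ne_zero ht0 hp) hp using 3; ring_nf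
    have hq' : uEnd _ (smul_sq hβsq (-((t ^ 2 - 1) * q ^ 2))) ∈ G := by
      rcases eq_or_ne q 0 with rfl | hq
      · convert one using 3; simp
      · convert diff q (t * q) hq (mul_ne_zero ht0 hq) using 3; ring_nf
    have h := add _ _ hp' hq'
    rw [← sub_eq_add_neg, ← mul_sub, ← hpq, mul_div_cancel₀ l (sub_ne_zero.2 ht)] at h
    rw [show g = uEnd _ (smul_sq hβsq l) from Units.ext (by rw [uEnd_coe, hgl])]
    exact h
  have hβ : IsRoot G (z * b * z) := ⟨hβsq, fun l g hg' => hpos l g hg'⟩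
  obtain ⟨n, hn, en, en'⟩ : ∃ n ∈ G, (n : 𝔈) = (1 + z) * (1 - c) * (1 + z) ∧
      ((n⁻¹ : GLk) : 𝔈) = (1 - z) * (1 + c) * (1 - z) :=
    ⟨uEnd z hg.inv.zz * (uEnd c hg.inv.cc)⁻¹ * uEnd z hg.inv.zz,
      mul_mem (mul_mem hg.hz.1.uEnd_mem (inv_mem hg.hc.1.uEnd_mem)) hg.hz.1.uEnd_mem,
      by simp only [Units.val_mul, uEnd_coe, uEnd_inv_coe],
      by simp only [mul_inv_rev, inv_inv, Units.val_mul, uEnd_coe, uEnd_inv_coe, mul_assoc]⟩
  have hbr : IsRoot G b := by
    have h := (hβ.conj hn).neg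
    rw [en, en'] at h
    convert h using 1
    have za : z * (z * b * z) = 0 := by simp only [← mul_assoc, hg.inv.zz, zero_mul]
    have az : z * b * z * z = 0 := by rw [mul_assoc (z * b), hg.inv.zz, mul_zero]
    have cbc : c * (z * b * z) * c = b := by
      rw [mul_assoc, mul_assoc (z * b), mul_assoc z b, hb2, ← mul_assoc, hb1]
    have t1 : (1 + z) * (z * b * z) = z * b * z := by rw [add_mul, one_mul, za, add_zero]
    have t2 : z * b * z * (1 - z) = z * b * z := by rw [mul_sub, mul_one, az, sub_zero]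
    have t3 : (1 + z) * (1 - c) * (1 + z) * (z * b * z) * ((1 - z) * (1 + c) * (1 - z)) =
        (1 + z) * ((1 - c) * (z * b * z) * (1 + c)) * (1 - z) := by
      rw [mul_assoc _ (1 + z) (z * b * z), t1]
      simp only [mul_assoc]
      rw [← mul_assoc z (1 - z)]
      congr 1
      congr 1
      simp only [← mul_assoc]
      rw [t2]
    rw [t3]
    have e : (1 - c) * (z * b * z) * (1 + c) = z * b * z + z * b - c * (z * b * z) - b := by
      rw [sub_mul, one_mul, mul_add, mul_one, sub_mul, cbc,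
        show z * b * z * c = z * b by rw [mul_assoc (z * b), mul_assoc z b, hb2]]
      abel
    rw [e]
    have cβ : c * (z * b * z) = b * z := by rw [← mul_assoc, ← mul_assoc, hb1]
    have zz2 : z * (z * b) = 0 := by rw [← mul_assoc, hg.inv.zz, zero_mul]
    rw [cβ]
    have e2 : (1 + z) * (z * b * z + z * b - b * z - b) = -(b * z) - b := by
      rw [add_mul, one_mul, mul_sub z, mul_sub z, mul_add z, za, zz2, ← mul_assoc z b z]
      abel
    rw [e2, mul_sub, mul_one, sub_mul, neg_mul, mul_assoc b z z, hg.inv.zz, mul_zero, neg_zero,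
      zero_sub]
    abel
  exact hg.symm.layer_mem hbr hb1 hb2

end Element

end CfsgLib.PLocal.QPair
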