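import Cfsg.Agent.Lib.PLocal.QPairSplit
import Cfsg.Agent.Lib.PLocal.QPairComm

/-!
# Quadratic pairs: opposite and unipotent pairs of minimal root endomorphisms
-/

set_option autoImplicit false

namespace CfsgLib.PLocal.QPair

open CfsgLib.Trans3.Unipotent (IsNilSet dEnd flag flag_eq_bot_iff isNilSet_closure isUnipotentOn_iff)
open scoped MatrixGroups

variable {k : Type*} [Field k] {M : Type*} [AddCommGroup M] [Module k M]

local notation "GLk" => LinearMap.GeneralLinearGroup k M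
local notation "𝔈" => M →ₗ[k] M

variable {G : Subgroup (LinearMap.GeneralLinearGroup k M)} {a b : M →ₗ[k] M}

/-- The actions of `a` and `b` are opposite. -/
def Opp (a b : 𝔈) : Prop :=
  Disjoint (LinearMap.range a) (LinearMap.ker b) ∧ Disjoint (LinearMap.range b) (LinearMap.ker a)

theorem Opp.symm (h : Opp a b) : Opp b a := ⟨h.2, h.1⟩

theorem Opp.aba_ne (h : Opp a b) (ha : a ≠ 0) : a * b * a ≠ 0 := by
  intro h0
  refine ha (LinearMap.ext fun m => ?_)
  refine Submodule.disjoint_def.1 h.1 _ (LinearMap.mem_range_self a m) ?_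
  exact Submodule.disjoint_def.1 h.2 _ (LinearMap.mem_range_self b _) (LinearMap.congr_fun h0 m)

section Finite

variable [FiniteDimensional k M]

theorem Opp.mono {x y : 𝔈} (h : Opp a b) (ha : IsMin G a) (hb : IsMin G b) (hx : x ∈ rootSet G a)
    (hy : y ∈ rootSet G b) (hx0 : x ≠ 0) (hy0 : y ≠ 0) : Opp x y := by
  unfold Opp
  rw [(ha.sameAct hx hx0).1, (ha.sameAct hx hx0).2, (hb.sameAct hy hy0).1, (hb.sameAct hy hy0).2]
  exact h

theorem Split.opp (S : Split G a b) : Opp a b := by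
  constructor <;> rw [Submodule.disjoint_def]
  · exact fun m hm h => S.F.bV_inj m (S.V_eq ▸ hm) h
  · exact fun m hm h => S.F.aW_inj m (S.W_eq ▸ hm) h

theorem opp_of_ne (h2 : (2 : k) ≠ 0) (hk : Nat.card k ≠ 3) (ha : IsMin G a) (hb : IsMin G b)
    (hne : ¬ (a * b * a = 0 ∧ b * a * b = 0)) : Opp a b :=
  (exists_split h2 hk ha hb hne).some.opp

theorem unip_or_opp (h2 : (2 : k) ≠ 0) (hk : Nat.card k ≠ 3) (ha : IsMin G a) (hb : IsMin G b) :
    (a * b * a = 0 ∧ b * a * b = 0) ∨ Opp a b := or_iff_not_imp_left.2 (opp_of_ne h2 hk ha hb)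

/-- The vanishing of `a b a` and `b a b` passes to the whole root sets. -/
theorem unip_all (h2 : (2 : k) ≠ 0) (hk : Nat.card k ≠ 3) (ha : IsMin G a) (hb : IsMin G b)
    (h : a * b * a = 0 ∧ b * a * b = 0) :
    ∀ x ∈ rootSet G a, ∀ y ∈ rootSet G b, x * y * x = 0 ∧ y * x * y = 0 := by
  intro x hx y hy
  rcases eq_or_ne x 0 with rfl | hx0
  · simp
  rcases eq_or_ne y 0 with rfl | hy0
  · simp
  refine (unip_or_opp h2 hk (ha.of_mem hx hx0) (hb.of_mem hy hy0)).resolve_right fun ho => ?_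
  have hax : a ∈ rootSet G x := by rw [ha.rootSet_eq hx hx0]; exact self_mem_rootSet ha.1
  have hby : b ∈ rootSet G y := by rw [hb.rootSet_eq hy hy0]; exact self_mem_rootSet hb.1
  exact (ho.mono (ha.of_mem hx hx0) (hb.of_mem hy hy0) hax hby ha.2.1 hb.2.1).aba_ne ha.2.1 h.1

/-- Products of three elements of two such root sets vanish. -/
theorem triple_zero (h2 : (2 : k) ≠ 0) (hk : Nat.card k ≠ 3) (ha : IsMin G a) (hb : IsMin G b)
    (h : a * b * a = 0 ∧ b * a * b = 0) {x x' y : 𝔈} (hx : x ∈ rootSet G a)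
    (hx' : x' ∈ rootSet G a) (hy : y ∈ rootSet G b) : x * y * x' = 0 := by
  have h1 := (unip_all h2 hk ha hb h a (self_mem_rootSet ha.1) y hy).1
  ext m
  obtain ⟨w, hw⟩ := hx'.2.1 (LinearMap.mem_range_self x' m)
  rw [Module.End.mul_apply, Module.End.mul_apply, ← hw]
  exact hx.2.2 (LinearMap.congr_fun h1 w)

theorem isNilSet_roots (h2 : (2 : k) ≠ 0) (hk : Nat.card k ≠ 3) (ha : IsMin G a) (hb : IsMin G b)
    (h : a * b * a = 0 ∧ b * a * b = 0) : IsNilSet (rootSet G a ∪ rootSet G b) := by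
  refine ⟨3, (flag_eq_bot_iff _ 3).2 fun l hl hlen => ?_⟩
  match l, hlen with
  | [x, y, z], _ =>
    rw [List.prod_cons, List.prod_cons, List.prod_cons, List.prod_nil, mul_one]
    rcases hl x (by simp) with hx | hx <;> rcases hl y (by simp) with hy | hy <;>
      rcases hl z (by simp) with hz | hz
    all_goals first
      | rw [← mul_assoc, rootSet_mul ha.1.1 hx hy, zero_mul]
      | rw [← mul_assoc, rootSet_mul hb.1.1 hx hy, zero_mul]
      | rw [rootSet_mul ha.1.1 hy hz, mul_zero]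
      | rw [rootSet_mul hb.1.1 hy hz, mul_zero]
      | rw [← mul_assoc]; exact triple_zero h2 hk ha hb h hx hz hy
      | rw [← mul_assoc]; exact triple_zero h2 hk hb ha h.symm hx hz hy

theorem isUnipotentOn_pairGroup (h2 : (2 : k) ≠ 0) (hk : Nat.card k ≠ 3) (ha : IsMin G a)
    (hb : IsMin G b) (h : a * b * a = 0 ∧ b * a * b = 0) : Cfsg.IsUnipotentOn (pairGroup a b) := by
  rw [isUnipotentOn_iff]
  refine isNilSet_closure ((isNilSet_roots h2 hk ha hb h).mono ?_)
  rintro f ⟨g, ⟨c, hc⟩ | ⟨c, hc⟩, rfl⟩ <;> rw [hc, add_sub_cancel_left]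
  · exact Or.inl (smul_mem_rootSet (self_mem_rootSet ha.1) c)
  · exact Or.inr (smul_mem_rootSet (self_mem_rootSet hb.1) c)

theorem isUnipotentOn_sup (h2 : (2 : k) ≠ 0) (hk : Nat.card k ≠ 3) {σ τ : GLk}
    (hσ : IsMin G ((σ : 𝔈) - 1)) (hτ : IsMin G ((τ : 𝔈) - 1))
    (h : ((σ : 𝔈) - 1) * ((τ : 𝔈) - 1) * ((σ : 𝔈) - 1) = 0 ∧
      ((τ : 𝔈) - 1) * ((σ : 𝔈) - 1) * ((τ : 𝔈) - 1) = 0) :
    Cfsg.IsUnipotentOn (Cfsg.sameActionSubgroup G σ ⊔ Cfsg.sameActionSubgroup G τ) := by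
  rw [Subgroup.sup_eq_closure, isUnipotentOn_iff]
  refine isNilSet_closure ((isNilSet_roots h2 hk hσ hτ h).mono ?_)
  rintro f ⟨g, hg | hg, rfl⟩
  · exact Or.inl ((mem_sameAction_iff hσ).1 hg)
  · exact Or.inr ((mem_sameAction_iff hτ).1 hg)

theorem aba_of_isUnipotentOn (h2 : (2 : k) ≠ 0) (ha : IsMin G a) (hb : IsMin G b)
    {H : Subgroup GLk} (hH : Cfsg.IsUnipotentOn H) {g g' : GLk} (hg : g ∈ H) (hg' : g' ∈ H)
    (hga : (g : 𝔈) - 1 = a) (hgb : (g' : 𝔈) - 1 = b) : a * b * a = 0 ∧ b * a * b = 0 :=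
  aba_of_isNilSet h2 ha hb (isUnipotentOn_iff.1 hH) ⟨g, hg, hga⟩ ⟨g', hg', hgb⟩

/-- The inverse of `a` in the root set of an opposite element. -/
theorem Opp.exists_inverse (h : Opp a b) (h2 : (2 : k) ≠ 0) (hk : Nat.card k ≠ 3) (ha : IsMin G a)
    (hb : IsMin G b) : ∃ c ∈ rootSet G b, c ≠ 0 ∧ a * c * a = a ∧ c * a * c = c := by
  obtain ⟨S⟩ := exists_split h2 hk ha hb fun hz => h.aba_ne ha.2.1 hz.1
  let F := S.F
  have hne : F.loEnd 1 ≠ 0 := by
    intro h0
    refine ha.2.1 (LinearMap.range_eq_bot.1 ?_)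
    rw [S.V_eq, Submodule.eq_bot_iff]
    intro v hv
    have e := LinearMap.congr_fun h0 (F.emb (⟨v, hv⟩, 0))
    rw [F.loEnd_emb, LinearMap.zero_apply, LinearMap.map_eq_zero_iff F.emb F.emb_injective] at e
    exact congrArg Subtype.val (congrArg Prod.snd e)
  refine ⟨F.loEnd 1, ⟨⟨F.loEnd_sq 1, fun c u hu => ?_⟩, ?_, ?_⟩, hne, ?_, ?_⟩
  · obtain ⟨g, hg, hg'⟩ := F.exists_rep (A := lo (c • 1)) (by rw [S.top]; exact Subgroup.mem_top _)
    rw [show u = g from Units.ext (by rw [hu, F.eq_loEnd (S.fix g hg) hg', F.smul_loEnd])]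
    exact S.le hg
  · rintro _ ⟨m, rfl⟩
    rw [S.W_eq]
    simp [F, Frame.loEnd, Frame.emb_apply]
  · intro m hm
    rw [LinearMap.mem_ker] at hm ⊢
    have hd := F.decomp m
    have e : b (F.emb (F.proj m)) = 0 := by
      have := S.b_M₀ _ hd.1
      rwa [map_sub, hm, zero_sub, neg_eq_zero] at this
    rw [show m = (m - F.emb (F.proj m)) + F.emb (F.proj m) by abel, map_add,
      F.loEnd_M₀ 1 hd.1, zero_add]
    rcases hp : F.proj m with ⟨x, y⟩
    rw [hp, F.b_emb, LinearMap.map_eq_zero_iff F.emb F.emb_injective] at e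
    have hx : x = 0 := (F.aRes_injective.comp F.bRes_injective)
      (show F.lamEnd x = F.lamEnd 0 by rw [map_zero]; exact congrArg Prod.snd e)
    rw [F.loEnd_emb, hx]
    simp [Prod.mk_zero_zero]
  · refine F.ext_on (fun m hm => ?_) fun x y => ?_
    · simp [S.a_M₀ m hm]
    · simp [F, Frame.a_emb, Frame.loEnd_emb]
  · refine F.ext_on (fun m hm => ?_) fun x y => ?_
    · simp [F, S.F.loEnd_M₀ 1 hm]
    · simp [F, Frame.a_emb, Frame.loEnd_emb]

/-- Opposite actions decompose the space. -/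
theorem Opp.compl (h : Opp a b) (ha : a * a = 0) (hb : b * b = 0) :
    IsCompl (LinearMap.ker a ⊓ LinearMap.ker b) (LinearMap.range a ⊔ LinearMap.range b) := by
  have e1 := LinearMap.finrank_range_add_finrank_ker a
  have e2 := LinearMap.finrank_range_add_finrank_ker b
  have f1 := Submodule.finrank_sup_add_finrank_inf_eq (LinearMap.range a) (LinearMap.ker b)
  have f2 := Submodule.finrank_sup_add_finrank_inf_eq (LinearMap.range b) (LinearMap.ker a)
  rw [h.1.eq_bot, finrank_bot, add_zero] at f1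
  rw [h.2.eq_bot, finrank_bot, add_zero] at f2
  have g1 := Submodule.finrank_le (LinearMap.range a ⊔ LinearMap.ker b)
  have g2 := Submodule.finrank_le (LinearMap.range b ⊔ LinearMap.ker a)
  have t1 : LinearMap.range a ⊔ LinearMap.ker b = ⊤ :=
    Submodule.eq_top_of_finrank_eq (by omega)
  have t2 : LinearMap.range b ⊔ LinearMap.ker a = ⊤ :=
    Submodule.eq_top_of_finrank_eq (by omega)
  constructor
  · rw [Submodule.disjoint_def]
    intro m hm hm'
    obtain ⟨v, hv, w, hw, rfl⟩ := Submodule.mem_sup.1 hm'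
    obtain ⟨hma, hmb⟩ := Submodule.mem_inf.1 hm
    rw [LinearMap.mem_ker, map_add] at hma hmb
    rw [range_le_ker ha hv, zero_add] at hma
    rw [range_le_ker hb hw, add_zero] at hmb
    rw [Submodule.disjoint_def.1 h.1 v hv hmb, Submodule.disjoint_def.1 h.2 w hw hma, add_zero]
  · rw [codisjoint_iff, eq_top_iff]
    intro m _
    obtain ⟨v, hv, u, hu, rfl⟩ := Submodule.mem_sup.1 (t1.ge (Submodule.mem_top (x := m)))
    obtain ⟨w, hw, z, hz, rfl⟩ := Submodule.mem_sup.1 (t2.ge (Submodule.mem_top (x := u)))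
    refine Submodule.mem_sup.2 ⟨z, ⟨hz, ?_⟩, v + w, Submodule.add_mem_sup hv hw, by abel⟩
    rw [SetLike.mem_coe, LinearMap.mem_ker] at *
    rw [map_add, range_le_ker hb hw, zero_add] at hu
    exact hu

end Finite

end CfsgLib.PLocal.QPair
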