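import Cfsg.Agent.Lib.PLocal.QPairRankOne
import Cfsg.Agent.S5061

/-!
# Quadratic pairs: every minimal root endomorphism has an opposite one
-/

set_option autoImplicit false

universe u v

namespace CfsgLib.PLocal.QPair

open CfsgLib.Trans3.Unipotent (IsNilSet dEnd flag isUnipotentOn_iff apply_mem_flag_succ)

variable {k : Type u} [Field k] {M : Type v} [AddCommGroup M] [Module k M]

local notation "GLk" => LinearMap.GeneralLinearGroup k M
local notation "𝔈" => M →ₗ[k] M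

/-- A unipotent group fixes a non-zero vector. -/
theorem exists_fixed_of_isUnipotentOn {N : Subgroup GLk} (hN : Cfsg.IsUnipotentOn N)
    (hM : ∃ m : M, m ≠ 0) : ∃ m : M, m ≠ 0 ∧ ∀ g ∈ N, (g : 𝔈) m = m := by
  classical
  have h := isUnipotentOn_iff.1 hN
  have hn := Nat.find_spec h
  obtain ⟨j, hj⟩ : ∃ j, Nat.find h = j + 1 := by
    refine Nat.exists_eq_succ_of_ne_zero fun h0 => ?_
    rw [h0] at hn
    obtain ⟨m, hm⟩ := hM
    exact hm ((Submodule.mem_bot k).1 (hn ▸ Submodule.mem_top (x := m)))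
  have hne : flag (dEnd (N : Set GLk)) j ≠ ⊥ := Nat.find_min h (by omega)
  obtain ⟨m, hm, hm0⟩ := Submodule.exists_mem_ne_zero_of_ne_bot hne
  refine ⟨m, hm0, fun g hg => ?_⟩
  have := apply_mem_flag_succ (f := (g : 𝔈) - 1) (T := dEnd (N : Set GLk)) ⟨g, hg, rfl⟩ hm
  rw [← hj, hn, Submodule.mem_bot, LinearMap.sub_apply, Module.End.one_apply, sub_eq_zero] at this
  exact this

variable [FiniteDimensional k M] {G : Subgroup (LinearMap.GeneralLinearGroup k M)}

theorem exists_opp (h2 : (2 : k) ≠ 0) (hk : Nat.card k ≠ 3) (hG : Cfsg.IsQuadraticPair G)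
    {a : 𝔈} (ha : IsMin G a) : ∃ e, IsMin G e ∧ Opp a e := by
  by_contra hno
  push Not at hno
  have hu : ∀ e, IsMin G e → a * e * a = 0 ∧ e * a * e = 0 := fun e he =>
    (unip_or_opp h2 hk ha he).resolve_right (hno e he)
  set σ := uEnd a ha.1.1 with hσdef
  have hσa : (σ : 𝔈) - 1 = a := uEnd_sub_one a ha.1.1
  have hσ : IsMin G ((σ : 𝔈) - 1) := by rw [hσa]; exact ha
  set W : Set (Subgroup GLk) :=
    {A | ∃ g ∈ G, A = Cfsg.sameActionSubgroup G (g * σ * g⁻¹)}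
  have h5061 := Cfsg.Agent.S5061.result (G := G) (W := W)
    (by rintro A ⟨g, hg, rfl⟩; exact sameAction_le (minimal_conj hσ hg))
    (by
      rintro A ⟨g, hg, rfl⟩ B ⟨g', hg', rfl⟩
      refine isUnipotentOn_sup h2 hk (minimal_conj hσ hg) (minimal_conj hσ hg') ?_
      have key : ∀ {g g' : GLk}, g ∈ G → g' ∈ G →
          (g : 𝔈) * a * ((g⁻¹ : GLk) : 𝔈) * ((g' : 𝔈) * a * ((g'⁻¹ : GLk) : 𝔈)) *
            ((g : 𝔈) * a * ((g⁻¹ : GLk) : 𝔈)) = 0 := by
        intro g g' hg hg'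
        have h := (hu _ (ha.conj (mul_mem (inv_mem hg) hg'))).1
        rw [Units.val_mul, mul_inv_rev, inv_inv, Units.val_mul] at h
        calc _ = (g : 𝔈) * (a * (((g⁻¹ : GLk) : 𝔈) * (g' : 𝔈) * a *
              (((g'⁻¹ : GLk) : 𝔈) * (g : 𝔈))) * a) * ((g⁻¹ : GLk) : 𝔈) := by simp only [mul_assoc]
          _ = 0 := by rw [h, mul_zero, zero_mul]
      rw [conj_sub_one, conj_sub_one, hσa]
      exact ⟨key hg hg', key hg' hg⟩)
    (by
      rintro A ⟨g, hg, rfl⟩ x hx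
      refine ⟨x * g, mul_mem hx hg, ?_⟩
      rw [conjBy_sameAction (minimal_conj hσ hg) hx]
      simp only [mul_inv_rev, mul_assoc])
  obtain ⟨hN, hNnorm⟩ := h5061
  set N := ⨆ A ∈ W, A
  obtain ⟨m, hm, hfix⟩ := exists_fixed_of_isUnipotentOn hN hG.1.1
  have hinv : ∀ g ∈ G, ∀ w ∈ Cfsg.fixedSubmodule N, (g : 𝔈) w ∈ Cfsg.fixedSubmodule N := by
    intro g hg w hw
    simp only [Cfsg.fixedSubmodule, Submodule.mem_iInf, LinearMap.mem_ker, LinearMap.sub_apply,
      Module.End.one_apply, sub_eq_zero] at hw ⊢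
    intro x hx
    have hx' : g⁻¹ * x * g ∈ N := by
      rw [← CfsgLib.Trans3.RankOne.mem_conjBy, hNnorm g hg]; exact hx
    calc (x : 𝔈) ((g : 𝔈) w) = ((g * (g⁻¹ * x * g) : GLk) : 𝔈) w := by
          rw [mul_assoc g⁻¹ x g, mul_inv_cancel_left]; rfl
      _ = (g : 𝔈) w := by
          rw [Units.val_mul, Module.End.mul_apply, hw _ hx']
  rcases hG.1.2 _ hinv with hbot | htop
  · refine hm ((Submodule.mem_bot k).1 (hbot ▸ ?_))
    simpa [Cfsg.fixedSubmodule, sub_eq_zero] using hfix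
  · refine ha.2.1 (LinearMap.ext fun w => ?_)
    have hw : w ∈ Cfsg.fixedSubmodule N := htop ▸ Submodule.mem_top
    simp only [Cfsg.fixedSubmodule, Submodule.mem_iInf, LinearMap.mem_ker] at hw
    rw [← hσa]
    refine hw σ ?_
    refine Subgroup.mem_iSup_of_mem (Cfsg.sameActionSubgroup G σ)
      (Subgroup.mem_iSup_of_mem ⟨1, one_mem G, by simp⟩ (self_mem_sameAction hσ))

end CfsgLib.PLocal.QPair
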