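import Cfsg.Agent.Lib.PLocal.QPairSimple

/-!
# Quadratic pairs: the partition of `Σ` into classes
-/

set_option autoImplicit false

universe u

namespace CfsgLib.PLocal.QPair

open Cfsg
open scoped commutatorElement
open CfsgLib.Trans3.RankOne (mem_conjBy conjBy_conjBy conjBy_one)

variable {k : Type u} [Field k] {M : Type u} [AddCommGroup M] [Module k M] [FiniteDimensional k M]

local notation "GLk" => LinearMap.GeneralLinearGroup k M
local notation "𝔈" => M →ₗ[k] M

variable {G : Subgroup (LinearMap.GeneralLinearGroup k M)}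

theorem compSup_quasisimple (h2 : (2 : k) ≠ 0) (hk : Nat.card k ≠ 3) (hG : IsQuadraticPair G)
    {A : Subgroup GLk} (hA : A ∈ quadraticRootSubgroups G) : IsQuasisimple ↥(compSup G A) := by
  set H := compSup G A
  have hle : ⁅H, H⁆ = H := le_antisymm (Subgroup.commutator_le_self H) (le_commutator_compSup h2 hk hG A)
  refine ⟨H.isPerfect_iff.2 hle, ?_⟩
  have hnc : Subgroup.center ↥H ≠ ⊤ := by
    intro hc
    obtain ⟨B, hB, hAB⟩ := exists_compPartner h2 hk hG (mem_compSet_self hA)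
    obtain ⟨a, ha, b, hb, hab⟩ := CfsgLib.Trans3.RankOne.not_comm hAB
    have h := Subgroup.mem_center_iff.1 (hc.ge (Subgroup.mem_top (⟨a, le_compSup (mem_compSet_self hA) ha⟩ : ↥H)))
      ⟨b, le_compSup hB hb⟩
    exact hab (congrArg Subtype.val h).symm
  have : Nontrivial (↥H ⧸ Subgroup.center ↥H) := QuotientGroup.nontrivial_iff.2 hnc
  refine ⟨fun K hK => ?_⟩
  set L := K.comap (QuotientGroup.mk' (Subgroup.center ↥H))
  have hL : L.Normal := hK.comap _
  have hKL : L.map (QuotientGroup.mk' (Subgroup.center ↥H)) = K :=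
    Subgroup.map_comap_eq_self_of_surjective (QuotientGroup.mk'_surjective _) K
  have hn : ∀ h ∈ H, conjBy (L.map H.subtype) h = L.map H.subtype := by
    intro h hh
    have e : conjBy L ⟨h, hh⟩ = L :=
      CfsgLib.Trans3.RankOne.conjBy_eq_self_iff.2 (Subgroup.normalizer_eq_top (H := L) ▸ Subgroup.mem_top _)
    conv_rhs => rw [← e]
    exact (CfsgLib.Trans3.PairOver.map_conjBy H.subtype L ⟨h, hh⟩).symm
  rcases normal_cases h2 hk hG hA (Subgroup.map_subtype_le L) hn with h | h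
  · right
    rw [← hKL, eq_top_iff]
    intro x _
    obtain ⟨⟨y, hy⟩, rfl⟩ := QuotientGroup.mk'_surjective _ x
    obtain ⟨l, hl, rfl⟩ := h hy
    exact ⟨l, hl, rfl⟩
  · left
    rw [← hKL, eq_bot_iff]
    rintro _ ⟨l, hl, rfl⟩
    rw [Subgroup.mem_bot, QuotientGroup.mk'_apply, QuotientGroup.eq_one_iff, Subgroup.mem_center_iff]
    intro g
    exact Subtype.ext (h l ⟨l, hl, rfl⟩ g g.2).symm

/-- The set of components. -/
def comps (G : Subgroup (LinearMap.GeneralLinearGroup k M)) :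
    Set (Set (Subgroup (LinearMap.GeneralLinearGroup k M))) :=
  compSet G '' quadraticRootSubgroups G

omit [FiniteDimensional k M] in
theorem compSet_eq {A B : Subgroup GLk} (h : Reach G A B) : compSet G A = compSet G B := by
  ext C
  have hr : Reach G B A := by
    induction h with
    | refl => exact Relation.ReflTransGen.refl
    | tail _ h2 ih => exact Relation.ReflTransGen.head ⟨h2.2.1, h2.1, RankOnePair_symm h2.2.2⟩ ih
  exact ⟨fun hC => ⟨hC.1, hr.trans hC.2⟩, fun hC => ⟨hC.1, h.trans hC.2⟩⟩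

theorem comps_finite (h2 : (2 : k) ≠ 0) (hk : Nat.card k ≠ 3) (hG : IsQuadraticPair G) :
    (comps G).Finite := by
  classical
  choose rep hrep hrep' using fun P : comps G => P.2
  choose a ha hra using fun P : comps G => exists_rsub (hrep P)
  have hli : LinearIndependent k a := by
    rw [linearIndependent_iff']
    intro s g hs i hi
    obtain ⟨e, he, ho⟩ := exists_opp h2 hk hG (ha i)
    obtain ⟨c, hg⟩ := exists_graded h2 hk (ha i) he ho
    have hcomm : ∀ j, j ≠ i → a j * c = c * a j := fun j hj =>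
      comm_of_not_reach h2 hk hG (ha j) hg.hc fun hr => hj (Subtype.ext (by
        rw [← hrep' j, ← hrep' i]
        refine compSet_eq ?_
        rw [hra j, hra i]
        exact hr.trans (reach_symm (reach_of_opp h2 hk (ha i) hg.hc hg.opp))))
    have h := congrArg (fun f : 𝔈 => a i * (f * c - c * f)) hs
    simp only [Finset.sum_mul, Finset.mul_sum, ← Finset.sum_sub_distrib, smul_mul_assoc,
      mul_smul_comm, ← smul_sub, zero_mul, mul_zero, sub_zero] at h
    rw [Finset.sum_eq_single i (fun j _ hj => by rw [hcomm j hj, sub_self, mul_zero, smul_zero])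
      (fun hn => absurd hi hn), mul_sub, ← mul_assoc, hg.inv.zz, zero_mul, zero_sub, ← mul_assoc,
      hg.inv.zcz, smul_neg, neg_eq_zero] at h
    exact (smul_eq_zero.1 h).resolve_right (ha i).2.1
  exact hli.finite

theorem compSet_disjoint {P Q : Set (Subgroup GLk)} (hP : P ∈ comps G) (hQ : Q ∈ comps G)
    (hne : P ≠ Q) : Disjoint P Q := by
  obtain ⟨A, -, rfl⟩ := hP
  obtain ⟨B, -, rfl⟩ := hQ
  rw [Set.disjoint_left]
  intro C hA hB
  exact hne ((compSet_eq hA.2).trans (compSet_eq hB.2).symm)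

theorem compSet_commute (h2 : (2 : k) ≠ 0) (hk : Nat.card k ≠ 3) (hG : IsQuadraticPair G)
    {A B : Subgroup GLk} (hne : compSet G A ≠ compSet G B) :
    ⁅compSup G A, compSup G B⁆ = ⊥ := by
  refine Subgroup.commutator_eq_bot_iff_le_centralizer.2 (iSup₂_le fun C hC => ?_)
  intro c hc
  rw [Subgroup.mem_centralizer_iff]
  intro d hd
  have : compSup G B ≤ Subgroup.centralizer ({c} : Set GLk) := iSup₂_le fun D hD x hx => by
    rw [Subgroup.mem_centralizer_singleton_iff]
    have h := commutator_bot_of_not_reach h2 hk hG hC.1 hD.1 fun hr =>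
      hne ((compSet_eq (hC.2.trans hr)).trans (compSet_eq hD.2).symm)
    exact Subgroup.mem_centralizer_iff.1 (Subgroup.commutator_eq_bot_iff_le_centralizer.1 h hc) x hx
  exact Subgroup.mem_centralizer_singleton_iff.1 (this hd)

theorem compSet_rootClass (h2 : (2 : k) ≠ 0) (hk : Nat.card k ≠ 3) (hG : IsQuadraticPair G)
    {A₀ : Subgroup GLk} (hA₀ : A₀ ∈ quadraticRootSubgroups G) :
    IsRootSubgroupClass ((fun A : Subgroup GLk => A.subgroupOf (compSup G A₀)) '' compSet G A₀) := by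
  refine ⟨isRootSubgroupSet_subgroupOf rfl (fun A hA => ?_) (fun A hA => ?_)
    (fun A hA g hg => conjBy_compSet h2 hk hG hA (compSup_le hg)) (fun A hA B hB => ?_), ?_, ?_⟩
  · obtain ⟨σ, hσ, rfl⟩ := hA.1
    exact sameAction_isMulCommutative (minimal_iff.1 hσ)
  · obtain ⟨σ, hσ, rfl⟩ := hA.1
    exact sameAction_ne_bot (minimal_iff.1 hσ)
  · rcases sigma_trichotomy h2 hk hG hA.1 hB.1 with h | h | ⟨h, h'⟩
    · exact Or.inl h
    · exact Or.inr (Or.inl h)
    · refine Or.inr (Or.inr ⟨⟨h, hA.2.trans ?_⟩, h'⟩)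
      by_contra hr
      have hbot := commutator_bot_of_not_reach h2 hk hG hA.1 h hr
      obtain ⟨a, ha, rfl⟩ := exists_rsub hA.1
      obtain ⟨b, hb, rfl⟩ := exists_rsub hB.1
      have hu : a * b * a = 0 ∧ b * a * b = 0 := by
        refine (unip_or_opp h2 hk ha hb).resolve_right fun ho => ?_
        have hrk := isRankOnePair_of_opp h2 hk (isMin_uEnd ha) (isMin_uEnd hb)
          (by rwa [uEnd_sub_one, uEnd_sub_one])
        obtain ⟨x, hx, hx1, y, hy, hy1, hxy⟩ := exists_comm_of_central hrk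
          (sameAction_ne_bot (isMin_uEnd hb)) (sameAction_ne_bot (isMin_uEnd ha))
          (fun x hx y hy => Subgroup.commutator_mem_commutator hx hy) h'.1
        exact CfsgLib.Trans3.RankOne.not_commutator_bot hrk (commutator_eq_bot_of_commute h2
          (isMin_uEnd ha) (isMin_uEnd hb) (Or.inl ⟨x, hx, hx1, y, hy, hy1, hxy⟩))
      have h0 : a * b - b * a ≠ 0 := fun h0 => by
        obtain ⟨d, hd, e3⟩ := exists_rsub h
        refine sameAction_ne_bot (isMin_uEnd hd) (show rsub hd = ⊥ from e3 ▸ ?_)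
        exact commutator_eq_bot_of_commute h2 (isMin_uEnd ha)
          (isMin_uEnd hb) (Or.inl ⟨_, uEnd_mem_rsub ha, fun e => ha.2.1 (by rw [← uEnd_sub_one a ha.1.1, e]; simp),
            _, uEnd_mem_rsub hb, fun e => hb.2.1 (by rw [← uEnd_sub_one b hb.1.1, e]; simp),
            (commute_iff _ _).2 (by rw [uEnd_sub_one, uEnd_sub_one]; exact sub_eq_zero.1 h0)⟩)
      have hz := (commData ha hb hu.1 hu.2 h0).isMin
      obtain ⟨d, hd, e3⟩ := exists_rsub h
      have hmem : a * b - b * a ∈ rootSet G d := by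
        have h := Subgroup.commutator_mem_commutator (uEnd_mem_rsub ha) (uEnd_mem_rsub hb)
        rw [e3, commutatorElement_def, mem_rsub hd,
          commutator_coe (uEnd_coe a ha.1.1) (uEnd_coe b hb.1.1) ha.1.1 hb.1.1 hu.1 hu.2,
          add_sub_cancel_left] at h
        exact h
      exact hr (by rw [e3, ← rsub_eq hd hz hmem]; exact reach_comm h2 hk hG ha hb hu.1 hu.2 h0 hz)
  · exact ⟨_, A₀, mem_compSet_self hA₀, rfl⟩
  · rintro _ ⟨B, hB, rfl⟩ _ ⟨C, hC, rfl⟩
    obtain ⟨g, hg, rfl⟩ := exists_conj_compSet hA₀ hB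
    obtain ⟨g', hg', rfl⟩ := exists_conj_compSet hA₀ hC
    refine ⟨⟨g' * g⁻¹, mul_mem hg' (inv_mem hg)⟩, Subgroup.map_injective (compSup G A₀).subtype_injective ?_⟩
    rw [CfsgLib.Trans3.PairOver.map_conjBy, Subgroup.map_subgroupOf_eq_of_le (le_compSup hB),
      Subgroup.map_subgroupOf_eq_of_le (le_compSup hC)]
    show _ = conjBy (conjBy A₀ g) (g' * g⁻¹)
    rw [conjBy_conjBy, inv_mul_cancel_right]

theorem split_classes (h2 : (2 : k) ≠ 0) (hk : Nat.card k ≠ 3) (hG : IsQuadraticPair G) :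
    ∃ (r : ℕ) (part : Fin r → Set (Subgroup GLk)),
      (⋃ i, part i) = quadraticRootSubgroups G ∧ (∀ i j, i ≠ j → Disjoint (part i) (part j)) ∧
      (∀ i, (part i).Nonempty) ∧
      (∀ i j, i ≠ j → ⁅(⨆ A ∈ part i, A), (⨆ A ∈ part j, A)⁆ = ⊥) ∧
      (∀ i, IsQuasisimple ↥(⨆ A ∈ part i, A) ∧
        IsRootSubgroupClass ((fun A : Subgroup GLk => A.subgroupOf (⨆ B ∈ part i, B)) '' (part i)) ∧
        ∀ A ∈ part i, ∀ B ∈ rankOnePartners (part i) A, ∃ A₀ B₀ : Subgroup GLk, A₀ ≤ A ∧ B₀ ≤ B ∧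
          ∃ (k₁ : Type u) (_ : Field k₁), 3 < ENat.card k₁ ∧ IsPSL2PairOver k₁ A₀ B₀) := by
  have := (comps_finite h2 hk hG).to_subtype
  let e := Finite.equivFin (comps G)
  refine ⟨_, fun i => (e.symm i).1, ?_, fun i j hij => ?_, fun i => ?_, fun i j hij => ?_, fun i => ?_⟩ <;> beta_reduce
  · ext A
    simp only [Set.mem_iUnion]
    constructor
    · rintro ⟨i, hi⟩
      obtain ⟨B, -, hB⟩ := (e.symm i).2
      exact (hB.symm ▸ hi : A ∈ compSet G B).1
    · intro hA
      refine ⟨e ⟨compSet G A, A, hA, rfl⟩, ?_⟩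
      rw [e.symm_apply_apply]
      exact mem_compSet_self hA
  · exact compSet_disjoint (e.symm i).2 (e.symm j).2 fun h => hij (e.symm.injective (Subtype.ext h))
  · obtain ⟨B, hB, hB'⟩ := (e.symm i).2
    exact ⟨B, hB' ▸ mem_compSet_self hB⟩
  · obtain ⟨A, hA, hA'⟩ := (e.symm i).2
    obtain ⟨B, hB, hB'⟩ := (e.symm j).2
    rw [← hA', ← hB']
    exact compSet_commute h2 hk hG fun h => hij (e.symm.injective (Subtype.ext (hA'.symm.trans (h.trans hB'))))
  · obtain ⟨A, hA, hA'⟩ := (e.symm i).2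
    rw [← hA']
    refine ⟨compSup_quasisimple h2 hk hG hA, compSet_rootClass h2 hk hG hA, fun B hB C hC => ?_⟩
    obtain ⟨σ, hσ, rfl⟩ := hB.1
    obtain ⟨τ, hτ, rfl⟩ := hC.1.1
    rw [minimal_iff] at hσ hτ
    exact exists_pslPair h2 hk hσ hτ (opp_of_rankOne h2 hk hG hσ hτ hC.2)

end CfsgLib.PLocal.QPair
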