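import Cfsg.Agent.Lib.PLocal.QPairPartner

/-!
# Normal unipotent subgroups and normal subgroups of irreducible linear groups
-/

set_option autoImplicit false

universe u v

namespace CfsgLib.PLocal.QPair

open CfsgLib.Trans3.Unipotent (IsNilSet dEnd flag isUnipotentOn_iff isNilSet_closure
  isNilSet_union_of_normalize)
open CfsgLib.Trans3.RankOne (mem_conjBy conjBy_conjBy conjBy_eq_self_iff conjBy_one)

variable {k : Type u} [Field k] {M : Type v} [AddCommGroup M] [Module k M]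

local notation "GLk" => LinearMap.GeneralLinearGroup k M
local notation "𝔈" => M →ₗ[k] M

/-- `H` has no non-trivial normal unipotent subgroup. -/
def NoUnip (H : Subgroup (LinearMap.GeneralLinearGroup k M)) : Prop :=
  ∀ U ≤ H, Cfsg.IsUnipotentOn U → (∀ h ∈ H, Cfsg.conjBy U h = U) → U = ⊥

theorem isUnipotentOn_mono {H K : Subgroup GLk} (h : H ≤ K) (hK : Cfsg.IsUnipotentOn K) :
    Cfsg.IsUnipotentOn H := by
  obtain ⟨n, hn⟩ := hK
  exact ⟨n, fun l hl hlen => hn l (fun g hg => h (hl g hg)) hlen⟩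

theorem isUnipotentOn_conjBy {H : Subgroup GLk} (hH : Cfsg.IsUnipotentOn H) (g : GLk) :
    Cfsg.IsUnipotentOn (Cfsg.conjBy H g) := by
  rw [isUnipotentOn_iff] at hH ⊢
  obtain ⟨n, hn⟩ := hH
  rw [CfsgLib.Trans3.Unipotent.flag_eq_bot_iff] at hn
  refine ⟨n, (CfsgLib.Trans3.Unipotent.flag_eq_bot_iff _ n).2 fun l hl hlen => ?_⟩
  have key : ∀ l : List 𝔈, l.prod =
      (g : 𝔈) * (l.map fun f => ((g⁻¹ : GLk) : 𝔈) * f * (g : 𝔈)).prod * ((g⁻¹ : GLk) : 𝔈) := by
    intro l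
    induction l with
    | nil => simp
    | cons x l ih =>
      simp only [List.map_cons, List.prod_cons]
      conv_lhs => rw [ih]
      simp only [mul_assoc]
      simp only [← mul_assoc (g : 𝔈) ((g⁻¹ : GLk) : 𝔈), Units.mul_inv, one_mul]
  rw [key, hn _ (fun f hf => ?_) (by simp [hlen]), mul_zero, zero_mul]
  obtain ⟨f', hf', rfl⟩ := List.mem_map.1 hf
  obtain ⟨x, hx, rfl⟩ := hl f' hf'
  refine ⟨g⁻¹ * x * g, mem_conjBy.1 hx, ?_⟩
  rw [Units.val_mul, Units.val_mul, mul_sub, sub_mul, mul_one, Units.inv_mul]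

variable [FiniteDimensional k M]

theorem isUnipotentOn_sup_of_normalize {U V : Subgroup GLk} (hU : Cfsg.IsUnipotentOn U)
    (hV : Cfsg.IsUnipotentOn V) (hn : ∀ v ∈ V, Cfsg.conjBy U v = U) :
    Cfsg.IsUnipotentOn (U ⊔ V) := by
  rw [Subgroup.sup_eq_closure, isUnipotentOn_iff]
  refine isNilSet_closure (isNilSet_union_of_normalize (isUnipotentOn_iff.1 hU)
    (isUnipotentOn_iff.1 hV) fun a ha g hg => ?_)
  rw [SetLike.mem_coe, ← hn a ha]
  exact CfsgLib.Trans3.RankOne.conj_mem_conjBy hg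

theorem noUnip_of_irreducible {G : Subgroup GLk} (hG : Cfsg.IsIrreducibleFor G) : NoUnip G := by
  intro N hN hu hnorm
  obtain ⟨m, hm, hfix⟩ := exists_fixed_of_isUnipotentOn hu hG.1
  have hinv : ∀ g ∈ G, ∀ w ∈ Cfsg.fixedSubmodule N, (g : 𝔈) w ∈ Cfsg.fixedSubmodule N := by
    intro g hg w hw
    simp only [Cfsg.fixedSubmodule, Submodule.mem_iInf, LinearMap.mem_ker, LinearMap.sub_apply,
      Module.End.one_apply, sub_eq_zero] at hw ⊢
    intro x hx
    have hx' : g⁻¹ * x * g ∈ N := by rw [← mem_conjBy, hnorm g hg]; exact hx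
    calc (x : 𝔈) ((g : 𝔈) w) = ((g * (g⁻¹ * x * g) : GLk) : 𝔈) w := by
          rw [mul_assoc g⁻¹ x g, mul_inv_cancel_left]; rfl
      _ = (g : 𝔈) w := by rw [Units.val_mul, Module.End.mul_apply, hw _ hx']
  rcases hG.2 _ hinv with hbot | htop
  · refine absurd ((Submodule.mem_bot k).1 (hbot ▸ ?_)) hm
    simpa [Cfsg.fixedSubmodule, sub_eq_zero] using hfix
  · rw [eq_bot_iff]
    intro x hx
    rw [Subgroup.mem_bot]
    refine Units.ext (LinearMap.ext fun w => ?_)
    have hw : w ∈ Cfsg.fixedSubmodule N := htop ▸ Submodule.mem_top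
    simp only [Cfsg.fixedSubmodule, Submodule.mem_iInf, LinearMap.mem_ker, LinearMap.sub_apply,
      Module.End.one_apply, sub_eq_zero] at hw
    exact hw x hx

theorem NoUnip.of_normal {H K : Subgroup GLk} (hK : NoUnip K) (hle : H ≤ K)
    (hn : ∀ g ∈ K, Cfsg.conjBy H g = H) : NoUnip H := by
  intro U hU hu hnorm
  set W : Set (Subgroup GLk) := {A | ∃ g ∈ K, A = Cfsg.conjBy U g} with hW
  have hWle : ∀ A ∈ W, A ≤ H := by
    rintro A ⟨g, hg, rfl⟩
    exact (Subgroup.map_mono hU).trans (hn g hg).le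
  have hWfix : ∀ A ∈ W, ∀ h ∈ H, Cfsg.conjBy A h = A := by
    rintro A ⟨g, hg, rfl⟩ h hh
    have hh' : g⁻¹ * h * g ∈ H := by rw [← mem_conjBy, hn g hg]; exact hh
    rw [conjBy_conjBy, show h * g = g * (g⁻¹ * h * g) by group, ← conjBy_conjBy, hnorm _ hh']
  obtain ⟨hN, hNn⟩ := Cfsg.Agent.S5061.result (G := K) (W := W)
    (fun A hA => (hWle A hA).trans hle)
    (by
      intro A hA B hB
      refine isUnipotentOn_sup_of_normalize ?_ ?_ fun v hv => hWfix A hA v (hWle B hB hv)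
      · obtain ⟨g, -, rfl⟩ := hA; exact isUnipotentOn_conjBy hu g
      · obtain ⟨g, -, rfl⟩ := hB; exact isUnipotentOn_conjBy hu g)
    (by
      rintro A ⟨g, hg, rfl⟩ x hx
      exact ⟨x * g, mul_mem hx hg, conjBy_conjBy _ _ _⟩)
  have hbot := hK _ (iSup₂_le fun A hA => (hWle A hA).trans hle) hN hNn
  rw [eq_bot_iff]
  refine le_trans ?_ hbot.le
  exact le_trans (le_of_eq (conjBy_one U).symm)
    (le_iSup₂_of_le (Cfsg.conjBy U 1) ⟨1, one_mem _, rfl⟩ le_rfl)

/-- A subgroup with no normal unipotent subgroup: a unipotent commutator group is trivial. -/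
theorem commute_of_unip_commutator {N A : Subgroup GLk} (hN : NoUnip N)
    (hA : ∀ a ∈ A, Cfsg.conjBy N a = N) {U : Subgroup GLk} (hU : Cfsg.IsUnipotentOn U)
    (hmem : ⁅N, A⁆ ≤ U) : ⁅N, A⁆ = ⊥ := by
  refine hN _ ?_ (isUnipotentOn_mono hmem hU) fun n hn => ?_
  · rw [Subgroup.commutator_le]
    intro n hn a ha
    rw [commutatorElement_def, mul_assoc n a, mul_assoc n]
    refine mul_mem hn ?_
    conv_lhs => rw [← hA a ha]
    exact CfsgLib.Trans3.RankOne.conj_mem_conjBy (inv_mem hn)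
  · exact conjBy_eq_self_iff.2 (Subgroup.normalizer_commutator_ge_left N A hn)

end CfsgLib.PLocal.QPair
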