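import Cfsg.Agent.Lib.PLocal.QPairGroup

/-!
# Quadratic pairs: opposite root subgroups form special rank one pairs
-/

set_option autoImplicit false

namespace CfsgLib.PLocal.QPair

variable {k : Type*} [Field k] {M : Type*} [AddCommGroup M] [Module k M]

local notation "GLk" => LinearMap.GeneralLinearGroup k M
local notation "𝔈" => M →ₗ[k] M

variable {G : Subgroup (LinearMap.GeneralLinearGroup k M)}

section Ring

variable {R : Type*} [Ring R]

/-- The two conjugates attached to a pair of mutually inverse elements are opposite. -/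
theorem conj_pair (x y : R) (h : x * y * x = x) (h' : y * x * y = y) :
    (1 - y) * x * (1 + y) = -((1 - x) * y * (1 + x)) := by
  simp only [sub_mul, mul_add, one_mul, mul_one, h, h']
  abel

/-- The square of the Weyl element of an inverse pair. -/
theorem weyl_sq (a c : R) (ha : a * a = 0) (hc : c * c = 0) (h : a * c * a = a) (h' : c * a * c = c) :
    ((1 + a) * (1 - c) * (1 + a)) * ((1 + a) * (1 - c) * (1 + a)) =
      1 - 2 * (a * c + c * a) := by
  have hax : ∀ z : R, a * (a * z) = 0 := fun z => by rw [← mul_assoc, ha, zero_mul]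
  have hcx : ∀ z : R, c * (c * z) = 0 := fun z => by rw [← mul_assoc, hc, zero_mul]
  have hx : ∀ z : R, a * (c * (a * z)) = a * z := fun z => by
    rw [← mul_assoc, ← mul_assoc, h]
  have hx' : ∀ z : R, c * (a * (c * z)) = c * z := fun z => by
    rw [← mul_assoc, ← mul_assoc, h']
  rw [mul_assoc] at h h'
  simp only [mul_add, add_mul, mul_sub, sub_mul, one_mul, mul_one, mul_assoc, two_mul, ha, hc, hax,
    hcx, hx, hx', h, h', mul_zero, add_zero, zero_add, sub_zero, zero_sub]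
  abel

end Ring

section Finite

variable [FiniteDimensional k M]

/-- Membership of the point pair for the rank one condition. -/
theorem conjBy_eq_of_inverse {σ τ e f : GLk} (hσ : IsMin G ((σ : 𝔈) - 1))
    (hτ : IsMin G ((τ : 𝔈) - 1)) (he : (e : 𝔈) - 1 ∈ rootSet G ((σ : 𝔈) - 1))
    (hf : (f : 𝔈) - 1 ∈ rootSet G ((τ : 𝔈) - 1)) (he0 : (e : 𝔈) - 1 ≠ 0) (hf0 : (f : 𝔈) - 1 ≠ 0)
    (h : ((e : 𝔈) - 1) * ((f : 𝔈) - 1) * ((e : 𝔈) - 1) = (e : 𝔈) - 1)
    (h' : ((f : 𝔈) - 1) * ((e : 𝔈) - 1) * ((f : 𝔈) - 1) = (f : 𝔈) - 1) :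
    Cfsg.conjBy (Cfsg.sameActionSubgroup G σ) f⁻¹ = Cfsg.conjBy (Cfsg.sameActionSubgroup G τ) e⁻¹ := by
  have heG : e⁻¹ ∈ G := inv_mem (he.1.mem (by abel))
  have hfG : f⁻¹ ∈ G := inv_mem (hf.1.mem (by abel))
  have hme := hσ.of_mem he he0
  have hmf := hτ.of_mem hf hf0
  rw [sameAction_eq hσ hme (hσ.rootSet_eq he he0).symm,
    sameAction_eq hτ hmf (hτ.rootSet_eq hf hf0).symm,
    conjBy_sameAction hme hfG, conjBy_sameAction hmf heG]
  refine sameAction_eq (minimal_conj hme hfG) (minimal_conj hmf heG) ?_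
  rw [conj_sub_one, conj_sub_one]
  have ei : ((e⁻¹ : GLk) : 𝔈) = 1 - ((e : 𝔈) - 1) := by
    rw [show e = uEnd _ he.1.1 from Units.ext (by rw [uEnd_coe]; abel), uEnd_inv_coe, uEnd_sub_one]
  have fi : ((f⁻¹ : GLk) : 𝔈) = 1 - ((f : 𝔈) - 1) := by
    rw [show f = uEnd _ hf.1.1 from Units.ext (by rw [uEnd_coe]; abel), uEnd_inv_coe, uEnd_sub_one]
  rw [inv_inv, inv_inv, ei, fi]
  conv_lhs => rw [show (f : 𝔈) = 1 + ((f : 𝔈) - 1) by abel]
  conv_rhs => rw [show (e : 𝔈) = 1 + ((e : 𝔈) - 1) by abel]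
  simp only [add_sub_cancel_left]
  rw [conj_pair _ _ h h', rootSet_neg]

theorem inverse_of_conj {x y : 𝔈} (hx : x * x = 0) (hy : y * y = 0) (h : Opp x y)
    (hr : LinearMap.range ((1 - y) * x * (1 + y)) = LinearMap.range ((1 - x) * y * (1 + x))) :
    x * y * x = x ∧ y * x * y = y := by
  have surj : ∀ {z : 𝔈}, z * z = 0 → ∀ m, ∃ n, (1 + z) n = m := fun {z} hz m => ⟨(1 - z) m, by
    rw [← Module.End.mul_apply, mul_sub, mul_one, add_mul, one_mul, hz, add_zero, add_sub_cancel_right,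
      Module.End.one_apply]⟩
  have key : ∀ {x y : 𝔈}, x * x = 0 → y * y = 0 → Opp x y →
      LinearMap.range ((1 - y) * x * (1 + y)) ≤ LinearMap.range ((1 - x) * y * (1 + x)) →
      x * y * x = x := by
    intro x y hx hy h hle
    ext m
    obtain ⟨n, rfl⟩ := surj hy m
    obtain ⟨p, hp⟩ := hle ⟨n, rfl⟩
    set v := x ((1 + y) n)
    set w := y ((1 + x) p)
    have e : v - y v = w - x w := by
      have h1 : ((1 - y) * x * (1 + y)) n = v - y v := by simp [v]
      have h2 : ((1 - x) * y * (1 + x)) p = w - x w := by simp [w]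
      rw [← h1, ← h2, hp]
    have hd : Disjoint (LinearMap.range x) (LinearMap.range y) :=
      Disjoint.mono_right (range_le_ker hy) h.1
    have h0 : v + x w = 0 := by
      refine Submodule.disjoint_def.1 hd _
        (add_mem (LinearMap.mem_range_self x _) (LinearMap.mem_range_self x _)) ?_
      have e' : v + x w = w + y v := by
        calc v + x w = (v - y v) + x w + y v := by abel
          _ = (w - x w) + x w + y v := by rw [e]
          _ = w + y v := by abel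
      rw [e']
      exact add_mem (LinearMap.mem_range_self y _) (LinearMap.mem_range_self y _)
    have h1 : w + y v = 0 := by
      calc w + y v = (w - x w) + x w + y v := by abel
        _ = (v - y v) + x w + y v := by rw [e]
        _ = v + x w := by abel
        _ = 0 := h0
    show x (y v) = v
    rw [eq_neg_of_add_eq_zero_right h1, map_neg, ← eq_neg_of_add_eq_zero_left h0]
  exact ⟨key hx hy h hr.le, key hy hx h.symm hr.ge⟩

omit [FiniteDimensional k M] in
theorem isNilpotent_of_mul_comm {H : Subgroup GLk} (h : ∀ x y : H, x * y = y * x) :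
    Group.IsNilpotent H :=
  letI : CommGroup H := { (inferInstance : Group H) with mul_comm := h }
  CommGroup.isNilpotent

theorem isRankOnePair_of_opp (h2 : (2 : k) ≠ 0) (hk : Nat.card k ≠ 3) {σ τ : GLk}
    (hσ : IsMin G ((σ : 𝔈) - 1)) (hτ : IsMin G ((τ : 𝔈) - 1))
    (h : Opp ((σ : 𝔈) - 1) ((τ : 𝔈) - 1)) :
    Cfsg.IsRankOnePair (Cfsg.sameActionSubgroup G σ) (Cfsg.sameActionSubgroup G τ) := by
  have cond : ∀ {σ τ : GLk}, IsMin G ((σ : 𝔈) - 1) → IsMin G ((τ : 𝔈) - 1) →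
      Opp ((σ : 𝔈) - 1) ((τ : 𝔈) - 1) →
      Cfsg.RankOneCondition (Cfsg.sameActionSubgroup G σ) (Cfsg.sameActionSubgroup G τ) := by
    intro σ τ hσ hτ h e he he1
    have hx := (mem_sameAction_iff hσ).1 he
    have hx0 : (e : 𝔈) - 1 ≠ 0 := fun h0 => he1 (Units.ext (sub_eq_zero.1 h0))
    obtain ⟨c, hc, hc0, h1, h1'⟩ := (h.mono hσ hτ hx (self_mem_rootSet hτ.1) hx0 hτ.2.1).exists_inverse
      h2 hk (hσ.of_mem hx hx0) hτ
    refine ⟨uEnd c hc.1.1, uEnd_mem_sameAction hτ hc, fun h0 => hc0 ?_, ?_⟩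
    · rw [← uEnd_sub_one c hc.1.1, h0]; simp
    · exact conjBy_eq_of_inverse hσ hτ hx (by rw [uEnd_sub_one]; exact hc) hx0
        (by rw [uEnd_sub_one]; exact hc0) (by rw [uEnd_sub_one]; exact h1) (by rw [uEnd_sub_one]; exact h1')
  have hcomm := sameAction_isMulCommutative hσ
  have hcomm' := sameAction_isMulCommutative hτ
  refine ⟨fun he => ?_, ?_, ?_, cond hσ hτ h, cond hτ hσ h.symm⟩
  · have hmem : (τ : 𝔈) - 1 ∈ rootSet G ((σ : 𝔈) - 1) :=
      (mem_sameAction_iff hσ).1 (he ▸ self_mem_sameAction hτ)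
    apply h.aba_ne hσ.2.1
    rw [rootSet_mul hσ.1.1 (self_mem_rootSet hσ.1) hmem, zero_mul]
  · exact isNilpotent_of_mul_comm fun x y => hcomm.is_comm.comm x y
  · exact isNilpotent_of_mul_comm fun x y => hcomm'.is_comm.comm x y

theorem isSpecialRankOnePair_of_opp (h2 : (2 : k) ≠ 0) (hk : Nat.card k ≠ 3) {σ τ : GLk}
    (hσ : IsMin G ((σ : 𝔈) - 1)) (hτ : IsMin G ((τ : 𝔈) - 1))
    (h : Opp ((σ : 𝔈) - 1) ((τ : 𝔈) - 1)) :
    Cfsg.IsSpecialRankOnePair (Cfsg.sameActionSubgroup G σ) (Cfsg.sameActionSubgroup G τ) := by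
  refine ⟨isRankOnePair_of_opp h2 hk hσ hτ h, fun e he he1 f hf hf1 hconj => ?_⟩
  have hx := (mem_sameAction_iff hσ).1 he
  have hy := (mem_sameAction_iff hτ).1 hf
  have hx0 : (e : 𝔈) - 1 ≠ 0 := fun h0 => he1 (Units.ext (sub_eq_zero.1 h0))
  have hy0 : (f : 𝔈) - 1 ≠ 0 := fun h0 => hf1 (Units.ext (sub_eq_zero.1 h0))
  have heG : e⁻¹ ∈ G := inv_mem (hx.1.mem (by abel))
  have hfG : f⁻¹ ∈ G := inv_mem (hy.1.mem (by abel))
  have hme := hσ.of_mem hx hx0
  have hmf := hτ.of_mem hy hy0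
  have ei : ((e⁻¹ : GLk) : 𝔈) = 1 - ((e : 𝔈) - 1) := by
    rw [show e = uEnd _ hx.1.1 from Units.ext (by rw [uEnd_coe]; abel), uEnd_inv_coe, uEnd_sub_one]
  have fi : ((f⁻¹ : GLk) : 𝔈) = 1 - ((f : 𝔈) - 1) := by
    rw [show f = uEnd _ hy.1.1 from Units.ext (by rw [uEnd_coe]; abel), uEnd_inv_coe, uEnd_sub_one]
  rw [sameAction_eq hσ hme (hσ.rootSet_eq hx hx0).symm,
    sameAction_eq hτ hmf (hτ.rootSet_eq hy hy0).symm,
    conjBy_sameAction hme hfG, conjBy_sameAction hmf heG] at hconj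
  have hf' := minimal_conj hme hfG
  have he' := minimal_conj hmf heG
  have hmem : ((f⁻¹ * e * f⁻¹⁻¹ : GLk) : 𝔈) - 1 ∈
      rootSet G (((e⁻¹ * f * e⁻¹⁻¹ : GLk) : 𝔈) - 1) :=
    (mem_sameAction_iff he').1 (hconj ▸ self_mem_sameAction hf')
  have hr := (he'.sameAct hmem hf'.2.1).1
  rw [conj_sub_one, conj_sub_one, inv_inv, inv_inv, ei, fi] at hr
  set x := (e : 𝔈) - 1 with hxdef
  set y := (f : 𝔈) - 1 with hydef
  have ee : (e : 𝔈) = 1 + x := by rw [hxdef]; abel
  have ff : (f : 𝔈) = 1 + y := by rw [hydef]; abel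
  rw [ee, ff] at hr
  obtain ⟨hxy, hyx⟩ := inverse_of_conj hx.1.1 hy.1.1 (h.mono hσ hτ hx hy hx0 hy0) hr
  refine Units.ext ?_
  simp only [Units.val_mul, ei, fi]
  rw [ee, ff]
  have e1 : (1 - y) * (1 + x) * (1 + y) = 1 + (1 - y) * x * (1 + y) := by
    simp only [mul_add, add_mul, sub_mul, mul_one, one_mul, hy.1.1]
    abel
  have e2 : (1 - x) * (1 - y) * (1 + x) = 1 + -((1 - x) * y * (1 + x)) := by
    simp only [mul_add, mul_sub, sub_mul, mul_one, one_mul, hx.1.1]
    abel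
  rw [e1, e2, conj_pair x y hxy hyx]

/-- The central involution of an opposite pair. -/
theorem exists_involution (h2 : (2 : k) ≠ 0) (hk : Nat.card k ≠ 3) {σ τ : GLk}
    (hσ : IsMin G ((σ : 𝔈) - 1)) (hτ : IsMin G ((τ : 𝔈) - 1))
    (h : Opp ((σ : 𝔈) - 1) ((τ : 𝔈) - 1)) :
    let X := Cfsg.sameActionSubgroup G σ ⊔ Cfsg.sameActionSubgroup G τ
    (∃! i : GLk, i ∈ X ∧ i ≠ 1 ∧ i * i = 1 ∧ (∀ x ∈ X, i * x = x * i) ∧
        (∀ m ∈ Cfsg.commutatorSubmodule X, (i : 𝔈) m = -m) ∧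
        (∀ m ∈ Cfsg.fixedSubmodule X, (i : 𝔈) m = m)) ∧
      IsCompl (Cfsg.fixedSubmodule X) (Cfsg.commutatorSubmodule X) := by
  intro X
  set a := (σ : 𝔈) - 1 with hadef
  set b := (τ : 𝔈) - 1 with hbdef
  set E := Cfsg.sameActionSubgroup G σ
  set F := Cfsg.sameActionSubgroup G τ
  set S := LinearMap.range a ⊔ LinearMap.range b
  set C := LinearMap.ker a ⊓ LinearMap.ker b
  have hcompl : IsCompl C S := h.compl hσ.1.1 hτ.1.1
  have hgen : ∀ g ∈ X, LinearMap.range ((g : 𝔈) - 1) ≤ S ∧ C ≤ LinearMap.ker ((g : 𝔈) - 1) := by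
    intro g hg
    simp only [X, Subgroup.sup_eq_closure] at hg
    induction hg using Subgroup.closure_induction with
    | mem g hg =>
      rcases hg with hg | hg
      · have := (mem_sameAction_iff hσ).1 hg
        exact ⟨this.2.1.trans le_sup_left, inf_le_left.trans this.2.2⟩
      · have := (mem_sameAction_iff hτ).1 hg
        exact ⟨this.2.1.trans le_sup_right, inf_le_right.trans this.2.2⟩
    | one => simp
    | mul g g' _ _ hg hg' =>
      rw [sub_one_mul_sub_one]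
      refine ⟨?_, fun m hm => ?_⟩
      · rintro _ ⟨m, rfl⟩
        exact add_mem (add_mem (hg.1 (LinearMap.mem_range_self _ m)) (hg'.1 (LinearMap.mem_range_self _ m)))
          (hg.1 (LinearMap.mem_range_self _ _))
      · simp [LinearMap.mem_ker.1 (hg.2 hm), LinearMap.mem_ker.1 (hg'.2 hm)]
    | inv g _ hg =>
      have e : ((g⁻¹ : GLk) : 𝔈) - 1 = -(((g : 𝔈) - 1) * ((g⁻¹ : GLk) : 𝔈)) := by
        rw [sub_mul, Units.mul_inv, one_mul, neg_sub]
      have e' : ((g⁻¹ : GLk) : 𝔈) - 1 = -(((g⁻¹ : GLk) : 𝔈) * ((g : 𝔈) - 1)) := by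
        rw [mul_sub, Units.inv_mul, mul_one, neg_sub]
      refine ⟨?_, fun m hm => ?_⟩
      · rw [e, LinearMap.range_neg]
        exact le_trans (LinearMap.range_comp_le_range _ _) hg.1
      · rw [e', LinearMap.mem_ker, LinearMap.neg_apply, Module.End.mul_apply,
          LinearMap.mem_ker.1 (hg.2 hm), map_zero, neg_zero]
  have hσX : σ ∈ X := (le_sup_left : E ≤ X) (self_mem_sameAction hσ)
  have hτX : τ ∈ X := (le_sup_right : F ≤ X) (self_mem_sameAction hτ)
  have hS : Cfsg.commutatorSubmodule X = S := le_antisymm (iSup₂_le fun g hg => (hgen g hg).1)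
    (sup_le (le_iSup₂_of_le σ hσX le_rfl) (le_iSup₂_of_le τ hτX le_rfl))
  have hC : Cfsg.fixedSubmodule X = C := le_antisymm
    (le_inf (iInf₂_le_of_le σ hσX le_rfl) (iInf₂_le_of_le τ hτX le_rfl))
    (le_iInf₂ fun g hg => (hgen g hg).2)
  obtain ⟨c, hc, hc0, hac, hca⟩ := h.exists_inverse h2 hk hσ hτ
  set P := a * c + c * a
  have hua : uEnd a hσ.1.1 ∈ X := (le_sup_left : E ≤ X) (uEnd_mem_sameAction hσ (self_mem_rootSet hσ.1))
  have huc : uEnd c hc.1.1 ∈ X := (le_sup_right : F ≤ X) (uEnd_mem_sameAction hτ hc)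
  set w := uEnd a hσ.1.1 * (uEnd c hc.1.1)⁻¹ * uEnd a hσ.1.1
  have hwX : w ∈ X := mul_mem (mul_mem hua (inv_mem huc)) hua
  have hi : ((w * w : GLk) : 𝔈) = 1 - 2 * P := by
    simp only [w, Units.val_mul, uEnd_coe, uEnd_inv_coe]
    exact weyl_sq a c hσ.1.1 hc.1.1 hac hca
  have hcr := (hτ.sameAct hc hc0)
  have hPS : ∀ m ∈ S, P m = m := by
    intro m hm
    obtain ⟨v, ⟨v', rfl⟩, u, hu, rfl⟩ := Submodule.mem_sup.1 hm
    rw [← hcr.1] at hu
    obtain ⟨u', rfl⟩ := hu
    have e1 : P (a v') = a v' := by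
      show a (c (a v')) + c (a (a v')) = a v'
      rw [show a (a v') = 0 from LinearMap.congr_fun hσ.1.1 v', map_zero, add_zero]
      exact LinearMap.congr_fun hac v'
    have e2 : P (c u') = c u' := by
      show a (c (c u')) + c (a (c u')) = c u'
      rw [show c (c u') = 0 from LinearMap.congr_fun hc.1.1 u', map_zero, zero_add]
      exact LinearMap.congr_fun hca u'
    rw [map_add, e1, e2]
  have hPC : ∀ m ∈ C, P m = 0 := by
    intro m hm
    show a (c m) + c (a m) = 0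
    rw [show a m = 0 from hm.1, show c m = 0 by rw [← LinearMap.mem_ker, hcr.2]; exact hm.2, map_zero, map_zero, add_zero]
  have hiS : ∀ m ∈ S, ((w * w : GLk) : 𝔈) m = -m := by
    intro m hm
    rw [hi, two_mul]
    simp [hPS m hm]
  have hiC : ∀ m ∈ C, ((w * w : GLk) : 𝔈) m = m := by
    intro m hm
    rw [hi, two_mul]
    simp [hPC m hm]
  have ext_split : ∀ {f g : 𝔈}, (∀ m ∈ C, f m = g m) → (∀ m ∈ S, f m = g m) → f = g := by
    intro f g h0 h1
    ext m
    obtain ⟨u, hu, v, hv, rfl⟩ :=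
      Submodule.mem_sup.1 (hcompl.sup_eq_top.ge (Submodule.mem_top (x := m)))
    rw [map_add, map_add, h0 u hu, h1 v hv]
  refine ⟨⟨w * w, ⟨mul_mem hwX hwX, fun h1 => ?_, ?_, ?_, ?_, ?_⟩, ?_⟩, ?_⟩
  · have ha : ((w * w : GLk) : 𝔈) = 1 := by rw [h1]; rfl
    refine hσ.2.1 (LinearMap.ext fun m => ?_)
    have h3 := hiS (a m) (Submodule.mem_sup_left (LinearMap.mem_range_self a m))
    rw [ha, Module.End.one_apply] at h3
    have : (2 : k) • a m = 0 := by rw [two_smul]; nth_rewrite 2 [h3]; exact add_neg_cancel _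
    exact (smul_eq_zero.1 this).resolve_left h2
  · refine Units.ext (ext_split (fun m hm => ?_) fun m hm => ?_)
    · rw [Units.val_mul, Module.End.mul_apply, hiC m hm, hiC m hm]; rfl
    · rw [Units.val_mul, Module.End.mul_apply, hiS m hm, map_neg, hiS m hm, neg_neg]; rfl
  · intro x hx
    refine Units.ext (ext_split (fun m hm => ?_) fun m hm => ?_)
    · have hxm : (x : 𝔈) m = m := sub_eq_zero.1 ((hgen x hx).2 hm)
      rw [Units.val_mul x, Units.val_mul (w * w), Module.End.mul_apply, Module.End.mul_apply, hxm,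
        hiC m hm, hxm]
    · have hxm : (x : 𝔈) m ∈ S := by
        have := add_mem ((hgen x hx).1 (LinearMap.mem_range_self _ m)) hm
        simpa using this
      rw [Units.val_mul x, Units.val_mul (w * w), Module.End.mul_apply, Module.End.mul_apply,
        hiS m hm, hiS _ hxm, map_neg]
  · exact fun m hm => hiS m (hS ▸ hm)
  · exact fun m hm => hiC m (hC ▸ hm)
  · rintro j ⟨-, -, -, -, hjS, hjC⟩
    exact Units.ext (ext_split (fun m hm => by rw [hiC m hm]; exact hjC m (hC ▸ hm))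
      fun m hm => by rw [hiS m hm]; exact hjS m (hS ▸ hm))
  · rw [hS, hC]; exact hcompl

end Finite

end CfsgLib.PLocal.QPair
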