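import Cfsg.Agent.Lib.PLocal.QPairFind

/-!
# Quadratic pairs: every root lies in the group of a component or centralizes it
-/

set_option autoImplicit false

universe u

namespace CfsgLib.PLocal.QPair

open Cfsg
open scoped commutatorElement

variable {k : Type u} [Field k] {M : Type u} [AddCommGroup M] [Module k M] [FiniteDimensional k M]

local notation "GLk" => LinearMap.GeneralLinearGroup k M
local notation "𝔈" => M →ₗ[k] M

variable {G : Subgroup (LinearMap.GeneralLinearGroup k M)}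
  {A₀ : Subgroup (LinearMap.GeneralLinearGroup k M)}

omit [FiniteDimensional k M] in
/-- The torus of an inverse pair. -/
theorem exists_torus {z c : 𝔈} (hp : InvPair z c) {X : Subgroup GLk}
    (hz : ∀ s : k, uEnd (s • z) (smul_sq hp.zz s) ∈ X)
    (hc : ∀ s : k, uEnd (s • c) (smul_sq hp.cc s) ∈ X) {t : k} (ht : t ≠ 0) :
    ∃ h ∈ X, (h : 𝔈) = 1 - z * c - c * z + t • (z * c) + t⁻¹ • (c * z) ∧
      ((h⁻¹ : GLk) : 𝔈) = 1 - z * c - c * z + t⁻¹ • (z * c) + t • (c * z) := by
  set P := 1 - z * c - c * z with hP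
  have zP : z * P = 0 := by
    rw [hP, mul_sub, mul_sub, mul_one, ← mul_assoc, hp.zz, zero_mul, ← mul_assoc, hp.zcz]; simp
  have Pz : P * z = 0 := by
    rw [hP, sub_mul, sub_mul, one_mul, hp.zcz, mul_assoc c z z, hp.zz, mul_zero]; simp
  have cP : c * P = 0 := by
    rw [hP, mul_sub, mul_sub, mul_one, ← mul_assoc c c z, hp.cc, zero_mul, ← mul_assoc, hp.czc]; simp
  have Pc : P * c = 0 := by
    rw [hP, sub_mul, sub_mul, one_mul, hp.czc, mul_assoc z c c, hp.cc, mul_zero]; simp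
  have PP : P * P = P := by
    nth_rewrite 1 [hP]
    rw [sub_mul, sub_mul, one_mul, mul_assoc z c P, cP, mul_zero, mul_assoc c z P, zP, mul_zero]
    simp
  let n : k → GLk := fun s => uEnd (s • z) (smul_sq hp.zz s) * (uEnd (s⁻¹ • c) (smul_sq hp.cc _))⁻¹ *
    uEnd (s • z) (smul_sq hp.zz s)
  have hnX : ∀ s, n s ∈ X := fun s => mul_mem (mul_mem (hz s) (inv_mem (hc _))) (hz s)
  have hn : ∀ s : k, s ≠ 0 → (n s : 𝔈) = P + s • z - s⁻¹ • c ∧
      (((n s)⁻¹ : GLk) : 𝔈) = P - s • z + s⁻¹ • c := by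
    intro s hs
    constructor <;>
      simp only [n, P, mul_inv_rev, inv_inv, Units.val_mul, uEnd_coe, uEnd_inv_coe, add_mul, mul_add,
        mul_sub, sub_mul, one_mul, mul_one, smul_mul_assoc, mul_smul_comm, smul_smul, hp.zz,
        hp.zcz, smul_zero, mul_assoc, ← mul_assoc z c z, inv_mul_cancel₀ hs, mul_inv_cancel₀ hs,
        one_smul, smul_add, smul_sub, mul_zero, add_zero, sub_zero] <;>
      abel
  have e : ((n t * (n 1)⁻¹ : GLk) : 𝔈) = P + t • (z * c) + t⁻¹ • (c * z) := by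
    rw [Units.val_mul, (hn t ht).1, (hn 1 one_ne_zero).2, inv_one, one_smul, one_smul]
    simp only [add_mul, sub_mul, mul_add, mul_sub, smul_mul_assoc, PP, Pz, Pc, zP, cP, hp.zz, hp.cc,
      smul_zero, add_zero, sub_zero, zero_add, zero_sub, smul_sub]
    module
  refine ⟨n t * (n 1)⁻¹, mul_mem (hnX t) (inv_mem (hnX 1)), e, Units.inv_eq_of_mul_eq_one_right ?_⟩
  have ee : z * c * (z * c) = z * c := by rw [← mul_assoc, hp.zcz]
  have ff : c * z * (c * z) = c * z := by rw [← mul_assoc, hp.czc]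
  have ef : z * c * (c * z) = 0 := by rw [mul_assoc, ← mul_assoc c c, hp.cc, zero_mul, mul_zero]
  have fe : c * z * (z * c) = 0 := by rw [mul_assoc, ← mul_assoc z z, hp.zz, zero_mul, mul_zero]
  have Pe : P * (z * c) = 0 := by rw [← mul_assoc, Pz, zero_mul]
  have Pf : P * (c * z) = 0 := by rw [← mul_assoc, Pc, zero_mul]
  have eP : z * c * P = 0 := by rw [mul_assoc, cP, mul_zero]
  have fP : c * z * P = 0 := by rw [mul_assoc, zP, mul_zero]
  rw [e]
  simp only [add_mul, mul_add, smul_mul_assoc, mul_smul_comm, smul_smul, PP, Pe, Pf, eP, fP, ee, ff,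
    ef, fe, smul_zero, add_zero, zero_add, mul_inv_cancel₀ ht, inv_mul_cancel₀ ht, one_smul]
  rw [hP]; abel

/-- `X` and its multiples give elements of the group of the component. -/
def InSup (G A₀ : Subgroup (LinearMap.GeneralLinearGroup k M)) (X : M →ₗ[k] M) : Prop :=
  X * X = 0 ∧ ∀ (s : k) (g : LinearMap.GeneralLinearGroup k M),
    (g : M →ₗ[k] M) = 1 + s • X → g ∈ compSup G A₀

omit [FiniteDimensional k M] in
theorem InSup.smul {X : 𝔈} (h : InSup G A₀ X) (a : k) : InSup G A₀ (a • X) :=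
  ⟨smul_sq h.1 a, fun s g hg => h.2 (s * a) g (by rw [hg, smul_smul])⟩

omit [FiniteDimensional k M] in
theorem InSup.add {X Y : 𝔈} (hX : InSup G A₀ X) (hY : InSup G A₀ Y) (h1 : X * Y = 0)
    (h2 : Y * X = 0) : InSup G A₀ (X + Y) := by
  refine ⟨by simp [add_mul, mul_add, hX.1, hY.1, h1, h2], fun s g hg => ?_⟩
  have e : g = uEnd (s • X) (smul_sq hX.1 s) * uEnd (s • Y) (smul_sq hY.1 s) := by
    refine Units.ext ?_
    rw [hg, Units.val_mul, uEnd_coe, uEnd_coe]
    simp only [add_mul, mul_add, one_mul, mul_one, smul_mul_assoc, mul_smul_comm, h1, smul_zero,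
      smul_add, add_zero]
    abel
  rw [e]
  exact mul_mem (hX.2 s _ (uEnd_coe _ _)) (hY.2 s _ (uEnd_coe _ _))

theorem InSup.isRoot {X : 𝔈} (h : InSup G A₀ X) : IsRoot G X :=
  ⟨h.1, fun s g hg => compSup_le (h.2 s g hg)⟩

theorem decompose (h2 : (2 : k) ≠ 0) (hk : Nat.card k ≠ 3) (hG : IsQuadraticPair G) {y z : 𝔈}
    (hy : IsRoot G y) (hz : InC G A₀ z) (zy : z * y = 0) (yz : y * z = 0)
    (hle : LinearMap.range z ≤ LinearMap.range y) :
    ∃ y₀ X : 𝔈, y = y₀ + X ∧ IsRoot G y₀ ∧ InSup G A₀ X ∧ y₀ * X = 0 ∧ X * y₀ = 0 ∧ X ≠ 0 ∧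
      rk y₀ < rk y := by
  obtain ⟨hzm, hzC⟩ := hz
  obtain ⟨o, ho, hzo⟩ := exists_opp h2 hk hG hzm
  obtain ⟨c, hg⟩ := exists_graded h2 hk hzm ho hzo
  have hcC : InC G A₀ c := InC.of_opp h2 hk ⟨hzm, hzC⟩ hg.hc hg.opp
  obtain ⟨hcm, hcC'⟩ := hcC
  have famz : ∀ s : k, uEnd (s • z) (smul_sq hg.inv.zz s) ∈ compSup G A₀ := fun s =>
    le_compSup hzC (by rw [mem_rsub, uEnd_sub_one]; exact smul_mem_rootSet (self_mem_rootSet hzm.1) s)
  have famc : ∀ s : k, uEnd (s • c) (smul_sq hg.inv.cc s) ∈ compSup G A₀ := fun s =>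
    le_compSup hcC' (by rw [mem_rsub, uEnd_sub_one]; exact smul_mem_rootSet (self_mem_rootSet hcm.1) s)
  obtain ⟨P, hP⟩ : ∃ P, P = 1 - z * c - c * z := ⟨_, rfl⟩
  obtain ⟨E, hE⟩ : ∃ E, E = z * c := ⟨_, rfl⟩
  obtain ⟨F, hF⟩ : ∃ F, F = c * z := ⟨_, rfl⟩
  have yE : y * E = 0 := by rw [hE, ← mul_assoc, yz, zero_mul]
  have Fy : F * y = 0 := by rw [hF, mul_assoc, zy, mul_zero]
  have PEF : P + E + F = 1 := by rw [hP, hE, hF]; abel
  have yPy : y * P * y = 0 := by
    have e : y * (P + E + F) * y = 0 := by rw [PEF, mul_one, hy.1]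
    simpa [mul_add, add_mul, yE, mul_assoc y F y, Fy] using e
  obtain ⟨Y, hY⟩ : ∃ Y : k → 𝔈, Y = fun t => (P + t • E) * y * (P + t • F) := ⟨_, rfl⟩
  have hprod : ∀ t r, Y t * Y r = 0 := by
    intro t r
    have e1 : (P + t • F) * (P + r • E) = P := by
      have hzP : z * P = 0 := by
        rw [hP, mul_sub, mul_sub, mul_one, ← mul_assoc, hg.inv.zz, zero_mul, ← mul_assoc, hg.inv.zcz]
        simp
      have hPz : P * z = 0 := by
        rw [hP, sub_mul, sub_mul, one_mul, hg.inv.zcz, mul_assoc c z z, hg.inv.zz, mul_zero]; simp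
      have hPP : P * P = P := by
        nth_rewrite 1 [hP]
        rw [sub_mul, sub_mul, one_mul, mul_assoc z c P, mul_assoc c z P, hzP, mul_zero, sub_zero]
        have hcP : c * P = 0 := by
          rw [hP, mul_sub, mul_sub, mul_one, ← mul_assoc c c z, hg.inv.cc, zero_mul, ← mul_assoc,
            hg.inv.czc]
          simp
        rw [hcP, mul_zero, sub_zero]
      have hPE : P * E = 0 := by rw [hE, ← mul_assoc, hPz, zero_mul]
      have hFP : F * P = 0 := by rw [hF, mul_assoc, hzP, mul_zero]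
      have hFE : F * E = 0 := by
        rw [hF, hE, mul_assoc, ← mul_assoc z z, hg.inv.zz, zero_mul, mul_zero]
      simp only [add_mul, mul_add, smul_mul_assoc, mul_smul_comm, hPP, hPE, hFP, hFE, smul_zero,
        add_zero]
    calc Y t * Y r = (P + t • E) * (y * ((P + t • F) * (P + r • E)) * y) * (P + r • F) := by
          simp only [hY, mul_assoc]
      _ = 0 := by rw [e1, yPy, mul_zero, zero_mul]
  have Y1 : Y 1 = y := by
    have a1 : (P + (1 : k) • E) * y = y := by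
      rw [one_smul]
      calc (P + E) * y = (P + E + F) * y := by rw [add_mul _ F y, Fy, add_zero]
        _ = y := by rw [PEF, one_mul]
    rw [hY]
    show (P + (1 : k) • E) * y * (P + (1 : k) • F) = y
    rw [a1, one_smul]
    calc y * (P + F) = y * (P + E + F) := by
          simp only [mul_add, yE, add_zero]
      _ = y := by rw [PEF, mul_one]
  have hroot : ∀ t : k, t ≠ 0 → InSup G A₀ (Y t - y) := by
    intro t ht
    obtain ⟨h, hh, eh, eh'⟩ := exists_torus hg.inv famz famc ht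
    rw [← hP, ← hE, ← hF] at eh eh'
    have hY' : (h : 𝔈) * y * ((h⁻¹ : GLk) : 𝔈) = Y t := by
      rw [eh, eh', hY, add_mul (P + t • E) (t⁻¹ • F) y, smul_mul_assoc, Fy, smul_zero, add_zero,
        add_right_comm P (t⁻¹ • E), mul_add _ (P + t • F) (t⁻¹ • E), mul_smul_comm, mul_assoc _ y E,
        yE, mul_zero, smul_zero, add_zero]
    refine ⟨by rw [← Y1, sub_mul, mul_sub, mul_sub, hprod, hprod, hprod, hprod]; simp,
      fun s g hg' => ?_⟩
    have hcm' : g = h * uEnd _ (smul_sq hy.1 s) * h⁻¹ * (uEnd _ (smul_sq hy.1 s))⁻¹ := by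
      refine Units.ext ?_
      rw [hg', Units.val_mul, Units.val_mul, Units.val_mul, uEnd_coe, uEnd_inv_coe, mul_add, mul_one,
        add_mul, Units.mul_inv, mul_smul_comm, smul_mul_assoc, hY']
      simp only [add_mul, mul_sub, one_mul, mul_one, smul_mul_assoc, mul_smul_comm]
      have : Y t * y = 0 := Y1 ▸ hprod t 1
      rw [this, smul_zero, add_zero, smul_sub]
      abel
    rw [hcm', mul_assoc (h * _), mul_assoc h]
    refine mul_mem hh ?_
    rw [← mul_assoc]
    have hq : uEnd _ (smul_sq hy.1 s) ∈ G := (hy.smul s).uEnd_mem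
    exact (conjBy_compSup h2 hk hG hq).le
      (CfsgLib.Trans3.RankOne.conj_mem_conjBy (inv_mem hh))
  obtain ⟨t, ht0, ht⟩ := exists_scalar h2 hk
  have h1 : t ^ 2 - 1 ≠ 0 := sub_ne_zero.2 ht
  obtain ⟨a, ha⟩ : ∃ a, a = (t ^ 2 - 1)⁻¹ := ⟨_, rfl⟩
  obtain ⟨b, hb⟩ : ∃ b, b = (a * (t - 1) - 1) / 2 := ⟨_, rfl⟩
  obtain ⟨X, hX⟩ : ∃ X, X = a • (Y t - y) + b • (Y (-1) - y) := ⟨_, rfl⟩
  have hyY : ∀ r, y * (Y r - y) = 0 ∧ (Y r - y) * y = 0 := fun r => by
    constructor
    · rw [← Y1, mul_sub, hprod, hprod, sub_zero]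
    · rw [← Y1, sub_mul, hprod, hprod, sub_zero]
  have hDD : ∀ r r', (Y r - y) * (Y r' - y) = 0 := fun r r' => by
    rw [← Y1, sub_mul, mul_sub, mul_sub, hprod, hprod, hprod, hprod]; simp
  have hXs : InSup G A₀ X := by
    rw [hX]
    refine ((hroot t ht0).smul a).add ((hroot (-1) (neg_ne_zero.2 one_ne_zero)).smul b) ?_ ?_
    · rw [smul_mul_assoc, mul_smul_comm, hDD, smul_zero, smul_zero]
    · rw [smul_mul_assoc, mul_smul_comm, hDD, smul_zero, smul_zero]
  have hyX : y * X = 0 ∧ X * y = 0 := by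
    rw [hX]
    constructor
    · rw [mul_add, mul_smul_comm, mul_smul_comm, (hyY t).1, (hyY _).1, smul_zero, smul_zero, add_zero]
    · rw [add_mul, smul_mul_assoc, smul_mul_assoc, (hyY t).2, (hyY _).2, smul_zero, smul_zero,
        add_zero]
  -- the middle part
  have hmid : y - X = P * y * P := by
    have hexp : ∀ r, Y r = P * y * P + r • (P * y * F + E * y * P) + (r * r) • (E * y * F) := by
      intro r
      simp only [hY, add_mul, mul_add, smul_mul_assoc, mul_smul_comm, smul_smul, smul_add]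
      abel
    have ht2 : a * (t * t - 1) = 1 := by rw [ha, ← pow_two]; exact inv_mul_cancel₀ h1
    have hb2 : a * (t - 1) - b * 2 = 1 := by rw [hb]; field_simp; ring
    rw [hX, hexp t, hexp (-1)]
    have hy1 := hexp 1
    rw [Y1] at hy1
    generalize P * y * P = A at hy1 ⊢
    generalize P * y * F + E * y * P = B at hy1 ⊢
    generalize E * y * F = C at hy1 ⊢
    rw [hy1]
    match_scalars
    · ring
    · linear_combination (-1 : k) * hb2
    · linear_combination (-1 : k) * ht2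
  have hrk : rk (y - X) < rk y := by
    rw [hmid]
    have e1 : rk (P * y * P) ≤ Module.finrank k ((LinearMap.range y).map P) := by
      rw [rk, ← LinearMap.range_comp, ← Module.End.mul_eq_comp]
      exact Submodule.finrank_mono (LinearMap.range_comp_le_range P (P * y))
    have e2 := finrank_map_add P (LinearMap.range y)
    have e3 : LinearMap.range z ≤ LinearMap.range y ⊓ LinearMap.ker P := le_inf hle (mul_eq_zero_iff.1 (by
      rw [hP, sub_mul, sub_mul, one_mul, hg.inv.zcz, mul_assoc c z z, hg.inv.zz, mul_zero, sub_self,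
        sub_zero]))
    have e4 := Submodule.finrank_mono e3
    have e5 := rk_pos hzm.2.1
    simp only [rk] at *
    omega
  refine ⟨y - X, X, (sub_add_cancel y X).symm, hy.sub hXs.isRoot hyX.1 hyX.2, hXs, ?_, ?_,
    fun h0 => ?_, hrk⟩
  · rw [sub_mul, hyX.1, hXs.1, sub_zero]
  · rw [mul_sub, hyX.2, hXs.1, sub_zero]
  · rw [h0, sub_zero] at hrk; exact lt_irrefl _ hrk

theorem exists_step (h2 : (2 : k) ≠ 0) (hk : Nat.card k ≠ 3) (hG : IsQuadraticPair G) {y : 𝔈}
    (hy : IsRoot G y) (hmove : ¬ ∀ x, InC G A₀ x → y * x = x * y) :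
    ∃ y₀ X : 𝔈, y = y₀ + X ∧ IsRoot G y₀ ∧ InSup G A₀ X ∧ y₀ * X = 0 ∧ X * y₀ = 0 ∧ X ≠ 0 ∧
      rk y₀ < rk y := by
  obtain ⟨x, hx, hne⟩ := exists_yxy_ne h2 hk hG hy hmove
  refine decompose h2 hk hG hy (inC_yxy h2 hk hG hy hx hne) ?_ ?_ ?_
  · rw [mul_assoc, hy.1, mul_zero]
  · rw [← mul_assoc, ← mul_assoc, hy.1, zero_mul, zero_mul]
  · rw [mul_assoc]; exact LinearMap.range_comp_le_range _ _

omit [FiniteDimensional k M] in
theorem uEnd_add {a b : 𝔈} (ha : a * a = 0) (hb : b * b = 0) (h : a * b = 0)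
    (hab : (a + b) * (a + b) = 0) : uEnd (a + b) hab = uEnd a ha * uEnd b hb := by
  refine Units.ext ?_
  rw [Units.val_mul, uEnd_coe, uEnd_coe, uEnd_coe]
  simp only [add_mul, mul_add, one_mul, mul_one, h, add_zero]
  abel

/-- `G` is the product of a component group and its centralizer. -/
theorem G_le_sup (h2 : (2 : k) ≠ 0) (hk : Nat.card k ≠ 3) (hG : IsQuadraticPair G) :
    G ≤ compSup G A₀ ⊔ (G ⊓ Subgroup.centralizer (compSup G A₀ : Set GLk)) := by
  have key : ∀ (n : ℕ) (y : 𝔈) (hy : IsRoot G y), rk y < n →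
      uEnd y hy.1 ∈ compSup G A₀ ⊔ (G ⊓ Subgroup.centralizer (compSup G A₀ : Set GLk)) := by
    intro n
    induction n with
    | zero => exact fun y hy h => absurd h (Nat.not_lt_zero _)
    | succ n ih =>
      intro y hy hn
      by_cases hc : ∀ x, InC G A₀ x → y * x = x * y
      · refine Subgroup.mem_sup_right ⟨hy.uEnd_mem, Subgroup.mem_centralizer_iff.2 fun g hg => ?_⟩
        refine Units.ext ?_
        rw [Units.val_mul, Units.val_mul, uEnd_coe, mul_add, add_mul, mul_one, one_mul,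
          compSup_comm hc hg]
      · obtain ⟨y₀, X, rfl, hy₀, hX, h1, h1', -, hlt⟩ := exists_step h2 hk hG hy hc
        rw [uEnd_add hy₀.1 hX.1 h1]
        exact mul_mem (ih y₀ hy₀ (by omega))
          (Subgroup.mem_sup_left (hX.2 1 _ (by rw [uEnd_coe, one_smul])))
  conv_lhs => rw [← hG.2]
  rw [Subgroup.closure_le]
  intro σ hσ
  have hr := (quadratic_iff.1 hσ).1
  have := key (rk ((σ : 𝔈) - 1) + 1) _ hr (Nat.lt_succ_self _)
  rwa [show uEnd _ hr.1 = σ from Units.ext (by rw [uEnd_coe]; abel)] at this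

/-- An element centralizing the component and annihilating a non-trivial element of it is zero. -/
theorem eq_zero_of_isotypic (h2 : (2 : k) ≠ 0) (hk : Nat.card k ≠ 3) (hG : IsQuadraticPair G)
    {X b : 𝔈} (hX : InSup G A₀ X) (hX0 : X ≠ 0) (hb : ∀ x, InC G A₀ x → b * x = x * b)
    (h0 : b * X = 0) : b = 0 := by
  obtain ⟨N, hN⟩ : ∃ N, N = ⨆ p : compSup G A₀, LinearMap.range (((p : GLk) : 𝔈) * X) := ⟨_, rfl⟩
  have hmem : ∀ (p : GLk), p ∈ compSup G A₀ → ∀ m, (p : 𝔈) (X m) ∈ N := fun p hp m =>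
    hN ▸ Submodule.mem_iSup_of_mem ⟨p, hp⟩ ⟨m, rfl⟩
  have hXu : uEnd X hX.1 ∈ compSup G A₀ := hX.2 1 _ (by rw [uEnd_coe, one_smul])
  let St : Subgroup GLk :=
    { carrier := {g | (∀ w ∈ N, (g : 𝔈) w ∈ N) ∧ ∀ w ∈ N, ((g⁻¹ : GLk) : 𝔈) w ∈ N}
      one_mem' := by simp
      mul_mem' := by
        rintro g h ⟨hg, hg'⟩ ⟨hh, hh'⟩
        refine ⟨fun w hw => ?_, fun w hw => ?_⟩
        · rw [Units.val_mul, Module.End.mul_apply]; exact hg _ (hh w hw)
        · rw [mul_inv_rev, Units.val_mul, Module.End.mul_apply]; exact hh' _ (hg' w hw)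
      inv_mem' := by
        rintro g ⟨hg, hg'⟩
        exact ⟨hg', fun w hw => by rw [inv_inv]; exact hg w hw⟩ }
  have inv_of : ∀ (g : GLk), (∀ p ∈ compSup G A₀, ∀ m, (g : 𝔈) ((p : 𝔈) (X m)) ∈ N) →
      ∀ w ∈ N, (g : 𝔈) w ∈ N := by
    intro g hg w hw
    have hle : N ≤ N.comap (g : 𝔈) := by
      conv_lhs => rw [hN]
      refine iSup_le ?_
      rintro ⟨p, hp⟩ _ ⟨m, rfl⟩
      exact hg p hp m
    exact hle hw
  have hK : compSup G A₀ ≤ St := by
    intro g hg
    refine ⟨inv_of g fun p hp m => ?_, inv_of _ fun p hp m => ?_⟩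
    · rw [← Module.End.mul_apply, ← Units.val_mul]; exact hmem _ (mul_mem hg hp) m
    · rw [← Module.End.mul_apply, ← Units.val_mul]; exact hmem _ (mul_mem (inv_mem hg) hp) m
  have hC : G ⊓ Subgroup.centralizer (compSup G A₀ : Set GLk) ≤ St := by
    have fwd : ∀ g ∈ Subgroup.centralizer (compSup G A₀ : Set GLk), ∀ w ∈ N, (g : 𝔈) w ∈ N := by
      intro g hg
      refine inv_of g fun p hp m => ?_
      have e1 : (g : 𝔈) * X = X * (g : 𝔈) := by
        have := congrArg Units.val (Subgroup.mem_centralizer_iff.1 hg _ hXu)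
        simp only [Units.val_mul, uEnd_coe, add_mul, mul_add, one_mul, mul_one] at this
        exact (add_left_cancel this).symm
      have e2 := congrArg Units.val (Subgroup.mem_centralizer_iff.1 hg _ hp)
      simp only [Units.val_mul] at e2
      rw [← Module.End.mul_apply, ← e2, Module.End.mul_apply, ← Module.End.mul_apply _ X, e1]
      exact hmem p hp _
    exact fun g hg => ⟨fwd g hg.2, fwd g⁻¹ (inv_mem hg.2)⟩
  rcases hG.1.2 N (fun g hg => ((sup_le hK hC) (G_le_sup h2 hk hG hg)).1) with hbot | htop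
  · refine absurd (LinearMap.ext fun m => ?_) hX0
    have := hbot ▸ hmem 1 (one_mem _) m
    simpa using this
  · refine LinearMap.ext fun m => ?_
    have hle : N ≤ LinearMap.ker b := by
      conv_lhs => rw [hN]
      refine iSup_le ?_
      rintro ⟨p, hp⟩
      refine mul_eq_zero_iff.1 ?_
      rw [← mul_assoc, compSup_comm hb hp, mul_assoc, h0, mul_zero]
    exact hle (htop ▸ Submodule.mem_top)

/-- A root lies in the group of a component or centralizes the component. -/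
theorem inSup_or_comm (h2 : (2 : k) ≠ 0) (hk : Nat.card k ≠ 3) (hG : IsQuadraticPair G) (A₀ : Subgroup GLk) :
    ∀ (y : 𝔈), IsRoot G y → InSup G A₀ y ∨ ∀ x, InC G A₀ x → y * x = x * y := by
  suffices key : ∀ (n : ℕ) (y : 𝔈), IsRoot G y → rk y < n →
      InSup G A₀ y ∨ ∀ x, InC G A₀ x → y * x = x * y from
    fun y hy => key (rk y + 1) y hy (Nat.lt_succ_self _)
  intro n
  induction n with
  | zero => exact fun y hy h => absurd h (Nat.not_lt_zero _)
  | succ n ih =>
    intro y hy hn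
    by_cases hc : ∀ x, InC G A₀ x → y * x = x * y
    · exact Or.inr hc
    left
    obtain ⟨y₀, X, rfl, hy₀, hX, h1, h1', hX0, hlt⟩ := exists_step h2 hk hG hy hc
    rcases ih y₀ hy₀ (by omega) with h | h
    · exact h.add hX h1 h1'
    · rw [eq_zero_of_isotypic h2 hk hG hX hX0 h h1, zero_add]
      exact hX

end CfsgLib.PLocal.QPair
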