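import Cfsg.Agent.Lib.PLocal.QPairCocentral
import Cfsg.Agent.Lib.ClassK.QuasiIso

/-!
# Quadratic pairs: restriction of the centralizer of `⟨Σ⟩` to an irreducible submodule
-/

set_option autoImplicit false

universe u

namespace CfsgLib.PLocal.QPair

open Cfsg
open scoped commutatorElement

variable {k : Type u} [Field k] {M : Type u} [AddCommGroup M] [Module k M] [FiniteDimensional k M]

local notation "GLk" => LinearMap.GeneralLinearGroup k M
local notation "𝔈" => M →ₗ[k] M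

variable {G : Subgroup (LinearMap.GeneralLinearGroup k M)}

/-- The group generated by the quadratic elements centralizing `⟨Σ⟩`. -/
def cenQ (G : Subgroup (LinearMap.GeneralLinearGroup k M)) :
    Subgroup (LinearMap.GeneralLinearGroup k M) :=
  Subgroup.closure (quadraticElements G ∩
    (Subgroup.centralizer ((⨆ A ∈ quadraticRootSubgroups G, A : Subgroup _) :
      Set (LinearMap.GeneralLinearGroup k M)) : Set (LinearMap.GeneralLinearGroup k M)))

omit [FiniteDimensional k M] in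
theorem cenQ_le : cenQ G ≤ G := (Subgroup.closure_le _).2 fun _ h => h.1.1

omit [FiniteDimensional k M] in
theorem cenQ_comm {g p : GLk} (hg : g ∈ cenQ G)
    (hp : p ∈ ⨆ A ∈ quadraticRootSubgroups G, A) : g * p = p * g :=
  (Subgroup.mem_centralizer_iff.1 ((Subgroup.closure_le _).2 (fun _ h => h.2) hg) p hp).symm

theorem le_sup_cenQ (h2 : (2 : k) ≠ 0) (hk : Nat.card k ≠ 3) (hG : IsQuadraticPair G) :
    G ≤ (⨆ A ∈ quadraticRootSubgroups G, A) ⊔ cenQ G := by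
  conv_lhs => rw [← hG.2]
  rw [Subgroup.closure_le]
  intro σ hσ
  rcases quadratic_cases h2 hk hG hσ with ⟨A, -, h⟩ | h
  · exact Subgroup.mem_sup_left (compSup_le_sigma h)
  · exact Subgroup.mem_sup_right (Subgroup.subset_closure ⟨hσ, h⟩)

/-- An endomorphism commuting with `⟨Σ⟩` and killing a `cenQ`-invariant submodule is zero. -/
theorem eq_zero_of_kill (h2 : (2 : k) ≠ 0) (hk : Nat.card k ≠ 3) (hG : IsQuadraticPair G)
    {W : Submodule k M} (hW : ∀ g ∈ cenQ G, ∀ w ∈ W, (g : 𝔈) w ∈ W) (hW0 : W ≠ ⊥) {f : 𝔈}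
    (hf : ∀ p ∈ ⨆ A ∈ quadraticRootSubgroups G, A, f * (p : 𝔈) = (p : 𝔈) * f)
    (hfW : ∀ w ∈ W, f w = 0) : f = 0 := by
  obtain ⟨N, hN⟩ : ∃ N, N = ⨆ p : (⨆ A ∈ quadraticRootSubgroups G, A : Subgroup GLk),
      W.map ((p : GLk) : 𝔈) := ⟨_, rfl⟩
  have hmem : ∀ p ∈ ⨆ A ∈ quadraticRootSubgroups G, A, ∀ w ∈ W, (p : 𝔈) w ∈ N := fun p hp w hw =>
    hN ▸ Submodule.mem_iSup_of_mem ⟨p, hp⟩ ⟨w, hw, rfl⟩
  let St : Subgroup GLk :=
    { carrier := {g | (∀ w ∈ N, (g : 𝔈) w ∈ N) ∧ ∀ w ∈ N, ((g⁻¹ : GLk) : 𝔈) w ∈ N}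
      one_mem' := by simp
      mul_mem' := by
        rintro g h ⟨hg, hg'⟩ ⟨hh, hh'⟩
        refine ⟨fun w hw => ?_, fun w hw => ?_⟩
        · rw [Units.val_mul, Module.End.mul_apply]; exact hg _ (hh w hw)
        · rw [mul_inv_rev, Units.val_mul, Module.End.mul_apply]; exact hh' _ (hg' w hw)
      inv_mem' := by
        rintro g ⟨hg, hg'⟩
        exact ⟨hg', fun w hw => by rw [inv_inv]; exact hg w hw⟩ }
  have inv_of : ∀ (g : GLk), (∀ p ∈ ⨆ A ∈ quadraticRootSubgroups G, A, ∀ w ∈ W,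
      (g : 𝔈) ((p : 𝔈) w) ∈ N) → ∀ w ∈ N, (g : 𝔈) w ∈ N := by
    intro g hg w hw
    have hle : N ≤ N.comap (g : 𝔈) := by
      conv_lhs => rw [hN]
      refine iSup_le ?_
      rintro ⟨p, hp⟩ _ ⟨m, hm, rfl⟩
      exact hg p hp m hm
    exact hle hw
  have h0 : (⨆ A ∈ quadraticRootSubgroups G, A) ≤ St := by
    intro g hg
    refine ⟨inv_of g fun p hp m hm => ?_, inv_of _ fun p hp m hm => ?_⟩
    · rw [← Module.End.mul_apply, ← Units.val_mul]; exact hmem _ (mul_mem hg hp) m hm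
    · rw [← Module.End.mul_apply, ← Units.val_mul]; exact hmem _ (mul_mem (inv_mem hg) hp) m hm
  have h1 : cenQ G ≤ St := by
    have fwd : ∀ g ∈ cenQ G, ∀ w ∈ N, (g : 𝔈) w ∈ N := by
      intro g hg
      refine inv_of g fun p hp m hm => ?_
      have e := congrArg Units.val (cenQ_comm hg hp)
      simp only [Units.val_mul] at e
      rw [← Module.End.mul_apply, e, Module.End.mul_apply]
      exact hmem p hp _ (hW g hg m hm)
    exact fun g hg => ⟨fwd g hg, fwd g⁻¹ (inv_mem hg)⟩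
  rcases hG.1.2 N (fun g hg => ((sup_le h0 h1) (le_sup_cenQ h2 hk hG hg)).1) with hbot | htop
  · refine absurd ?_ hW0
    rw [eq_bot_iff]
    intro w hw
    have := hbot ▸ hmem 1 (one_mem _) w hw
    simpa using this
  · refine LinearMap.ext fun m => ?_
    have hle : N ≤ LinearMap.ker f := by
      conv_lhs => rw [hN]
      refine iSup_le ?_
      rintro ⟨p, hp⟩ _ ⟨w, hw, rfl⟩
      rw [LinearMap.mem_ker]
      show f ((p : 𝔈) w) = 0
      rw [← Module.End.mul_apply, hf p hp, Module.End.mul_apply, hfW w hw, map_zero]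
    exact hle (htop ▸ Submodule.mem_top)

/-- Restriction to an invariant submodule. -/
noncomputable def resHom (G : Subgroup (LinearMap.GeneralLinearGroup k M)) (W : Submodule k M)
    (hW : ∀ g ∈ cenQ G, ∀ w ∈ W, (g : M →ₗ[k] M) w ∈ W) :
    cenQ G →* LinearMap.GeneralLinearGroup k W :=
  MonoidHom.toHomUnits
    { toFun := fun g => (g : LinearMap.GeneralLinearGroup k M).val.restrict (hW g g.2)
      map_one' := LinearMap.ext fun _ => Subtype.ext rfl
      map_mul' := fun _ _ => LinearMap.ext fun _ => Subtype.ext rfl }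

omit [FiniteDimensional k M] in
theorem resHom_apply {W : Submodule k M} (hW : ∀ g ∈ cenQ G, ∀ w ∈ W, (g : 𝔈) w ∈ W)
    (g : cenQ G) (w : W) :
    (((resHom G W hW g : LinearMap.GeneralLinearGroup k W) : W →ₗ[k] W) w : M) =
      ((g : GLk) : 𝔈) w := rfl

theorem cenQ_sub_comm {g : GLk} (hg : g ∈ cenQ G) {p : GLk}
    (hp : p ∈ ⨆ A ∈ quadraticRootSubgroups G, A) :
    ((g : 𝔈) - 1) * (p : 𝔈) = (p : 𝔈) * ((g : 𝔈) - 1) := by
  have e := congrArg Units.val (cenQ_comm hg hp)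
  simp only [Units.val_mul] at e
  rw [sub_mul, mul_sub, one_mul, mul_one, e]

variable {W : Submodule k M}

theorem resHom_injective (h2 : (2 : k) ≠ 0) (hk : Nat.card k ≠ 3) (hG : IsQuadraticPair G)
    (hW : ∀ g ∈ cenQ G, ∀ w ∈ W, (g : 𝔈) w ∈ W) (hW0 : W ≠ ⊥) :
    Function.Injective (resHom G W hW) := by
  refine (injective_iff_map_eq_one _).2 fun g hg => Subtype.ext (Units.ext ?_)
  have h := eq_zero_of_kill h2 hk hG hW hW0 (f := ((g : GLk) : 𝔈) - 1)
    (fun p hp => cenQ_sub_comm g.2 hp) fun w hw => ?_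
  · exact sub_eq_zero.1 h
  · have := congrArg (fun u : LinearMap.GeneralLinearGroup k W => ((u : W →ₗ[k] W) ⟨w, hw⟩ : M)) hg
    rw [resHom_apply] at this
    rw [LinearMap.sub_apply, Module.End.one_apply, sub_eq_zero]
    exact this

/-- Restriction respects being quadratic. -/
theorem resHom_mem_iff (h2 : (2 : k) ≠ 0) (hk : Nat.card k ≠ 3) (hG : IsQuadraticPair G)
    (hW : ∀ g ∈ cenQ G, ∀ w ∈ W, (g : 𝔈) w ∈ W) (hW0 : W ≠ ⊥) (g : cenQ G) :
    resHom G W hW g ∈ quadraticElements (resHom G W hW).range ↔ (g : GLk) ∈ quadraticElements G := by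
  set ρ := resHom G W hW
  have hfmul : ∀ p ∈ ⨆ A ∈ quadraticRootSubgroups G, A,
      (((g : GLk) : 𝔈) - 1) * (((g : GLk) : 𝔈) - 1) * (p : 𝔈) =
        (p : 𝔈) * ((((g : GLk) : 𝔈) - 1) * (((g : GLk) : 𝔈) - 1)) := fun p hp => by
    rw [mul_assoc, cenQ_sub_comm g.2 hp, ← mul_assoc, cenQ_sub_comm g.2 hp, mul_assoc]
  have hsub : ∀ w : W, (((((ρ g : LinearMap.GeneralLinearGroup k W) : W →ₗ[k] W)) - 1) w : M) =
      (((g : GLk) : 𝔈) - 1) w := fun w => rfl
  constructor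
  · rintro ⟨-, ⟨hsq, hne⟩, hfam⟩
    have h1 : (((g : GLk) : 𝔈) - 1) * (((g : GLk) : 𝔈) - 1) = 0 :=
      eq_zero_of_kill h2 hk hG hW hW0 hfmul fun w hw => by
        have := congrArg (fun f : W →ₗ[k] W => (f ⟨w, hw⟩ : M)) hsq
        exact this
    refine ⟨cenQ_le g.2, ⟨h1, fun h0 => hne (LinearMap.ext fun w => Subtype.ext ?_)⟩, ?_⟩
    · rw [hsub, h0]; rfl
    rintro τ ⟨c, hc⟩
    obtain ⟨t, ht⟩ := hfam (show uEnd (c • (((ρ g : LinearMap.GeneralLinearGroup k W) : W →ₗ[k] W) - 1))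
      (smul_sq hsq c) ∈ scalarFamily (ρ g) from ⟨c, rfl⟩)
    suffices (t : GLk) = τ by rw [← this]; exact cenQ_le t.2
    refine Units.ext (sub_eq_zero.1 (eq_zero_of_kill h2 hk hG hW hW0 (fun p hp => ?_) fun w hw => ?_))
    · rw [hc]
      have e1 := cenQ_sub_comm t.2 hp
      have e2 := cenQ_sub_comm g.2 hp
      rw [← sub_sub, sub_mul (((t : GLk) : 𝔈) - 1), mul_sub _ (((t : GLk) : 𝔈) - 1), e1,
        smul_mul_assoc, e2, mul_smul_comm]
    · have e := congrArg (fun u : LinearMap.GeneralLinearGroup k W => ((u : W →ₗ[k] W) ⟨w, hw⟩ : M)) ht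
      rw [resHom_apply, uEnd_coe, LinearMap.add_apply, Module.End.one_apply, LinearMap.smul_apply,
        Submodule.coe_add, Submodule.coe_smul, hsub] at e
      rw [hc, LinearMap.sub_apply, e]
      simp
  · rintro ⟨-, ⟨hsq, hne⟩, hfam⟩
    refine ⟨⟨g, rfl⟩, ⟨LinearMap.ext fun w => Subtype.ext ?_, fun h0 => hne ?_⟩, ?_⟩
    · rw [Module.End.mul_apply, hsub, hsub, ← Module.End.mul_apply, hsq]; rfl
    · refine eq_zero_of_kill h2 hk hG hW hW0 (fun p hp => cenQ_sub_comm g.2 hp) fun w hw => ?_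
      rw [← hsub ⟨w, hw⟩, h0]; rfl
    rintro τ ⟨c, hc⟩
    have hu : uEnd (c • (((g : GLk) : 𝔈) - 1)) (smul_sq hsq c) ∈ cenQ G := by
      rcases eq_or_ne c 0 with rfl | hc0
      · rw [show uEnd _ (smul_sq hsq (0 : k)) = 1 from Units.ext (by simp [uEnd_coe])]
        exact one_mem _
      refine Subgroup.subset_closure ⟨?_, Subgroup.mem_centralizer_iff.2 fun p hp => Units.ext ?_⟩
      · exact uEnd_quadratic (IsRoot.smul ⟨hsq, fun s u hu => hfam ⟨s, hu⟩⟩ c)
          (smul_ne_zero hc0 hne)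
      · rw [Units.val_mul, Units.val_mul, uEnd_coe, mul_add, add_mul, mul_one, one_mul, smul_mul_assoc,
          mul_smul_comm, cenQ_sub_comm g.2 hp]
    refine ⟨⟨_, hu⟩, Units.ext (LinearMap.ext fun w => Subtype.ext ?_)⟩
    rw [resHom_apply, hc, uEnd_coe, LinearMap.add_apply, Module.End.one_apply, LinearMap.smul_apply,
      LinearMap.add_apply, LinearMap.smul_apply, Submodule.coe_add, Submodule.coe_smul, hsub]
    rfl

theorem isQuadraticPair_res (h2 : (2 : k) ≠ 0) (hk : Nat.card k ≠ 3) (hG : IsQuadraticPair G)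
    (hW : ∀ g ∈ cenQ G, ∀ w ∈ W, (g : 𝔈) w ∈ W) (hW0 : W ≠ ⊥)
    (hmin : ∀ V : Submodule k M, V ≤ W → V ≠ ⊥ → (∀ g ∈ cenQ G, ∀ w ∈ V, (g : 𝔈) w ∈ V) → V = W) :
    IsQuadraticPair (resHom G W hW).range := by
  refine ⟨⟨?_, fun V hV => ?_⟩, le_antisymm ((Subgroup.closure_le _).2 fun σ hσ => hσ.1) ?_⟩
  · obtain ⟨w, hw, hw0⟩ := Submodule.exists_mem_ne_zero_of_ne_bot hW0
    exact ⟨⟨w, hw⟩, fun h => hw0 (congrArg Subtype.val h)⟩
  · by_cases hb : V = ⊥
    · exact Or.inl hb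
    refine Or.inr (Submodule.map_injective_of_injective W.injective_subtype ?_)
    rw [Submodule.map_subtype_top]
    refine hmin _ (Submodule.map_subtype_le W V) (fun h => hb ?_) ?_
    · exact Submodule.map_injective_of_injective W.injective_subtype (h.trans (Submodule.map_bot _).symm)
    · rintro g hg _ ⟨w, hw, rfl⟩
      exact ⟨_, hV _ ⟨⟨g, hg⟩, rfl⟩ w hw, rfl⟩
  · rintro _ ⟨⟨g, hg⟩, rfl⟩
    induction hg using Subgroup.closure_induction with
    | mem x hx =>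
      exact Subgroup.subset_closure ((resHom_mem_iff h2 hk hG hW hW0 ⟨x, Subgroup.subset_closure hx⟩).2 hx.1)
    | one => rw [show (⟨1, one_mem _⟩ : cenQ G) = 1 from rfl, map_one]; exact one_mem _
    | mul x y hx hy ihx ihy =>
      rw [show (⟨x * y, mul_mem hx hy⟩ : cenQ G) = ⟨x, hx⟩ * ⟨y, hy⟩ from rfl, map_mul]
      exact mul_mem ihx ihy
    | inv x hx ihx =>
      rw [show (⟨x⁻¹, inv_mem hx⟩ : cenQ G) = (⟨x, hx⟩ : cenQ G)⁻¹ from rfl, map_inv]
      exact inv_mem ihx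

end CfsgLib.PLocal.QPair
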