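import Cfsg.Agent.Lib.PLocal.QPairUPair
import Cfsg.Agent.Lib.Trans3.PairOver

/-!
# Quadratic pairs: `Σ` is a set of abstract root subgroups
-/

set_option autoImplicit false

universe u

namespace CfsgLib.PLocal.QPair

open Cfsg
open scoped commutatorElement MatrixGroups

section Group

variable {Γ : Type*} [Group Γ]

/-- A rank one pair with central commutator subgroup contains a commuting pair. -/
theorem exists_comm_of_central {A B D : Subgroup Γ} (h : IsRankOnePair A B) (hB : B ≠ ⊥)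
    (hA : A ≠ ⊥) (hD : ∀ a ∈ A, ∀ b ∈ B, ⁅a, b⁆ ∈ D) (hc : ∀ d ∈ D, ∀ x ∈ A ⊔ B, d * x = x * d) :
    ∃ a ∈ A, a ≠ 1 ∧ ∃ b ∈ B, b ≠ 1 ∧ a * b = b * a := by
  obtain ⟨⟨a, ha⟩, ha1⟩ := Subgroup.ne_bot_iff_exists_ne_one.1 hA
  have ha1' : a ≠ 1 := fun e => ha1 (Subtype.ext e)
  refine ⟨a, ha, ha1', ?_⟩
  obtain ⟨b, hb, hb1, he⟩ := h.cond_left a ha ha1'
  have hmem : b⁻¹ * a * b ∈ conjBy B a⁻¹ := by
    rw [← he, CfsgLib.Trans3.RankOne.mem_conjBy]
    simpa [mul_assoc] using ha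
  rw [CfsgLib.Trans3.RankOne.mem_conjBy] at hmem
  have hb' : a * (b⁻¹ * a * b) * a⁻¹ ∈ B := by simpa using hmem
  set b' := a * (b⁻¹ * a * b) * a⁻¹ with hb'def
  have hd : ⁅a, b⁻¹⁆ ∈ D := hD a ha _ (inv_mem hb)
  rcases eq_or_ne b' 1 with h1 | h1
  · refine absurd ?_ ha1'
    have e : b⁻¹ * a * b = 1 := by
      have h2 : a * (b⁻¹ * a * b) * a⁻¹ = 1 := h1
      have h3 := congrArg (fun t => a⁻¹ * t * a) h2
      simpa [mul_assoc] using h3
    have h4 := congrArg (fun t => b * t * b⁻¹) e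
    simpa [mul_assoc] using h4
  · refine ⟨b', hb', h1, ?_⟩
    have hd' := inv_mem hd
    rw [commutatorElement_inv, commutatorElement_def, inv_inv] at hd'
    have hcm := hc _ hd' a (Subgroup.mem_sup_left ha)
    have e : b' = a * (b⁻¹ * a * b * a⁻¹) := by rw [hb'def]; simp only [mul_assoc]
    rw [e, mul_assoc a (b⁻¹ * a * b * a⁻¹) a, hcm]

theorem isRankOnePair_of_map {Δ : Type*} [Group Δ] (f : Δ →* Γ) (hf : Function.Injective f)
    {A B : Subgroup Δ} (h : IsRankOnePair (A.map f) (B.map f)) : IsRankOnePair A B := by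
  have cond : ∀ {A B : Subgroup Δ}, RankOneCondition (A.map f) (B.map f) → RankOneCondition A B := by
    intro A B h a ha ha1
    obtain ⟨_, ⟨b, hb, rfl⟩, hb1, he⟩ := h (f a) ⟨a, ha, rfl⟩ (by rwa [Ne, map_eq_one_iff f hf])
    refine ⟨b, hb, fun e => hb1 (by rw [e, map_one]), Subgroup.map_injective hf ?_⟩
    rw [CfsgLib.Trans3.PairOver.map_conjBy, CfsgLib.Trans3.PairOver.map_conjBy, map_inv, map_inv]
    exact he
  have := h.nilpotent_left
  have := h.nilpotent_right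
  exact ⟨fun e => h.ne (e ▸ rfl), Group.nilpotent_of_mulEquiv (A.equivMapOfInjective f hf).symm,
    Group.nilpotent_of_mulEquiv (B.equivMapOfInjective f hf).symm, cond h.cond_left, cond h.cond_right⟩

theorem closure_commutators_of_map {Δ : Type*} [Group Δ] (f : Δ →* Γ) (hf : Function.Injective f)
    {A B : Subgroup Δ} {a : Δ}
    (h : Subgroup.closure ((fun b : Γ => f a * b * (f a)⁻¹ * b⁻¹) '' (B.map f : Set Γ)) =
      ⁅A.map f, B.map f⁆) :
    Subgroup.closure ((fun b : Δ => a * b * a⁻¹ * b⁻¹) '' (B : Set Δ)) = ⁅A, B⁆ := by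
  refine Subgroup.map_injective hf ?_
  rw [MonoidHom.map_closure, Subgroup.map_commutator, ← h, Subgroup.coe_map, ← Set.image_comp,
    ← Set.image_comp]
  congr 2
  funext b
  simp

/-- Transport of an abstract root subgroup set to the group it generates. -/
theorem isRootSubgroupSet_subgroupOf {S : Set (Subgroup Γ)} {G₀ : Subgroup Γ}
    (hG₀ : G₀ = ⨆ A ∈ S, A) (hcomm : ∀ A ∈ S, IsMulCommutative A) (hne : ∀ A ∈ S, A ≠ ⊥)
    (hconj : ∀ A ∈ S, ∀ g ∈ G₀, conjBy A g ∈ S)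
    (hpair : ∀ A ∈ S, ∀ B ∈ S, ⁅A, B⁆ = ⊥ ∨ IsRankOnePair A B ∨ RootCommutatorCase S A B) :
    IsRootSubgroupSet ((fun A : Subgroup Γ => A.subgroupOf G₀) '' S) := by
  have hle : ∀ A ∈ S, A ≤ G₀ := fun A hA => hG₀ ▸ le_iSup₂ (f := fun B (_ : B ∈ S) => B) A hA
  have hmap : ∀ A ∈ S, (A.subgroupOf G₀).map G₀.subtype = A := fun A hA =>
    Subgroup.map_subgroupOf_eq_of_le (hle A hA)
  have hf := G₀.subtype_injective
  constructor
  · rintro _ ⟨A, hA, rfl⟩
    have := hcomm A hA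
    refine ⟨⟨fun x y => Subtype.ext (Subtype.ext ?_)⟩⟩
    show ((x : G₀) : Γ) * ((y : G₀) : Γ) = ((y : G₀) : Γ) * ((x : G₀) : Γ)
    exact congrArg Subtype.val (mul_comm' (⟨((x : G₀) : Γ), x.2⟩ : A) ⟨((y : G₀) : Γ), y.2⟩)
  · rintro _ ⟨A, hA, rfl⟩ h
    refine hne A hA ?_
    rw [← hmap A hA, show A.subgroupOf G₀ = ⊥ from h, Subgroup.map_bot]
  · refine Subgroup.map_injective hf ?_
    rw [← MonoidHom.range_eq_map, G₀.range_subtype, Subgroup.map_iSup]
    conv_rhs => rw [hG₀]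
    refine le_antisymm (iSup_le fun A' => ?_) (iSup₂_le fun A hA => ?_)
    · rw [Subgroup.map_iSup]
      refine iSup_le ?_
      rintro ⟨A, hA, rfl⟩
      rw [hmap A hA]
      exact le_iSup₂ (f := fun B (_ : B ∈ S) => B) A hA
    · refine le_iSup_of_le (A.subgroupOf G₀) ?_
      rw [Subgroup.map_iSup]
      exact le_iSup_of_le ⟨A, hA, rfl⟩ (hmap A hA).ge
  · rintro _ ⟨A, hA, rfl⟩ g
    refine ⟨conjBy A g, hconj A hA g g.2, Subgroup.map_injective hf ?_⟩
    rw [hmap _ (hconj A hA g g.2), CfsgLib.Trans3.PairOver.map_conjBy, hmap A hA]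
    rfl
  · rintro _ ⟨A, hA, rfl⟩ _ ⟨B, hB, rfl⟩
    rcases hpair A hA B hB with h | h | ⟨h1, h2, h3, h4⟩
    · left
      refine Subgroup.map_injective hf ?_
      rw [Subgroup.map_commutator, hmap A hA, hmap B hB, h, Subgroup.map_bot]
    · right; left
      exact isRankOnePair_of_map _ hf (by rwa [hmap A hA, hmap B hB])
    · right; right
      have hC : ⁅A.subgroupOf G₀, B.subgroupOf G₀⁆ = (⁅A, B⁆).subgroupOf G₀ := by
        refine Subgroup.map_injective hf ?_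
        rw [Subgroup.map_commutator, hmap A hA, hmap B hB, hmap _ h1]
      refine ⟨hC ▸ ⟨_, h1, rfl⟩, ?_, ?_, ?_⟩
      · intro c hc x hx
        refine Subtype.ext (h2 c ?_ x ?_)
        · rw [hC, Subgroup.mem_subgroupOf] at hc; exact hc
        · have := Subgroup.mem_map_of_mem G₀.subtype hx
          rwa [Subgroup.map_sup, hmap A hA, hmap B hB] at this
      · intro a ha ha1
        refine closure_commutators_of_map _ hf ?_
        rw [hmap A hA, hmap B hB]
        exact h3 a (Subgroup.mem_subgroupOf.1 ha) (fun e => ha1 (Subtype.ext e))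
      · intro b hb hb1
        refine Subgroup.map_injective hf ?_
        rw [MonoidHom.map_closure, Subgroup.map_commutator, hmap A hA, hmap B hB,
          ← h4 b (Subgroup.mem_subgroupOf.1 hb) (fun e => hb1 (Subtype.ext e))]
        conv_rhs => rw [← hmap A hA, Subgroup.coe_map]
        rw [← Set.image_comp, ← Set.image_comp]
        rfl

end Group

variable {k : Type u} [Field k] {M : Type u} [AddCommGroup M] [Module k M] [FiniteDimensional k M]

local notation "GLk" => LinearMap.GeneralLinearGroup k M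
local notation "𝔈" => M →ₗ[k] M

variable {G : Subgroup (LinearMap.GeneralLinearGroup k M)}

theorem sigma_le {A : Subgroup GLk} (hA : A ∈ quadraticRootSubgroups G) : A ≤ G := by
  obtain ⟨σ, hσ, rfl⟩ := hA
  exact sameAction_le (minimal_iff.1 hσ)

theorem sigma_conj {A : Subgroup GLk} (hA : A ∈ quadraticRootSubgroups G) {g : GLk} (hg : g ∈ G) :
    conjBy A g ∈ quadraticRootSubgroups G := by
  obtain ⟨σ, hσ, rfl⟩ := hA
  exact ⟨_, minimal_iff.2 (minimal_conj (minimal_iff.1 hσ) hg),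
    conjBy_sameAction (minimal_iff.1 hσ) hg⟩

theorem sigma_trichotomy (h2 : (2 : k) ≠ 0) (hk : Nat.card k ≠ 3) (hG : IsQuadraticPair G)
    {A B : Subgroup GLk} (hA : A ∈ quadraticRootSubgroups G) (hB : B ∈ quadraticRootSubgroups G) :
    ⁅A, B⁆ = ⊥ ∨ IsRankOnePair A B ∨ RootCommutatorCase (quadraticRootSubgroups G) A B := by
  obtain ⟨σ, hσ, rfl⟩ := hA
  obtain ⟨τ, hτ, rfl⟩ := hB
  rw [minimal_iff] at hσ hτ
  rcases unip_or_opp h2 hk hσ hτ with hu | ho
  · rcases unipotent_pair h2 hk hG hσ hτ hu with h | h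
    · exact Or.inl h
    · exact Or.inr (Or.inr ⟨h.1, h.2.1, h.2.2.1, h.2.2.2.1⟩)
  · exact Or.inr (Or.inl (isRankOnePair_of_opp h2 hk hσ hτ ho))

/-- Rank one partners in `Σ` are opposite. -/
theorem opp_of_rankOne (h2 : (2 : k) ≠ 0) (hk : Nat.card k ≠ 3) (hG : IsQuadraticPair G)
    {σ τ : GLk} (hσ : IsMin G ((σ : 𝔈) - 1)) (hτ : IsMin G ((τ : 𝔈) - 1))
    (h : IsRankOnePair (sameActionSubgroup G σ) (sameActionSubgroup G τ)) :
    Opp ((σ : 𝔈) - 1) ((τ : 𝔈) - 1) := by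
  refine (unip_or_opp h2 hk hσ hτ).resolve_left fun hu => ?_
  have key : ∀ D : Subgroup GLk, (∀ a ∈ sameActionSubgroup G σ, ∀ b ∈ sameActionSubgroup G τ, ⁅a, b⁆ ∈ D) →
      (∀ d ∈ D, ∀ x ∈ sameActionSubgroup G σ ⊔ sameActionSubgroup G τ, d * x = x * d) →
      ⁅sameActionSubgroup G σ, sameActionSubgroup G τ⁆ = ⊥ := fun D hD hc =>
    commutator_eq_bot_of_commute h2 hσ hτ
      (Or.inl (exists_comm_of_central h (sameAction_ne_bot hτ) (sameAction_ne_bot hσ) hD hc))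
  have hbot : ⁅sameActionSubgroup G σ, sameActionSubgroup G τ⁆ = ⊥ := by
    rcases unipotent_pair h2 hk hG hσ hτ hu with h | h
    · exact h
    · exact key _ (fun a ha b hb => Subgroup.commutator_mem_commutator ha hb) h.2.1
  obtain ⟨a, ha, b, hb, hab⟩ := CfsgLib.Trans3.RankOne.not_comm h
  exact hab ((Subgroup.mem_centralizer_iff.1
    (Subgroup.commutator_eq_bot_iff_le_centralizer.1 hbot ha) b hb).symm)

theorem exists_partner (h2 : (2 : k) ≠ 0) (hk : Nat.card k ≠ 3) (hG : IsQuadraticPair G)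
    {A : Subgroup GLk} (hA : A ∈ quadraticRootSubgroups G) :
    ∃ B ∈ quadraticRootSubgroups G, IsRankOnePair A B := by
  obtain ⟨σ, hσ, rfl⟩ := hA
  rw [minimal_iff] at hσ
  obtain ⟨e, he, ho⟩ := exists_opp h2 hk hG hσ
  have he' : IsMin G ((uEnd e he.1.1 : 𝔈) - 1) := by rw [uEnd_sub_one]; exact he
  exact ⟨_, ⟨_, minimal_iff.2 he', rfl⟩, isRankOnePair_of_opp h2 hk hσ he' (by rwa [uEnd_sub_one])⟩

theorem three_lt_card (h2 : (2 : k) ≠ 0) (hk : Nat.card k ≠ 3) : 3 < ENat.card k := by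
  cases finite_or_infinite k with
  | inr h => rw [ENat.card_eq_top_of_infinite]; exact ENat.coe_lt_top 3
  | inl h =>
    have := Fintype.ofFinite k
    rw [ENat.card_eq_coe_fintype_card]
    rw [Nat.card_eq_fintype_card] at hk
    have h1 : 2 ≤ Fintype.card k := Fintype.one_lt_card
    have h3 : Fintype.card k ≠ 2 := fun h => h2 (by
      have := FiniteField.cast_card_eq_zero k
      rw [h] at this
      exact_mod_cast this)
    exact_mod_cast (show 3 < Fintype.card k by omega)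

/-- The `SL₂` pair inside two opposite root subgroups. -/
theorem exists_pslPair (h2 : (2 : k) ≠ 0) (hk : Nat.card k ≠ 3) {σ τ : GLk}
    (hσ : IsMin G ((σ : 𝔈) - 1)) (hτ : IsMin G ((τ : 𝔈) - 1))
    (ho : Opp ((σ : 𝔈) - 1) ((τ : 𝔈) - 1)) :
    ∃ A₀ B₀ : Subgroup GLk, A₀ ≤ sameActionSubgroup G σ ∧ B₀ ≤ sameActionSubgroup G τ ∧
      ∃ (k₁ : Type u) (_ : Field k₁), 3 < ENat.card k₁ ∧ IsPSL2PairOver k₁ A₀ B₀ := by
  obtain ⟨S⟩ := exists_split h2 hk hσ hτ fun hz => ho.aba_ne hσ.2.1 hz.1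
  set a := (σ : 𝔈) - 1
  set b := (τ : 𝔈) - 1
  let inst : Field S.F.coeff := S.isField.toField
  have hψ : ∀ g : pairGroup a b, ∃ A, S.F.Rep (g : GLk) A := fun g =>
    (S.F.rep_of_mem g.2).imp fun A hA => hA.2
  choose ψ hψ' using hψ
  let φ₀ : pairGroup a b →* SL(2, S.F.coeff) := MonoidHom.mk' ψ fun g h =>
    S.F.rep_unique (hψ' (g * h)) (S.F.rep_mul (hψ' g) (hψ' h))
  have hinj : Function.Injective φ₀ := (injective_iff_map_eq_one φ₀).2 fun g hg =>
    Subtype.ext (S.F.eq_one_of_rep_one (S.fix g g.2) ((show ψ g = 1 from hg) ▸ hψ' g))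
  have hsurj : Function.Surjective φ₀ := fun A => by
    obtain ⟨g, hg, hg'⟩ := S.F.exists_rep (A := A) (by rw [S.top]; exact Subgroup.mem_top _)
    exact ⟨⟨g, hg⟩, S.F.rep_unique (hψ' ⟨g, hg⟩) hg'⟩
  let Φ := MulEquiv.ofBijective φ₀ ⟨hinj, hsurj⟩
  let φ : SL(2, S.F.coeff) →* GLk := (pairGroup a b).subtype.comp Φ.symm.toMonoidHom
  have hrep : ∀ A, S.F.Rep (φ A) A := fun A => by
    have h := hψ' (Φ.symm A)
    rwa [show ψ (Φ.symm A) = A from Φ.apply_symm_apply A] at h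
  have hmem : ∀ A, φ A ∈ pairGroup a b := fun A => (Φ.symm A).2
  have hφinj : Function.Injective φ := fun x y h => Φ.symm.injective (Subtype.ext h)
  have hup : ∀ x, φ (up x) ∈ sameActionSubgroup G σ := by
    intro x
    have e : ∀ y, (φ (up y) : 𝔈) = 1 + S.F.upEnd y := fun y =>
      S.F.eq_upEnd (S.fix _ (hmem _)) (hrep _)
    rw [mem_sameAction_iff hσ, e, add_sub_cancel_left]
    refine ⟨⟨S.F.upEnd_sq x, fun c u hu => ?_⟩, (S.F.range_upEnd_le x).trans S.V_eq.ge, fun m hm => ?_⟩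
    · rw [show u = φ (up (c • x)) from Units.ext (by rw [hu, e, S.F.smul_upEnd])]
      exact S.le (hmem _)
    · rw [LinearMap.mem_ker] at hm ⊢
      have hd := S.F.decomp m
      have e0 : a (S.F.emb (S.F.proj m)) = 0 := by
        have := S.a_M₀ _ hd.1
        rwa [map_sub, hm, zero_sub, neg_eq_zero] at this
      rw [show m = (m - S.F.emb (S.F.proj m)) + S.F.emb (S.F.proj m) by abel, map_add,
        S.F.upEnd_M₀ x hd.1, zero_add]
      rcases hp : S.F.proj m with ⟨p, q⟩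
      rw [hp, S.F.a_emb, LinearMap.map_eq_zero_iff _ S.F.emb_injective] at e0
      rw [S.F.upEnd_emb, show q = 0 from congrArg Prod.fst e0]
      simp [Prod.mk_zero_zero]
  have hlo : ∀ x, φ (lo x) ∈ sameActionSubgroup G τ := by
    intro x
    have e : ∀ y, (φ (lo y) : 𝔈) = 1 + S.F.loEnd y := fun y =>
      S.F.eq_loEnd (S.fix _ (hmem _)) (hrep _)
    rw [mem_sameAction_iff hτ, e, add_sub_cancel_left]
    refine ⟨⟨S.F.loEnd_sq x, fun c u hu => ?_⟩, ?_, fun m hm => ?_⟩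
    · rw [show u = φ (lo (c • x)) from Units.ext (by rw [hu, e, S.F.smul_loEnd])]
      exact S.le (hmem _)
    · rintro _ ⟨m, rfl⟩
      rw [S.W_eq]
      simp [Frame.loEnd, Frame.emb_apply]
    · rw [LinearMap.mem_ker] at hm ⊢
      have hd := S.F.decomp m
      have e0 : b (S.F.emb (S.F.proj m)) = 0 := by
        have := S.b_M₀ _ hd.1
        rwa [map_sub, hm, zero_sub, neg_eq_zero] at this
      rw [show m = (m - S.F.emb (S.F.proj m)) + S.F.emb (S.F.proj m) by abel, map_add,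
        S.F.loEnd_M₀ x hd.1, zero_add]
      rcases hp : S.F.proj m with ⟨p, q⟩
      rw [hp, S.F.b_emb, LinearMap.map_eq_zero_iff _ S.F.emb_injective] at e0
      have hx : p = 0 := (S.F.aRes_injective.comp S.F.bRes_injective)
        (show S.F.lamEnd p = S.F.lamEnd 0 by rw [map_zero]; exact congrArg Prod.snd e0)
      rw [S.F.loEnd_emb, hx]
      simp [Prod.mk_zero_zero]
  refine ⟨(upperUnipotentSL2 S.F.coeff).map φ, (lowerUnipotentSL2 S.F.coeff).map φ, ?_, ?_,
    S.F.coeff, inst, ?_, φ, ?_, ?_, rfl, rfl⟩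
  · rintro _ ⟨g, hg, rfl⟩
    obtain ⟨x, rfl⟩ := CfsgLib.Trans3.PairOver.mem_upper.1 hg
    exact hup x
  · rintro _ ⟨g, hg, rfl⟩
    obtain ⟨x, rfl⟩ := CfsgLib.Trans3.PairOver.mem_lower.1 hg
    exact hlo x
  · exact (three_lt_card h2 hk).trans_le
      (ENat.card_le_card_of_injective (algebraMap k S.F.coeff).injective)
  · rw [← Subgroup.map_sup, CfsgLib.Trans3.PairOver.sup_eq_top, MonoidHom.range_eq_map]
  · rw [(MonoidHom.ker_eq_bot_iff φ).2 hφinj]; exact bot_le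

end CfsgLib.PLocal.QPair
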