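import Cfsg.Agent.Lib.PLocal.QPairSL

/-!
# Quadratic pairs: generation of `SL₂` of a monogenic algebra over an infinite field

If `R = k[λ]` with `λ` a unit and `k` infinite, the subgroup generated by the upper transvections
with entries in `k` and the lower ones with entries in `kλ` contains all upper transvections.
The required element with vanishing lower right entry is found by orthogonal polynomials.
-/

set_option autoImplicit false

namespace CfsgLib.PLocal.QPair

open scoped MatrixGroups
open Polynomial (X C)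

variable {k : Type*} [Field k]

/-- A determinant which is non-zero at the start of a line vanishes at finitely many of its points. -/
theorem finite_det_line {m : Type*} [Fintype m] [DecidableEq m] (A B : Matrix m m k) (hA : A.det ≠ 0) :
    {t : k | (A + t • B).det = 0}.Finite := by
  classical
  set P := (A.map (C : k → Polynomial k) + (X : Polynomial k) • B.map (C : k → Polynomial k)).det
  have hev : ∀ t : k, P.eval t = (A + t • B).det := by
    intro t
    show Polynomial.evalRingHom t P = _
    rw [RingHom.map_det]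
    congr 1
    ext i j
    simp
    ring
  have hP : P ≠ 0 := fun h => hA (by simpa [h] using (hev 0).symm)
  refine (P.roots.toFinset.finite_toSet).subset fun t ht => ?_
  rw [Finset.mem_coe, Multiset.mem_toFinset, Polynomial.mem_roots hP, Polynomial.IsRoot, hev]
  exact ht

/-- Finitely many non-trivial determinant conditions on a vector space have a common solution. -/
theorem exists_common_det [Infinite k] {R : Type*} [AddCommGroup R] [Module k R] {ι : Type*}
    (s : Finset ι) (m : ι → ℕ) (L : ∀ i, R →ₗ[k] Matrix (Fin (m i)) (Fin (m i)) k)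
    (h : ∀ i ∈ s, ∃ w, (L i w).det ≠ 0) : ∃ w, ∀ i ∈ s, (L i w).det ≠ 0 := by
  classical
  induction s using Finset.induction_on with
  | empty => exact ⟨0, by simp⟩
  | @insert i s hi ih =>
    obtain ⟨w₀, hw₀⟩ := ih fun j hj => h j (Finset.mem_insert_of_mem hj)
    obtain ⟨w₁, hw₁⟩ := h i (Finset.mem_insert_self i s)
    have hfi : {t : k | (L i w₁ + t • L i (w₀ - w₁)).det = 0}.Finite := finite_det_line _ _ hw₁
    have hfs : (⋃ j ∈ s, {t : k | (L j w₀ + t • L j (w₁ - w₀)).det = 0}).Finite :=
      s.finite_toSet.biUnion fun j hj => finite_det_line _ _ (hw₀ j hj)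
    obtain ⟨t, ht⟩ := (hfs.union ((hfi.image fun t => 1 - t))).infinite_compl.nonempty
    simp only [Set.mem_compl_iff, Set.mem_union, Set.mem_iUnion, Set.mem_image, not_or] at ht
    refine ⟨w₀ + t • (w₁ - w₀), fun j hj => ?_⟩
    rw [map_add, map_smul]
    rcases Finset.mem_insert.1 hj with rfl | hj
    · intro he
      refine ht.2 ⟨1 - t, ?_, by ring⟩
      show (L j w₁ + (1 - t) • L j (w₀ - w₁)).det = 0
      rw [← he]
      congr 1
      rw [map_sub, map_sub]
      module
    · intro he
      exact ht.1 ⟨j, hj, he⟩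

variable {R : Type*} [CommRing R] [Algebra k R] {n : ℕ} (bas : Module.Basis (Fin n) k R) (lam : R)

/-- The last coordinate. -/
noncomputable def topC : R →ₗ[k] k :=
  if h : 0 < n then bas.coord ⟨n - 1, by omega⟩ else 0

/-- The Hankel matrix of `x ↦ topC (λ^σ x w)`. -/
noncomputable def hankel (i σ : ℕ) : R →ₗ[k] Matrix (Fin i) (Fin i) k :=
  LinearMap.pi fun r => LinearMap.pi fun s =>
    (topC bas).comp (LinearMap.mulLeft k (lam ^ ((r : ℕ) + (s : ℕ) + σ)))

theorem hankel_apply (i σ : ℕ) (w : R) (r s : Fin i) :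
    hankel bas lam i σ w r s = topC bas (lam ^ ((r : ℕ) + (s : ℕ) + σ) * w) := rfl

/-- The span of the powers of `λ` below `i`. -/
def powSpan (i : ℕ) : Submodule k R := Submodule.span k (Set.range fun j : Fin i => lam ^ (j : ℕ))

theorem pow_mem_powSpan {i j : ℕ} (h : j < i) : lam ^ j ∈ powSpan (k := k) lam i :=
  Submodule.subset_span ⟨⟨j, h⟩, rfl⟩

theorem powSpan_mono {i j : ℕ} (h : i ≤ j) : powSpan (k := k) lam i ≤ powSpan lam j := by
  refine Submodule.span_le.2 ?_
  rintro _ ⟨r, rfl⟩
  exact pow_mem_powSpan lam (by omega)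

theorem mul_mem_powSpan {i : ℕ} {x : R} (hx : x ∈ powSpan (k := k) lam i) :
    lam * x ∈ powSpan (k := k) lam (i + 1) := by
  have : (powSpan (k := k) lam i).map (LinearMap.mulLeft k lam) ≤ powSpan lam (i + 1) := by
    rw [powSpan, Submodule.map_span, Submodule.span_le]
    rintro _ ⟨_, ⟨r, rfl⟩, rfl⟩
    rw [LinearMap.mulLeft_apply, ← pow_succ']
    exact pow_mem_powSpan lam (by omega)
  exact this ⟨x, hx, rfl⟩

/-- Non-degeneracy of a Hankel matrix in terms of the span of powers. -/
theorem eq_zero_of_hankel {i σ : ℕ} {w : R} (h : (hankel bas lam i σ w).det ≠ 0) {x : R}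
    (hx : x ∈ powSpan (k := k) lam i) (h0 : ∀ r < i, topC bas (x * lam ^ (r + σ) * w) = 0) : x = 0 := by
  obtain ⟨c, rfl⟩ := (Submodule.mem_span_range_iff_exists_fun k).1 hx
  have hc : c = 0 := Matrix.eq_zero_of_mulVec_eq_zero h (funext fun r => by
    rw [Pi.zero_apply, ← h0 r r.2, Finset.sum_mul, Finset.sum_mul, map_sum]
    simp only [Matrix.mulVec, dotProduct]
    refine Finset.sum_congr rfl fun s _ => ?_
    rw [hankel_apply, smul_mul_assoc, smul_mul_assoc, map_smul, smul_eq_mul, ← pow_add,
      mul_comm (c s), show (s : ℕ) + ((r : ℕ) + σ) = (r : ℕ) + (s : ℕ) + σ by ring])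
  simp [hc]

variable (hbas : ∀ i : Fin n, bas i = lam ^ (i : ℕ))

include hbas

theorem powSpan_top : powSpan (k := k) lam n = ⊤ := by
  rw [eq_top_iff, ← bas.span_eq]
  refine Submodule.span_le.2 ?_
  rintro _ ⟨i, rfl⟩
  rw [hbas]
  exact pow_mem_powSpan lam i.2

/-- Orthogonality to the low powers kills the high coordinates. -/
theorem repr_eq_zero (m : ℕ) (x : R) (h : ∀ j, j < m → j < n → topC bas (lam ^ j * x) = 0) :
    ∀ d : ℕ, ∀ r : Fin n, n - 1 - (r : ℕ) = d → d < m → bas.repr x r = 0 := by
  intro d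
  induction d using Nat.strong_induction_on with
  | _ d ih =>
    intro r hr hd
    have hn : 0 < n := by have := r.2; omega
    have hdn : d < n := by omega
    have h' := h d hd hdn
    rw [← bas.sum_repr x, Finset.mul_sum, map_sum, Finset.sum_eq_single r] at h'
    · rw [mul_smul_comm, map_smul, hbas, ← pow_add, show d + (r : ℕ) = n - 1 by omega,
        show lam ^ (n - 1) = bas ⟨n - 1, by omega⟩ from by rw [hbas], topC, dif_pos hn,
        Module.Basis.coord_apply, Module.Basis.repr_self, Finsupp.single_eq_same, smul_eq_mul,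
        mul_one] at h'
      exact h'
    · intro s _ hs
      rcases lt_or_ge ((s : ℕ)) (r : ℕ) with hlt | hge
      · rw [mul_smul_comm, map_smul, hbas, ← pow_add,
          show lam ^ (d + (s : ℕ)) = bas ⟨d + s, by omega⟩ from by rw [hbas], topC, dif_pos hn,
          Module.Basis.coord_apply, Module.Basis.repr_self,
          Finsupp.single_eq_of_ne (by intro e; simp [Fin.ext_iff] at e; omega), smul_zero]
      · have hlt : (r : ℕ) < s := lt_of_le_of_ne hge fun e => hs (Fin.ext e).symm
        rw [ih (n - 1 - s) (by omega) s rfl (by omega), zero_smul, mul_zero, map_zero]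
    · intro hn'; exact absurd (Finset.mem_univ r) hn'

theorem eq_zero_of_top {x : R} (h : ∀ j < n, topC bas (lam ^ j * x) = 0) : x = 0 := by
  apply bas.repr.injective
  rw [map_zero]
  ext r
  exact repr_eq_zero bas lam hbas n x (fun j hj _ => h j hj) _ r rfl (by have := r.2; omega)

theorem eq_smul_one_of_top (hn : 0 < n) {x : R}
    (h : ∀ j, j + 1 < n → topC bas (lam ^ j * x) = 0) : x = bas.repr x ⟨0, hn⟩ • 1 := by
  conv_lhs => rw [← bas.sum_repr x]
  rw [Finset.sum_eq_single (⟨0, hn⟩ : Fin n)]
  · rw [hbas]; simp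
  · intro s _ hs
    have h0 : (s : ℕ) ≠ 0 := fun e => hs (Fin.ext e)
    rw [repr_eq_zero bas lam hbas (n - 1) x (fun j hj _ => h j (by omega)) _ s rfl
      (by have := s.2; omega), zero_smul]
  · intro h'; exact absurd (Finset.mem_univ _) h'

/-- A functional with prescribed values on the basis is `x ↦ topC (x w)`. -/
theorem exists_prescribed (f : Fin n → k) :
    ∃ w : R, ∀ j : Fin n, topC bas (lam ^ (j : ℕ) * w) = f j := by
  have : FiniteDimensional k R := .of_basis bas
  set Φ : R →ₗ[k] (Fin n → k) :=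
    LinearMap.pi fun j => (topC bas).comp (LinearMap.mulLeft k (lam ^ (j : ℕ)))
  have hinj : Function.Injective Φ := LinearMap.ker_eq_bot.1 (LinearMap.ker_eq_bot'.2 fun x hx =>
    eq_zero_of_top bas lam hbas fun j hj => congrFun hx ⟨j, hj⟩)
  obtain ⟨w, hw⟩ := (LinearMap.injective_iff_surjective_of_finrank_eq_finrank
    (by rw [Module.finrank_eq_card_basis bas, Module.finrank_fin_fun, Fintype.card_fin])).1 hinj f
  exact ⟨w, fun j => congrFun hw j⟩

theorem exists_hankel_ne {i σ : ℕ} (hi : i + σ ≤ n) : ∃ w, (hankel bas lam i σ w).det ≠ 0 := by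
  obtain ⟨w, hw⟩ := exists_prescribed bas lam hbas fun j : Fin n => if (j : ℕ) + 1 = i + σ then 1 else 0
  refine ⟨w, fun hdet => ?_⟩
  obtain ⟨c, hc0, hc⟩ := Matrix.exists_mulVec_eq_zero_iff.2 hdet
  refine hc0 (funext fun s => ?_)
  suffices H : ∀ d : ℕ, ∀ s : Fin i, i - 1 - (s : ℕ) = d → c s = 0 from H _ s rfl
  intro d
  induction d using Nat.strong_induction_on with
  | _ d ih =>
    intro s hs
    have hd : d < i := by have := s.2; omega
    have h' := congrFun hc ⟨d, hd⟩
    rw [Matrix.mulVec, Pi.zero_apply] at h'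
    simp only [dotProduct] at h'
    rw [Finset.sum_eq_single s] at h'
    · rw [hankel_apply] at h'
      have e : d + (s : ℕ) + σ < n := by have := s.2; omega
      have := hw ⟨d + s + σ, e⟩
      simp only at this
      rw [if_pos (by have := s.2; omega)] at this
      simp only at h'
      rwa [this, one_mul] at h'
    · intro t _ ht
      rcases lt_or_ge (t : ℕ) (s : ℕ) with hlt | hge
      · rw [hankel_apply]
        have e : d + (t : ℕ) + σ < n := by have := t.2; omega
        have := hw ⟨d + t + σ, e⟩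
        simp only at this
        rw [if_neg (by omega)] at this
        simp only
        rw [this, zero_mul]
      · have hlt : (s : ℕ) < t := lt_of_le_of_ne hge fun e => ht (Fin.ext e).symm
        rw [ih (i - 1 - t) (by have := t.2; omega) t rfl, mul_zero]
    · intro h''; exact absurd (Finset.mem_univ s) h''

/-- A good `w` gives an element with vanishing lower right entry. -/
theorem exists_turn {w : R} (hn : 0 < n) (hlam : IsUnit lam) (hw : IsUnit w)
    (hA : ∀ i ≤ n, (hankel bas lam i 0 w).det ≠ 0) (hB : ∀ i < n, (hankel bas lam i 1 w).det ≠ 0)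
    (Γ : Subgroup SL(2, R)) (hu : ∀ c : k, up (c • (1 : R)) ∈ Γ) (hl : ∀ c : k, lo (c • lam) ∈ Γ) :
    ∃ g ∈ Γ, (g : Matrix (Fin 2) (Fin 2) R) 1 1 = 0 ∧ ∃ c : k, c ≠ 0 ∧
      (g : Matrix (Fin 2) (Fin 2) R) 1 0 * w = c • 1 := by
  let φ : R → k := fun x => topC bas (x * w)
  have φadd : ∀ x y : R, φ (x + y) = φ x + φ y := fun x y => by simp [φ, add_mul]
  have φsmul : ∀ (c : k) (x : R), φ (c • x) = c * φ x := fun c x => by simp [φ]
  have hndA : ∀ i ≤ n, ∀ x ∈ powSpan (k := k) lam i, (∀ r < i, φ (x * lam ^ r) = 0) → x = 0 :=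
    fun i hi x hx h => eq_zero_of_hankel bas lam (hA i hi) hx fun r hr => h r hr
  have hndB : ∀ i ≤ n, ∀ x ∈ powSpan (k := k) lam i, (∀ r < i, φ (x * lam ^ (r + 1)) = 0) →
      x = 0 := by
    intro i hi x hx h
    rcases hi.lt_or_eq with hi' | rfl
    · exact eq_zero_of_hankel bas lam (hB i hi') hx fun r hr => h r hr
    · have : x * lam * w = 0 := eq_zero_of_top bas lam hbas fun j hj => by
        have h' := h j hj
        simp only [φ] at h'
        rw [show lam ^ j * (x * lam * w) = x * lam ^ (j + 1) * w by ring]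
        exact h'
      exact hlam.mul_left_eq_zero.1 (hw.mul_left_eq_zero.1 this)
  have main : ∀ i, i ≤ n → 1 ≤ i → ∃ g ∈ Γ, ∃ e y : R, e ∈ powSpan (k := k) lam i ∧
      y ∈ powSpan (k := k) lam i ∧ (g : Matrix (Fin 2) (Fin 2) R) 1 0 = lam * e ∧
      (g : Matrix (Fin 2) (Fin 2) R) 1 1 = 1 + lam * y ∧
      (∀ r, r + 1 < i → φ (e * lam ^ (r + 1)) = 0) ∧ φ e = 1 ∧
      (∀ r < i, φ ((1 + lam * y) * lam ^ r) = 0) := by
    intro i
    induction i with
    | zero => intro _ h; omega
    | succ i ih =>
      intro hi _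
      -- the vector to improve
      obtain ⟨g, hg, e, y, he, hy, g10, g11, oe, ne, od⟩ : ∃ g ∈ Γ, ∃ e y : R,
          e ∈ powSpan (k := k) lam i ∧ y ∈ powSpan (k := k) lam i ∧
          (g : Matrix (Fin 2) (Fin 2) R) 1 0 = lam * e ∧
          (g : Matrix (Fin 2) (Fin 2) R) 1 1 = 1 + lam * y ∧
          (∀ r, r + 1 < i → φ (e * lam ^ (r + 1)) = 0) ∧ φ e = (if i = 0 then 0 else 1) ∧
          (∀ r < i, φ ((1 + lam * y) * lam ^ r) = 0) := by
        rcases Nat.eq_zero_or_pos i with rfl | hpos
        · exact ⟨1, one_mem Γ, 0, 0, zero_mem _, zero_mem _, by simp, by simp,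
            fun r hr => by omega, by simp [φ], fun r hr => by omega⟩
        · obtain ⟨g, hg, e, y, h1, h2, h3, h4, h5, h6, h7⟩ := ih (by omega) hpos
          exact ⟨g, hg, e, y, h1, h2, h3, h4, h5, by rw [if_neg (by omega)]; exact h6, h7⟩
      set d := 1 + lam * y with hd
      have hdmem : d ∈ powSpan (k := k) lam (i + 1) := add_mem (by
        simpa using pow_mem_powSpan (k := k) lam (show 0 < i + 1 by omega)) (mul_mem_powSpan lam hy)
      have hd0 : d ≠ 0 := by
        intro h0
        obtain ⟨c, hc⟩ := (Submodule.mem_span_range_iff_exists_fun k).1 hy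
        have hr := congrArg (fun z => bas.repr z ⟨0, hn⟩) h0
        rw [hd, ← hc, Finset.mul_sum, map_add, map_sum, Finsupp.add_apply, Finsupp.finset_sum_apply,
          Finset.sum_eq_zero, show (1 : R) = bas ⟨0, hn⟩ by rw [hbas]; simp] at hr
        · simp at hr
        · intro s _
          rw [mul_smul_comm, ← pow_succ',
            show lam ^ ((s : ℕ) + 1) = bas ⟨s + 1, by omega⟩ from by rw [hbas]]
          simp [Fin.ext_iff]
      have hpiv : φ (d * lam ^ i) ≠ 0 := fun h0 => hd0 (hndA (i + 1) hi d hdmem fun r hr => by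
        rcases Nat.lt_succ_iff_lt_or_eq.1 hr with h | h
        · exact od r h
        · exact h ▸ h0)
      -- raise the lower left entry
      obtain ⟨t, ht⟩ : ∃ t : k, t * φ (d * lam ^ i) = (if i = 0 then 1 else -φ (e * lam ^ i)) :=
        ⟨(if i = 0 then 1 else -φ (e * lam ^ i)) / φ (d * lam ^ i), by field_simp⟩
      set e' := e + t • d with he'
      have he'mem : e' ∈ powSpan (k := k) lam (i + 1) :=
        add_mem (powSpan_mono lam (by omega) he) (Submodule.smul_mem _ t hdmem)
      have oe' : ∀ r, r + 1 < i + 1 → φ (e' * lam ^ (r + 1)) = 0 := by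
        intro r hr
        rw [he', add_mul, smul_mul_assoc, φadd, φsmul]
        rcases (Nat.lt_succ_iff.1 hr).lt_or_eq with h | h
        · rw [oe r h, od (r + 1) h, mul_zero, add_zero]
        · rw [h, ht, if_neg (by omega), add_neg_cancel]
      have ne' : φ e' = 1 := by
        rw [he', φadd, φsmul, ne]
        rcases Nat.eq_zero_or_pos i with h | h
        · subst h
          simp only [pow_zero, mul_one, if_true] at ht ⊢
          rw [ht, zero_add]
        · rw [if_neg (by omega), show φ d = 0 by simpa using od 0 h, mul_zero, add_zero]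
      -- raise the lower right entry
      have hpiv' : φ (e' * lam ^ (i + 1)) ≠ 0 := fun h0 => by
        have := hndB (i + 1) hi e' he'mem fun r hr => by
          rcases Nat.lt_succ_iff_lt_or_eq.1 hr with h | h
          · exact oe' r (by omega)
          · exact h ▸ h0
        rw [this] at ne'
        simp [φ] at ne'
      obtain ⟨s, hs⟩ : ∃ s : k, s * φ (e' * lam ^ (i + 1)) = -φ (d * lam ^ i) :=
        ⟨-φ (d * lam ^ i) / φ (e' * lam ^ (i + 1)), by field_simp⟩
      refine ⟨g * lo (t • lam) * up (s • 1), mul_mem (mul_mem hg (hl t)) (hu s), e',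
        y + s • e', he'mem, add_mem (powSpan_mono lam (by omega) hy) (Submodule.smul_mem _ s he'mem),
        ?_, ?_, oe', ne', ?_⟩
      · rw [(mul_up_row _ _).1, (mul_lo_row _ _).1, g10, g11, he', hd]
        simp only [Algebra.smul_def]; ring
      · rw [(mul_up_row _ _).2, (mul_lo_row _ _).2, (mul_lo_row _ _).1, g10, g11, he', hd]
        simp only [Algebra.smul_def]; ring
      · intro r hr
        rw [show (1 + lam * (y + s • e')) * lam ^ r = d * lam ^ r + s • (e' * lam ^ (r + 1)) by
          rw [hd]; simp only [Algebra.smul_def]; ring, φadd, φsmul]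
        rcases Nat.lt_succ_iff_lt_or_eq.1 hr with h | h
        · rw [od r h, oe' r (by omega), mul_zero, add_zero]
        · rw [h, hs, add_neg_cancel]
  obtain ⟨g, hg, e, y, -, -, g10, g11, oe, ne, od⟩ := main n le_rfl hn
  have hd : (1 + lam * y) * w = 0 := eq_zero_of_top bas lam hbas fun j hj => by
    have h' := od j hj
    simp only [φ] at h'
    rw [show lam ^ j * ((1 + lam * y) * w) = (1 + lam * y) * lam ^ j * w by ring]
    exact h'
  have hd' : (g : Matrix (Fin 2) (Fin 2) R) 1 1 = 0 := by
    rw [g11]; exact hw.mul_left_eq_zero.1 hd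
  have hx : lam * e * w = bas.repr (lam * e * w) ⟨0, hn⟩ • 1 :=
    eq_smul_one_of_top bas lam hbas hn fun j hj => by
      have h' := oe j hj
      simp only [φ] at h'
      rw [show lam ^ j * (lam * e * w) = e * lam ^ (j + 1) * w by ring]
      exact h'
  refine ⟨g, hg, hd', bas.repr (lam * e * w) ⟨0, hn⟩, fun h0 => ?_, by rw [g10]; exact hx⟩
  rw [h0, zero_smul] at hx
  have hdet := det_eq g
  rw [hd', mul_zero, zero_sub, g10, hw.mul_left_eq_zero.1 hx, mul_zero, neg_zero] at hdet
  have h1 : φ e = 0 := by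
    show topC bas (e * w) = 0
    rw [show e * w = (1 : R) * (e * w) from (one_mul _).symm, ← hdet, zero_mul, map_zero]
  rw [h1] at ne
  exact zero_ne_one ne

/-- Over an infinite field all upper transvections are reached. -/
theorem up_mem_of_infinite [Infinite k] (h2 : (2 : k) ≠ 0) (hlam : IsUnit lam)
    (Γ : Subgroup SL(2, R)) (hu : ∀ c : k, up (c • (1 : R)) ∈ Γ) (hl : ∀ c : k, lo (c • lam) ∈ Γ)
    (r : R) : up r ∈ Γ := by
  classical
  rcases Nat.eq_zero_or_pos n with hn | hn
  · have : IsEmpty (Fin n) := by rw [hn]; infer_instance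
    have : Subsingleton R := bas.repr.injective.subsingleton
    rw [Subsingleton.elim r 0, up_zero]; exact one_mem Γ
  have : FiniteDimensional k R := .of_basis bas
  let m : Option (Fin (n + 1) × Bool) → ℕ := fun o =>
    match o with
    | none => n
    | some (i, false) => i
    | some (i, true) => (i : ℕ) - 1
  let L : ∀ o, R →ₗ[k] Matrix (Fin (m o)) (Fin (m o)) k := fun o =>
    match o with
    | none => (Algebra.leftMulMatrix bas).toLinearMap
    | some (i, false) => hankel bas lam i 0
    | some (i, true) => hankel bas lam ((i : ℕ) - 1) 1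
  obtain ⟨w₀, hw₀⟩ := exists_common_det Finset.univ m L (by
    rintro (_ | ⟨i, _ | _⟩) -
    · exact ⟨1, by simp [L, m]⟩
    · exact exists_hankel_ne bas lam hbas (by omega)
    · exact exists_hankel_ne bas lam hbas (by show (i : ℕ) - 1 + 1 ≤ n; omega))
  have hunit : ∀ x : R, (Algebra.leftMulMatrix bas x).det ≠ 0 → IsUnit x := by
    intro x hx
    have hinj : Function.Injective (LinearMap.mulLeft k x) := by
      refine LinearMap.ker_eq_bot.1 (LinearMap.ker_eq_bot'.2 fun y hy => ?_)
      have h := Algebra.leftMulMatrix_mulVec_repr bas x y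
      rw [show x * y = 0 from hy, map_zero, Finsupp.coe_zero] at h
      exact bas.repr.injective (by
        rw [map_zero]; exact Finsupp.ext fun i => congrFun (Matrix.eq_zero_of_mulVec_eq_zero hx h) i)
    obtain ⟨y, hy⟩ := LinearMap.injective_iff_surjective.1 hinj 1
    exact IsUnit.of_mul_eq_one y hy
  set V : Submodule k R := ⨆ (W : Submodule k R) (_ : ∀ z ∈ W, up z ∈ Γ), W
  have hV : ∀ z ∈ V, up z ∈ Γ := by
    intro z hz
    have key : ∀ z ∈ V, z ∈ upSet Γ := by
      intro z hz
      refine Submodule.iSup_induction _ (motive := fun z => z ∈ upSet Γ) hz (fun W z hz => ?_)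
        (zero_mem _) (fun x y hx hy => add_mem hx hy)
      by_cases hW : ∀ z ∈ W, up z ∈ Γ
      · rw [iSup_pos hW] at hz; exact hW z hz
      · rw [iSup_neg hW, Submodule.mem_bot] at hz; rw [hz]; exact zero_mem _
    exact key z hz
  have hgood : ∀ w : R, (∀ o, (L o w).det ≠ 0) → lam * (w * w) ∈ V := by
    intro w hw
    obtain ⟨g, hg, g11, c, hc, g10⟩ := exists_turn bas lam hbas hn hlam (hunit w (hw none))
      (fun i hi => hw (some (⟨i, by omega⟩, false)))
      (fun i hi => hw (some (⟨i + 1, by omega⟩, true))) Γ hu hl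
    have hall : ∀ t : k, up (t • (lam * (w * w))) ∈ Γ := by
      intro t
      have h := mul_mem (mul_mem hg (hl (-(t * c ^ 2)))) (inv_mem hg)
      rw [conj_lo_apply g _ g11] at h
      have hdet := det_eq g
      rw [g11, mul_zero, zero_sub] at hdet
      convert h using 2
      have hb : c • (g : Matrix (Fin 2) (Fin 2) R) 0 1 = -w := by
        rw [Algebra.smul_def, Algebra.algebraMap_eq_smul_one, ← g10]
        linear_combination -w * hdet
      rw [show w * w = (c • (g : Matrix (Fin 2) (Fin 2) R) 0 1) ^ 2 by rw [hb]; ring]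
      simp only [Algebra.smul_def, map_neg, map_mul, map_pow]
      ring
    refine Submodule.mem_iSup_of_mem (Submodule.span k {lam * (w * w)}) (Submodule.mem_iSup_of_mem ?_
      (Submodule.mem_span_singleton_self _))
    intro z hz
    obtain ⟨t, rfl⟩ := Submodule.mem_span_singleton.1 hz
    exact hall t
  have hline : ∀ δ : R, lam * w₀ * δ ∈ V := by
    intro δ
    have hbad : (⋃ o ∈ (Finset.univ : Finset (Option (Fin (n + 1) × Bool))),
        {t : k | (L o w₀ + t • L o δ).det = 0}).Finite :=
      Finset.univ.finite_toSet.biUnion fun o ho => finite_det_line _ _ (hw₀ o ho)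
    obtain ⟨t₁, ht₁⟩ := hbad.infinite_compl.nonempty
    obtain ⟨t₂, ht₂⟩ := (hbad.insert t₁).infinite_compl.nonempty
    obtain ⟨t₃, ht₃⟩ := ((hbad.insert t₁).insert t₂).infinite_compl.nonempty
    simp only [Set.mem_compl_iff, Set.mem_insert_iff, not_or] at ht₂ ht₃
    have hin : ∀ t : k, t ∉ (⋃ o ∈ (Finset.univ : Finset (Option (Fin (n + 1) × Bool))),
        {t : k | (L o w₀ + t • L o δ).det = 0}) →
        lam * (w₀ * w₀) + (2 * t) • (lam * w₀ * δ) + (t * t) • (lam * (δ * δ)) ∈ V := by
      intro t ht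
      have h := hgood (w₀ + t • δ) fun o he => ht (Set.mem_iUnion₂.2 ⟨o, Finset.mem_univ o, by
        show (L o w₀ + t • L o δ).det = 0
        rwa [map_add, map_smul] at he⟩)
      convert h using 1
      simp only [Algebra.smul_def, map_mul, map_ofNat]
      ring
    have d12 := sub_mem (hin t₁ ht₁) (hin t₂ ht₂.2)
    have d13 := sub_mem (hin t₁ ht₁) (hin t₃ ht₃.2.2)
    have hcomb := sub_mem (Submodule.smul_mem V (t₁ * t₁ - t₃ * t₃) d12)
      (Submodule.smul_mem V (t₁ * t₁ - t₂ * t₂) d13)
    have hne : 2 * ((t₁ - t₂) * ((t₁ - t₃) * (t₃ - t₂))) ≠ 0 :=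
      mul_ne_zero h2 (mul_ne_zero (sub_ne_zero.2 (Ne.symm ht₂.1)) (mul_ne_zero
        (sub_ne_zero.2 (Ne.symm ht₃.2.1)) (sub_ne_zero.2 ht₃.1)))
    rw [← Submodule.smul_mem_iff V hne]
    convert hcomb using 1
    module
  obtain ⟨δ, hδ⟩ := (hlam.mul (hunit w₀ (hw₀ none (Finset.mem_univ _)))).dvd (a := r)
  rw [hδ]
  exact hV _ (hline δ)

end CfsgLib.PLocal.QPair
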