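import Cfsg.Agent.Lib.PLocal.QPairSLFinite
import Cfsg.Agent.Lib.PLocal.QPairSLInfinite

/-!
# `SL₂` over a simple algebraic extension is generated by two root groups over the base
-/

set_option autoImplicit false

namespace CfsgLib.PLocal.QPair

open scoped MatrixGroups

theorem gammaK_eq_top_of_field {k L : Type*} [Field k] [Field L] [Algebra k L] [FiniteDimensional k L]
    (h2 : (2 : k) ≠ 0) (hk : Nat.card k ≠ 3) {lam : L} (hlam : lam ≠ 0)
    (hgen : Algebra.adjoin k ({lam} : Set L) = ⊤) {n : ℕ} (bas : Module.Basis (Fin n) k L)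
    (hbas : ∀ i : Fin n, bas i = lam ^ (i : ℕ)) : gammaK k lam = ⊤ := by
  have h2L : (2 : L) ≠ 0 := by
    intro h
    exact h2 ((algebraMap k L).injective (by rw [map_ofNat, map_zero]; exact h))
  rcases finite_or_infinite k with hfin | hinf
  · have : Finite L := Module.finite_of_finite k
    have h3 : 3 < Nat.card k := by
      have : Fintype k := Fintype.ofFinite k
      rw [Nat.card_eq_fintype_card] at hk ⊢
      have h1 := Fintype.one_lt_card (α := k)
      by_contra hle
      have hc : Fintype.card k = 2 := by omega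
      apply h2
      have := FiniteField.cast_card_eq_zero k
      rw [hc] at this
      exact_mod_cast this
    exact closure_eq_top h2L h3 hlam hgen _ (up_mem_gammaK k lam) (lo_mem_gammaK k lam)
  · have hlu : IsUnit lam := isUnit_iff_ne_zero.2 hlam
    have hup : ∀ r : L, up r ∈ gammaK k lam :=
      up_mem_of_infinite bas lam hbas h2 hlu _ (up_mem_gammaK k lam) (lo_mem_gammaK k lam)
    refine eq_top_of_up_lo _ hup fun r => ?_
    have h := gammaK_swap k hlu.unit (hup (lam⁻¹ * r))
    rw [swapHom_up, IsUnit.unit_spec, ← mul_assoc, mul_inv_cancel₀ hlam, one_mul] at h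
    exact h

/-- The adjunction form. -/
theorem closure_adjoin_simple {k K : Type*} [Field k] [Field K] [Algebra k K] (h2 : (2 : k) ≠ 0)
    (hk : Nat.card k ≠ 3) {α : K} (hα : IsAlgebraic k α) (hα0 : α ≠ 0) (g : SL(2, K)) :
    g ∈ Subgroup.closure ({g : SL(2, K) | ∃ c : k, (g : Matrix (Fin 2) (Fin 2) K) = !![1, algebraMap k K c; 0, 1]} ∪
        {g : SL(2, K) | ∃ c : k, (g : Matrix (Fin 2) (Fin 2) K) = !![1, 0; algebraMap k K c * α, 1]}) ↔
      ∀ i j : Fin 2, (g : Matrix (Fin 2) (Fin 2) K) i j ∈ IntermediateField.adjoin k ({α} : Set K) := by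
  have : FiniteDimensional k (IntermediateField.adjoin k ({α} : Set K)) :=
    IntermediateField.adjoin.finiteDimensional hα.isIntegral
  obtain ⟨pb, hgen⟩ : ∃ pb : PowerBasis k (IntermediateField.adjoin k ({α} : Set K)), (pb.gen : K) = α :=
    ⟨IntermediateField.adjoin.powerBasis hα.isIntegral, rfl⟩
  have htop : gammaK k pb.gen = ⊤ := gammaK_eq_top_of_field h2 hk
    (fun h => hα0 (by rw [← hgen, h]; rfl)) pb.adjoin_gen_eq_top pb.basis (fun i => pb.basis_eq_pow i)
  constructor
  · intro hg
    have hle : ∀ x ∈ Subgroup.closure ({g : SL(2, K) | ∃ c : k, (g : Matrix (Fin 2) (Fin 2) K) = !![1, algebraMap k K c; 0, 1]} ∪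
        {g : SL(2, K) | ∃ c : k, (g : Matrix (Fin 2) (Fin 2) K) = !![1, 0; algebraMap k K c * α, 1]}),
        x ∈ (Matrix.SpecialLinearGroup.map (n := Fin 2)
          (IntermediateField.adjoin k ({α} : Set K)).val.toRingHom).range := by
      refine (Subgroup.closure_le _).2 ?_
      rintro x (⟨c, hc⟩ | ⟨c, hc⟩)
      · refine ⟨up (c • 1), Subtype.ext ?_⟩
        rw [hc]; ext i j; fin_cases i <;> fin_cases j <;> simp [up_coe, Algebra.smul_def]
      · refine ⟨lo (c • pb.gen), Subtype.ext ?_⟩
        rw [hc]; ext i j; fin_cases i <;> fin_cases j <;> simp [lo_coe, Algebra.smul_def, hgen]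
    obtain ⟨y, rfl⟩ := hle g hg
    intro i j
    exact (y.1 i j).2
  · intro hg
    obtain ⟨y, rfl⟩ : ∃ y, Matrix.SpecialLinearGroup.map (n := Fin 2)
        (IntermediateField.adjoin k ({α} : Set K)).val.toRingHom y = g := by
      refine ⟨⟨Matrix.of fun i j => ⟨_, hg i j⟩, ?_⟩, Subtype.ext (by ext i j; rfl)⟩
      refine (IntermediateField.adjoin k ({α} : Set K)).val.toRingHom.injective ?_
      rw [RingHom.map_det, map_one]
      exact g.2
    have hy : y ∈ gammaK k pb.gen := htop ▸ Subgroup.mem_top y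
    refine (Subgroup.closure_le ((Subgroup.closure _).comap (Matrix.SpecialLinearGroup.map
      (IntermediateField.adjoin k ({α} : Set K)).val.toRingHom))).2 ?_ hy
    rintro _ (⟨c, rfl⟩ | ⟨c, rfl⟩) <;> rw [SetLike.mem_coe, Subgroup.mem_comap] <;>
      refine Subgroup.subset_closure ?_
    · exact Or.inl ⟨c, by ext i j; fin_cases i <;> fin_cases j <;> simp [up_coe, Algebra.smul_def]⟩
    · exact Or.inr ⟨c, by ext i j; fin_cases i <;> fin_cases j <;> simp [lo_coe, Algebra.smul_def, hgen]⟩

end CfsgLib.PLocal.QPair
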