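import Cfsg.Agent.Lib.PLocal.QPairSL
import Cfsg.Agent.Lib.Classical.SLGen
import Cfsg.Agent.S0801

/-!
# Quadratic pairs: transvection subgroups of `SL₂` over a field
-/

set_option autoImplicit false

namespace CfsgLib.PLocal.QPair

open scoped MatrixGroups commutatorElement

variable {K : Type*} [Field K]

theorem eq_top_of_up_lo (H : Subgroup SL(2, K)) (hu : ∀ x, up x ∈ H) (hl : ∀ x, lo x ∈ H) :
    H = ⊤ := by
  refine CfsgLib.Classical.sl_transvection_induction H fun i j hij c => ?_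
  fin_cases i <;> fin_cases j <;> first | exact absurd rfl hij | skip
  · convert hu c using 1
    apply Subtype.ext
    ext a b; fin_cases a <;> fin_cases b <;>
      simp [up_coe, Matrix.SpecialLinearGroup.transvection, Matrix.transvection]
  · convert hl c using 1
    apply Subtype.ext
    ext a b; fin_cases a <;> fin_cases b <;>
      simp [lo_coe, Matrix.SpecialLinearGroup.transvection, Matrix.transvection]

/-- The element interchanging the two root groups. -/
def wy : SL(2, K) := ⟨!![0, 1; -1, 0], by simp [Matrix.det_fin_two_of]⟩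

theorem wy_coe : ((wy : SL(2, K)) : Matrix (Fin 2) (Fin 2) K) = !![0, 1; -1, 0] := rfl

theorem wy_up (x : K) : wy * up x * wy⁻¹ = lo (-x) := by
  rw [mul_inv_eq_iff_eq_mul]
  refine ext4 ?_ ?_ ?_ ?_ <;>
    simp [wy_coe, up_coe, lo_coe, Matrix.SpecialLinearGroup.coe_mul, Matrix.mul_apply, Fin.sum_univ_two]

theorem wy_lo (x : K) : wy * lo x * wy⁻¹ = up (-x) := by
  rw [mul_inv_eq_iff_eq_mul]
  refine ext4 ?_ ?_ ?_ ?_ <;>
    simp [wy_coe, up_coe, lo_coe, Matrix.SpecialLinearGroup.coe_mul, Matrix.mul_apply, Fin.sum_univ_two]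

/-- The diagonal element. -/
def dg (t : Kˣ) : SL(2, K) := ⟨!![(t : K), 0; 0, ((t⁻¹ : Kˣ) : K)], by simp [Matrix.det_fin_two_of]⟩

theorem dg_coe (t : Kˣ) :
    (dg t : Matrix (Fin 2) (Fin 2) K) = !![(t : K), 0; 0, ((t⁻¹ : Kˣ) : K)] := rfl

theorem dg_one : dg (1 : Kˣ) = 1 := by
  refine ext4 ?_ ?_ ?_ ?_ <;> simp [dg_coe]

theorem dg_mul (s t : Kˣ) : dg (s * t) = dg s * dg t := by
  refine ext4 ?_ ?_ ?_ ?_ <;>
    simp [dg_coe, Matrix.SpecialLinearGroup.coe_mul, Matrix.mul_apply, Fin.sum_univ_two, mul_comm]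

theorem dg_up (t : Kˣ) (x : K) : dg t * up x * (dg t)⁻¹ = up ((t : K) ^ 2 * x) := by
  rw [mul_inv_eq_iff_eq_mul]
  refine ext4 ?_ ?_ ?_ ?_ <;>
    simp [dg_coe, up_coe, Matrix.SpecialLinearGroup.coe_mul, Matrix.mul_apply, Fin.sum_univ_two]
  field_simp

theorem exists_sq_sub {F : Type*} [Field F] (h2 : (2 : F) ≠ 0) (x : F) :
    ∃ s t : F, x = s ^ 2 - t ^ 2 :=
  ⟨(x + 1) / 2, (x - 1) / 2, by field_simp; ring⟩

/-- A normal subgroup containing a non-central element is everything. -/
theorem normal_eq_top {a : K} (ha : a ≠ 0) (ha2 : a ^ 2 ≠ 1)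
    (N : Subgroup SL(2, K)) [hN : N.Normal] {x : SL(2, K)} (hx : x ∈ N)
    (hnc : x ∉ Subgroup.center SL(2, K)) : N = ⊤ := by
  have hperf := Matrix.SL2.commutator_eq_top ha ha2
  have hs : IsSimpleGroup (Matrix.ProjectiveSpecialLinearGroup (Fin 2) K) :=
    CfsgLib.Classical.isSimpleGroup_psl_of_perfect hperf
  let π : SL(2, K) →* Matrix.ProjectiveSpecialLinearGroup (Fin 2) K :=
    QuotientGroup.mk' (Subgroup.center SL(2, K))
  have hnm : (N.map π).Normal := hN.map π (QuotientGroup.mk'_surjective _)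
  have htop : N.map π = ⊤ := by
    rcases hs.eq_bot_or_eq_top_of_normal _ hnm with h | h
    · refine absurd ?_ hnc
      have : π x ∈ N.map π := Subgroup.mem_map_of_mem π hx
      rw [h, Subgroup.mem_bot] at this
      exact (QuotientGroup.eq_one_iff x).1 this
    · exact h
  have hdec : ∀ g : SL(2, K), ∃ n ∈ N, ∃ z ∈ Subgroup.center SL(2, K), g = n * z := by
    intro g
    obtain ⟨n, hn, hg⟩ : π g ∈ N.map π := by rw [htop]; exact Subgroup.mem_top _
    exact ⟨n, hn, n⁻¹ * g, QuotientGroup.eq.1 hg, by group⟩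
  rw [eq_top_iff, ← hperf, commutator_def, Subgroup.commutator_le]
  intro g _ h _
  obtain ⟨n, hn, z, hz, rfl⟩ := hdec g
  obtain ⟨m, hm, w, hw, rfl⟩ := hdec h
  have hz' := Subgroup.mem_center_iff.1 hz
  have hw' := Subgroup.mem_center_iff.1 hw
  have e : ⁅n * z, m * w⁆ = ⁅n, m⁆ := by
    calc ⁅n * z, m * w⁆ = n * (z * m) * w * (z⁻¹ * n⁻¹) * (w⁻¹ * m⁻¹) := by
          rw [commutatorElement_def, mul_inv_rev, mul_inv_rev]; group
      _ = n * (m * z) * w * (z⁻¹ * n⁻¹) * (w⁻¹ * m⁻¹) := by rw [hz' m]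
      _ = n * m * (z * w * z⁻¹) * n⁻¹ * w⁻¹ * m⁻¹ := by group
      _ = n * m * w * n⁻¹ * w⁻¹ * m⁻¹ := by rw [hw' z]; group
      _ = n * m * (w * n⁻¹) * w⁻¹ * m⁻¹ := by group
      _ = n * m * (n⁻¹ * w) * w⁻¹ * m⁻¹ := by rw [hw' n⁻¹]
      _ = ⁅n, m⁆ := by rw [commutatorElement_def]; group
  rw [e, commutatorElement_def]
  exact mul_mem (mul_mem (mul_mem hn hm) (inv_mem hn)) (inv_mem hm)

theorem up_not_central {x : K} (hx : x ≠ 0) : up x ∉ Subgroup.center SL(2, K) := by
  intro h
  have e := congrArg (fun g : SL(2, K) => (g : Matrix (Fin 2) (Fin 2) K) 0 0)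
    (Subgroup.mem_center_iff.1 h (lo 1))
  simp [up_coe, lo_coe, Matrix.SpecialLinearGroup.coe_mul, Matrix.mul_apply, Fin.sum_univ_two] at e
  exact hx e

theorem exists_nonzero_sq_ne_one [Finite K] (hq : 3 < Nat.card K) :
    ∃ a : K, a ≠ 0 ∧ a ^ 2 ≠ 1 := by
  classical
  have := Fintype.ofFinite K
  rw [Nat.card_eq_fintype_card] at hq
  obtain ⟨a, -, ha⟩ := Finset.exists_mem_notMem_of_card_lt_card (s := ({0, 1, -1} : Finset K))
    (t := Finset.univ) (by
      have := Finset.card_le_three (a := (0 : K)) (b := 1) (c := -1)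
      rw [Finset.card_univ]; omega)
  simp only [Finset.mem_insert, Finset.mem_singleton, not_or] at ha
  refine ⟨a, ha.1, fun h => ?_⟩
  rcases sq_eq_one_iff.1 h with h | h
  · exact ha.2.1 h
  · exact ha.2.2 h

/-- Dickson: `u(k)` and `l(kλ)` generate `SL₂(k(λ))` for a finite field `k` with at least four
elements and odd characteristic. -/
theorem closure_eq_top {k : Type*} [Field k] [Finite k] [Algebra k K] [Finite K] (h2 : (2 : K) ≠ 0)
    (hk : 3 < Nat.card k) {lam : K} (hlam : lam ≠ 0)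
    (hgen : Algebra.adjoin k ({lam} : Set K) = ⊤) (H : Subgroup SL(2, K))
    (hu : ∀ c : k, up (c • (1 : K)) ∈ H) (hl : ∀ c : k, lo (c • lam) ∈ H) : H = ⊤ := by
  classical
  set H' := H.map (MulAut.conj (wy : SL(2, K))).toMonoidHom
  have hu' : ∀ c : k, up (c • lam) ∈ H' := fun c => ⟨lo (-c • lam), hl _, by
    simp [MulEquiv.coe_toMonoidHom, MulAut.conj_apply, wy_lo]⟩
  have hl' : lo (1 : K) ∈ H' := ⟨up ((-1 : k) • (1 : K)), hu _, by
    simp [MulEquiv.coe_toMonoidHom, MulAut.conj_apply, wy_up]⟩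
  let Good : k → Prop := fun c => c ≠ 0 ∧ (c • lam) ^ 2 ≠ -1
  have hgood : ∀ c, Good c → ∀ x ∈ Subfield.closure ({c • lam} : Set K), up x ∈ H' ∧ lo x ∈ H' ∧
      ∀ y, up y ∈ H' → up (x ^ 2 * y) ∈ H' := by
    intro c hc
    set F := Subfield.closure ({c • lam} : Set K)
    have : Fintype F := Fintype.ofFinite F
    set μ : F := ⟨c • lam, Subfield.subset_closure rfl⟩
    have hμ : μ ≠ 0 := fun h => smul_ne_zero hc.1 hlam (congrArg Subtype.val h)
    have hμgen : Subfield.closure ({μ} : Set F) = ⊤ := by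
      rw [eq_top_iff]
      intro x _
      have hle : F ≤ (Subfield.closure ({μ} : Set F)).map F.subtype := by
        rw [Subfield.closure_le, Set.singleton_subset_iff]
        exact ⟨μ, Subfield.subset_closure rfl, rfl⟩
      obtain ⟨y, hy, hyx⟩ := hle x.2
      rwa [show x = y from Subtype.ext hyx.symm]
    have h2F : (2 : F) ≠ 0 := fun h => h2 (by have h' := congrArg F.subtype h; rwa [map_ofNat, map_zero] at h')
    rcases Cfsg.Agent.S0801.result h2F μ hμ hμgen with ⟨hcl, -⟩ | ⟨-, hbad, -⟩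
    · have hle : (⊤ : Subgroup SL(2, F)).map (Matrix.SpecialLinearGroup.map F.subtype) ≤ H' := by
        rw [← hcl, MonoidHom.map_closure, Subgroup.closure_le]
        rintro _ ⟨g, hg, rfl⟩
        rcases hg with hg | hg
        · rw [SetLike.mem_coe, show Matrix.SpecialLinearGroup.map F.subtype g = lo 1 by
            apply Subtype.ext
            ext i j; fin_cases i <;> fin_cases j <;> simp [hg, lo_coe]]
          exact hl'
        · rw [SetLike.mem_coe, show Matrix.SpecialLinearGroup.map F.subtype g = up (c • lam) by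
            apply Subtype.ext
            ext i j; fin_cases i <;> fin_cases j <;> simp [hg, up_coe, μ]]
          exact hu' c
      have hup : ∀ x ∈ F, up x ∈ H' := fun x hx => hle ⟨up (⟨x, hx⟩ : F), Subgroup.mem_top _, by
        apply Subtype.ext; ext i j; fin_cases i <;> fin_cases j <;> simp [up_coe]⟩
      intro x hx
      refine ⟨hup x hx, hle ⟨lo (⟨x, hx⟩ : F), Subgroup.mem_top _, by
        apply Subtype.ext; ext i j; fin_cases i <;> fin_cases j <;> simp [lo_coe]⟩, fun y hy => ?_⟩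
      by_cases hx0 : x = 0
      · rw [hx0]; simp [up_zero, one_mem]
      let xu : Kˣ := Units.mk0 x hx0
      let xF : Fˣ := Units.mk0 ⟨x, hx⟩ (fun h => hx0 (congrArg Subtype.val h))
      have hd : dg xu ∈ H' := hle ⟨dg xF, Subgroup.mem_top _, by
        apply Subtype.ext; ext i j; fin_cases i <;> fin_cases j <;> simp [dg_coe, xu, xF]⟩
      have := mul_mem (mul_mem hd hy) (inv_mem hd)
      rwa [dg_up] at this
    · exact absurd (congrArg Subtype.val hbad) (by simpa [μ] using hc.2)
  -- some good element exists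
  have hfour : ∀ s : Finset k, s.card ≤ 4 → ∃ c, c ∉ s := by
    intro s hs
    have := Fintype.ofFinite k
    rw [Nat.card_eq_fintype_card] at hk
    have h4 : Fintype.card k ≠ 4 := by
      intro h4'
      obtain ⟨p, hp⟩ := CharP.exists k
      obtain ⟨n, hpp, hn⟩ := FiniteField.card k p
      rw [hn] at h4'
      have hd : p ∣ 2 ^ 2 := by
        rw [show (2 : ℕ) ^ 2 = 4 from rfl, ← h4']; exact dvd_pow_self p n.ne_zero
      rw [(Nat.prime_dvd_prime_iff_eq hpp Nat.prime_two).1 (hpp.dvd_of_dvd_pow hd)] at hp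
      refine h2 ?_
      have h' := congrArg (algebraMap k K) (CharP.cast_eq_zero k 2)
      rwa [map_natCast, map_zero, Nat.cast_ofNat] at h'
    obtain ⟨c, -, hc⟩ := Finset.exists_mem_notMem_of_card_lt_card (s := s) (t := Finset.univ)
      (by rw [Finset.card_univ]; omega)
    exact ⟨c, hc⟩
  obtain ⟨B, hB, hBg⟩ : ∃ B : Finset k, B.card ≤ 2 ∧ ∀ c, c ≠ 0 → c ∉ B → Good c := by
    by_cases h : ∃ c₀ : k, (c₀ • lam) ^ 2 = -1
    · obtain ⟨c₀, h0⟩ := h
      refine ⟨{c₀, -c₀}, Finset.card_le_two, fun c hc hcb => ⟨hc, fun he => hcb ?_⟩⟩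
      have : (c • lam) ^ 2 = (c₀ • lam) ^ 2 := by rw [he, h0]
      rcases sq_eq_sq_iff_eq_or_eq_neg.1 this with h | h
      · simp [smul_left_injective k hlam h]
      · rw [← neg_smul] at h
        simp [smul_left_injective k hlam h]
    · exact ⟨∅, by simp, fun c hc _ => ⟨hc, fun he => h ⟨c, he⟩⟩⟩
  -- the multiplier ring
  let J : AddSubgroup K := upSet H'
  let S : Subring K :=
    { carrier := {r | ∀ y ∈ J, r * y ∈ J}
      one_mem' := fun y hy => by simpa using hy
      mul_mem' := fun {r s} hr hs y hy => by rw [mul_assoc]; exact hr _ (hs y hy)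
      zero_mem' := fun y _ => by simp [zero_mem]
      add_mem' := fun {r s} hr hs y hy => by rw [add_mul]; exact add_mem (hr y hy) (hs y hy)
      neg_mem' := fun {r} hr y hy => by rw [neg_mul]; exact neg_mem (hr y hy) }
  have hS : ∀ c, Good c → c • lam ∈ S := by
    intro c hc
    set F := Subfield.closure ({c • lam} : Set K)
    have hcF : c • lam ∈ F := Subfield.subset_closure rfl
    obtain ⟨s, t, hst⟩ := exists_sq_sub (F := F)
      (fun h => h2 (by have h' := congrArg F.subtype h; rwa [map_ofNat, map_zero] at h')) ⟨c • lam, hcF⟩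
    have hst' : c • lam = (s : K) ^ 2 - (t : K) ^ 2 := congrArg Subtype.val hst
    intro y hy
    rw [hst', sub_mul]
    exact sub_mem ((hgood c hc _ s.2).2.2 y hy) ((hgood c hc _ t.2).2.2 y hy)
  have hSall : ∀ c : k, c • lam ∈ S := by
    intro c
    by_cases hc : c ≠ 0 ∧ c ∉ B
    · exact hS c (hBg c hc.1 hc.2)
    by_cases hc0 : c = 0
    · rw [hc0, zero_smul]; exact zero_mem S
    -- split as a sum of two good elements
    have hcB : c ∈ B := by_contra fun h => hc ⟨hc0, h⟩
    obtain ⟨d, hd⟩ := hfour (({0, c} : Finset k) ∪ B ∪ B.image (fun b => c - b)) (by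
      have hB2 : B = {c} ∨ ∃ b, B = {c, b} := by
        rcases (show B.card = 1 ∨ B.card = 2 by
          have := Finset.card_pos.2 ⟨c, hcB⟩; omega) with h1 | h1
        · exact Or.inl (Finset.card_eq_one.1 h1 |>.elim fun x hx => by
            rw [hx] at hcB ⊢; rw [Finset.mem_singleton.1 hcB])
        · obtain ⟨x, y, -, rfl⟩ := Finset.card_eq_two.1 h1
          rcases Finset.mem_insert.1 hcB with e | e
          · exact Or.inr ⟨y, by rw [e]⟩
          · exact Or.inr ⟨x, by rw [Finset.mem_singleton.1 e, Finset.pair_comm]⟩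
      rcases hB2 with rfl | ⟨b, rfl⟩
      · refine le_trans (Finset.card_le_card (t := {0, c}) ?_) (Finset.card_le_two.trans (by norm_num))
        intro x; simp; try tauto
      · refine le_trans (Finset.card_le_card (t := {0, c, b, c - b}) ?_) Finset.card_le_four
        intro x; simp; try tauto)
    simp only [Finset.mem_union, Finset.mem_insert, Finset.mem_singleton, Finset.mem_image,
      not_or, not_exists, not_and] at hd
    obtain ⟨⟨⟨hd0, hdc⟩, hdB⟩, hdI⟩ := hd
    have hcd : c - d ≠ 0 := sub_ne_zero.2 (Ne.symm hdc)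
    have hcdB : c - d ∉ B := fun h => hdI _ h (by ring)
    rw [show c • lam = d • lam + (c - d) • lam by rw [← add_smul]; congr 1; ring]
    exact add_mem (hS d (hBg d hd0 hdB)) (hS _ (hBg _ hcd hcdB))
  -- hence everything
  have hSfield : ∀ x ∈ S, x ≠ 0 → x⁻¹ ∈ S := by
    intro x hx hx0
    obtain ⟨n, hn, hpow⟩ : ∃ n : ℕ, 0 < n ∧ x ^ n = 1 := by
      have := Fintype.ofFinite K
      exact ⟨Fintype.card K - 1, by have := Fintype.one_lt_card (α := K); omega,
        FiniteField.pow_card_sub_one_eq_one x hx0⟩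
    rw [show x⁻¹ = x ^ (n - 1) by
      refine inv_eq_of_mul_eq_one_right ?_
      rw [← pow_succ', Nat.sub_add_cancel hn, hpow]]
    exact pow_mem hx _
  have hlamS : lam ∈ S := by simpa using hSall 1
  have hkS : ∀ c : k, algebraMap k K c ∈ S := fun c => by
    have := mul_mem (hSall c) (hSfield lam hlamS hlam)
    rwa [Algebra.smul_def, mul_inv_cancel_right₀ hlam] at this
  let A : Subalgebra k K := { S with algebraMap_mem' := hkS }
  have hA : ∀ x : K, x ∈ S := fun x => by
    have : Algebra.adjoin k ({lam} : Set K) ≤ A := Algebra.adjoin_le (Set.singleton_subset_iff.2 hlamS)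
    exact this (hgen ▸ Algebra.mem_top)
  obtain ⟨c, hc⟩ := hfour ({0} ∪ B) (le_trans (Finset.card_union_le _ _) (by simp; omega))
  simp only [Finset.mem_union, Finset.mem_singleton, not_or] at hc
  have hgc := hgood c (hBg c hc.1 hc.2)
  have h1J : (1 : K) ∈ J := (hgc 1 (one_mem _)).1
  have hJ : ∀ x : K, up x ∈ H' := fun x => by
    have := hA x 1 h1J
    rwa [mul_one] at this
  have hw : (wy : SL(2, K)) ∈ H' := by
    have : (wy : SL(2, K)) = up 1 * lo (-1) * up 1 := by
      refine ext4 ?_ ?_ ?_ ?_ <;>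
        simp [wy_coe, up_coe, lo_coe, Matrix.SpecialLinearGroup.coe_mul, Matrix.mul_apply,
          Fin.sum_univ_two]
    rw [this]
    exact mul_mem (mul_mem (hJ 1) (hgc (-1) (neg_mem (one_mem _))).2.1) (hJ 1)
  have htop : H' = ⊤ := eq_top_of_up_lo H' hJ fun x => by
    have := mul_mem (mul_mem hw (hJ (-x))) (inv_mem hw)
    rwa [wy_up, neg_neg] at this
  exact Subgroup.map_injective (MulAut.conj (wy : SL(2, K))).injective
    (htop.trans (Subgroup.map_top_of_surjective _ (MulAut.conj (wy : SL(2, K))).surjective).symm)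

end CfsgLib.PLocal.QPair
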