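import Cfsg.Agent.Lib.PLocal.QPairSLTools

/-!
# Quadratic pairs: generation of `SL₂` of a monogenic algebra over a finite field

For finite `R = k[λ]` the group `Γ` generated by the upper transvections with entries in `k` and the
lower ones with entries in `kλ` has, inside the subgroup generated by its `p'`-elements, a scalar
family of non-trivial upper transvections; and if all entries of upper transvections in `Γ` are zero
or units, then `R` is a field.
-/

set_option autoImplicit false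

namespace CfsgLib.PLocal.QPair

open scoped MatrixGroups commutatorElement

variable {R : Type*} [CommRing R]

local notation "⟪" g "⟫" => ((g : SL(2, R)) : Matrix (Fin 2) (Fin 2) R)

section Scale

/-- An element of `SL₂` by its entries. -/
def mkSL (a b c d : R) (h : a * d - b * c = 1) : SL(2, R) :=
  ⟨!![a, b; c, d], by rw [Matrix.det_fin_two_of]; exact h⟩

theorem mkSL_coe (a b c d : R) (h : a * d - b * c = 1) : ⟪mkSL a b c d h⟫ = !![a, b; c, d] := rfl

/-- Scaling the upper entry by a unit. -/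
def scaleHom (c : Rˣ) : SL(2, R) →* SL(2, R) where
  toFun g := mkSL (⟪g⟫ 0 0) ((c : R) * ⟪g⟫ 0 1) (((c⁻¹ : Rˣ) : R) * ⟪g⟫ 1 0) (⟪g⟫ 1 1) (by
    linear_combination det_eq g - (⟪g⟫ 0 1 * ⟪g⟫ 1 0) * c.mul_inv)
  map_one' := by
    refine ext4 ?_ ?_ ?_ ?_ <;> simp [mkSL_coe]
  map_mul' g h := by
    refine ext4 ?_ ?_ ?_ ?_ <;>
      simp [mkSL_coe, Matrix.SpecialLinearGroup.coe_mul, Matrix.mul_apply, Fin.sum_univ_two] <;>
      first
        | linear_combination -(⟪g⟫ 0 1 * ⟪h⟫ 1 0) * c.mul_inv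
        | linear_combination -(⟪g⟫ 1 0 * ⟪h⟫ 0 1) * c.mul_inv
        | linear_combination (0 : R) * c.mul_inv

theorem scaleHom_up (c : Rˣ) (x : R) : scaleHom c (up x) = up ((c : R) * x) := by
  refine ext4 ?_ ?_ ?_ ?_ <;> simp [scaleHom, mkSL_coe, up_coe]

theorem scaleHom_lo (c : Rˣ) (x : R) : scaleHom c (lo x) = lo (((c⁻¹ : Rˣ) : R) * x) := by
  refine ext4 ?_ ?_ ?_ ?_ <;> simp [scaleHom, mkSL_coe, lo_coe]

/-- Interchanging the two root groups. -/
def swapHom (l : Rˣ) : SL(2, R) →* SL(2, R) where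
  toFun g := mkSL (⟪g⟫ 1 1) (((l⁻¹ : Rˣ) : R) * ⟪g⟫ 1 0) ((l : R) * ⟪g⟫ 0 1) (⟪g⟫ 0 0) (by
    linear_combination det_eq g - (⟪g⟫ 0 1 * ⟪g⟫ 1 0) * l.inv_mul)
  map_one' := by
    refine ext4 ?_ ?_ ?_ ?_ <;> simp [mkSL_coe]
  map_mul' g h := by
    refine ext4 ?_ ?_ ?_ ?_ <;>
      simp [mkSL_coe, Matrix.SpecialLinearGroup.coe_mul, Matrix.mul_apply, Fin.sum_univ_two] <;>
      first
        | linear_combination -(⟪g⟫ 1 0 * ⟪h⟫ 0 1) * l.inv_mul
        | linear_combination -(⟪g⟫ 0 1 * ⟪h⟫ 1 0) * l.inv_mul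
        | linear_combination (0 : R) * l.inv_mul

theorem swapHom_up (l : Rˣ) (x : R) : swapHom l (up x) = lo ((l : R) * x) := by
  refine ext4 ?_ ?_ ?_ ?_ <;> simp [swapHom, mkSL_coe, up_coe, lo_coe]

theorem swapHom_lo (l : Rˣ) (x : R) : swapHom l (lo x) = up (((l⁻¹ : Rˣ) : R) * x) := by
  refine ext4 ?_ ?_ ?_ ?_ <;> simp [swapHom, mkSL_coe, up_coe, lo_coe]

end Scale

variable (k : Type*) [Field k] [Algebra k R]

/-- The group generated by `up k` and `lo kλ`. -/
def gammaK (lam : R) : Subgroup SL(2, R) :=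
  Subgroup.closure ({g | ∃ c : k, g = up (c • 1)} ∪ {g | ∃ c : k, g = lo (c • lam)})

/-- The subgroup generated by the elements of `p'`-order of a subgroup. -/
def pPrimeGen {G : Type*} [Group G] (p : ℕ) (H : Subgroup G) : Subgroup G :=
  Subgroup.closure {x | x ∈ H ∧ Nat.Coprime (orderOf x) p}

theorem up_mem_gammaK (lam : R) (c : k) : up (c • (1 : R)) ∈ gammaK k lam :=
  Subgroup.subset_closure (Or.inl ⟨c, rfl⟩)

theorem lo_mem_gammaK (lam : R) (c : k) : lo (c • lam) ∈ gammaK k lam :=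
  Subgroup.subset_closure (Or.inr ⟨c, rfl⟩)

theorem up_one_mem_gammaK (lam : R) : up (1 : R) ∈ gammaK k lam := by
  simpa using up_mem_gammaK k lam 1

theorem gammaK_scale (lam : R) (c : kˣ) {g : SL(2, R)} (hg : g ∈ gammaK k lam) :
    scaleHom (Units.map (algebraMap k R).toMonoidHom c) g ∈ gammaK k lam := by
  refine (Subgroup.closure_le ((gammaK k lam).comap _)).2 ?_ hg
  rintro _ (⟨d, rfl⟩ | ⟨d, rfl⟩) <;> rw [SetLike.mem_coe, Subgroup.mem_comap]
  · rw [scaleHom_up, show ((Units.map (algebraMap k R).toMonoidHom c : Rˣ) : R) =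
      algebraMap k R (c : k) from rfl, ← Algebra.smul_def, smul_smul]
    exact up_mem_gammaK k lam _
  · rw [scaleHom_lo, ← map_inv, show ((Units.map (algebraMap k R).toMonoidHom c⁻¹ : Rˣ) : R) =
      algebraMap k R ((c⁻¹ : kˣ) : k) from rfl, ← Algebra.smul_def, smul_smul]
    exact lo_mem_gammaK k lam _

theorem gammaK_swap (l : Rˣ) {g : SL(2, R)} (hg : g ∈ gammaK k (l : R)) :
    swapHom l g ∈ gammaK k (l : R) := by
  refine (Subgroup.closure_le ((gammaK k (l : R)).comap _)).2 ?_ hg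
  rintro _ (⟨d, rfl⟩ | ⟨d, rfl⟩) <;> rw [SetLike.mem_coe, Subgroup.mem_comap]
  · rw [swapHom_up, mul_smul_comm, mul_one]
    exact lo_mem_gammaK k _ _
  · rw [swapHom_lo, mul_smul_comm, Units.inv_mul]
    exact up_mem_gammaK k _ _

section Finite

variable [Finite R] [Finite k]

theorem residue_top {lam : R} (hlam : IsUnit lam) (hgen : Algebra.adjoin k ({lam} : Set R) = ⊤)
    (h2 : (2 : k) ≠ 0) (hk : 3 < Nat.card k) (m : Ideal R) [m.IsMaximal] :
    (gammaK k lam).map (Matrix.SpecialLinearGroup.map (Ideal.Quotient.mk m)) = ⊤ := by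
  letI := Ideal.Quotient.field m
  have : Finite (R ⧸ m) := Finite.of_surjective _ Ideal.Quotient.mk_surjective
  refine closure_eq_top (k := k) (lam := Ideal.Quotient.mk m lam) ?_ hk ?_ ?_ _ ?_ ?_
  · intro h
    exact h2 (RingHom.injective (algebraMap k (R ⧸ m)) (by rw [map_ofNat, map_zero]; exact h))
  · exact (hlam.map _).ne_zero
  · have := congrArg (Subalgebra.map (Ideal.Quotient.mkₐ k m)) hgen
    rw [AlgHom.map_adjoin, Set.image_singleton, Algebra.map_top,
      (AlgHom.range_eq_top _).2 Ideal.Quotient.mk_surjective] at this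
    exact this
  · intro c
    refine ⟨_, up_mem_gammaK k lam c, ?_⟩
    apply Subtype.ext
    ext i j; fin_cases i <;> fin_cases j <;> simp [up_coe, Algebra.smul_def]
  · intro c
    refine ⟨_, lo_mem_gammaK k lam c, ?_⟩
    apply Subtype.ext
    ext i j; fin_cases i <;> fin_cases j <;> simp [lo_coe, Algebra.smul_def]

variable {p : ℕ} [hp : Fact p.Prime] [CharP R p]

theorem up_pow_p (x : R) : up x ^ p = 1 := by
  have h : ∀ n : ℕ, up x ^ n = up (n • x) := by
    intro n
    induction n with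
    | zero => simp [up_zero]
    | succ n ih => rw [pow_succ, ih, up_mul, succ_nsmul]
  rw [h, nsmul_eq_mul, CharP.cast_eq_zero, zero_mul, up_zero]

theorem lo_pow_p (x : R) : lo x ^ p = 1 := by
  have h : ∀ n : ℕ, lo x ^ n = lo (n • x) := by
    intro n
    induction n with
    | zero => simp [lo_zero]
    | succ n ih => rw [pow_succ, ih, lo_mul, succ_nsmul]
  rw [h, nsmul_eq_mul, CharP.cast_eq_zero, zero_mul, lo_zero]

theorem odd_pow_p (hp2 : p ≠ 2) (e : ℕ) : Odd (p ^ e) := (hp.out.odd_of_ne_two hp2).pow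

/-- A scalar family of upper transvections inside the subgroup generated by `p'`-elements. -/
theorem exists_up_pPrimeGen [Nontrivial R] {lam : R} (hlam : IsUnit lam)
    (hgen : Algebra.adjoin k ({lam} : Set R) = ⊤) (h2 : (2 : k) ≠ 0) (hk : 3 < Nat.card k)
    (hp2 : p ≠ 2) :
    ∃ b : R, b ≠ 0 ∧ ∀ c : k, up (c • b) ∈ pPrimeGen p (gammaK k lam) := by
  set Γ := gammaK k lam
  obtain ⟨m, hm⟩ := Ideal.exists_maximal R
  letI := Ideal.Quotient.field m
  have : Finite (R ⧸ m) := Finite.of_surjective _ Ideal.Quotient.mk_surjective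
  let ρ : SL(2, R) →* SL(2, R ⧸ m) := Matrix.SpecialLinearGroup.map (Ideal.Quotient.mk m)
  set D := pPrimeGen p Γ with hD
  have hDle : D ≤ Γ := (Subgroup.closure_le _).2 fun x hx => hx.1
  have hDn : ∀ g ∈ Γ, ∀ x ∈ D, g * x * g⁻¹ ∈ D := by
    intro g hg x hx
    refine (Subgroup.closure_le (D.comap (MulAut.conj g).toMonoidHom)).2 ?_ hx
    rintro y ⟨hy, hyo⟩
    refine Subgroup.subset_closure ⟨mul_mem (mul_mem hg hy) (inv_mem hg), ?_⟩
    exact hyo.coprime_dvd_left (orderOf_map_dvd (MulAut.conj g).toMonoidHom y)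
  have hres := residue_top k hlam hgen h2 hk m
  have hkK : 3 < Nat.card (R ⧸ m) :=
    hk.trans_le (Nat.card_le_card_of_injective _ (algebraMap k (R ⧸ m)).injective)
  have hDtop : D.map ρ = ⊤ := by
    have hn : (D.map ρ).Normal := ⟨fun x hx g => by
      obtain ⟨x, hx, rfl⟩ := hx
      obtain ⟨g, hg, rfl⟩ : g ∈ Γ.map ρ := by rw [show Γ.map ρ = ⊤ from hres]; exact Subgroup.mem_top _
      exact ⟨_, hDn g hg x hx, by simp⟩⟩
    obtain ⟨a, ha, ha2⟩ := exists_nonzero_sq_ne_one hkK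
    let t : (R ⧸ m)ˣ := Units.mk0 a ha
    obtain ⟨g, hg, hgt⟩ : dg t ∈ Γ.map ρ := by rw [show Γ.map ρ = ⊤ from hres]; exact Subgroup.mem_top _
    have hcop : Nat.Coprime (Nat.card (R ⧸ m)ˣ) p := by
      have := Fintype.ofFinite (R ⧸ m)
      have : CharP k p := RingHom.charP (algebraMap k R) (algebraMap k R).injective p
      have : CharP (R ⧸ m) p := charP_of_injective_algebraMap (algebraMap k (R ⧸ m)).injective p
      obtain ⟨n, -, hn⟩ := FiniteField.card (R ⧸ m) p
      rw [Nat.card_units, Nat.card_eq_fintype_card, hn]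
      refine (hp.out.coprime_iff_not_dvd.2 fun hd => ?_).symm
      have h1 : p ∣ p ^ (n : ℕ) := dvd_pow_self p n.ne_zero
      have h1' : 1 ≤ p ^ (n : ℕ) := Nat.one_le_pow _ _ hp.out.pos
      have := Nat.dvd_sub h1 hd
      rw [Nat.sub_sub_self h1'] at this
      exact hp.out.one_lt.ne' (Nat.dvd_one.1 this)
    obtain ⟨j, hj1, hj2⟩ := exists_pow_pPrimePart ρ g hcop (by
        rw [Nat.card_units]; omega) (by
      rw [hgt]
      exact (map_pow (MonoidHom.mk' dg dg_mul) t _).symm.trans (by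
        rw [pow_card_eq_one', map_one]))
    refine normal_eq_top ha ha2 (D.map ρ) (x := dg t)
      ⟨g ^ j, Subgroup.subset_closure ⟨pow_mem hg j, hj1⟩, hj2.trans hgt⟩ fun hc => ?_
    have e := congrArg (fun g : SL(2, R ⧸ m) => (g : Matrix (Fin 2) (Fin 2) (R ⧸ m)) 0 1)
      (Subgroup.mem_center_iff.1 hc (up 1))
    simp [up_coe, dg_coe, t, Matrix.SpecialLinearGroup.coe_mul, Matrix.mul_apply,
      Fin.sum_univ_two] at e
    apply ha2
    calc a ^ 2 = a * a := sq a
      _ = 1 := by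
        nth_rewrite 2 [← e]
        exact mul_inv_cancel₀ ha
  have hdvd : p ∣ Nat.card (D.subgroupOf Γ) := by
    rw [Nat.card_congr (Subgroup.subgroupOfEquivOfLe hDle).toEquiv]
    refine dvd_trans ?_ (D.card_map_dvd ρ)
    rw [hDtop, Subgroup.card_top]
    have ho : orderOf (up (1 : R ⧸ m)) = p := by
      refine orderOf_eq_prime ?_ ?_
      · rw [show up (1 : R ⧸ m) = ρ (up 1) by
          apply Subtype.ext; ext i j; fin_cases i <;> fin_cases j <;> simp [ρ, up_coe],
          ← map_pow, up_pow_p, map_one]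
      · intro h
        have := congrArg (fun g : SL(2, R ⧸ m) => (g : Matrix (Fin 2) (Fin 2) (R ⧸ m)) 0 1) h
        simp [up_coe] at this
    exact ho ▸ orderOf_dvd_natCard _
  have : (D.subgroupOf Γ).Normal := ⟨fun x hx g => Subgroup.mem_subgroupOf.2
    (hDn g g.2 x (Subgroup.mem_subgroupOf.1 hx))⟩
  obtain ⟨z, hz, hz1, ⟨f, hzf⟩, hzc⟩ := exists_pFixed (e := 1)
    (u := (⟨up 1, up_one_mem_gammaK k lam⟩ : Γ)) (Subtype.ext (by simp [up_pow_p]))
    (D.subgroupOf Γ) hdvd
  have hzu : (z : SL(2, R)) = up (⟪(z : SL(2, R))⟫ 0 1) :=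
    eq_up_of_comm (congrArg Subtype.val hzc) (odd_pow_p hp2 f) (congrArg Subtype.val hzf)
  refine ⟨⟪(z : SL(2, R))⟫ 0 1, fun h => hz1 (Subtype.ext (by
    rw [hzu, h, up_zero]; rfl)), fun c => ?_⟩
  rcases eq_or_ne c 0 with rfl | hc
  · rw [zero_smul, up_zero]; exact one_mem _
  let cu : kˣ := Units.mk0 c hc
  let σ := scaleHom (Units.map (algebraMap k R).toMonoidHom cu)
  have hσD : ∀ x ∈ D, σ x ∈ D := fun x hx => (Subgroup.closure_le (D.comap σ)).2 (by
    rintro y ⟨hy, hyo⟩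
    exact Subgroup.subset_closure ⟨gammaK_scale k lam cu hy,
      hyo.coprime_dvd_left (orderOf_map_dvd σ y)⟩) hx
  have hzD := hσD _ (Subgroup.mem_subgroupOf.1 hz)
  rw [hzu, scaleHom_up] at hzD
  rw [Algebra.smul_def]
  exact hzD

/-- If the entries of the upper transvections of `Γ` are zero or units, then `R` is a field. -/
theorem isField_of_units [Nontrivial R] {lam : R} (hlam : IsUnit lam)
    (hgen : Algebra.adjoin k ({lam} : Set R) = ⊤) (h2 : (2 : k) ≠ 0) (hk : 3 < Nat.card k)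
    (hp2 : p ≠ 2) (hJ : ∀ x : R, up x ∈ gammaK k lam → x ≠ 0 → IsUnit x) : IsField R := by
  obtain ⟨l, rfl⟩ := hlam
  set Γ := gammaK k (l : R)
  obtain ⟨m, hm⟩ := Ideal.exists_maximal R
  letI := Ideal.Quotient.field m
  have : Finite (R ⧸ m) := Finite.of_surjective _ Ideal.Quotient.mk_surjective
  let ρ : ↥Γ →* SL(2, R ⧸ m) :=
    (Matrix.SpecialLinearGroup.map (Ideal.Quotient.mk m)).comp Γ.subtype
  have hρ : ∀ (g : Γ) (i j), (ρ g : Matrix (Fin 2) (Fin 2) (R ⧸ m)) i j =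
      Ideal.Quotient.mk m (⟪(g : SL(2, R))⟫ i j) := fun g i j => rfl
  have hsurj : Function.Surjective ρ := by
    intro y
    have h : y ∈ Γ.map (Matrix.SpecialLinearGroup.map (Ideal.Quotient.mk m)) := by
      rw [residue_top k l.isUnit hgen h2 hk m]; exact Subgroup.mem_top _
    obtain ⟨g, hg, rfl⟩ := h
    exact ⟨⟨g, hg⟩, rfl⟩
  have hinj : ∀ x : R, up x ∈ Γ → Ideal.Quotient.mk m x = 0 → x = 0 := fun x hx h => by
    by_contra h0
    exact hm.ne_top (Ideal.eq_top_of_isUnit_mem m (Ideal.Quotient.eq_zero_iff_mem.1 h) (hJ x hx h0))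
  have hu1 : (⟨up 1, up_one_mem_gammaK k (l : R)⟩ : Γ) ^ (p ^ 1) = 1 :=
    Subtype.ext (by simp [up_pow_p])
  -- the kernel has order prime to `p`
  have hker : ¬ p ∣ Nat.card ρ.ker := by
    intro hd
    obtain ⟨z, hz, hz1, ⟨f, hzf⟩, hzc⟩ := exists_pFixed hu1 ρ.ker hd
    have hzu : (z : SL(2, R)) = up (⟪(z : SL(2, R))⟫ 0 1) :=
      eq_up_of_comm (congrArg Subtype.val hzc) (odd_pow_p hp2 f) (congrArg Subtype.val hzf)
    refine hz1 (Subtype.ext ?_)
    have h0 := congrArg (fun g : SL(2, R ⧸ m) => (g : Matrix (Fin 2) (Fin 2) (R ⧸ m)) 0 1)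
      (MonoidHom.mem_ker.1 hz)
    simp [hρ] at h0
    rw [hzu, hinj _ (hzu ▸ z.2) h0, up_zero]; rfl
  have hkcop : Nat.Coprime (Nat.card ρ.ker) p := (hp.out.coprime_iff_not_dvd.2 hker).symm
  -- the kernel is central
  have hcen : ∀ n ∈ ρ.ker, ∀ g : Γ, g * n = n * g := by
    intro n hn g
    have hw : ⁅g, n⁆ ∈ ρ.ker := by
      rw [commutatorElement_def]
      exact mul_mem ((inferInstance : ρ.ker.Normal).conj_mem n hn g) (inv_mem hn)
    have hnil : ∀ i j, IsNilpotent ((⟪(⁅g, n⁆ : Γ).1⟫ - 1) i j) := by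
      intro i j
      rw [← mem_nilradical, nilradical_eq_sInf, Ideal.mem_sInf]
      intro P hP
      have hP' : P.IsPrime := hP
      have hPm : P.IsMaximal := IsArtinianRing.isMaximal_of_isPrime P
      letI := Ideal.Quotient.field P
      have : Finite (R ⧸ P) := Finite.of_surjective _ Ideal.Quotient.mk_surjective
      have hkP : 3 < Nat.card (R ⧸ P) :=
        hk.trans_le (Nat.card_le_card_of_injective _ (algebraMap k (R ⧸ P)).injective)
      let ρ' : ↥Γ →* SL(2, R ⧸ P) :=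
        (Matrix.SpecialLinearGroup.map (Ideal.Quotient.mk P)).comp Γ.subtype
      have hsurj' : Function.Surjective ρ' := by
        intro y
        have h : y ∈ Γ.map (Matrix.SpecialLinearGroup.map (Ideal.Quotient.mk P)) := by
          rw [residue_top k l.isUnit hgen h2 hk P]; exact Subgroup.mem_top _
        obtain ⟨g, hg, rfl⟩ := h
        exact ⟨⟨g, hg⟩, rfl⟩
      have hc : ρ' n ∈ Subgroup.center SL(2, R ⧸ P) := by
        by_contra hnc
        obtain ⟨a, ha, ha2⟩ := exists_nonzero_sq_ne_one hkP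
        have : (ρ.ker.map ρ').Normal := (inferInstance : ρ.ker.Normal).map ρ' hsurj'
        have htop := normal_eq_top ha ha2 (ρ.ker.map ρ') ⟨n, hn, rfl⟩ hnc
        refine hker (dvd_trans ?_ (ρ.ker.card_map_dvd ρ'))
        rw [htop, Subgroup.card_top]
        have ho : orderOf (ρ' ⟨up 1, up_one_mem_gammaK k (l : R)⟩) = p := by
          refine orderOf_eq_prime ?_ ?_
          · rw [← map_pow, show (⟨up 1, up_one_mem_gammaK k (l : R)⟩ : Γ) ^ p = 1 by
              simpa using hu1, map_one]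
          · intro h
            have := congrArg (fun g : SL(2, R ⧸ P) => (g : Matrix (Fin 2) (Fin 2) (R ⧸ P)) 0 1) h
            simp [ρ', up_coe] at this
        exact ho ▸ orderOf_dvd_natCard _
      have hone : ρ' ⁅g, n⁆ = 1 := by
        rw [map_commutatorElement, commutatorElement_eq_one_iff_mul_comm]
        exact Subgroup.mem_center_iff.1 hc (ρ' g)
      have := congrArg (fun g : SL(2, R ⧸ P) => (g : Matrix (Fin 2) (Fin 2) (R ⧸ P)) i j) hone
      rw [← Ideal.Quotient.eq_zero_iff_mem]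
      simp only [Matrix.sub_apply, map_sub, Matrix.one_apply]
      change Ideal.Quotient.mk P _ = _ at this
      erw [this]
      fin_cases i <;> fin_cases j <;> simp
    obtain ⟨e, he⟩ := pow_eq_one_of_nilpotent (p := p) hnil
    have he' : ⁅g, n⁆ ^ (p ^ e) = 1 := Subtype.ext (by simpa using he)
    have hcard : ⁅g, n⁆ ^ Nat.card ρ.ker = 1 :=
      congrArg Subtype.val (pow_card_eq_one' (x := (⟨_, hw⟩ : ρ.ker)))
    have := (pow_gcd_eq_one).2 ⟨hcard, he'⟩
    rw [(Nat.Coprime.pow_right e hkcop).gcd_eq_one, pow_one,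
      commutatorElement_eq_one_iff_mul_comm] at this
    exact this
  -- `p`-elements are determined by their images
  have huniq : ∀ {x y : Γ} {e : ℕ}, x ^ (p ^ e) = 1 → y ^ (p ^ e) = 1 → ρ x = ρ y → x = y := by
    intro x y e hx hy h
    have hn : x⁻¹ * y ∈ ρ.ker := by rw [MonoidHom.mem_ker, map_mul, map_inv, h, inv_mul_cancel]
    exact eq_of_central hx hy hkcop
      (congrArg Subtype.val (pow_card_eq_one' (x := (⟨_, hn⟩ : ρ.ker)))) (hcen _ hn x)
  have hup : ∀ (x : R) (hx : up x ∈ Γ), ρ ⟨up x, hx⟩ = up (Ideal.Quotient.mk m x) := by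
    intro x hx
    apply Subtype.ext; ext i j; rw [hρ]; fin_cases i <;> fin_cases j <;> simp [up_coe]
  have hpel : ∀ (x : SL(2, R)) (hx : x ∈ Γ), x ^ p = 1 → (⟨x, hx⟩ : Γ) ^ (p ^ 1) = 1 :=
    fun x hx h => Subtype.ext (by simpa using h)
  -- every residue is attained
  have hJsurj : ∀ r : R ⧸ m, ∃ j, up j ∈ Γ ∧ Ideal.Quotient.mk m j = r := by
    intro r
    obtain ⟨g, hg⟩ := hsurj (up r)
    obtain ⟨r', rfl⟩ := Ideal.Quotient.mk_surjective r
    have hgp : ρ g ^ p = 1 := by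
      rw [hg, show up (Ideal.Quotient.mk m r') =
        Matrix.SpecialLinearGroup.map (Ideal.Quotient.mk m) (up r') by
        apply Subtype.ext; ext i j; fin_cases i <;> fin_cases j <;> simp [up_coe],
        ← map_pow, up_pow_p, map_one]
    obtain ⟨s, e, hs, hs'⟩ := exists_pow_pPart ρ g hgp
    rw [hg] at hs'
    set g' := g ^ s
    set u₁ : Γ := ⟨up 1, up_one_mem_gammaK k (l : R)⟩
    have hu : g' * u₁ * g'⁻¹ = u₁ := huniq (e := 1) (by rw [conj_pow, hu1, mul_one, mul_inv_cancel])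
      hu1 (by rw [map_mul, map_mul, map_inv, hs', hup, map_one, up_mul, up_inv, up_mul]; congr 1; ring)
    have hc : up (1 : R) * (g' : SL(2, R)) = (g' : SL(2, R)) * up 1 :=
      congrArg Subtype.val (mul_inv_eq_iff_eq_mul.1 hu).symm
    have he := eq_up_of_comm hc (odd_pow_p hp2 e) (congrArg Subtype.val hs)
    refine ⟨_, he ▸ g'.2, ?_⟩
    have := congrArg (fun g : SL(2, R ⧸ m) => (g : Matrix (Fin 2) (Fin 2) (R ⧸ m)) 0 1) hs'
    simpa [hρ, up_coe] using this
  -- the multiplier ring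
  let J : AddSubgroup R := upSet Γ
  let S : Subring R :=
    { carrier := {r | ∀ y ∈ J, r * y ∈ J}
      one_mem' := fun y hy => by simpa using hy
      mul_mem' := fun {r s} hr hs y hy => by rw [mul_assoc]; exact hr _ (hs y hy)
      zero_mem' := fun y _ => by simp [zero_mem]
      add_mem' := fun {r s} hr hs y hy => by rw [add_mul]; exact add_mem (hr y hy) (hs y hy)
      neg_mem' := fun {r} hr y hy => by rw [neg_mul]; exact neg_mem (hr y hy) }
  have hsq : ∀ t : R ⧸ m, ∃ s ∈ S, Ideal.Quotient.mk m s = t ^ 2 := by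
    intro t
    rcases eq_or_ne t 0 with rfl | ht
    · exact ⟨0, zero_mem S, by simp⟩
    obtain ⟨g, hg⟩ := hsurj (dg (Units.mk0 t ht))
    obtain ⟨j, hj, hjt⟩ := hJsurj (t ^ 2)
    set u₁ : Γ := ⟨up 1, up_one_mem_gammaK k (l : R)⟩
    have hy : g * u₁ * g⁻¹ = ⟨up j, hj⟩ := huniq (e := 1)
      (by rw [conj_pow, hu1, mul_one, mul_inv_cancel]) (hpel _ hj (up_pow_p j))
      (by rw [map_mul, map_mul, map_inv, hg, hup, hup, map_one, dg_up, hjt, mul_one,
        Units.val_mk0])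
    have hval : (g : SL(2, R)) * up 1 * (g : SL(2, R))⁻¹ = up j := congrArg Subtype.val hy
    have hmat := conj_up_coe (g : SL(2, R)) 1
    rw [hval, up_coe] at hmat
    have h00 := congrArg (fun M : Matrix (Fin 2) (Fin 2) R => M 0 0) hmat
    have h01 := congrArg (fun M : Matrix (Fin 2) (Fin 2) R => M 0 1) hmat
    simp at h00 h01
    have hju : IsUnit j := hJ j hj fun h => ht (by
      rw [h, map_zero] at hjt; exact pow_eq_zero_iff two_ne_zero |>.1 hjt.symm)
    have hau : IsUnit (⟪(g : SL(2, R))⟫ 0 0) := by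
      rw [h01, sq] at hju; exact isUnit_of_mul_isUnit_left hju
    have hc0 : ⟪(g : SL(2, R))⟫ 1 0 = 0 := hau.mul_right_eq_zero.1 (by linear_combination h00)
    refine ⟨j, fun y hy => ?_, hjt⟩
    show up (j * y) ∈ Γ
    have := mul_mem (mul_mem g.2 (show up y ∈ Γ from hy)) (inv_mem g.2)
    convert this using 1
    apply Subtype.ext
    rw [conj_up_coe, up_coe, hc0, h01]
    ext i i'; fin_cases i <;> fin_cases i' <;> simp
  have h1J : (1 : R) ∈ J := up_one_mem_gammaK k (l : R)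
  have hSJ : ∀ s ∈ S, s ∈ J := fun s hs => by simpa using hs 1 h1J
  have hJS : ∀ j ∈ J, j ∈ S := by
    intro j hj
    have h2m : (2 : R ⧸ m) ≠ 0 := fun h =>
      h2 (RingHom.injective (algebraMap k (R ⧸ m)) (by rw [map_ofNat, map_zero]; exact h))
    obtain ⟨a, b, hab⟩ := exists_sq_sub h2m (Ideal.Quotient.mk m j)
    obtain ⟨sa, hsa, ea⟩ := hsq a
    obtain ⟨sb, hsb, eb⟩ := hsq b
    have := hinj (j - (sa - sb)) (show j - (sa - sb) ∈ J from
      sub_mem hj (hSJ _ (sub_mem hsa hsb))) (by rw [map_sub, map_sub, ea, eb, hab, sub_self])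
    rw [sub_eq_zero.1 this]
    exact sub_mem hsa hsb
  have hinvS : ∀ j ∈ S, j ≠ 0 → ∃ i ∈ S, j * i = 1 := by
    intro j hj hj0
    obtain ⟨u, rfl⟩ := hJ j (hSJ j hj) hj0
    refine ⟨(u : R) ^ (orderOf u - 1), pow_mem hj _, ?_⟩
    rw [← pow_succ', Nat.sub_add_cancel (orderOf_pos u), ← Units.val_pow_eq_pow_val,
      pow_orderOf_eq_one, Units.val_one]
  -- the parameter lies in the multiplier ring
  have hlam0 : Ideal.Quotient.mk m (l : R) ≠ 0 := (l.isUnit.map _).ne_zero
  obtain ⟨j₀, hj₀, hj₀'⟩ := hJsurj (-(Ideal.Quotient.mk m (l : R))⁻¹)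
  set y := (l : R) * j₀
  have hy : lo y ∈ Γ := by
    have := gammaK_swap k l hj₀
    rwa [swapHom_up] at this
  have hy1 : Ideal.Quotient.mk m y = -1 := by rw [map_mul, hj₀', mul_neg, mul_inv_cancel₀ hlam0]
  set u₁ : Γ := ⟨up 1, up_one_mem_gammaK k (l : R)⟩
  set g : Γ := u₁ * ⟨lo y, hy⟩ * u₁
  have hlo : ρ ⟨lo y, hy⟩ = lo (-1) := by
    apply Subtype.ext; ext i j; rw [hρ]; fin_cases i <;> fin_cases j <;> simp [lo_coe, hy1]
  have hg : ρ g = wy := by
    rw [map_mul, map_mul, hlo, hup, map_one]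
    refine ext4 ?_ ?_ ?_ ?_ <;>
      simp [wy_coe, up_coe, lo_coe, Matrix.SpecialLinearGroup.coe_mul, Matrix.mul_apply,
        Fin.sum_univ_two]
  have hz : g * u₁ * g⁻¹ = ⟨lo y, hy⟩ := huniq (e := 1)
    (by rw [conj_pow, hu1, mul_one, mul_inv_cancel]) (hpel _ hy (lo_pow_p y))
    (by rw [map_mul, map_mul, map_inv, hg, hup, map_one, wy_up, hlo])
  have hmat := conj_up_coe (g : SL(2, R)) 1
  rw [show (g : SL(2, R)) * up 1 * (g : SL(2, R))⁻¹ = lo y from congrArg Subtype.val hz,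
    lo_coe] at hmat
  have h00 := congrArg (fun M : Matrix (Fin 2) (Fin 2) R => M 0 0) hmat
  have hg00 : ⟪(g : SL(2, R))⟫ 0 0 = 1 + y ∧ ⟪(g : SL(2, R))⟫ 1 0 = y := by
    simp [g, u₁, up_coe, lo_coe, Matrix.SpecialLinearGroup.coe_mul, Matrix.mul_apply,
      Fin.sum_univ_two]
  simp [hg00.1, hg00.2] at h00
  have hj₀u : IsUnit j₀ := hJ j₀ hj₀ fun h => by
    rw [h, map_zero] at hj₀'
    exact hlam0 (inv_eq_zero.1 (neg_eq_zero.1 hj₀'.symm))
  have hy' : y = -1 := eq_neg_of_add_eq_zero_right ((l.isUnit.mul hj₀u).mul_left_eq_zero.1 (by linear_combination h00))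
  have hlS : (l : R) ∈ S := by
    obtain ⟨i, hi, hi1⟩ := hinvS j₀ (hJS j₀ hj₀) hj₀u.ne_zero
    have : (l : R) = -i := by
      calc (l : R) = (l : R) * (j₀ * i) := by rw [hi1, mul_one]
        _ = y * i := by rw [← mul_assoc]
        _ = -i := by rw [hy', neg_one_mul]
    rw [this]; exact neg_mem hi
  let A : Subalgebra k R :=
    { S with algebraMap_mem' := fun c => hJS _ (show up (algebraMap k R c) ∈ Γ by
        rw [Algebra.algebraMap_eq_smul_one]; exact up_mem_gammaK k (l : R) c) }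
  have hall : ∀ x : R, x ∈ S := fun x =>
    (Algebra.adjoin_le (Set.singleton_subset_iff.2 hlS) : Algebra.adjoin k {(l : R)} ≤ A)
      (hgen ▸ Algebra.mem_top)
  exact
    { exists_pair_ne := exists_pair_ne R
      mul_comm := mul_comm
      mul_inv_cancel := fun {a} ha => by
        obtain ⟨i, -, hi⟩ := hinvS a (hall a) ha
        exact ⟨i, hi⟩ }

end Finite

end CfsgLib.PLocal.QPair
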