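import Cfsg.Agent.Lib.PLocal.QPairSLField
import Cfsg.Agent.Lib.Solvable.Nilpotent

/-!
# Quadratic pairs: elements of prime power order in finite transvection groups
-/

set_option autoImplicit false

namespace CfsgLib.PLocal.QPair

open scoped MatrixGroups commutatorElement

section Group

variable {G : Type*} [Group G] {p : ℕ}

theorem exists_pow_pPart [Finite G] [hp : Fact p.Prime] {H : Type*} [Group H] (ρ : G →* H) (g : G)
    (hg : ρ g ^ p = 1) : ∃ j e : ℕ, (g ^ j) ^ (p ^ e) = 1 ∧ ρ (g ^ j) = ρ g := by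
  obtain ⟨e, m, hm, he⟩ := Nat.exists_eq_pow_mul_and_not_dvd (orderOf_pos g).ne' p hp.out.ne_one
  obtain ⟨s, -, hs⟩ := Nat.exists_mul_mod_eq_one_of_coprime
    ((hp.out.coprime_iff_not_dvd.2 hm).symm) hp.out.one_lt
  refine ⟨m * s, e, ?_, ?_⟩
  · rw [← pow_mul]
    refine orderOf_dvd_iff_pow_eq_one.1 ⟨s, ?_⟩
    rw [he]; ring
  · rw [map_pow, pow_eq_pow_mod _ hg, hs, pow_one]

theorem exists_pow_pPrimePart [Finite G] [hp : Fact p.Prime] {H : Type*} [Group H] (ρ : G →* H)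
    (g : G) {n : ℕ} (hn : Nat.Coprime n p) (hn1 : 1 < n) (hg : ρ g ^ n = 1) :
    ∃ j : ℕ, Nat.Coprime (orderOf (g ^ j)) p ∧ ρ (g ^ j) = ρ g := by
  obtain ⟨e, m, hm, he⟩ := Nat.exists_eq_pow_mul_and_not_dvd (orderOf_pos g).ne' p hp.out.ne_one
  obtain ⟨s, -, hs⟩ := Nat.exists_mul_mod_eq_one_of_coprime
    (Nat.Coprime.pow_left e hn.symm) hn1
  refine ⟨p ^ e * s, ?_, ?_⟩
  · refine Nat.Coprime.coprime_dvd_left (orderOf_dvd_of_pow_eq_one ?_)
      (hp.out.coprime_iff_not_dvd.2 hm).symm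
    rw [← pow_mul]
    refine orderOf_dvd_iff_pow_eq_one.1 ⟨s, ?_⟩
    rw [he]; ring
  · rw [map_pow, pow_eq_pow_mod _ hg, hs, pow_one]

theorem eq_of_central {x y : G} {M e : ℕ} (hx : x ^ (p ^ e) = 1) (hy : y ^ (p ^ e) = 1)
    (hM : Nat.Coprime M p) (hn : (x⁻¹ * y) ^ M = 1) (hcom : Commute x (x⁻¹ * y)) : x = y := by
  have h := hcom.mul_pow (p ^ e)
  rw [mul_inv_cancel_left, hx, hy, one_mul] at h
  have := (pow_gcd_eq_one).2 ⟨hn, h.symm⟩
  rw [(Nat.Coprime.pow_right e hM).gcd_eq_one, pow_one] at this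
  exact inv_mul_eq_one.1 this

theorem exists_pFixed [Finite G] [hp : Fact p.Prime] {u : G} {e : ℕ} (hu : u ^ (p ^ e) = 1)
    (D : Subgroup G) [D.Normal] (hD : p ∣ Nat.card D) :
    ∃ z ∈ D, z ≠ 1 ∧ (∃ f : ℕ, z ^ (p ^ f) = 1) ∧ u * z = z * u := by
  have hup : IsPGroup p (Subgroup.zpowers u) := by
    obtain ⟨j, -, hj⟩ := (Nat.dvd_prime_pow hp.out).1 (orderOf_dvd_of_pow_eq_one hu)
    exact IsPGroup.of_card ((Nat.card_zpowers u).trans hj)
  obtain ⟨S, hS⟩ := hup.exists_le_sylow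
  obtain ⟨x, hx⟩ := exists_prime_orderOf_dvd_card' (G := D) p hD
  have hxp : IsPGroup p (Subgroup.zpowers (x : G)) := by
    refine IsPGroup.of_card (n := 1) ?_
    rw [Nat.card_zpowers, Subgroup.orderOf_coe, hx, pow_one]
  obtain ⟨Q, hQ⟩ := hxp.exists_le_sylow
  obtain ⟨g, hg⟩ := MulAction.exists_smul_eq G Q S
  have hmem : g * (x : G) * g⁻¹ ∈ (S : Subgroup G) := by
    rw [← hg, Sylow.coe_subgroup_smul]
    exact Subgroup.smul_mem_pointwise_smul _ (MulAut.conj g) _ (hQ (Subgroup.mem_zpowers _))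
  set N := D.subgroupOf (S : Subgroup G)
  have hN : N ≠ ⊥ := by
    intro h
    have h1 : (⟨_, hmem⟩ : (S : Subgroup G)) ∈ N :=
      Subgroup.mem_subgroupOf.2 (Subgroup.Normal.conj_mem ‹D.Normal› _ x.2 g)
    rw [h, Subgroup.mem_bot, Subtype.ext_iff] at h1
    have h2 : (x : G) = 1 := by simpa using h1
    rw [show x = 1 from Subtype.ext h2, orderOf_one] at hx
    exact hp.out.one_lt.ne hx
  have : Group.IsNilpotent (S : Subgroup G) := S.isPGroup'.isNilpotent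
  obtain ⟨⟨⟨z, hzS⟩, hz⟩, hz1'⟩ := Subgroup.ne_bot_iff_exists_ne_one.1
    (CfsgLib.Solvable.normal_inf_center_ne_bot N hN)
  have hz1 : (⟨z, hzS⟩ : (S : Subgroup G)) ≠ 1 := fun h => hz1' (Subtype.ext h)
  obtain ⟨f, hf⟩ := S.isPGroup' ⟨z, hzS⟩
  refine ⟨z, Subgroup.mem_subgroupOf.1 hz.1, fun h => hz1 (Subtype.ext h),
    ⟨f, congrArg Subtype.val hf⟩, ?_⟩
  exact congrArg Subtype.val (Subgroup.mem_center_iff.1 hz.2 ⟨u, hS (Subgroup.mem_zpowers u)⟩)

end Group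

variable {R : Type*} [CommRing R]

local notation "⟪" g "⟫" => ((g : SL(2, R)) : Matrix (Fin 2) (Fin 2) R)

/-- An element commuting with `up 1` and of odd finite order is an upper transvection. -/
theorem eq_up_of_comm {z : SL(2, R)} (hc : up (1 : R) * z = z * up 1) {n : ℕ} (hn : Odd n)
    (hz : z ^ n = 1) : z = up (⟪z⟫ 0 1) := by
  have e00 := congrArg (fun g : SL(2, R) => ⟪g⟫ 0 0) hc
  have e01 := congrArg (fun g : SL(2, R) => ⟪g⟫ 0 1) hc
  simp [up_coe, Matrix.SpecialLinearGroup.coe_mul, Matrix.mul_apply, Fin.sum_univ_two] at e00 e01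
  have hd : ⟪z⟫ 1 1 = ⟪z⟫ 0 0 := by linear_combination e01
  have h00 : ∀ m : ℕ, ⟪z ^ m⟫ 0 0 = ⟪z⟫ 0 0 ^ m ∧ ⟪z ^ m⟫ 1 0 = 0 := by
    intro m
    induction m with
    | zero => simp
    | succ m ih =>
      rw [pow_succ, Matrix.SpecialLinearGroup.coe_mul]
      rw [Matrix.mul_apply, Matrix.mul_apply, Fin.sum_univ_two, Fin.sum_univ_two, e00, ih.1, ih.2]
      simp [pow_succ]
  have h1 := (h00 n).1
  rw [hz] at h1
  simp at h1
  have hdet := det_eq z
  rw [e00, hd, mul_zero, sub_zero] at hdet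
  obtain ⟨j, rfl⟩ := hn
  have ha : ⟪z⟫ 0 0 = 1 := by
    rw [pow_succ, pow_mul, sq, hdet, one_pow, one_mul] at h1
    exact h1.symm
  refine ext4 ?_ ?_ ?_ ?_ <;> simp [up_coe, ha, e00, hd]

/-- A congruence element modulo the nilradical is a `p`-element. -/
theorem pow_eq_one_of_nilpotent {p : ℕ} [hp : Fact p.Prime] [CharP R p] {w : SL(2, R)}
    (h : ∀ i j, IsNilpotent ((⟪w⟫ - 1) i j)) : ∃ e : ℕ, w ^ (p ^ e) = 1 := by
  set X := ⟪w⟫ - 1 with hX
  have hsq : X * X = Matrix.scalar (Fin 2) (X 0 0 + X 1 1) * X -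
      Matrix.scalar (Fin 2) (X 0 0 * X 1 1 - X 0 1 * X 1 0) := by
    ext i j
    fin_cases i <;> fin_cases j <;>
      simp [Matrix.mul_apply, Fin.sum_univ_two, Matrix.scalar_apply, Matrix.diagonal] <;> ring
  have hnX2 : IsNilpotent (X * X) := by
    rw [hsq]
    refine Commute.isNilpotent_sub ?_ ?_ ?_
    · exact Commute.mul_left (Matrix.scalar_commute _ (fun r => Commute.all _ r) _)
        (Matrix.scalar_commute _ (fun r => Commute.all _ r) _).symm
    · exact (Matrix.scalar_commute _ (fun r => Commute.all _ r) _).isNilpotent_mul_right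
        (((h 0 0).map _) |> fun h0 => by
          rw [map_add]; exact Commute.isNilpotent_add ((Commute.all _ _).map _) h0 ((h 1 1).map _))
    · refine IsNilpotent.map (Commute.isNilpotent_sub (Commute.all _ _) ?_ ?_) _
      · exact (Commute.all _ _).isNilpotent_mul_left (h 1 1)
      · exact (Commute.all _ _).isNilpotent_mul_left (h 1 0)
  obtain ⟨N, hN⟩ := hnX2
  refine ⟨2 * N, ?_⟩
  apply Subtype.ext
  have hle : 2 * N ≤ p ^ (2 * N) := le_of_lt (Nat.lt_pow_self hp.out.one_lt)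
  have h0 : X ^ (p ^ (2 * N)) = 0 := pow_eq_zero_of_le hle (by rw [pow_mul, pow_two]; exact hN)
  rw [Matrix.SpecialLinearGroup.coe_pow, show ⟪w⟫ = 1 + X by rw [hX]; abel,
    add_pow_char_pow_of_commute _ _ (Commute.one_left X), one_pow, h0, add_zero]
  rfl

end CfsgLib.PLocal.QPair
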