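import Cfsg.Agent.Lib.PLocal.QPairComp
import Cfsg.Agent.Lib.PLocal.QPairRadical

/-!
# Quadratic pairs: the components are quasisimple
-/

set_option autoImplicit false

universe u

namespace CfsgLib.PLocal.QPair

open Cfsg
open scoped commutatorElement
open CfsgLib.Trans3.RankOne (mem_conjBy conjBy_conjBy conjBy_eq_self_iff conjBy_one conj_mem_conjBy)

section Group

variable {Γ : Type*} [Group Γ]

theorem normal_commutator_le {N A : Subgroup Γ} (hn : ∀ a ∈ A, conjBy N a = N)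
    (hA : ∀ a ∈ A, ∀ b ∈ A, a * b = b * a) : ⁅N ⊔ A, N ⊔ A⁆ ≤ N := by
  have hc : ∀ a ∈ A, ∀ n ∈ N, a * n * a⁻¹ ∈ N := fun a ha n hn' =>
    (hn a ha).le (conj_mem_conjBy hn')
  have dec : ∀ u ∈ N ⊔ A, ∃ n ∈ N, ∃ a ∈ A, u = n * a := by
    intro u hu
    rw [Subgroup.sup_eq_closure] at hu
    induction hu using Subgroup.closure_induction with
    | mem u hu =>
      rcases hu with hu | hu
      · exact ⟨u, hu, 1, one_mem _, (mul_one u).symm⟩
      · exact ⟨1, one_mem _, u, hu, (one_mul u).symm⟩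
    | one => exact ⟨1, one_mem _, 1, one_mem _, (mul_one _).symm⟩
    | mul u v _ _ hu hv =>
      obtain ⟨n, hn', a, ha, rfl⟩ := hu
      obtain ⟨m, hm, b, hb, rfl⟩ := hv
      exact ⟨n * (a * m * a⁻¹), mul_mem hn' (hc a ha m hm), a * b, mul_mem ha hb, by group⟩
    | inv u _ hu =>
      obtain ⟨n, hn', a, ha, rfl⟩ := hu
      exact ⟨a⁻¹ * n⁻¹ * a⁻¹⁻¹, hc _ (inv_mem ha) _ (inv_mem hn'), a⁻¹, inv_mem ha, by group⟩
  refine Subgroup.commutator_le.2 fun u hu v hv => ?_
  obtain ⟨n, hn', a, ha, rfl⟩ := dec u hu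
  obtain ⟨m, hm, b, hb, rfl⟩ := dec v hv
  have e : ⁅n * a, m * b⁆ = n * (a * m * a⁻¹) * (b * n⁻¹ * b⁻¹) * m⁻¹ := by
    rw [commutatorElement_def]
    have hab : a * b * a⁻¹ = b := by rw [hA a ha b hb, mul_inv_cancel_right]
    calc n * a * (m * b) * (n * a)⁻¹ * (m * b)⁻¹
        = n * (a * m * a⁻¹) * (a * b * a⁻¹) * n⁻¹ * b⁻¹ * m⁻¹ := by group
      _ = _ := by rw [hab]; group
  rw [e]
  exact mul_mem (mul_mem (mul_mem hn' (hc a ha m hm)) (hc b hb _ (inv_mem hn'))) (inv_mem hm)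

end Group

variable {k : Type u} [Field k] {M : Type u} [AddCommGroup M] [Module k M] [FiniteDimensional k M]

local notation "GLk" => LinearMap.GeneralLinearGroup k M
local notation "𝔈" => M →ₗ[k] M

variable {G : Subgroup (LinearMap.GeneralLinearGroup k M)}

theorem exists_scalar (h2 : (2 : k) ≠ 0) (hk : Nat.card k ≠ 3) : ∃ t : k, t ≠ 0 ∧ t ^ 2 ≠ 1 := by
  by_contra h
  push Not at h
  classical
  have hsub : (Set.univ : Set k) ⊆ ({0, 1, -1} : Finset k) := by
    intro t _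
    rcases eq_or_ne t 0 with rfl | ht
    · simp
    · rcases sq_eq_one_iff.1 (h t ht) with e | e <;> simp [e]
  have := Set.encard_le_encard hsub
  rw [Set.encard_univ, Set.encard_coe_eq_coe_finsetCard] at this
  have h3 : ({0, 1, -1} : Finset k).card ≤ 3 := Finset.card_le_three
  have := this.trans (Nat.cast_le.2 h3)
  exact absurd (three_lt_card h2 hk) (not_lt.2 this)

/-- A root element of an inverse pair is a commutator in any group containing both root groups. -/
theorem root_mem_commutator (h2 : (2 : k) ≠ 0) (hk : Nat.card k ≠ 3) {z c : 𝔈} (hp : InvPair z c)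
    {X : Subgroup GLk} (hz : ∀ s : k, uEnd (s • z) (smul_sq hp.zz s) ∈ X)
    (hc : ∀ s : k, uEnd (s • c) (smul_sq hp.cc s) ∈ X) : uEnd z hp.zz ∈ ⁅X, X⁆ := by
  obtain ⟨t, ht0, ht⟩ := exists_scalar h2 hk
  let n : k → GLk := fun s => uEnd (s • z) (smul_sq hp.zz s) * (uEnd (s⁻¹ • c) (smul_sq hp.cc _))⁻¹ *
    uEnd (s • z) (smul_sq hp.zz s)
  have hnX : ∀ s, n s ∈ X := fun s => mul_mem (mul_mem (hz s) (inv_mem (hc _))) (hz s)
  have hn : ∀ s : k, s ≠ 0 → (n s : 𝔈) = 1 - z * c - c * z + s • z - s⁻¹ • c ∧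
      (((n s)⁻¹ : GLk) : 𝔈) = 1 - z * c - c * z - s • z + s⁻¹ • c := by
    intro s hs
    constructor <;>
      simp only [n, mul_inv_rev, inv_inv, Units.val_mul, uEnd_coe, uEnd_inv_coe, add_mul, mul_add,
        mul_sub, sub_mul, one_mul, mul_one, smul_mul_assoc, mul_smul_comm, smul_smul, hp.zz,
        hp.zcz, smul_zero, mul_assoc, ← mul_assoc z c z, inv_mul_cancel₀ hs, mul_inv_cancel₀ hs,
        one_smul, smul_add, smul_sub, mul_zero, add_zero, sub_zero] <;>
      abel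
  set h := n t * (n 1)⁻¹ with hh
  have hhX : h ∈ X := mul_mem (hnX t) (inv_mem (hnX 1))
  have P1 : (1 - z * c - c * z) * z = 0 := by
    rw [sub_mul, sub_mul, one_mul, hp.zcz, mul_assoc c z z, hp.zz, mul_zero, sub_self, sub_zero]
  have P2 : z * (1 - z * c - c * z) = 0 := by
    rw [mul_sub, mul_sub, mul_one, ← mul_assoc z z c, hp.zz, zero_mul, sub_zero, ← mul_assoc, hp.zcz,
      sub_self]
  have Q1 : (1 - z * c - c * z) * c = 0 := by
    rw [sub_mul, sub_mul, one_mul, mul_assoc z c c, hp.cc, mul_zero, sub_zero, hp.czc, sub_self]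
  have Q2 : c * (1 - z * c - c * z) = 0 := by
    rw [mul_sub, mul_sub, mul_one, ← mul_assoc c c z, hp.cc, zero_mul, sub_zero, ← mul_assoc, hp.czc,
      sub_self]
  have a1 : (((n 1)⁻¹ : GLk) : 𝔈) * z = c * z := by
    rw [(hn 1 one_ne_zero).2, inv_one, one_smul, one_smul, add_mul, sub_mul (1 - z * c - c * z) z z,
      P1, hp.zz, sub_zero, zero_add]
  have a2 : z * (n t : 𝔈) = -(t⁻¹ • (z * c)) := by
    rw [(hn t ht0).1, mul_sub z (1 - z * c - c * z + t • z), mul_add, P2, mul_smul_comm, hp.zz,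
      smul_zero, add_zero, mul_smul_comm, zero_sub]
  have hz1 : (h : 𝔈) * z = t • z := by
    rw [hh, Units.val_mul, mul_assoc, a1, (hn t ht0).1, ← mul_assoc,
      sub_mul (1 - z * c - c * z + t • z), add_mul, Q1, smul_mul_assoc, zero_add, smul_mul_assoc,
      hp.cc, smul_zero, sub_zero, smul_mul_assoc, hp.zcz]
  have hz2 : z * (h : 𝔈) = t⁻¹ • z := by
    have e1 : z * c * (1 - z * c - c * z) = 0 := by rw [mul_assoc, Q2, mul_zero]
    rw [hh, Units.val_mul, ← mul_assoc, a2, (hn 1 one_ne_zero).2, inv_one, one_smul, one_smul,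
      neg_mul, smul_mul_assoc, mul_add, mul_sub (z * c), e1, hp.zcz, mul_assoc z c c, hp.cc, mul_zero,
      add_zero, zero_sub, smul_neg, neg_neg]
  have hz3 : z * ((h⁻¹ : GLk) : 𝔈) = t • z := by
    have e : t • (z * (h : 𝔈)) = z := by rw [hz2, smul_smul, mul_inv_cancel₀ ht0, one_smul]
    conv_lhs => rw [← e]
    rw [smul_mul_assoc, mul_assoc, Units.mul_inv, mul_one]
  have h12 : t ^ 2 - 1 ≠ 0 := sub_ne_zero.2 ht
  set s := (t ^ 2 - 1)⁻¹
  have e : ⁅h, uEnd (s • z) (smul_sq hp.zz s)⁆ = uEnd z hp.zz := by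
    refine Units.ext ?_
    rw [commutatorElement_def, Units.val_mul, Units.val_mul, Units.val_mul, uEnd_coe, uEnd_inv_coe,
      uEnd_coe, mul_add, mul_one, add_mul, Units.mul_inv, mul_smul_comm, hz1, smul_mul_assoc,
      smul_mul_assoc, hz3, smul_smul, smul_smul]
    simp only [add_mul, mul_sub, mul_one, one_mul, smul_mul_assoc, mul_smul_comm, hp.zz, smul_zero,
      sub_zero]
    rw [add_sub_assoc, add_zero, ← sub_smul,
      show s * t * t - s = s * (t ^ 2 - 1) by ring, inv_mul_cancel₀ h12, one_smul]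
  rw [← e]
  exact Subgroup.commutator_mem_commutator hhX (hz s)

/-- The component of `A`. -/
def compSet (G : Subgroup (LinearMap.GeneralLinearGroup k M))
    (A : Subgroup (LinearMap.GeneralLinearGroup k M)) : Set (Subgroup (LinearMap.GeneralLinearGroup k M)) :=
  componentOf (FAdj (quadraticRootSubgroups G)) (quadraticRootSubgroups G) A

/-- The group generated by the component of `A`. -/
def compSup (G : Subgroup (LinearMap.GeneralLinearGroup k M))
    (A : Subgroup (LinearMap.GeneralLinearGroup k M)) : Subgroup (LinearMap.GeneralLinearGroup k M) :=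
  ⨆ B ∈ compSet G A, B

omit [FiniteDimensional k M] in
theorem le_compSup {A B : Subgroup GLk} (hB : B ∈ compSet G A) : B ≤ compSup G A :=
  le_iSup₂ (f := fun C (_ : C ∈ compSet G A) => C) B hB

omit [FiniteDimensional k M] in
theorem mem_compSet_self {A : Subgroup GLk} (hA : A ∈ quadraticRootSubgroups G) : A ∈ compSet G A :=
  ⟨hA, Relation.ReflTransGen.refl⟩

theorem compSup_le {A : Subgroup GLk} : compSup G A ≤ G := iSup₂_le fun _ hB => sigma_le hB.1

theorem compSup_le_sigma {A : Subgroup GLk} :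
    compSup G A ≤ ⨆ B ∈ quadraticRootSubgroups G, B :=
  iSup₂_le fun B hB => le_iSup₂ (f := fun C (_ : C ∈ quadraticRootSubgroups G) => C) B hB.1

theorem conjBy_compSet (h2 : (2 : k) ≠ 0) (hk : Nat.card k ≠ 3) (hG : IsQuadraticPair G)
    {A B : Subgroup GLk} (hB : B ∈ compSet G A) {g : GLk} (hg : g ∈ G) :
    conjBy B g ∈ compSet G A :=
  ⟨sigma_conj hB.1 hg, hB.2.trans (reach_conjBy_G h2 hk hG hg B hB.1)⟩

theorem conjBy_compSup (h2 : (2 : k) ≠ 0) (hk : Nat.card k ≠ 3) (hG : IsQuadraticPair G)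
    {A : Subgroup GLk} {g : GLk} (hg : g ∈ G) : conjBy (compSup G A) g = compSup G A := by
  have hle : ∀ g ∈ G, conjBy (compSup G A) g ≤ compSup G A := by
    intro g hg
    rw [compSup, conjBy, Subgroup.map_iSup]
    refine iSup_le fun B => ?_
    rw [Subgroup.map_iSup]
    exact iSup_le fun hB => le_compSup (conjBy_compSet h2 hk hG hB hg)
  refine le_antisymm (hle g hg) ?_
  have := Subgroup.map_mono (f := (MulAut.conj g).toMonoidHom) (hle g⁻¹ (inv_mem hg))
  change conjBy _ g ≤ conjBy _ g at this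
  rwa [conjBy_conjBy, mul_inv_cancel, conjBy_one] at this

theorem noUnip_compSup (h2 : (2 : k) ≠ 0) (hk : Nat.card k ≠ 3) (hG : IsQuadraticPair G)
    (A : Subgroup GLk) : NoUnip (compSup G A) :=
  (noUnip_of_irreducible hG.1).of_normal compSup_le fun _ hg => conjBy_compSup h2 hk hG hg

/-- A component is a conjugacy class in the group it generates. -/
theorem exists_conj_compSet {A B : Subgroup GLk} (hA : A ∈ quadraticRootSubgroups G)
    (hB : B ∈ compSet G A) : ∃ g ∈ compSup G A, B = conjBy A g := by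
  obtain ⟨hBS, hr⟩ := hB
  clear hBS
  induction hr with
  | refl => exact ⟨1, one_mem _, (conjBy_one A).symm⟩
  | @tail C D h1 h2 ih =>
    obtain ⟨g, hg, rfl⟩ := ih
    obtain ⟨x, hx, e⟩ := CfsgLib.Trans3.RankOne.right_mem h2.2.2
    refine ⟨x * g, mul_mem ?_ hg, by rw [e, conjBy_conjBy]⟩
    exact (sup_le (le_compSup (A := A) ⟨h2.1, h1⟩) (le_compSup ⟨h2.2.1, h1.tail h2⟩) :
      conjBy A g ⊔ D ≤ compSup G A) hx

/-- Rank one pairs in `Σ` generate groups containing their root groups in the commutator group. -/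
theorem le_commutator_of_rankOne (h2 : (2 : k) ≠ 0) (hk : Nat.card k ≠ 3) (hG : IsQuadraticPair G)
    {A B : Subgroup GLk} (hA : A ∈ quadraticRootSubgroups G) (hB : B ∈ quadraticRootSubgroups G)
    (h : IsRankOnePair A B) : A ≤ ⁅A ⊔ B, A ⊔ B⁆ := by
  obtain ⟨σ, hσ, rfl⟩ := hA
  obtain ⟨τ, hτ, rfl⟩ := hB
  rw [minimal_iff] at hσ hτ
  have ho := opp_of_rankOne h2 hk hG hσ hτ h
  intro e he
  have hx := (mem_sameAction_iff hσ).1 he
  rcases eq_or_ne ((e : 𝔈) - 1) 0 with h0 | hx0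
  · rw [show e = 1 from Units.ext (sub_eq_zero.1 h0)]; exact one_mem _
  obtain ⟨c, hc, -, h1, h1'⟩ :=
    (ho.mono hσ hτ hx (self_mem_rootSet hτ.1) hx0 hτ.2.1).exists_inverse h2 hk (hσ.of_mem hx hx0) hτ
  rw [show e = uEnd _ hx.1.1 from Units.ext (by rw [uEnd_coe]; abel)]
  exact root_mem_commutator h2 hk ⟨hx.1.1, hc.1.1, h1, h1'⟩
    (fun s => Subgroup.mem_sup_left (uEnd_mem_sameAction hσ (smul_mem_rootSet hx s)))
    (fun s => Subgroup.mem_sup_right (uEnd_mem_sameAction hτ (smul_mem_rootSet hc s)))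

theorem exists_compPartner (h2 : (2 : k) ≠ 0) (hk : Nat.card k ≠ 3) (hG : IsQuadraticPair G)
    {A B : Subgroup GLk} (hB : B ∈ compSet G A) : ∃ C ∈ compSet G A, IsRankOnePair B C := by
  obtain ⟨C, hC, hBC⟩ := exists_partner h2 hk hG hB.1
  exact ⟨C, ⟨hC, hB.2.tail ⟨hB.1, hC, hBC⟩⟩, hBC⟩

theorem le_commutator_compSup (h2 : (2 : k) ≠ 0) (hk : Nat.card k ≠ 3) (hG : IsQuadraticPair G)
    (A : Subgroup GLk) : compSup G A ≤ ⁅compSup G A, compSup G A⁆ := by
  refine iSup₂_le fun B hB => ?_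
  obtain ⟨C, hC, hBC⟩ := exists_compPartner h2 hk hG hB
  exact (le_commutator_of_rankOne h2 hk hG hB.1 hC.1 hBC).trans
    (Subgroup.commutator_mono (sup_le (le_compSup hB) (le_compSup hC))
      (sup_le (le_compSup hB) (le_compSup hC)))

theorem sigma_isUnipotentOn {A : Subgroup GLk} (hA : A ∈ quadraticRootSubgroups G) :
    IsUnipotentOn A := by
  obtain ⟨a, ha, rfl⟩ := exists_rsub hA
  rw [CfsgLib.Trans3.Unipotent.isUnipotentOn_iff]
  refine ⟨2, (CfsgLib.Trans3.Unipotent.flag_eq_bot_iff _ 2).2 fun l hl hlen => ?_⟩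
  match l, hlen with
  | [x, y], _ =>
    obtain ⟨g, hg, rfl⟩ := hl x (by simp)
    obtain ⟨g', hg', rfl⟩ := hl y (by simp)
    simp [rootSet_mul ha.1.1 ((mem_rsub ha).1 hg) ((mem_rsub ha).1 hg')]

omit [FiniteDimensional k M] in
theorem sigma_comm {A : Subgroup GLk} [FiniteDimensional k M] (hA : A ∈ quadraticRootSubgroups G) :
    ∀ a ∈ A, ∀ b ∈ A, a * b = b * a := by
  obtain ⟨σ, hσ, rfl⟩ := hA
  have h := sameAction_isMulCommutative (minimal_iff.1 hσ)
  exact fun a ha b hb => congrArg Subtype.val (h.is_comm.comm ⟨a, ha⟩ ⟨b, hb⟩)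

/-- A normal subgroup of a component group is central or everything. -/
theorem normal_cases (h2 : (2 : k) ≠ 0) (hk : Nat.card k ≠ 3) (hG : IsQuadraticPair G)
    {A₀ : Subgroup GLk} (hA₀ : A₀ ∈ quadraticRootSubgroups G) {N : Subgroup GLk}
    (hN : N ≤ compSup G A₀) (hn : ∀ h ∈ compSup G A₀, conjBy N h = N) :
    compSup G A₀ ≤ N ∨ ∀ n ∈ N, ∀ h ∈ compSup G A₀, n * h = h * n := by
  by_cases hbad : ∃ A ∈ compSet G A₀, ∃ n ∈ N, ⁅conjBy A n, A⁆ ≠ ⊥
  · left
    obtain ⟨A, hA, n, hnN, hne⟩ := hbad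
    have hnG : n ∈ G := compSup_le (hN hnN)
    have hA' : conjBy A n ∈ compSet G A₀ := conjBy_compSet h2 hk hG hA hnG
    have hnA : ∀ a ∈ A, conjBy N a = N := fun a ha => hn a (le_compSup hA ha)
    have hle : conjBy A n ≤ N ⊔ A := by
      rintro _ ⟨a, ha, rfl⟩
      exact mul_mem (mul_mem (Subgroup.mem_sup_left hnN) (Subgroup.mem_sup_right ha))
        (Subgroup.mem_sup_left (inv_mem hnN))
    have hX : ⁅conjBy A n ⊔ A, conjBy A n ⊔ A⁆ ≤ N :=
      (Subgroup.commutator_mono (sup_le hle le_sup_right) (sup_le hle le_sup_right)).trans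
        (normal_commutator_le hnA (sigma_comm hA.1))
    obtain ⟨B, hB, hBN⟩ : ∃ B ∈ compSet G A₀, B ≤ N := by
      obtain ⟨a, ha, e1⟩ := exists_rsub hA'.1
      obtain ⟨b, hb, e2⟩ := exists_rsub hA.1
      rcases unip_or_opp h2 hk ha hb with ⟨h1, h1'⟩ | ho
      swap
      · refine ⟨_, hA', (le_commutator_of_rankOne h2 hk hG hA'.1 hA.1 ?_).trans hX⟩
        rw [e1, e2]
        exact isRankOnePair_of_opp h2 hk (isMin_uEnd ha) (isMin_uEnd hb)
          (by rwa [uEnd_sub_one, uEnd_sub_one])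
      rw [e1, e2] at hne hX
      have hEN : ⁅rsub ha, rsub hb⁆ ≤ N :=
        (Subgroup.commutator_mono le_sup_left le_sup_right).trans hX
      rcases unipotent_pair h2 hk hG (isMin_uEnd ha) (isMin_uEnd hb)
        (by rw [uEnd_sub_one, uEnd_sub_one]; exact ⟨h1, h1'⟩) with hu | ⟨hu, -⟩
      · exact absurd hu hne
      change ⁅rsub ha, rsub hb⁆ ∈ _ at hu
      obtain ⟨d, hd, e3⟩ := exists_rsub hu
      have h0 : a * b - b * a ≠ 0 := fun h0 => hne (commutator_eq_bot_of_commute h2 (isMin_uEnd ha)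
        (isMin_uEnd hb) (Or.inl ⟨_, uEnd_mem_rsub ha, fun e => ha.2.1 (by rw [← uEnd_sub_one a ha.1.1, e]; simp),
          _, uEnd_mem_rsub hb, fun e => hb.2.1 (by rw [← uEnd_sub_one b hb.1.1, e]; simp),
          (commute_iff _ _).2 (by rw [uEnd_sub_one, uEnd_sub_one]; exact sub_eq_zero.1 h0)⟩))
      have hz := (commData ha hb h1 h1' h0).isMin
      have hmem : a * b - b * a ∈ rootSet G d := by
        have h := Subgroup.commutator_mem_commutator (uEnd_mem_rsub ha) (uEnd_mem_rsub hb)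
        rw [e3, commutatorElement_def, mem_rsub hd,
          commutator_coe (uEnd_coe a ha.1.1) (uEnd_coe b hb.1.1) ha.1.1 hb.1.1 h1 h1',
          add_sub_cancel_left] at h
        exact h
      refine ⟨rsub hz, ⟨rsub_mem hz, hA'.2.trans (e1 ▸ reach_comm h2 hk hG ha hb h1 h1' h0 hz)⟩, ?_⟩
      rw [rsub_eq hd hz hmem, ← e3]
      exact hEN
    refine iSup₂_le fun C hC => ?_
    obtain ⟨g, hg, rfl⟩ := exists_conj_compSet hA₀ hB
    obtain ⟨g', hg', rfl⟩ := exists_conj_compSet hA₀ hC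
    have hg'' : g' * g⁻¹ ∈ compSup G A₀ := mul_mem hg' (inv_mem hg)
    rw [show conjBy A₀ g' = conjBy (conjBy A₀ g) (g' * g⁻¹) by
      rw [conjBy_conjBy, inv_mul_cancel_right], ← hn _ hg'']
    exact Subgroup.map_mono hBN
  · right
    push Not at hbad
    intro n hnN h hh
    revert n
    suffices h0 : h ∈ Subgroup.centralizer (N : Set GLk) from fun n hnN =>
      Subgroup.mem_centralizer_iff.1 h0 n hnN
    refine (iSup₂_le fun A hA => ?_ : compSup G A₀ ≤ Subgroup.centralizer (N : Set GLk)) hh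
    have hAG : A ≤ G := sigma_le hA.1
    -- the conjugates of `A` under `N`
    set W : Set (Subgroup GLk) := {B | ∃ m ∈ N, B = conjBy A m} with hW
    have comm : ∀ B ∈ W, ∀ C ∈ W, ∀ x ∈ B, ∀ y ∈ C, x * y = y * x := by
      rintro B ⟨m, hm, rfl⟩ C ⟨m', hm', rfl⟩ x hx y hy
      have h0 := hbad A hA (m⁻¹ * m') (mul_mem (inv_mem hm) hm')
      have h1 : ⁅conjBy A m', conjBy A m⁆ = ⊥ := by
        rw [show conjBy A m' = conjBy (conjBy A (m⁻¹ * m')) m by
          rw [conjBy_conjBy, mul_inv_cancel_left], conjBy, conjBy, ← Subgroup.map_commutator, h0,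
          Subgroup.map_bot]
      exact Subgroup.mem_centralizer_iff.1
        (Subgroup.commutator_eq_bot_iff_le_centralizer.1 h1 hy) x hx
    set U := ⨆ B ∈ W, B
    have hU : IsUnipotentOn U := by
      refine (Cfsg.Agent.S5061.result (G := U) (W := W)
        (fun B hB => le_iSup₂ (f := fun C (_ : C ∈ W) => C) B hB) ?_ ?_).1
      · rintro B hB C hC
        refine isUnipotentOn_sup_of_normalize ?_ ?_ fun v hv => conjBy_fixed fun d hd =>
          comm C hC B hB v hv d hd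
        · obtain ⟨m, hm, rfl⟩ := hB; exact isUnipotentOn_conjBy (sigma_isUnipotentOn hA.1) m
        · obtain ⟨m, hm, rfl⟩ := hC; exact isUnipotentOn_conjBy (sigma_isUnipotentOn hA.1) m
      · intro B hB g hg
        suffices conjBy B g = B by rw [this]; exact hB
        refine conjBy_fixed fun d hd => ?_
        refine Subgroup.mem_centralizer_iff.1 ((iSup₂_le fun C hC => ?_ :
          U ≤ Subgroup.centralizer (B : Set GLk)) hg) d hd |>.symm
        exact fun x hx => Subgroup.mem_centralizer_iff.2 fun y hy => comm B hB C hC y hy x hx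
    have hAU : A ≤ U := le_iSup₂_of_le (conjBy A 1) ⟨1, one_mem _, rfl⟩ (conjBy_one A).ge
    have hbot := commute_of_unip_commutator ((noUnip_compSup h2 hk hG A₀).of_normal hN hn)
      (fun a ha => hn a (le_compSup hA ha)) hU (Subgroup.commutator_le.2 fun m hm a ha => by
        rw [commutatorElement_def]
        exact mul_mem (le_iSup₂ (f := fun C (_ : C ∈ W) => C) (conjBy A m) ⟨m, hm, rfl⟩
          (conj_mem_conjBy ha)) (hAU (inv_mem ha)))
    rw [Subgroup.commutator_comm] at hbot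
    exact Subgroup.commutator_eq_bot_iff_le_centralizer.1 hbot

end CfsgLib.PLocal.QPair
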