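import Cfsg.Agent.Lib.PLocal.QPairModel
import Cfsg.Agent.Lib.PLocal.QPairSLFinite
import Cfsg.Agent.Lib.PLocal.QPairSLInfinite

/-!
# Quadratic pairs: two minimal root endomorphisms which do not generate a nilpotent algebra

Their scalar families generate `SL₂` over the field generated by `a b` on the image of `a`, acting
trivially on a complement of `range a ⊕ range b`.
-/

set_option autoImplicit false

namespace CfsgLib.PLocal.QPair

open scoped MatrixGroups
open CfsgLib.Trans3.Unipotent (flag flag_antitone apply_mem_flag_succ deg degSubgroup deg_mono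
  apply_mem_of_deg commutator_mem_deg)

variable {k : Type*} [Field k] {M : Type*} [AddCommGroup M] [Module k M]

local notation "GLk" => LinearMap.GeneralLinearGroup k M
local notation "𝔈" => M →ₗ[k] M

/-- The group generated by the scalar families of `1 + a` and `1 + b`. -/
def pairGroup (a b : 𝔈) : Subgroup GLk :=
  Subgroup.closure ({g : GLk | ∃ c : k, (g : 𝔈) = 1 + c • a} ∪ {g : GLk | ∃ c : k, (g : 𝔈) = 1 + c • b})

variable {G : Subgroup (LinearMap.GeneralLinearGroup k M)} {a b : M →ₗ[k] M}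

theorem pairGroup_le (ha : IsRoot G a) (hb : IsRoot G b) : pairGroup a b ≤ G :=
  (Subgroup.closure_le _).2 (by
    rintro g (⟨c, hc⟩ | ⟨c, hc⟩)
    · exact ha.2 c g hc
    · exact hb.2 c g hc)

namespace Frame

variable (F : Frame a b)

/-- The flag of the nilpotent part. -/
def flag₀ (i : ℕ) : Submodule k M := flag ({a, b} : Set (M →ₗ[k] M)) i ⊓ F.M₀

theorem flag₀_antitone : Antitone F.flag₀ := fun _ _ h => inf_le_inf_right _ (flag_antitone _ h)

theorem exists_flag₀_bot : ∃ L, ∀ i, L ≤ i → F.flag₀ i = ⊥ := by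
  obtain ⟨L, hL⟩ := F.flag_le
  refine ⟨L, fun i hi => le_bot_iff.1 (le_trans (inf_le_inf_right _ ((flag_antitone _ hi).trans hL)) ?_)⟩
  rw [F.compl.symm.inf_eq_bot]

theorem flag₀_zero : F.flag₀ 0 = F.M₀ := top_inf_eq _

/-- Elements deep in the filtration fix the nilpotent part. -/
theorem fix_of_deg {L j : ℕ} (hL : ∀ i, L ≤ i → F.flag₀ i = ⊥) (hj : L ≤ j) {g : GLk}
    (hg : g ∈ deg F.flag₀ j) : ∀ m ∈ F.M₀, (g : 𝔈) m = m := fun m hm => by
  have h := hg 0 m (by rw [F.flag₀_zero]; exact hm)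
  rw [hL _ (by omega), Submodule.mem_bot] at h
  exact sub_eq_zero.1 h

variable [FiniteDimensional k M]

theorem pairGroup_deg : ∀ g ∈ pairGroup a b, g ∈ deg F.flag₀ 1 := by
  have h : pairGroup a b ≤ degSubgroup F.flag₀_antitone := by
    refine (Subgroup.closure_le _).2 fun g hg => ?_
    show g ∈ deg F.flag₀ 1
    intro i m hm
    unfold flag₀ at hm ⊢
    rw [Submodule.mem_inf] at hm ⊢
    rcases hg with ⟨c, hc⟩ | ⟨c, hc⟩ <;>
      rw [hc, LinearMap.add_apply, Module.End.one_apply, LinearMap.smul_apply, add_sub_cancel_left]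
    · exact ⟨Submodule.smul_mem _ c (apply_mem_flag_succ (T := {a, b}) (Set.mem_insert a _) hm.1),
        Submodule.smul_mem _ c (F.a0 m hm.2)⟩
    · exact ⟨Submodule.smul_mem _ c (apply_mem_flag_succ (T := {a, b}) (Set.mem_insert_of_mem a rfl) hm.1),
        Submodule.smul_mem _ c (F.b0 m hm.2)⟩
  exact fun g hg => h hg

theorem deg_pow_prime {p : ℕ} [CharP k p] {g : GLk} {j : ℕ} (hj : 1 ≤ j)
    (hg : g ∈ deg F.flag₀ j) : g ^ p ∈ deg F.flag₀ (j + 1) := by
  have key : ∀ (n i : ℕ), ∀ m ∈ F.flag₀ i,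
      ((g ^ n : GLk) : 𝔈) m - m - (n : k) • ((g : 𝔈) m - m) ∈ F.flag₀ (i + (j + 1)) := by
    intro n
    induction n with
    | zero => intro i m _; simp
    | succ n ih =>
      intro i m hm
      have hgm := hg i m hm
      have h1 := ih i m hm
      have h2 : (g : 𝔈) (((g ^ n : GLk) : 𝔈) m - m - (n : k) • ((g : 𝔈) m - m)) ∈ F.flag₀ (i + (j + 1)) :=
        apply_mem_of_deg F.flag₀_antitone (deg_mono F.flag₀_antitone hj hg) h1
      have h3 := F.flag₀_antitone (show i + (j + 1) ≤ i + j + j by omega)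
        (Submodule.smul_mem _ (n : k) (hg (i + j) _ hgm))
      convert add_mem h2 h3 using 1
      rw [pow_succ', Units.val_mul, Module.End.mul_apply]
      simp only [map_sub, map_smul, Nat.cast_succ]
      module
  intro i m hm
  simpa using key p i m hm

theorem pow_prime_deg {p : ℕ} [CharP k p] {g : GLk} (hg : g ∈ pairGroup a b) (e : ℕ) :
    g ^ (p ^ e) ∈ deg F.flag₀ (e + 1) := by
  induction e with
  | zero => simpa using F.pairGroup_deg g hg
  | succ e ih => rw [pow_succ, pow_mul]; exact F.deg_pow_prime (by omega) ih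

theorem rep_of_mem {g : GLk} (hg : g ∈ pairGroup a b) : ∃ A ∈ gammaK k F.lam, F.Rep g A := by
  induction hg using Subgroup.closure_induction with
  | mem g hg =>
    rcases hg with ⟨c, hc⟩ | ⟨c, hc⟩
    · rw [show g = uEnd (c • a) (smul_sq F.asq c) from Units.ext hc]
      exact ⟨_, up_mem_gammaK k _ c, F.rep_up c⟩
    · rw [show g = uEnd (c • b) (smul_sq F.bsq c) from Units.ext hc]
      exact ⟨_, lo_mem_gammaK k _ c, F.rep_lo c⟩
  | one => exact ⟨1, one_mem _, F.rep_one⟩
  | mul x y _ _ hx hy =>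
    obtain ⟨A, hA, hA'⟩ := hx
    obtain ⟨B, hB, hB'⟩ := hy
    exact ⟨A * B, mul_mem hA hB, F.rep_mul hA' hB'⟩
  | inv x _ hx =>
    obtain ⟨A, hA, hA'⟩ := hx
    exact ⟨A⁻¹, inv_mem hA, F.rep_inv hA'⟩

theorem exists_rep {A : SL(2, F.coeff)} (hA : A ∈ gammaK k F.lam) :
    ∃ g ∈ pairGroup a b, F.Rep g A := by
  induction hA using Subgroup.closure_induction with
  | mem x hx =>
    rcases hx with ⟨c, rfl⟩ | ⟨c, rfl⟩
    · exact ⟨_, Subgroup.subset_closure (Or.inl ⟨c, rfl⟩), F.rep_up c⟩
    · exact ⟨_, Subgroup.subset_closure (Or.inr ⟨c, rfl⟩), F.rep_lo c⟩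
  | one => exact ⟨1, one_mem _, F.rep_one⟩
  | mul x y _ _ hx hy =>
    obtain ⟨g, hg, hg'⟩ := hx
    obtain ⟨h, hh, hh'⟩ := hy
    exact ⟨g * h, mul_mem hg hh, F.rep_mul hg' hh'⟩
  | inv x _ hx =>
    obtain ⟨g, hg, hg'⟩ := hx
    exact ⟨g⁻¹, inv_mem hg, F.rep_inv hg'⟩

theorem isUnit_coeff {r : F.coeff} (h : Function.Injective (r : Module.End k F.V)) : IsUnit r := by
  have hinj : Function.Injective (LinearMap.mulLeft k r) := fun x y hxy => Subtype.ext
    (LinearMap.ext fun v => h (LinearMap.congr_fun (congrArg Subtype.val hxy) v))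
  obtain ⟨s, hs⟩ := LinearMap.injective_iff_surjective.1 hinj 1
  exact IsUnit.of_mul_eq_one s hs

theorem isUnit_lam : IsUnit F.lam :=
  F.isUnit_coeff (F.aRes_injective.comp F.bRes_injective)

theorem nontrivial_coeff (hM : F.M₁ ≠ ⊥) : Nontrivial F.coeff := by
  refine ⟨1, 0, fun h => hM ?_⟩
  rw [← F.range_emb, LinearMap.range_eq_bot]
  have hv : ∀ v : F.V, v = 0 := fun v => LinearMap.congr_fun (congrArg Subtype.val h) v
  apply LinearMap.ext
  rintro ⟨x, y⟩
  simp [hv x, hv y, Prod.mk_zero_zero]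

theorem up_smul_mem_gammaK {r : F.coeff} (h : up r ∈ gammaK k F.lam) (c : k) :
    up (c • r) ∈ gammaK k F.lam := by
  rcases eq_or_ne c 0 with rfl | hc
  · rw [zero_smul, up_zero]; exact one_mem _
  · have := gammaK_scale k F.lam (Units.mk0 c hc) h
    rw [scaleHom_up] at this
    rwa [Algebra.smul_def]

theorem all_up_of_infinite [Infinite k] (h2 : (2 : k) ≠ 0) (hM : F.M₁ ≠ ⊥) (r : F.coeff) :
    up r ∈ gammaK k F.lam ∧ lo r ∈ gammaK k F.lam := by
  have := F.nontrivial_coeff hM
  have hint : IsIntegral k F.lam := Algebra.IsIntegral.isIntegral _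
  have hspan : ⊤ ≤ Submodule.span k (Set.range fun i : Fin (minpoly k F.lam).natDegree =>
      F.lam ^ (i : ℕ)) := by
    intro x _
    obtain ⟨q, rfl⟩ : x ∈ (Polynomial.aeval F.lam : Polynomial k →ₐ[k] F.coeff).range := by
      rw [← Algebra.adjoin_singleton_eq_range_aeval, F.adjoin_lam]; exact Algebra.mem_top
    show Polynomial.aeval F.lam q ∈ _
    rw [← Polynomial.modByMonic_add_div q (minpoly k F.lam), map_add, map_mul, minpoly.aeval,
      zero_mul, add_zero,
      Polynomial.aeval_eq_sum_range' (n := (minpoly k F.lam).natDegree)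
        (Polynomial.natDegree_modByMonic_lt _ (minpoly.monic hint) (minpoly.ne_one k F.lam))]
    exact Submodule.sum_mem _ fun i hi => Submodule.smul_mem _ _
      (Submodule.subset_span ⟨⟨i, Finset.mem_range.1 hi⟩, rfl⟩)
  let bas := Module.Basis.mk (linearIndependent_pow (K := k) F.lam) hspan
  have hup : ∀ x : F.coeff, up x ∈ gammaK k F.lam := fun x =>
    up_mem_of_infinite bas F.lam (fun i => Module.Basis.mk_apply _ _ i) h2 F.isUnit_lam
      (gammaK k F.lam) (fun c => up_mem_gammaK k _ c) (fun c => lo_mem_gammaK k _ c) x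
  refine ⟨hup r, ?_⟩
  obtain ⟨l, hl⟩ := F.isUnit_lam
  have := gammaK_swap k l (g := up (((l⁻¹ : F.coeffˣ) : F.coeff) * r)) (by rw [hl]; exact hup _)
  rwa [swapHom_up, Units.mul_inv_cancel_left, hl] at this

/-- A scalar family of upper transvections fixing the nilpotent part. -/
theorem exists_family (h2 : (2 : k) ≠ 0) (hk : Nat.card k ≠ 3) (hM : F.M₁ ≠ ⊥) :
    ∃ r : F.coeff, r ≠ 0 ∧ ∀ c : k, ∃ g ∈ pairGroup a b,
      (∀ m ∈ F.M₀, (g : 𝔈) m = m) ∧ F.Rep g (up (c • r)) := by
  have := F.nontrivial_coeff hM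
  obtain ⟨L, hL⟩ := F.exists_flag₀_bot
  rcases finite_or_infinite k with hf | hi
  · -- finite fields
    have : Finite M := Module.finite_of_finite k
    have : Finite 𝔈 := Finite.of_injective _ DFunLike.coe_injective
    have : Finite (Module.End k F.V) := Finite.of_injective _ DFunLike.coe_injective
    have := Fintype.ofFinite k
    obtain ⟨p, hp⟩ := CharP.exists k
    obtain ⟨n, hpp, hn⟩ := FiniteField.card k p
    have := Fact.mk hpp
    have hp2 : p ≠ 2 := fun h => h2 (by subst h; exact_mod_cast CharP.cast_eq_zero k 2)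
    have hk' : 3 < Nat.card k := by
      rw [Nat.card_eq_fintype_card] at hk ⊢
      have h1 : p ≤ p ^ (n : ℕ) := Nat.le_self_pow n.ne_zero p
      have := hpp.two_le
      omega
    have : CharP F.coeff p := charP_of_injective_algebraMap (algebraMap k F.coeff).injective p
    obtain ⟨r, hr0, hr⟩ := exists_up_pPrimeGen (R := F.coeff) k F.isUnit_lam F.adjoin_lam h2 hk' hp2
    refine ⟨r, hr0, fun c => ?_⟩
    suffices H : ∀ A ∈ pPrimeGen p (gammaK k F.lam), ∃ g ∈ pairGroup a b,
        (∀ m ∈ F.M₀, (g : 𝔈) m = m) ∧ F.Rep g A from H _ (hr c)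
    intro A hA
    induction hA using Subgroup.closure_induction with
    | one => exact ⟨1, one_mem _, fun m _ => rfl, F.rep_one⟩
    | mul x y _ _ hx hy =>
      obtain ⟨g, hg, hg0, hg1⟩ := hx
      obtain ⟨h, hh, hh0, hh1⟩ := hy
      exact ⟨g * h, mul_mem hg hh, fun m hm => by
        rw [Units.val_mul, Module.End.mul_apply, hh0 m hm, hg0 m hm], F.rep_mul hg1 hh1⟩
    | inv x _ hx =>
      obtain ⟨g, hg, hg0, hg1⟩ := hx
      refine ⟨g⁻¹, inv_mem hg, fun m hm => ?_, F.rep_inv hg1⟩
      conv_lhs => rw [← hg0 m hm]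
      rw [← Module.End.mul_apply, Units.inv_mul, Module.End.one_apply]
    | mem x hx =>
      obtain ⟨hxG, hxo⟩ := hx
      obtain ⟨g, hg, hgx⟩ := F.exists_rep hxG
      have hψ : ∀ h : pairGroup a b, ∃ A, F.Rep (h : GLk) A := fun h =>
        (F.rep_of_mem h.2).imp fun A hA => hA.2
      choose ψ hψ' using hψ
      let ψh : pairGroup a b →* SL(2, F.coeff) := MonoidHom.mk' ψ fun h h' =>
        F.rep_unique (hψ' (h * h')) (F.rep_mul (hψ' h) (hψ' h'))
      have hψg : ψh ⟨g, hg⟩ = x := F.rep_unique (hψ' ⟨g, hg⟩) hgx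
      rcases eq_or_ne x 1 with rfl | hx1
      · exact ⟨1, one_mem _, fun m _ => rfl, F.rep_one⟩
      have h1 : 1 < orderOf x := by
        have hne : orderOf x ≠ 1 := fun h => hx1 (orderOf_eq_one_iff.1 h)
        have : 0 < orderOf x := orderOf_pos x
        omega
      obtain ⟨j, hj, hj'⟩ := exists_pow_pPrimePart ψh ⟨g, hg⟩ hxo h1
        (by rw [hψg, pow_orderOf_eq_one])
      refine ⟨((⟨g, hg⟩ : pairGroup a b) ^ j : pairGroup a b), Subtype.prop _, fun m hm => ?_, ?_⟩
      · set h : pairGroup a b := ⟨g, hg⟩ ^ j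
        have hfix := F.fix_of_deg hL (Nat.le_succ L) (F.pow_prime_deg (p := p) h.2 L)
        have hcop : Nat.Coprime (p ^ L) (orderOf (h : GLk)) := by
          rw [Subgroup.orderOf_coe]
          exact hj.symm.pow_left L
        obtain ⟨s, hs⟩ := exists_pow_eq_self_of_coprime hcop
        rw [← hs]
        clear hs
        induction s with
        | zero => simp
        | succ s ih => rw [pow_succ', Units.val_mul, Module.End.mul_apply, ih, hfix m hm]
      · have := hψ' (⟨g, hg⟩ ^ j)
        rwa [show ψ (⟨g, hg⟩ ^ j) = x from hj'.trans hψg] at this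
  · -- infinite fields
    obtain ⟨t, ht⟩ := ((Set.finite_singleton (-1 : k)).insert 1 |>.insert 0).infinite_compl.nonempty
    simp only [Set.mem_compl_iff, Set.mem_insert_iff, Set.mem_singleton_iff, not_or] at ht
    have hall := F.all_up_of_infinite h2 hM
    let T : F.coeff := algebraMap k F.coeff t
    let T' : F.coeff := algebraMap k F.coeff t⁻¹
    set A : SL(2, F.coeff) := up T * lo (-T') * up T * (up (-1) * lo 1 * up (-1))
    have hA : A ∈ gammaK k F.lam :=
      mul_mem (mul_mem (mul_mem (hall T).1 (hall (-T')).2) (hall T).1)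
        (mul_mem (mul_mem (hall (-1)).1 (hall 1).2) (hall (-1)).1)
    have hTT : T * T' = 1 := by rw [← map_mul, mul_inv_cancel₀ ht.1, map_one]
    have hAe : (A : Matrix (Fin 2) (Fin 2) F.coeff) = !![T, 0; 0, T'] := by
      ext i j
      fin_cases i <;> fin_cases j <;>
        simp [A, up_coe, lo_coe, Matrix.SpecialLinearGroup.coe_mul, Matrix.mul_apply,
          Fin.sum_univ_two, mul_comm T' T, hTT]
    have hcA : ∀ x : F.coeff, up x * A * (up x)⁻¹ * A⁻¹ = up ((1 - T ^ 2) * x) := by
      intro x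
      rw [up_inv, mul_assoc (up x) A, mul_assoc]
      have : A * up (-x) = up (-(T ^ 2 * x)) * A := by
        refine ext4 ?_ ?_ ?_ ?_ <;>
          simp [hAe, up_coe, Matrix.SpecialLinearGroup.coe_mul, Matrix.mul_apply, Fin.sum_univ_two]
        first
          | linear_combination (T * x) * hTT
          | linear_combination -(T * x) * hTT
      rw [this, mul_inv_cancel_right, up_mul]
      congr 1; ring
    obtain ⟨h, hh, hhA⟩ := F.exists_rep hA
    have key : ∀ (c : k) (j : ℕ), ∃ g ∈ pairGroup a b, g ∈ deg F.flag₀ (j + 1) ∧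
        F.Rep g (up ((1 - T ^ 2) ^ j * c • 1)) := by
      intro c j
      induction j with
      | zero =>
        have hu : uEnd (c • a) (smul_sq F.asq c) ∈ pairGroup a b :=
          Subgroup.subset_closure (Or.inl ⟨c, rfl⟩)
        refine ⟨_, hu, F.pairGroup_deg _ hu, ?_⟩
        rw [pow_zero, one_mul]; exact F.rep_up c
      | succ j ih =>
        obtain ⟨g, hg, hgd, hgr⟩ := ih
        refine ⟨g * h * g⁻¹ * h⁻¹, mul_mem (mul_mem (mul_mem hg hh) (inv_mem hg)) (inv_mem hh),
          commutator_mem_deg F.flag₀_antitone (by omega) hgd (F.pairGroup_deg h hh), ?_⟩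
        have := F.rep_mul (F.rep_mul (F.rep_mul hgr hhA) (F.rep_inv hgr)) (F.rep_inv hhA)
        rwa [hcA, ← mul_assoc, ← pow_succ'] at this
    refine ⟨(1 - T ^ 2) ^ L, ?_, fun c => ?_⟩
    · have hu : IsUnit (1 - T ^ 2) := by
        rw [← map_pow, ← map_one (algebraMap k F.coeff), ← map_sub]
        refine (IsUnit.mk0 _ (sub_ne_zero.2 fun h => ?_)).map _
        rcases sq_eq_one_iff.1 h.symm with e | e
        · exact ht.2.1 e
        · exact ht.2.2 e
      exact (hu.pow L).ne_zero
    · obtain ⟨g, hg, hgd, hgr⟩ := key c L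
      refine ⟨g, hg, F.fix_of_deg hL (Nat.le_succ L) hgd, ?_⟩
      rwa [mul_smul_comm, mul_one] at hgr

theorem rk_upEnd_le (r : F.coeff) :
    rk (F.upEnd r) ≤ Module.finrank k (LinearMap.range (r : Module.End k F.V)) := by
  refine (Submodule.finrank_mono (t := (LinearMap.range (r : Module.End k F.V)).map F.V.subtype) ?_).trans
    (by rw [Submodule.finrank_map_subtype_eq])
  rintro _ ⟨m, rfl⟩
  exact ⟨_, LinearMap.mem_range_self _ (F.proj m).2, by simp [upEnd, emb_apply]⟩

end Frame

/-- The data of a pair of minimal root endomorphisms which does not generate a nilpotent algebra. -/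
structure Split (G : Subgroup (LinearMap.GeneralLinearGroup k M)) (a b : M →ₗ[k] M) where
  /-- The frame. -/
  F : Frame a b
  a_M₀ : ∀ m ∈ F.M₀, a m = 0
  b_M₀ : ∀ m ∈ F.M₀, b m = 0
  V_eq : LinearMap.range a = F.V
  W_eq : LinearMap.range b = F.W
  isField : IsField F.coeff
  top : gammaK k F.lam = ⊤
  fix : ∀ g ∈ pairGroup a b, ∀ m ∈ F.M₀, (g : M →ₗ[k] M) m = m
  le : pairGroup a b ≤ G

theorem exists_split [FiniteDimensional k M] (h2 : (2 : k) ≠ 0) (hk : Nat.card k ≠ 3)
    (ha : IsMin G a) (hb : IsMin G b) (hne : ¬ (a * b * a = 0 ∧ b * a * b = 0)) :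
    Nonempty (Split G a b) := by
  obtain ⟨F, hF⟩ := exists_frame a b ha.1.sq hb.1.sq
  have hM : F.M₁ ≠ ⊥ := fun h => by
    obtain ⟨n, h1, h1'⟩ := hF h
    exact hne (aba_of_pow h2 n ha hb h1 h1')
  have := F.nontrivial_coeff hM
  have hle := pairGroup_le ha.1 hb.1
  have hVle : F.V ≤ LinearMap.range a := fun v hv => by
    obtain ⟨w, hw⟩ := F.aEquiv.surjective ⟨v, hv⟩
    exact ⟨w, congrArg Subtype.val hw⟩
  -- roots from families
  have hroot : ∀ r : F.coeff, (∀ c : k, ∃ g ∈ pairGroup a b,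
      (∀ m ∈ F.M₀, (g : 𝔈) m = m) ∧ F.Rep g (up (c • r))) → r ≠ 0 →
      IsUnit r ∧ F.V = LinearMap.range a := by
    intro r hr hr0
    have hR : IsRoot G (F.upEnd r) := ⟨F.upEnd_sq r, fun c u hu => by
      obtain ⟨g, hg, hg0, hg1⟩ := hr c
      rw [show u = g from Units.ext (by rw [hu, F.eq_upEnd hg0 hg1, F.smul_upEnd])]
      exact hle hg⟩
    have hne0 : F.upEnd r ≠ 0 := fun h => hr0 (Subtype.ext (LinearMap.ext fun v => by
      have e := LinearMap.congr_fun h (F.emb (0, v))
      rw [F.upEnd_emb, LinearMap.zero_apply, LinearMap.map_eq_zero_iff F.emb F.emb_injective] at e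
      exact congrArg Prod.fst e))
    have h1 := ha.2.2 _ hR hne0
    have h2 := F.rk_upEnd_le r
    have h3 : Module.finrank k (LinearMap.range (r : Module.End k F.V)) ≤ Module.finrank k F.V :=
      Submodule.finrank_le _
    have h4 := Submodule.finrank_mono hVle
    simp only [rk] at h1 h2
    refine ⟨F.isUnit_coeff (LinearMap.injective_iff_surjective.2
      (LinearMap.range_eq_top.1 (Submodule.eq_top_of_finrank_eq (by omega)))),
      Submodule.eq_of_le_of_finrank_le hVle (by omega)⟩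
  obtain ⟨r, hr0, hr⟩ := F.exists_family h2 hk hM
  have hV := (hroot r hr hr0).2
  have hrkab : rk a = rk b := le_antisymm (ha.2.2 b hb.1 hb.2.1) (hb.2.2 a ha.1 ha.2.1)
  have hW : F.W = LinearMap.range b := by
    refine Submodule.eq_of_le_of_finrank_le (fun w hw => ?_) ?_
    · have hs := (LinearMap.injective_iff_surjective_of_finrank_eq_finrank F.finrank_eq.symm).1
        F.bRes_injective
      obtain ⟨v, hv⟩ := hs ⟨w, hw⟩
      exact ⟨v, congrArg Subtype.val hv⟩
    · rw [F.finrank_eq, hV]; exact hrkab.ge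
  have hM₁V : F.V ≤ F.M₁ := F.sup_eq ▸ le_sup_left
  have hM₁W : F.W ≤ F.M₁ := F.sup_eq ▸ le_sup_right
  have a00 : ∀ m ∈ F.M₀, a m = 0 := fun m hm => Submodule.disjoint_def.1 F.compl.disjoint _
    (F.a0 m hm) (hM₁V (hV.symm ▸ LinearMap.mem_range_self a m))
  have b00 : ∀ m ∈ F.M₀, b m = 0 := fun m hm => Submodule.disjoint_def.1 F.compl.disjoint _
    (F.b0 m hm) (hM₁W (hW.symm ▸ LinearMap.mem_range_self b m))
  have fix : ∀ g ∈ pairGroup a b, ∀ m ∈ F.M₀, (g : 𝔈) m = m := by
    intro g hg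
    induction hg using Subgroup.closure_induction with
    | mem g hg =>
      rintro m hm
      rcases hg with ⟨c, hc⟩ | ⟨c, hc⟩ <;> simp [hc, a00 m hm, b00 m hm]
    | one => exact fun m _ => rfl
    | mul x y _ _ hx hy =>
      intro m hm; rw [Units.val_mul, Module.End.mul_apply, hy m hm, hx m hm]
    | inv x _ hx =>
      intro m hm
      conv_lhs => rw [← hx m hm]
      rw [← Module.End.mul_apply, Units.inv_mul, Module.End.one_apply]
  have hJ : ∀ x : F.coeff, up x ∈ gammaK k F.lam → x ≠ 0 → IsUnit x := fun x hx hx0 =>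
    (hroot x (fun c => by
      obtain ⟨g, hg, hg'⟩ := F.exists_rep (F.up_smul_mem_gammaK hx c)
      exact ⟨g, hg, fix g hg, hg'⟩) hx0).1
  suffices h : IsField F.coeff ∧ gammaK k F.lam = ⊤ from
    ⟨⟨F, a00, b00, hV.symm, hW.symm, h.1, h.2, fix, hle⟩⟩
  rcases finite_or_infinite k with hf | hi
  · have : Finite M := Module.finite_of_finite k
    have : Finite (Module.End k F.V) := Finite.of_injective _ DFunLike.coe_injective
    have := Fintype.ofFinite k
    obtain ⟨p, hp⟩ := CharP.exists k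
    obtain ⟨n, hpp, hn⟩ := FiniteField.card k p
    have := Fact.mk hpp
    have hp2 : p ≠ 2 := fun h => h2 (by subst h; exact_mod_cast CharP.cast_eq_zero k 2)
    have hk' : 3 < Nat.card k := by
      rw [Nat.card_eq_fintype_card] at hk ⊢
      have h1 : p ≤ p ^ (n : ℕ) := Nat.le_self_pow n.ne_zero p
      have := hpp.two_le
      omega
    have : CharP F.coeff p := charP_of_injective_algebraMap (algebraMap k F.coeff).injective p
    have hfld := isField_of_units (R := F.coeff) k F.isUnit_lam F.adjoin_lam h2 hk' hp2 hJ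
    refine ⟨hfld, ?_⟩
    let inst := hfld.toField
    exact closure_eq_top (K := F.coeff) (k := k)
      (fun h => h2 ((algebraMap k F.coeff).injective (by rw [map_ofNat, map_zero]; exact h)))
      hk' F.isUnit_lam.ne_zero F.adjoin_lam (gammaK k F.lam)
      (fun c => up_mem_gammaK k _ c) (fun c => lo_mem_gammaK k _ c)
  · have hall := F.all_up_of_infinite h2 hM
    have hfld : IsField F.coeff :=
      { exists_pair_ne := exists_pair_ne _
        mul_comm := mul_comm
        mul_inv_cancel := fun {x} hx => (hJ x (hall x).1 hx).exists_right_inv }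
    refine ⟨hfld, ?_⟩
    let inst := hfld.toField
    exact eq_top_of_up_lo (K := F.coeff) (gammaK k F.lam) (fun x => (hall x).1) (fun x => (hall x).2)

end CfsgLib.PLocal.QPair
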