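import Cfsg.Agent.Lib.PLocal.QPairRankOne

/-!
# Quadratic pairs: the pair theorem and the normalizer lemma
-/

set_option autoImplicit false

universe u

namespace CfsgLib.PLocal.QPair

open scoped MatrixGroups

variable {k : Type u} [Field k] {M : Type u} [AddCommGroup M] [Module k M] [FiniteDimensional k M]

local notation "GLk" => LinearMap.GeneralLinearGroup k M
local notation "𝔈" => M →ₗ[k] M

variable {G : Subgroup (LinearMap.GeneralLinearGroup k M)}

theorem two_ne_zero_of_ringChar (h : ringChar k ≠ 2) : (2 : k) ≠ 0 := by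
  intro h2
  have hd : ringChar k ∣ 2 := (ringChar.spec k 2).1 (by exact_mod_cast h2)
  rcases (Nat.dvd_prime Nat.prime_two).1 hd with h1 | h1
  · exact CharP.ringChar_ne_one h1
  · exact h h1

/-- The pair group of a non-nilpotent minimal pair is `SL₂(k(λ))`. -/
theorem pairGroup_iso {a b : 𝔈} (S : Split G a b) :
    ∃ (K : Type u) (_ : Field K) (_ : Algebra k K) (lam : K), IsAlgebraic k lam ∧
      IntermediateField.adjoin k ({lam} : Set K) = ⊤ ∧ Nonempty (pairGroup a b ≃* SL(2, K)) := by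
  let inst : Field S.F.coeff := S.isField.toField
  have hψ : ∀ g : pairGroup a b, ∃ A, S.F.Rep (g : GLk) A := fun g =>
    (S.F.rep_of_mem g.2).imp fun A hA => hA.2
  choose ψ hψ' using hψ
  let φ : pairGroup a b →* SL(2, S.F.coeff) := MonoidHom.mk' ψ fun g h =>
    S.F.rep_unique (hψ' (g * h)) (S.F.rep_mul (hψ' g) (hψ' h))
  have hinj : Function.Injective φ := (injective_iff_map_eq_one φ).2 fun g hg =>
    Subtype.ext (S.F.eq_one_of_rep_one (S.fix g g.2)
      ((show ψ g = 1 from hg) ▸ hψ' g))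
  have hsurj : Function.Surjective φ := fun A => by
    obtain ⟨g, hg, hg'⟩ := S.F.exists_rep (A := A) (by rw [S.top]; exact Subgroup.mem_top _)
    exact ⟨⟨g, hg⟩, S.F.rep_unique (hψ' ⟨g, hg⟩) hg'⟩
  refine ⟨S.F.coeff, inst, inferInstance, S.F.lam, Algebra.IsAlgebraic.isAlgebraic _, ?_,
    ⟨MulEquiv.ofBijective φ ⟨hinj, hsurj⟩⟩⟩
  rw [eq_top_iff]
  intro x _
  exact IntermediateField.algebra_adjoin_le_adjoin k _ (S.F.adjoin_lam ▸ Algebra.mem_top)

/-- A member of `Σ` normalized by a non-identity element of `E(σ)` commutes with it. -/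
theorem commute_of_normalize (h2 : (2 : k) ≠ 0) {σ τ e : GLk} (hσ : IsMin G ((σ : 𝔈) - 1))
    (hτ : IsMin G ((τ : 𝔈) - 1)) (he : e ∈ Cfsg.sameActionSubgroup G σ) (he1 : e ≠ 1)
    (hn : e ∈ Subgroup.normalizer ((Cfsg.sameActionSubgroup G τ : Subgroup GLk) : Set GLk)) :
    ∀ f ∈ Cfsg.sameActionSubgroup G τ, e * f = f * e := by
  intro f hf
  have hx := (mem_sameAction_iff hσ).1 he
  have hx0 : (e : 𝔈) - 1 ≠ 0 := fun h0 => he1 (Units.ext (sub_eq_zero.1 h0))
  refine (commute_iff e f).2 (comm_of_normalize h2 (hσ.of_mem hx hx0) hτ ?_ _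
    ((mem_sameAction_iff hτ).1 hf))
  intro y hy
  have key : ∀ g : GLk, g ∈ Subgroup.normalizer ((Cfsg.sameActionSubgroup G τ : Subgroup GLk) : Set GLk) →
      (g : 𝔈) * y * ((g⁻¹ : GLk) : 𝔈) ∈ rootSet G ((τ : 𝔈) - 1) := by
    intro g hg
    have h := (mem_sameAction_iff hτ).1 ((Subgroup.mem_normalizer_iff.1 hg _).1
      (uEnd_mem_sameAction hτ hy))
    rwa [conj_sub_one, uEnd_sub_one] at h
  constructor
  · have h := key e hn
    rw [show e = uEnd _ hx.1.1 from Units.ext (by rw [uEnd_coe]; abel), uEnd_inv_coe, uEnd_coe] at h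
    rw [cj_eq _ _ hx.1.1, one_smul]
    exact h
  · have h := key e⁻¹ (inv_mem hn)
    rw [inv_inv, show e = uEnd _ hx.1.1 from Units.ext (by rw [uEnd_coe]; abel), uEnd_inv_coe,
      uEnd_coe] at h
    rw [cj_eq _ _ hx.1.1, neg_smul, one_smul, ← sub_eq_add_neg, sub_neg_eq_add]
    exact h

theorem commutator_eq_bot_of_commute (h2 : (2 : k) ≠ 0) {σ τ : GLk}
    (hσ : IsMin G ((σ : 𝔈) - 1)) (hτ : IsMin G ((τ : 𝔈) - 1))
    (h : (∃ e ∈ Cfsg.sameActionSubgroup G σ, e ≠ 1 ∧ ∃ f ∈ Cfsg.sameActionSubgroup G τ, f ≠ 1 ∧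
        e * f = f * e) ∨
      Cfsg.sameActionSubgroup G σ ⊓
        Subgroup.normalizer ((Cfsg.sameActionSubgroup G τ : Subgroup GLk) : Set GLk) ≠ ⊥) :
    ⁅Cfsg.sameActionSubgroup G σ, Cfsg.sameActionSubgroup G τ⁆ = ⊥ := by
  set E := Cfsg.sameActionSubgroup G σ
  set F := Cfsg.sameActionSubgroup G τ
  -- an element commuting with a non-identity element normalizes the whole root group
  have norm : ∀ {σ τ e f : GLk}, IsMin G ((σ : 𝔈) - 1) → IsMin G ((τ : 𝔈) - 1) →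
      e ∈ Cfsg.sameActionSubgroup G σ → f ∈ Cfsg.sameActionSubgroup G τ → f ≠ 1 → e * f = f * e →
      e ∈ Subgroup.normalizer ((Cfsg.sameActionSubgroup G τ : Subgroup GLk) : Set GLk) := by
    intro σ τ e f hσ hτ he hf hf1 hcomm
    have hy := (mem_sameAction_iff hτ).1 hf
    have hy0 : (f : 𝔈) - 1 ≠ 0 := fun h0 => hf1 (Units.ext (sub_eq_zero.1 h0))
    have hmf := hτ.of_mem hy hy0
    rw [sameAction_eq hτ hmf (hτ.rootSet_eq hy hy0).symm,
      ← CfsgLib.Trans3.RankOne.conjBy_eq_self_iff, conjBy_sameAction hmf (sameAction_le hσ he)]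
    congr 1
    rw [hcomm, mul_inv_cancel_right]
  obtain ⟨e, he, he1, hne⟩ : ∃ e ∈ E, e ≠ 1 ∧ e ∈ Subgroup.normalizer (F : Set GLk) := by
    rcases h with ⟨e, he, he1, f, hf, hf1, hc⟩ | h
    · exact ⟨e, he, he1, norm hσ hτ he hf hf1 hc⟩
    · obtain ⟨⟨e, he⟩, he1⟩ := Subgroup.ne_bot_iff_exists_ne_one.1 h
      exact ⟨e, he.1, fun h => he1 (Subtype.ext h), he.2⟩
  have h1 := commute_of_normalize h2 hσ hτ he he1 hne
  refine Subgroup.commutator_eq_bot_iff_le_centralizer.2 fun x hx => Subgroup.mem_centralizer_iff.2 ?_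
  intro y hy
  rcases eq_or_ne y 1 with rfl | hy1
  · simp
  exact commute_of_normalize h2 hτ hσ hy hy1 (norm hτ hσ hy he he1 (h1 y hy).symm) x hx

end CfsgLib.PLocal.QPair
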