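import Cfsg.Agent.Lib.PLocal.QPairGrade

/-!
# Quadratic pairs: the commutator map of a unipotent pair is surjective
-/

set_option autoImplicit false

namespace CfsgLib.PLocal.QPair

variable {k : Type*} [Field k] {M : Type*} [AddCommGroup M] [Module k M] [FiniteDimensional k M]

local notation "GLk" => LinearMap.GeneralLinearGroup k M
local notation "𝔈" => M →ₗ[k] M

variable {G : Subgroup (LinearMap.GeneralLinearGroup k M)}

theorem wone_surj (h2 : (2 : k) ≠ 0) (hk : Nat.card k ≠ 3) {z c : 𝔈} (hg : Graded G z c)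
    {a b : 𝔈} (ha : IsMin G a) (hb : IsMin G b) (wa : WOne z c a) (wb : WOne z c b)
    (hab : a * b - b * a = z) {w : 𝔈} (hw : w ∈ rootSet G z) :
    ∃ b' ∈ rootSet G b, WOne z c b' ∧ a * b' - b' * a = w := by
  have hp := hg.inv
  rcases eq_or_ne w 0 with rfl | hw0
  · exact ⟨0, zero_mem_rootSet _, WOne.zero, by simp⟩
  have hcd := commData ha hb (wa.triple hp wb wa) (wb.triple hp wa wb) (by rw [hab]; exact hg.hz.2.1)
  -- the two projections
  set π := a * b * c with hπ
  set π' := -(b * a * c) with hπ'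
  have hsum : π + π' = z * c := by rw [hπ, hπ', ← sub_eq_add_neg, ← sub_mul, hab]
  have zab : z * c * (a * b) = a * b := (wa.mul hp wb).1
  have zba : z * c * (b * a) = b * a := (wb.mul hp wa).1
  have zπ : z * c * π = π := by rw [hπ, ← mul_assoc, zab]
  have zπ' : z * c * π' = π' := by rw [hπ', mul_neg, ← mul_assoc, zba]
  have hPa : ∀ m, π m ∈ (LinearMap.range b).map a := fun m =>
    ⟨b (c m), LinearMap.mem_range_self b _, rfl⟩
  have hPb : ∀ m, π' m ∈ (LinearMap.range a).map b := fun m =>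
    ⟨-(a (c m)), neg_mem (LinearMap.mem_range_self a _), by simp [hπ']⟩
  have hd := Submodule.disjoint_def.1 hcd.disjoint
  have idem : π' * π = 0 ∧ π * π' = 0 := by
    constructor <;> refine LinearMap.ext fun m => ?_
    · rw [LinearMap.zero_apply, Module.End.mul_apply]
      have e : π' (π m) = π m - π (π m) := by
        rw [eq_sub_iff_add_eq', ← LinearMap.add_apply, hsum]
        exact LinearMap.congr_fun zπ m
      exact hd _ (e ▸ sub_mem (hPa m) (hPa _)) (hPb _)
    · rw [LinearMap.zero_apply, Module.End.mul_apply]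
      have e : π (π' m) = π' m - π' (π' m) := by
        rw [eq_sub_iff_add_eq, ← LinearMap.add_apply, hsum]
        exact LinearMap.congr_fun zπ' m
      exact hd _ (hPa _) (e ▸ sub_mem (hPb m) (hPb _))
  obtain ⟨i1, i2⟩ := idem
  -- moving weight one elements
  have zb' : ∀ y ∈ rootSet G z, y ≠ 0 →
      IsRoot G (b * c * y + y * c * b) ∧ WOne z c (b * c * y + y * c * b) := by
    intro y hy hy0
    obtain ⟨y1, y2⟩ := hg.inv_mem_layer hy
    refine ⟨(hg.move h2 hk hb wb hy hy0).1, ?_⟩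
    have zy : z * y = 0 := by rw [← y1, ← mul_assoc, ← mul_assoc, hp.zz, zero_mul, zero_mul]
    have yz : y * z = 0 := by rw [← y2, mul_assoc, mul_assoc, hp.zz, mul_zero, mul_zero]
    refine ⟨?_, ?_, ?_⟩
    · rw [mul_add, ← mul_assoc, ← mul_assoc, wb.zx, zero_mul, zero_mul, zero_add, ← mul_assoc,
        ← mul_assoc, zy, zero_mul, zero_mul]
    · rw [add_mul, mul_assoc (b * c) y z, yz, mul_zero, zero_add, mul_assoc (y * c) b z, wb.xz,
        mul_zero]
    · have hcbc := wb.cxc hp
      have e1 : z * c * (b * c * y) = 0 := by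
        rw [mul_assoc z c, ← mul_assoc c (b * c) y, ← mul_assoc c b c, hcbc, zero_mul, mul_zero]
      have e2 : y * c * b * (c * z) = 0 := by
        rw [← mul_assoc, mul_assoc y c b, mul_assoc y (c * b) c, hcbc, mul_zero, zero_mul]
      have e3 : z * c * (y * c * b) = y * c * b := by rw [← mul_assoc, ← mul_assoc, y1]
      have e4 : b * c * y * (c * z) = b * c * y := by rw [mul_assoc (b * c), y2]
      rw [mul_add, add_mul, e1, e2, e3, e4, zero_add, add_zero, add_comm]
  set v : 𝔈 → 𝔈 := fun y => π * y + y * c * π' * z with hv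
  have hcomm : ∀ y ∈ rootSet G z, a * (b * c * y + y * c * b) - (b * c * y + y * c * b) * a = v y := by
    intro y hy
    obtain ⟨y1, y2⟩ := hg.inv_mem_layer hy
    have ay : a * y = 0 := by rw [← y1, ← mul_assoc, ← mul_assoc, wa.xz, zero_mul, zero_mul]
    have ya : y * a = 0 := by rw [← y2, mul_assoc, mul_assoc, wa.zx, mul_zero, mul_zero]
    have hπz : π' * z = -(b * a) := by
      rw [hπ', neg_mul, mul_assoc (b * a) c z, (wb.mul hp wa).2]
    rw [hv]
    simp only [mul_assoc (y * c) π' z, hπz]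
    have t1 : a * (y * c * b) = 0 := by rw [← mul_assoc, ← mul_assoc, ay, zero_mul, zero_mul]
    have t2 : b * c * y * a = 0 := by rw [mul_assoc (b * c), ya, mul_zero]
    rw [mul_add, add_mul, t1, t2, add_zero, zero_add, hπ, mul_neg, ← sub_eq_add_neg]
    simp only [mul_assoc]
  have hvΔ : ∀ y ∈ rootSet G z, v y ∈ rootSet G z := by
    intro y hy
    rcases eq_or_ne y 0 with rfl | hy0
    · simp [hv, zero_mem_rootSet]
    obtain ⟨hr, hwy⟩ := zb' y hy hy0
    rw [← hcomm y hy]
    obtain ⟨m1, m2⟩ := wa.mul hp hwy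
    obtain ⟨m3, m4⟩ := hwy.mul hp wa
    refine hg.layer_mem (comm_isRoot ha.1 hr (wa.triple hp hwy wa) (hwy.triple hp wa hwy)) ?_ ?_
    · rw [mul_sub, m1, m3]
    · rw [sub_mul, m2, m4]
  -- `v` fixes the layer
  have key : ∀ y ∈ rootSet G z, v y = y ∧ π * (y * c) = y * c * π := by
    intro y hy
    obtain ⟨y1, y2⟩ := hg.inv_mem_layer hy
    set θ := y * c with hθ
    have vθ : ∀ u : 𝔈, v u * c = π * (u * c) + u * c * π' := by
      intro u
      rw [hv]
      simp only [add_mul, mul_assoc]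
      have : π' * (z * c) = π' := by
        rw [← hsum, mul_add, i1, zero_add]
        have h1 : (π + π') * π' = π' := by rw [hsum, zπ']
        rwa [add_mul, i2, zero_add] at h1
      rw [this]
    have θz : θ * (z * c) = θ := by rw [hθ, mul_assoc, ← mul_assoc c z c, hp.czc]
    have zθ : z * c * θ = θ := by rw [hθ, ← mul_assoc, y1]
    have ππ : π * π = π := by
      have h1 : (π + π') * π = π := by rw [hsum, zπ]
      rwa [add_mul, i1, add_zero] at h1
    have hπ'eq : π' = z * c - π := by rw [← hsum]; abel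
    set δ := v y - y with hδ
    have hδm : δ ∈ rootSet G z := sub_mem_rootSet hp.zz (hvΔ y hy) hy
    set δ' := v δ - δ with hδ'
    have hδ'm : δ' ∈ rootSet G z := sub_mem_rootSet hp.zz (hvΔ δ hδm) hδm
    have eδ : δ * c = π * θ - θ * π := by
      rw [hδ, sub_mul, vθ, ← hθ, hπ'eq, mul_sub θ, θz]; abel
    have eδ' : δ' * c = π * θ + θ * π - 2 * (π * θ * π) := by
      have hδz : δ * c * (z * c) = δ * c := by rw [mul_assoc, ← mul_assoc c z c, hp.czc]
      have hδ2 : δ' * c = π * (δ * c) - δ * c * π := by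
        rw [hδ', sub_mul, vθ, hπ'eq, mul_sub (δ * c), hδz]; abel
      rw [hδ2, eδ, mul_sub, sub_mul, ← mul_assoc π π θ, ππ, mul_assoc θ π π, ππ, two_mul, ← mul_assoc π θ π]
      abel
    have kill : ∀ u ∈ rootSet G z, u * c * (u * c) = 0 → u = 0 := by
      intro u hu huu
      by_contra hu0
      apply (hg.opp.mono hg.hz hg.hc hu (self_mem_rootSet hg.hc.1) hu0 hg.hc.2.1).aba_ne hu0
      calc u * c * u = u * c * (u * (c * z)) := by rw [(hg.inv_mem_layer hu).2]
        _ = u * c * (u * c) * z := by simp only [mul_assoc]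
        _ = 0 := by rw [huu, zero_mul]
    have e1 : (δ + δ') * c = 2 * (π * θ * π') := by
      rw [add_mul, eδ, eδ', hπ'eq, mul_sub (π * θ), mul_assoc π θ (z * c), θz]
      simp only [two_mul]; abel
    have e2 : (δ' - δ) * c = 2 * (π' * θ * π) := by
      rw [sub_mul, eδ, eδ', hπ'eq, sub_mul, sub_mul, zθ]
      simp only [two_mul]; abel
    have u1 : δ + δ' = 0 := kill _ (add_mem_rootSet hp.zz hδm hδ'm) (by
      rw [e1, two_mul, mul_add, add_mul,
        show π * θ * π' * (π * θ * π') = π * θ * (π' * π) * (θ * π') by simp only [mul_assoc], i1]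
      simp)
    have u2 : δ' - δ = 0 := kill _ (sub_mem_rootSet hp.zz hδ'm hδm) (by
      rw [e2, two_mul, mul_add, add_mul,
        show π' * θ * π * (π' * θ * π) = π' * θ * (π * π') * (θ * π) by simp only [mul_assoc], i2]
      simp)
    have hδ0 : δ = 0 := by
      have h4 : (2 : k) • δ = 0 := by
        rw [two_smul]
        calc δ + δ = (δ + δ') - (δ' - δ) := by abel
          _ = 0 := by rw [u1, u2, sub_zero]
      exact (smul_eq_zero.1 h4).resolve_left h2
    refine ⟨sub_eq_zero.1 hδ0, ?_⟩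
    have := eδ
    rw [hδ0, zero_mul, eq_comm, sub_eq_zero] at this
    exact this
  obtain ⟨hr, hwb⟩ := zb' w hw hw0
  obtain ⟨w1, w2⟩ := hg.inv_mem_layer hw
  have hcomπ := (key w hw).2
  refine ⟨b * c * w + w * c * b, ⟨hr, ?_, ?_⟩, hwb, by rw [hcomm w hw, (key w hw).1]⟩
  · rintro _ ⟨m, rfl⟩
    rw [LinearMap.add_apply]
    refine add_mem (LinearMap.mem_range_self b _) ?_
    have hq : (z * c) (b m) ∈ LinearMap.range b ⊓ LinearMap.ker a := by
      refine ⟨⟨m - (c * z) m, ?_⟩, ?_⟩
      · have h : z * c * b = b * (1 - c * z) := by rw [mul_sub, mul_one, eq_sub_iff_add_eq, wb.eq]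
        exact (LinearMap.congr_fun h m).symm
      · show (a * (z * c)) (b m) = 0
        rw [← mul_assoc, wa.xz, zero_mul, LinearMap.zero_apply]
    rw [← hcd.map_right] at hq
    obtain ⟨_, ⟨y, rfl⟩, hy⟩ := hq
    have hwc : w * c = w * c * (z * c) := by rw [mul_assoc w c, ← mul_assoc c z c, hp.czc]
    have h1 : (w * c * b) m = (w * c) (b (a y)) := by
      rw [hy]; exact LinearMap.congr_fun (congrArg (· * b) hwc) m
    have hθπ : w * c * π' = π' * (w * c) := by
      have e1 : w * c * (z * c) = z * c * (w * c) := by rw [← hwc, ← mul_assoc (z * c), w1]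
      rw [← hsum, mul_add, add_mul, hcomπ] at e1
      exact add_left_cancel e1
    have hba : b * a = -(π' * z) := by
      rw [hπ', neg_mul, neg_neg, mul_assoc (b * a) c z, (wb.mul hp wa).2]
    rw [h1, show b (a y) = (b * a) y from rfl, hba, LinearMap.neg_apply, map_neg]
    refine neg_mem ?_
    show (w * c * (π' * z)) y ∈ _
    rw [← mul_assoc (w * c) π' z, hθπ, hπ', neg_mul, neg_mul, LinearMap.neg_apply]
    refine neg_mem ?_
    simp only [mul_assoc, Module.End.mul_apply]
    exact LinearMap.mem_range_self b _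
  · intro m hm
    rw [LinearMap.mem_ker] at hm ⊢
    rw [LinearMap.add_apply, show (w * c * b) m = (w * c) (b m) from rfl, hm, map_zero, add_zero]
    have hcz : b ((c * z) m) = 0 := by
      have h : b * (c * z) = b - z * c * b := by rw [eq_sub_iff_add_eq', wb.eq]
      show (b * (c * z)) m = 0
      rw [h, LinearMap.sub_apply, hm, Module.End.mul_apply, hm, map_zero, sub_zero]
    have hπy : π (z m) = 0 := by
      show a (b ((c * z) m)) = 0
      rw [hcz, map_zero]
    set u := (b * c * w) m with hu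
    have hu' : u = b (c ((w * c) (z m))) := by
      conv_lhs => rw [hu, ← w2]
      rfl
    have hau : a u = 0 := by
      rw [hu']
      show π ((w * c) (z m)) = 0
      rw [show π ((w * c) (z m)) = (π * (w * c)) (z m) from rfl, hcomπ, Module.End.mul_apply, hπy,
        map_zero]
    have humem : u ∈ (LinearMap.range a).map b := by
      rw [hcd.map_right]
      exact ⟨hu'.symm ▸ LinearMap.mem_range_self b _, hau⟩
    obtain ⟨_, ⟨y, rfl⟩, hy⟩ := humem
    have hzu : (z * c) u = u := by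
      rw [← hy]
      exact LinearMap.congr_fun zba y
    rw [← hzu, hu']
    show z (c (b (c ((w * c) (z m))))) = 0
    rw [show c (b (c ((w * c) (z m)))) = (c * b * c) ((w * c) (z m)) from rfl, wb.cxc hp,
      LinearMap.zero_apply, map_zero]

theorem IsMin.neg {a : 𝔈} (ha : IsMin G a) : IsMin G (-a) :=
  ha.of_mem (neg_mem_rootSet (self_mem_rootSet ha.1)) (neg_ne_zero.2 ha.2.1)

/-- The commutator map of a non-commuting unipotent pair is surjective. -/
theorem comm_surj (h2 : (2 : k) ≠ 0) (hk : Nat.card k ≠ 3) {a b e : 𝔈} (ha : IsMin G a)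
    (hb : IsMin G b) (h1 : a * b * a = 0) (h1' : b * a * b = 0) (h0 : a * b - b * a ≠ 0)
    (he : IsMin G e) (hze : Opp (a * b - b * a) e) {w : 𝔈}
    (hw : w ∈ rootSet G (a * b - b * a)) : ∃ b' ∈ rootSet G b, a * b' - b' * a = w := by
  have hcd := commData ha hb h1 h1' h0
  obtain ⟨c, hg⟩ := exists_graded h2 hk hcd.isMin he hze
  set z := a * b - b * a with hz
  have za : z * a = 0 := by rw [hz, sub_mul, h1, mul_assoc b a a, ha.1.1, mul_zero, sub_zero]
  have az : a * z = 0 := by
    rw [hz, mul_sub, ← mul_assoc, ha.1.1, zero_mul, ← mul_assoc, h1, sub_zero]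
  have zb : z * b = 0 := by rw [hz, sub_mul, h1', mul_assoc a b b, hb.1.1, mul_zero, sub_zero]
  have bz : b * z = 0 := by
    rw [hz, mul_sub, ← mul_assoc, h1', ← mul_assoc, hb.1.1, zero_mul, sub_zero]
  have mid : ∀ {x : 𝔈}, (∀ m ∈ LinearMap.ker z, x m ∈ LinearMap.range z) →
      (1 - z * c) * x * (1 - c * z) = 0 := by
    intro x hx
    ext m
    obtain ⟨v, hv⟩ := hx ((1 - c * z) m) (by
      rw [LinearMap.mem_ker, ← Module.End.mul_apply, mul_sub, mul_one, ← mul_assoc, hg.inv.zcz,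
        sub_self, LinearMap.zero_apply])
    rw [mul_assoc, Module.End.mul_apply, Module.End.mul_apply, ← hv, ← Module.End.mul_apply, sub_mul,
      one_mul, hg.inv.zcz, sub_self]
    rfl
  have h0a : (1 - z * c) * a * (1 - c * z) = 0 := mid fun m hm => by
    rw [hcd.range_eq]
    rw [hcd.ker_eq] at hm
    obtain ⟨u, hu, v, hv, rfl⟩ := Submodule.mem_sup.1 hm.2
    rw [map_add, LinearMap.mem_ker.1 hv, add_zero]
    refine Submodule.mem_sup_left ?_
    rw [← hcd.map_left]
    exact ⟨u, hu, rfl⟩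
  have h0b : (1 - z * c) * b * (1 - c * z) = 0 := mid fun m hm => by
    rw [hcd.range_eq]
    rw [hcd.ker_eq] at hm
    obtain ⟨u, hu, v, hv, rfl⟩ := Submodule.mem_sup.1 hm.1
    rw [map_add, LinearMap.mem_ker.1 hv, add_zero]
    refine Submodule.mem_sup_right ?_
    rw [← hcd.map_right]
    exact ⟨u, hu, rfl⟩
  obtain ⟨hr, wa, ra, rka⟩ := hg.split_root h2 ha za az h0a
  obtain ⟨hs, wb, rb, rkb⟩ := hg.split_root h2 hb zb bz h0b
  set r := z * c * a * (c * z)
  set s := z * c * b * (c * z)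
  set a₁ := a - r with ha₁
  set b₁ := b - s with hb₁
  have kill : ∀ {x y : 𝔈}, x ∈ rootSet G z → z * y = 0 → x * y = 0 := by
    intro x y hx hy
    rw [← (hg.inv_mem_layer hx).2, mul_assoc, mul_assoc, hy, mul_zero, mul_zero]
  have kill' : ∀ {x y : 𝔈}, x ∈ rootSet G z → y * z = 0 → y * x = 0 := by
    intro x y hx hy
    rw [← (hg.inv_mem_layer hx).1, ← mul_assoc, ← mul_assoc, hy, zero_mul, zero_mul]
  have hab : a₁ * b₁ - b₁ * a₁ = z := by
    have t1 : a₁ * s = 0 := kill' hs wa.xz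
    have t2 : s * a₁ = 0 := kill hs wa.zx
    have t3 : r * b = 0 := kill hr zb
    have t4 : b * r = 0 := kill' hr bz
    calc a₁ * b₁ - b₁ * a₁ = a₁ * b - b * a₁ - (a₁ * s - s * a₁) := by
          simp only [hb₁, mul_sub a₁, sub_mul b]; abel
      _ = a₁ * b - b * a₁ := by rw [t1, t2, sub_zero, sub_zero]
      _ = a * b - b * a - (r * b - b * r) := by simp only [ha₁, sub_mul, mul_sub]; abel
      _ = z := by rw [t3, t4, sub_zero, sub_zero]
  have a₁0 : a₁ ≠ 0 := by
    intro h
    rw [h, zero_mul, mul_zero, sub_zero] at hab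
    exact h0 (hz ▸ hab.symm)
  have b₁0 : b₁ ≠ 0 := by
    intro h
    rw [h, zero_mul, mul_zero, sub_zero] at hab
    exact h0 (hz ▸ hab.symm)
  have hma : IsMin G a₁ := ⟨ra, a₁0, fun x hx hx0 => rka.trans (ha.2.2 x hx hx0)⟩
  have hmb : IsMin G b₁ := ⟨rb, b₁0, fun x hx hx0 => rkb.trans (hb.2.2 x hx hx0)⟩
  obtain ⟨b₁', hb₁', wb₁', hbw⟩ := wone_surj h2 hk hg hma hmb wa wb hab hw
  have wna : WOne z c (-a₁) := ⟨by rw [mul_neg, wa.zx, neg_zero], by rw [neg_mul, wa.xz, neg_zero],
    by rw [mul_neg, neg_mul, ← neg_add, wa.eq]⟩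
  obtain ⟨a', ha', wa', haw⟩ := wone_surj h2 hk hg hmb hma.neg wb wna
    (by rw [mul_neg, neg_mul, ← hab]; abel) (neg_mem_rootSet hs)
  rw [rootSet_neg] at ha'
  have haw' : a' * b₁ - b₁ * a' = s := by rw [← neg_sub, haw, neg_neg]
  set g := uEnd a' ha'.1.1
  have hgG : g ∈ G := ha'.1.uEnd_mem
  have hconj : ∀ x : 𝔈, WOne z c x →
      (g : 𝔈) * x * ((g⁻¹ : GLk) : 𝔈) = x + (a' * x - x * a') := by
    intro x hx
    rw [uEnd_coe, uEnd_inv_coe, mul_sub, mul_one, add_mul, one_mul, add_mul,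
      wa'.triple hg.inv hx wa', add_zero]
    abel
  refine ⟨b₁' + (a' * b₁' - b₁' * a'), ?_, ?_⟩
  · have hbe : b = (g : 𝔈) * b₁ * ((g⁻¹ : GLk) : 𝔈) := by
      rw [hconj b₁ wb, haw', hb₁, sub_add_cancel]
    rw [hbe, ← hconj b₁' wb₁', mem_conj_rootSet hgG]
    simpa [mul_assoc] using hb₁'
  · set v := a' * b₁' - b₁' * a' with hv
    obtain ⟨m1, m2⟩ := wa'.mul hg.inv wb₁'
    obtain ⟨m3, m4⟩ := wb₁'.mul hg.inv wa'
    have zv : z * v = 0 := by
      rw [hv, mul_sub, ← m1, ← m3, ← mul_assoc z (z * c), ← mul_assoc z z c, hg.inv.zz, zero_mul,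
        zero_mul, ← mul_assoc z (z * c), ← mul_assoc z z c, hg.inv.zz, zero_mul, zero_mul, sub_zero]
    have vz : v * z = 0 := by
      rw [hv, sub_mul, ← m2, ← m4]
      simp [mul_assoc, hg.inv.zz]
    have a₁v : a₁ * v = 0 := by
      rw [hv, mul_sub, ← m1, ← m3]
      simp [← mul_assoc, wa.xz]
    have va₁ : v * a₁ = 0 := by
      rw [hv, sub_mul, ← m2, ← m4]
      simp [mul_assoc, wa.zx]
    have hae : a = a₁ + r := by rw [ha₁, sub_add_cancel]
    rw [hae, ← hbw]
    simp only [add_mul, mul_add, kill hr wb₁'.zx, kill' hr wb₁'.xz, kill hr zv, kill' hr vz, a₁v, va₁,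
      add_zero]

end CfsgLib.PLocal.QPair
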