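import Cfsg.Agent.Lib.PLocal.QPairSurj
import Cfsg.Agent.Lib.PLocal.QPairStatements
import Cfsg.Agent.Lib.PLocal.QPairPartner

/-!
# Quadratic pairs: unipotent pairs of root subgroups
-/

set_option autoImplicit false

universe u

namespace CfsgLib.PLocal.QPair

open scoped commutatorElement

variable {k : Type u} [Field k] {M : Type u} [AddCommGroup M] [Module k M] [FiniteDimensional k M]

local notation "GLk" => LinearMap.GeneralLinearGroup k M
local notation "𝔈" => M →ₗ[k] M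

variable {G : Subgroup (LinearMap.GeneralLinearGroup k M)}

omit [FiniteDimensional k M] in
/-- Group commutators of unipotent root elements. -/
theorem commutator_coe {e f : GLk} {x y : 𝔈} (he : (e : 𝔈) = 1 + x) (hf : (f : 𝔈) = 1 + y)
    (hx : x * x = 0) (hy : y * y = 0) (h1 : x * y * x = 0) (h2 : y * x * y = 0) :
    ((e * f * e⁻¹ * f⁻¹ : GLk) : 𝔈) = 1 + (x * y - y * x) := by
  rw [show e = uEnd x hx from Units.ext he, show f = uEnd y hy from Units.ext hf]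
  simp only [Units.val_mul, uEnd_coe, uEnd_inv_coe]
  have hxx : ∀ z : 𝔈, x * (x * z) = 0 := fun z => by rw [← mul_assoc, hx, zero_mul]
  have hyy : ∀ z : 𝔈, y * (y * z) = 0 := fun z => by rw [← mul_assoc, hy, zero_mul]
  have hxy : ∀ z : 𝔈, x * (y * (x * z)) = 0 := fun z => by rw [← mul_assoc, ← mul_assoc, h1, zero_mul]
  have hyx : ∀ z : 𝔈, y * (x * (y * z)) = 0 := fun z => by rw [← mul_assoc, ← mul_assoc, h2, zero_mul]
  rw [mul_assoc] at h1 h2
  simp only [add_mul, mul_add, mul_sub, sub_mul, one_mul, mul_one, mul_assoc, hx, hy, h1, h2, hxx,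
    hyy, hxy, hyx, mul_zero, add_zero, sub_zero]
  abel

/-- The layer conditions defining the unipotent core of a root subgroup. -/
def InCore (z : 𝔈) (g : GLk) : Prop :=
  LinearMap.range ((g : 𝔈) - 1) ≤ LinearMap.ker z ∧
    (∀ m ∈ LinearMap.ker z, ((g : 𝔈) - 1) m ∈ LinearMap.range z) ∧
    ∀ m ∈ LinearMap.range z, ((g : 𝔈) - 1) m = 0

theorem inCore_closure {z : 𝔈} (hz : z * z = 0) {S : Set GLk} (hS : ∀ g ∈ S, InCore z g)
    {g : GLk} (hg : g ∈ Subgroup.closure S) : InCore z g := by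
  induction hg using Subgroup.closure_induction with
  | mem g hg => exact hS g hg
  | one => simp [InCore]
  | mul g h _ _ hg hh =>
    unfold InCore
    rw [sub_one_mul_sub_one]
    refine ⟨?_, fun m hm => ?_, fun m hm => ?_⟩
    · rintro _ ⟨m, rfl⟩
      exact add_mem (add_mem (hg.1 (LinearMap.mem_range_self _ m))
        (hh.1 (LinearMap.mem_range_self _ m))) (hg.1 (LinearMap.mem_range_self _ _))
    · simp only [LinearMap.add_apply, Module.End.mul_apply, hg.2.2 _ (hh.2.1 m hm), add_zero]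
      exact add_mem (hg.2.1 m hm) (hh.2.1 m hm)
    · simp [hg.2.2 m hm, hh.2.2 m hm]
  | inv g _ hg =>
    have hfix : ∀ m, ((g⁻¹ : GLk) : 𝔈) m - m = -(((g : 𝔈) - 1) (((g⁻¹ : GLk) : 𝔈) m)) := fun m => by
      rw [LinearMap.sub_apply, Module.End.one_apply, ← Module.End.mul_apply, Units.mul_inv,
        Module.End.one_apply, neg_sub]
    have happ : ∀ m, (((g⁻¹ : GLk) : 𝔈) - 1) m = -(((g : 𝔈) - 1) (((g⁻¹ : GLk) : 𝔈) m)) := hfix
    have hK : ∀ m ∈ LinearMap.ker z, ((g⁻¹ : GLk) : 𝔈) m ∈ LinearMap.ker z := by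
      intro m hm
      have := add_mem hm (neg_mem (hg.1 (LinearMap.mem_range_self ((g : 𝔈) - 1)
        (((g⁻¹ : GLk) : 𝔈) m))))
      rwa [← hfix m, add_sub_cancel] at this
    refine ⟨?_, fun m hm => ?_, fun m hm => ?_⟩
    · rintro _ ⟨m, rfl⟩
      rw [happ]
      exact neg_mem (hg.1 (LinearMap.mem_range_self _ _))
    · rw [happ]
      exact neg_mem (hg.2.1 _ (hK m hm))
    · have hgm : (g : 𝔈) m = m := by simpa [sub_eq_zero] using hg.2.2 m hm
      rw [LinearMap.sub_apply, Module.End.one_apply]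
      nth_rewrite 1 [← hgm]
      rw [← Module.End.mul_apply, Units.inv_mul, Module.End.one_apply, sub_self]

omit [FiniteDimensional k M] in
/-- A product of elements of `A ⊔ B` has central commutator subgroup. -/
theorem commutator_sup_le {Γ : Type*} [Group Γ] {A B D : Subgroup Γ}
    (hA : ∀ u ∈ A, ∀ v ∈ A, u * v = v * u) (hB : ∀ u ∈ B, ∀ v ∈ B, u * v = v * u)
    (hAB : ∀ u ∈ A, ∀ v ∈ B, ⁅u, v⁆ ∈ D) (hc : ∀ d ∈ D, ∀ x ∈ A ⊔ B, d * x = x * d) :
    ⁅A ⊔ B, A ⊔ B⁆ ≤ D := by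
  have conj_mem : ∀ x ∈ A ⊔ B, ∀ d ∈ D, x * d * x⁻¹ ∈ D := fun x hx d hd => by
    rwa [← hc d hd x hx, mul_inv_cancel_right]
  have step : ∀ u ∈ A ⊔ B, (∀ v ∈ (A : Set Γ) ∪ B, ⁅u, v⁆ ∈ D) → ∀ v ∈ A ⊔ B, ⁅u, v⁆ ∈ D := by
    intro u hu h v hv
    rw [Subgroup.sup_eq_closure] at hv
    have := Subgroup.closure_induction (p := fun v _ => v ∈ A ⊔ B ∧ ⁅u, v⁆ ∈ D)
      (fun v hv => ⟨hv.elim (fun h => Subgroup.mem_sup_left h) (fun h => Subgroup.mem_sup_right h),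
        h v hv⟩)
      ⟨one_mem _, by simp [commutatorElement_def]⟩
      (fun v w _ _ hv hw => ⟨mul_mem hv.1 hw.1, by
        rw [show ⁅u, v * w⁆ = ⁅u, v⁆ * (v * ⁅u, w⁆ * v⁻¹) by simp only [commutatorElement_def]; group]
        exact mul_mem hv.2 (conj_mem v hv.1 _ hw.2)⟩)
      (fun v _ hv => ⟨inv_mem hv.1, by
        rw [show ⁅u, v⁻¹⁆ = v⁻¹ * ⁅u, v⁆⁻¹ * v⁻¹⁻¹ by simp only [commutatorElement_def]; group]
        exact conj_mem _ (inv_mem hv.1) _ (inv_mem hv.2)⟩) hv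
    exact this.2
  refine Subgroup.commutator_le.2 fun u hu v hv => ?_
  have hswap : ∀ {p q : Γ}, ⁅p, q⁆ ∈ D → ⁅q, p⁆ ∈ D := fun {p q} h => by
    rw [← commutatorElement_inv]; exact inv_mem h
  refine hswap (step v hv (fun w hw => hswap ?_) u hu)
  have hwX : w ∈ A ⊔ B :=
    hw.elim (fun h => Subgroup.mem_sup_left h) (fun h => Subgroup.mem_sup_right h)
  refine step w hwX (fun x hx => ?_) v hv
  have comm1 : ∀ {p q : Γ}, p * q = q * p → ⁅p, q⁆ ∈ D := fun {p q} h => by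
    rw [commutatorElement_eq_one_iff_mul_comm.2 h]; exact one_mem _
  rcases hw with hw | hw <;> rcases hx with hx | hx
  exacts [comm1 (hA w hw x hx), hAB w hw x hx, hswap (hAB x hx w hw), comm1 (hB w hw x hx)]

/-- The main structure theorem for non-commuting unipotent pairs. -/
theorem unipotent_pair (h2 : (2 : k) ≠ 0) (hk : Nat.card k ≠ 3) (hG : Cfsg.IsQuadraticPair G)
    {σ τ : GLk} (hσ : IsMin G ((σ : 𝔈) - 1)) (hτ : IsMin G ((τ : 𝔈) - 1))
    (hu : ((σ : 𝔈) - 1) * ((τ : 𝔈) - 1) * ((σ : 𝔈) - 1) = 0 ∧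
      ((τ : 𝔈) - 1) * ((σ : 𝔈) - 1) * ((τ : 𝔈) - 1) = 0) :
    let E := Cfsg.sameActionSubgroup G σ
    let F := Cfsg.sameActionSubgroup G τ
    ⁅E, F⁆ = ⊥ ∨
      (⁅E, F⁆ ∈ Cfsg.quadraticRootSubgroups G ∧
      (∀ c ∈ ⁅E, F⁆, ∀ x ∈ E ⊔ F, c * x = x * c) ∧
      (∀ e ∈ E, e ≠ 1 → Subgroup.closure ((fun f : GLk => e * f * e⁻¹ * f⁻¹) '' (F : Set GLk)) = ⁅E, F⁆) ∧
      (∀ f ∈ F, f ≠ 1 → Subgroup.closure ((fun e : GLk => e * f * e⁻¹ * f⁻¹) '' (E : Set GLk)) = ⁅E, F⁆) ∧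
      ⁅E ⊔ F, E ⊔ F⁆ ≠ ⊥ ∧ ⁅⁅E ⊔ F, E ⊔ F⁆, E ⊔ F⁆ = ⊥ ∧
      ((E ⊔ F : Subgroup GLk) : Set GLk) ⊆ Cfsg.quadraticUnipotentCore G ⁅E, F⁆) := by
  intro E F
  by_cases hE0 : ⁅E, F⁆ = ⊥
  · exact Or.inl hE0
  right
  set a := (σ : 𝔈) - 1 with ha_def
  set b := (τ : 𝔈) - 1 with hb_def
  have key : ∀ {e f : GLk}, e ∈ E → e ≠ 1 → f ∈ F → f ≠ 1 →
      ((e : 𝔈) - 1) * ((f : 𝔈) - 1) - ((f : 𝔈) - 1) * ((e : 𝔈) - 1) ≠ 0 := by
    intro e f he he1 hf hf1 h0
    exact hE0 (commutator_eq_bot_of_commute h2 hσ hτ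
      (Or.inl ⟨e, he, he1, f, hf, hf1, (commute_iff e f).2 (sub_eq_zero.1 h0)⟩))
  have hz0 : a * b - b * a ≠ 0 :=
    key (self_mem_sameAction hσ) (fun h => hσ.2.1 (by simp [ha_def, h]))
      (self_mem_sameAction hτ) (fun h => hτ.2.1 (by simp [hb_def, h]))
  have hcd := commData hσ hτ hu.1 hu.2 hz0
  set z := a * b - b * a with hz_def
  have huall := unip_all h2 hk hσ hτ hu
  set ρ := uEnd z hcd.isMin.1.1 with hρ_def
  have hρz : (ρ : 𝔈) - 1 = z := uEnd_sub_one z _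
  have hρ : IsMin G ((ρ : 𝔈) - 1) := by rw [hρz]; exact hcd.isMin
  set D := Cfsg.sameActionSubgroup G ρ with hD_def
  have memD : ∀ g : GLk, g ∈ D ↔ (g : 𝔈) - 1 ∈ rootSet G z := fun g => by
    rw [hD_def, mem_sameAction_iff hρ, hρz]
  have hcomm : ∀ {e f : GLk}, e ∈ E → f ∈ F →
      ((e * f * e⁻¹ * f⁻¹ : GLk) : 𝔈) - 1 =
        ((e : 𝔈) - 1) * ((f : 𝔈) - 1) - ((f : 𝔈) - 1) * ((e : 𝔈) - 1) := by
    intro e f he hf
    have hx := (mem_sameAction_iff hσ).1 he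
    have hy := (mem_sameAction_iff hτ).1 hf
    obtain ⟨t1, t2⟩ := huall _ hx _ hy
    rw [commutator_coe (by abel) (by abel) hx.1.1 hy.1.1 t1 t2, add_sub_cancel_left]
  have hEFD : ∀ e ∈ E, ∀ f ∈ F, e * f * e⁻¹ * f⁻¹ ∈ D := by
    intro e he f hf
    rw [memD, hcomm he hf]
    exact comm_mem_rootSet hcd huall ((mem_sameAction_iff hσ).1 he) ((mem_sameAction_iff hτ).1 hf)
      hσ.1 hτ.1
  obtain ⟨o, ho, hzo⟩ := exists_opp h2 hk hG hcd.isMin
  -- surjectivity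
  have surjF : ∀ e ∈ E, e ≠ 1 → ∀ d ∈ D, ∃ f ∈ F, e * f * e⁻¹ * f⁻¹ = d := by
    intro e he he1 d hd
    have hx := (mem_sameAction_iff hσ).1 he
    have hx0 : (e : 𝔈) - 1 ≠ 0 := fun h0 => he1 (Units.ext (sub_eq_zero.1 h0))
    have hz1 := key he he1 (self_mem_sameAction hτ) (fun h => hτ.2.1 (by simp [hb_def, h]))
    have hz1m := comm_mem_rootSet hcd huall hx (self_mem_rootSet hτ.1) hσ.1 hτ.1
    obtain ⟨t1, t2⟩ := huall _ hx b (self_mem_rootSet hτ.1)
    obtain ⟨y, hy, hye⟩ := comm_surj h2 hk (hσ.of_mem hx hx0) hτ t1 t2 hz1 ho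
      (hzo.mono hcd.isMin ho hz1m (self_mem_rootSet ho.1) hz1 ho.2.1) (w := (d : 𝔈) - 1)
      (by rw [hcd.isMin.rootSet_eq hz1m hz1, ← memD]; exact hd)
    refine ⟨uEnd y hy.1.1, uEnd_mem_sameAction hτ hy, Units.ext ?_⟩
    have h := hcomm he (uEnd_mem_sameAction hτ hy)
    rw [uEnd_sub_one, hye] at h
    exact sub_left_injective h
  have surjE : ∀ f ∈ F, f ≠ 1 → ∀ d ∈ D, ∃ e ∈ E, e * f * e⁻¹ * f⁻¹ = d := by
    intro f hf hf1 d hd
    have hy := (mem_sameAction_iff hτ).1 hf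
    have hy0 : (f : 𝔈) - 1 ≠ 0 := fun h0 => hf1 (Units.ext (sub_eq_zero.1 h0))
    have hz1 := key (self_mem_sameAction hσ) (fun h => hσ.2.1 (by simp [ha_def, h])) hf hf1
    have hz1m := comm_mem_rootSet hcd huall (self_mem_rootSet hσ.1) hy hσ.1 hτ.1
    have hne : ((f : 𝔈) - 1) * a - a * ((f : 𝔈) - 1) ≠ 0 := by
      rw [← neg_sub, neg_ne_zero]; exact hz1
    have hm : ((f : 𝔈) - 1) * a - a * ((f : 𝔈) - 1) ∈ rootSet G z := by
      rw [← neg_sub]; exact neg_mem_rootSet hz1m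
    obtain ⟨t1, t2⟩ := huall a (self_mem_rootSet hσ.1) _ hy
    obtain ⟨x, hx, hxe⟩ := comm_surj h2 hk (hτ.of_mem hy hy0) hσ t2 t1 hne ho
      (hzo.mono hcd.isMin ho hm (self_mem_rootSet ho.1) hne ho.2.1) (w := -((d : 𝔈) - 1))
      (by rw [hcd.isMin.rootSet_eq hm hne]; exact neg_mem_rootSet ((memD d).1 hd))
    refine ⟨uEnd x hx.1.1, uEnd_mem_sameAction hσ hx, Units.ext ?_⟩
    have h := hcomm (uEnd_mem_sameAction hσ hx) hf
    rw [uEnd_sub_one, ← neg_sub (((f : 𝔈) - 1) * x), hxe, neg_neg] at h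
    exact sub_left_injective h
  have hσ1 : σ ≠ 1 := fun h => hσ.2.1 (by simp [ha_def, h])
  have hEF : ⁅E, F⁆ = D := by
    refine le_antisymm (Subgroup.commutator_le.2 fun e he f hf => ?_) fun d hd => ?_
    · rw [commutatorElement_def]; exact hEFD e he f hf
    · obtain ⟨f, hf, rfl⟩ := surjF σ (self_mem_sameAction hσ) hσ1 d hd
      rw [← commutatorElement_def]
      exact Subgroup.commutator_mem_commutator (self_mem_sameAction hσ) hf
  -- the core conditions on the generators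
  have core_gen : ∀ g ∈ ((E : Set GLk) ∪ F), InCore z g := by
    have hPa : ∀ {a b : 𝔈}, CommData G a b → IsMin G a → IsMin G b →
        (∀ x ∈ rootSet G a, ∀ y ∈ rootSet G b, x * y * x = 0 ∧ y * x * y = 0) →
        a * b * a = 0 → ∀ x ∈ rootSet G a,
        LinearMap.range x ≤ LinearMap.ker (a * b - b * a) ∧
        (∀ m ∈ LinearMap.range b ⊔ LinearMap.ker a, x m ∈ LinearMap.range a ⊓ LinearMap.ker b) ∧
        ∀ m ∈ LinearMap.range (a * b - b * a), x m = 0 := by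
      intro a b hcd ha hb hu h1 x hx
      refine ⟨hx.2.1.trans (mul_eq_zero_iff.1 ?_), fun m hm => ?_, fun m hm => ?_⟩
      · rw [sub_mul, h1, mul_assoc b a a, ha.1.1, mul_zero, sub_zero]
      · obtain ⟨_, ⟨w, rfl⟩, v, hv, rfl⟩ := Submodule.mem_sup.1 hm
        rw [map_add, LinearMap.mem_ker.1 (hx.2.2 hv), add_zero]
        exact ⟨hx.2.1 (LinearMap.mem_range_self x _),
          LinearMap.congr_fun (hu x hx b (self_mem_rootSet hb.1)).2 w⟩
      · refine LinearMap.mem_ker.1 (hx.2.2 ?_)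
        refine (mul_eq_zero_iff.1 (?_ : a * (a * b - b * a) = 0)) hm
        rw [mul_sub, ← mul_assoc, ha.1.1, zero_mul, ← mul_assoc, h1, sub_zero]
    intro g hg
    rcases hg with hg | hg
    · obtain ⟨p1, p2, p3⟩ := hPa hcd hσ hτ huall hu.1 _ ((mem_sameAction_iff hσ).1 hg)
      refine ⟨p1, fun m hm => ?_, p3⟩
      rw [hcd.ker_eq] at hm
      rw [hcd.range_eq]
      exact Submodule.mem_sup_left (p2 m hm.2)
    · have hne : b * a - a * b ≠ 0 := by rw [← neg_sub, neg_ne_zero]; exact hz0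
      have hcd' := commData hτ hσ hu.2 hu.1 hne
      obtain ⟨p1, p2, p3⟩ := hPa hcd' hτ hσ
        (fun y hy x hx => (huall x hx y hy).symm) hu.2 _ ((mem_sameAction_iff hτ).1 hg)
      have e1 : LinearMap.ker (b * a - a * b) = LinearMap.ker z := by
        rw [← neg_sub, hz_def]; ext m
        simp only [LinearMap.mem_ker, LinearMap.neg_apply, neg_eq_zero]
      have e2 : LinearMap.range (b * a - a * b) = LinearMap.range z := by
        rw [← neg_sub, LinearMap.range_neg, hz_def]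
      refine ⟨e1 ▸ p1, fun m hm => ?_, e2 ▸ p3⟩
      rw [hcd.ker_eq] at hm
      rw [hcd.range_eq]
      exact Submodule.mem_sup_right (p2 m hm.1)
  have core : ∀ g ∈ E ⊔ F, InCore z g := fun g hg =>
    inCore_closure hcd.isMin.1.1 core_gen (by rwa [← Subgroup.sup_eq_closure])
  have hsupG : E ⊔ F ≤ G := sup_le (sameAction_le hσ) (sameAction_le hτ)
  -- `D` is central
  have hcent : ∀ c ∈ D, ∀ x ∈ E ⊔ F, c * x = x * c := by
    intro c hc x hx
    obtain ⟨c1, c2, c3⟩ := core x hx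
    have hcz := (memD c).1 hc
    refine (commute_iff c x).2 ?_
    have e2 : ((x : 𝔈) - 1) * ((c : 𝔈) - 1) = 0 := mul_eq_zero_iff.2 fun m hm => c3 m (hcz.2.1 hm)
    rw [mul_eq_zero_iff.2 (c1.trans hcz.2.2), e2]
  have hcsub : Cfsg.commutatorSubmodule D = LinearMap.range z :=
    le_antisymm (iSup₂_le fun g hg => ((memD g).1 hg).2.1)
      (le_iSup₂_of_le ρ (self_mem_sameAction hρ) (by rw [hρz]))
  have hfsub : Cfsg.fixedSubmodule D = LinearMap.ker z :=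
    le_antisymm (iInf₂_le_of_le ρ (self_mem_sameAction hρ) (by rw [hρz]))
      (le_iInf₂ fun g hg => ((memD g).1 hg).2.2)
  have hXX : ⁅E ⊔ F, E ⊔ F⁆ ≤ D := by
    have hcE := sameAction_isMulCommutative hσ
    have hcF := sameAction_isMulCommutative hτ
    refine commutator_sup_le
      (fun u hu v hv => congrArg Subtype.val (hcE.is_comm.comm ⟨u, hu⟩ ⟨v, hv⟩))
      (fun u hu v hv => congrArg Subtype.val (hcF.is_comm.comm ⟨u, hu⟩ ⟨v, hv⟩))
      (fun u hu v hv => ?_) hcent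
    rw [commutatorElement_def]; exact hEFD u hu v hv
  rw [hEF]
  refine ⟨⟨ρ, minimal_iff.2 hρ, rfl⟩, hcent, fun e he he1 => ?_, fun f hf hf1 => ?_, fun h => ?_,
    ?_, fun g hg => ⟨hsupG hg, ?_, ?_, ?_, ?_⟩⟩
  · refine le_antisymm ((Subgroup.closure_le _).2 ?_) fun d hd => ?_
    · rintro _ ⟨f, hf, rfl⟩; exact hEFD e he f hf
    · obtain ⟨f, hf, rfl⟩ := surjF e he he1 d hd
      exact Subgroup.subset_closure ⟨f, hf, rfl⟩
  · refine le_antisymm ((Subgroup.closure_le _).2 ?_) fun d hd => ?_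
    · rintro _ ⟨e, he, rfl⟩; exact hEFD e he f hf
    · obtain ⟨e, he, rfl⟩ := surjE f hf hf1 d hd
      exact Subgroup.subset_closure ⟨e, he, rfl⟩
  · refine sameAction_ne_bot hρ (le_bot_iff.1 ?_)
    rw [← hD_def, ← hEF, ← h]
    exact Subgroup.commutator_mono le_sup_left le_sup_right
  · refine le_bot_iff.1 ((Subgroup.commutator_mono hXX le_rfl).trans ?_)
    exact le_of_eq (Subgroup.commutator_eq_bot_iff_le_centralizer.2 fun c hc =>
      Subgroup.mem_centralizer_iff.2 fun x hx => (hcent c hc x hx).symm)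
  · refine Subgroup.mem_normalizer_iff.2 fun d => ⟨fun hd => ?_, fun hd => ?_⟩
    · rwa [← hcent d hd g hg, mul_inv_cancel_right]
    · have h := hcent _ hd g hg
      rw [inv_mul_cancel_right] at h
      have e : d = g * d * g⁻¹ := mul_left_cancel (h.symm.trans rfl : g * (g * d * g⁻¹) = g * d).symm
      rw [e]
      exact hd
  · intro m
    rw [hfsub]
    exact (core g hg).1 (LinearMap.mem_range_self ((g : 𝔈) - 1) m)
  · rw [hfsub, hcsub]
    exact fun m hm => (core g hg).2.1 m hm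
  · rw [hcsub]
    exact fun m hm => by simpa [sub_eq_zero] using (core g hg).2.2 m hm

theorem commutator_sup_eq_bot {σ τ : GLk} (hσ : IsMin G ((σ : 𝔈) - 1))
    (hτ : IsMin G ((τ : 𝔈) - 1))
    (h : ⁅Cfsg.sameActionSubgroup G σ, Cfsg.sameActionSubgroup G τ⁆ = ⊥) :
    ⁅Cfsg.sameActionSubgroup G σ ⊔ Cfsg.sameActionSubgroup G τ,
      Cfsg.sameActionSubgroup G σ ⊔ Cfsg.sameActionSubgroup G τ⁆ = ⊥ := by
  have hcE := sameAction_isMulCommutative hσ
  have hcF := sameAction_isMulCommutative hτ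
  refine le_bot_iff.1 (commutator_sup_le
    (fun u hu v hv => congrArg Subtype.val (hcE.is_comm.comm ⟨u, hu⟩ ⟨v, hv⟩))
    (fun u hu v hv => congrArg Subtype.val (hcF.is_comm.comm ⟨u, hu⟩ ⟨v, hv⟩))
    (fun u hu v hv => h ▸ Subgroup.commutator_mem_commutator hu hv) fun d hd x _ => ?_)
  rw [Subgroup.mem_bot.1 hd, one_mul, mul_one]

/-- A pair generating a group of class at most two is not opposite. -/
theorem aba_of_class_two (h2 : (2 : k) ≠ 0) (hk : Nat.card k ≠ 3) {σ τ : GLk}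
    (hσ : IsMin G ((σ : 𝔈) - 1)) (hτ : IsMin G ((τ : 𝔈) - 1))
    (h : ⁅⁅Cfsg.sameActionSubgroup G σ ⊔ Cfsg.sameActionSubgroup G τ,
        Cfsg.sameActionSubgroup G σ ⊔ Cfsg.sameActionSubgroup G τ⁆,
      Cfsg.sameActionSubgroup G σ ⊔ Cfsg.sameActionSubgroup G τ⁆ = ⊥) :
    ((σ : 𝔈) - 1) * ((τ : 𝔈) - 1) * ((σ : 𝔈) - 1) = 0 ∧
      ((τ : 𝔈) - 1) * ((σ : 𝔈) - 1) * ((τ : 𝔈) - 1) = 0 := by
  refine (unip_or_opp h2 hk hσ hτ).resolve_right fun ho => ?_
  obtain ⟨c, hc, -, hac, hca⟩ := ho.exists_inverse h2 hk hσ hτ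
  set a := (σ : 𝔈) - 1
  have haa : a * a = 0 := hσ.1.1
  set f := uEnd c hc.1.1
  have hmf : f ∈ Cfsg.sameActionSubgroup G τ := uEnd_mem_sameAction hτ hc
  have hme := self_mem_sameAction hσ
  have h1 : ⁅⁅σ, f⁆, σ⁆ = 1 := Subgroup.mem_bot.1 (h ▸ Subgroup.commutator_mem_commutator
    (Subgroup.commutator_mem_commutator (Subgroup.mem_sup_left hme) (Subgroup.mem_sup_right hmf))
    (Subgroup.mem_sup_left hme))
  have h3 : f * σ⁻¹ * f⁻¹ * σ = σ * (f * σ⁻¹ * f⁻¹) := by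
    rw [commutatorElement_eq_one_iff_mul_comm, commutatorElement_def] at h1
    have h4 := congrArg (σ⁻¹ * ·) h1
    simpa [mul_assoc] using h4
  rw [commute_iff, conj_sub_one] at h3
  have e : ((σ⁻¹ : GLk) : 𝔈) - 1 = -a := by
    rw [show σ = uEnd a haa from Units.ext (by rw [uEnd_coe]; simp [a]), uEnd_inv_coe]
    abel
  rw [e, uEnd_coe, uEnd_inv_coe] at h3
  have hax : ∀ x : 𝔈, a * (a * x) = 0 := fun x => by rw [← mul_assoc, haa, zero_mul]
  have h5 : a * ((1 + c) * -a * (1 - c)) = -(a - a * c) := by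
    rw [mul_assoc] at hac hca
    simp only [mul_add, mul_sub, add_mul, one_mul, mul_one, mul_neg, neg_mul, mul_assoc, haa, hax,
      hac, hca]
    abel
  have h6 : (1 + c) * -a * (1 - c) * a = a + c * a := by
    rw [mul_assoc] at hac
    simp only [mul_add, mul_sub, add_mul, sub_mul, one_mul, mul_one, mul_neg, neg_mul, mul_assoc,
      haa, hac, mul_zero]
    abel
  rw [h5, h6] at h3
  have h7 := congrArg (a * ·) h3
  simp only [mul_add, mul_neg, mul_sub, haa, hax, sub_zero, neg_zero, zero_add, ← mul_assoc, hac]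
    at h7
  exact hσ.2.1 h7

end CfsgLib.PLocal.QPair
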