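import Cfsg.Agent.Lib.PLocal.QPairBasic
import Cfsg.Agent.Lib.Trans3.Unipotent

/-!
# Quadratic pairs: two minimal root endomorphisms generating a nilpotent algebra

Such endomorphisms `a`, `b` satisfy `a b a = 0 = b a b`.
-/

set_option autoImplicit false

namespace CfsgLib.PLocal.QPair

open CfsgLib.Trans3.Unipotent (IsNilSet flag flag_antitone apply_mem_flag_succ)

section Ring

variable {R : Type*} [Ring R]

/-- The products of the two conjugate commutators vanish. -/
theorem comm_products (a b : R) (ha : a * a = 0) (hb : b * b = 0) (hb5 : b * (a * (b * (a * b))) = 0) :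
    (b * a * b) * (b * a * b) = 0 ∧
    (b * a * b) * (b * a * b * a - a * b * a * b) = 0 ∧
    (b * a * b * a - a * b * a * b) * (b * a * b) = 0 ∧
    (b * a * b * a - a * b * a * b) * (b * a * b * a - a * b * a * b) = 0 := by
  have hbx : ∀ x : R, b * (b * x) = 0 := fun x => by rw [← mul_assoc, hb, zero_mul]
  have hax : ∀ x : R, a * (a * x) = 0 := fun x => by rw [← mul_assoc, ha, zero_mul]
  have hb5x : ∀ x : R, b * (a * (b * (a * (b * x)))) = 0 := fun x => by
    have h := congrArg (· * x) hb5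
    simpa [mul_assoc] using h
  refine ⟨?_, ?_, ?_, ?_⟩ <;>
    simp [mul_sub, sub_mul, mul_assoc, hbx, hax, hb5, hb5x]

end Ring

variable {k : Type*} [Field k] {M : Type*} [AddCommGroup M] [Module k M]

local notation "GLk" => LinearMap.GeneralLinearGroup k M
local notation "𝔈" => M →ₗ[k] M

/-- The endomorphism `b + t [a, b] - t² a b a`. -/
def cj (a b : 𝔈) (t : k) : 𝔈 := b + t • (a * b - b * a) - (t * t) • (a * b * a)

theorem cj_eq (a b : 𝔈) (ha : a * a = 0) (t : k) :
    cj a b t = (1 + t • a) * b * (1 - t • a) := (conj_by_root a b ha t).symm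

theorem b_cj_b (a b : 𝔈) (hb : b * b = 0) (t : k) :
    b * cj a b t * b = -(t * t) • ((b * a) * (b * a) * b) := by
  have hbx : ∀ x : 𝔈, b * (b * x) = 0 := fun x => by rw [← mul_assoc, hb, zero_mul]
  simp [cj, mul_add, add_mul, mul_sub, sub_mul, mul_assoc, hb, hbx]

theorem b_cj_pow (a b : 𝔈) (hb : b * b = 0) (t : k) (i : ℕ) :
    (b * cj a b t) ^ i * b = ((-(t * t)) ^ i) • ((b * a) ^ (2 * i) * b) := by
  induction i with
  | zero => simp
  | succ i ih =>
    have e : (b * cj a b t) ^ (i + 1) * b = (b * cj a b t) ^ i * (b * cj a b t * b) := by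
      simp only [pow_succ, mul_assoc]
    rw [e, b_cj_b a b hb t, mul_smul_comm,
      show (b * a) * (b * a) * b = b * ((a * b) * (a * b)) by simp only [mul_assoc], ← mul_assoc, ih,
      smul_mul_assoc, smul_smul, ← pow_succ', show 2 * (i + 1) = 2 * i + 2 by ring,
      pow_add (b * a), pow_two]
    simp only [mul_assoc]

variable {G : Subgroup (LinearMap.GeneralLinearGroup k M)}

section Finite

variable [FiniteDimensional k M]

theorem rk_conj (g : GLk) (a : 𝔈) : rk ((g : 𝔈) * a * ((g⁻¹ : GLk) : 𝔈)) = rk a := by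
  have hinj : Function.Injective (g : 𝔈) := fun x y h => by
    have := congrArg ((g⁻¹ : GLk) : 𝔈) h
    rwa [← Module.End.mul_apply, ← Module.End.mul_apply, Units.inv_mul] at this
  have hsurj : Function.Surjective ((g⁻¹ : GLk) : 𝔈) := fun x => ⟨(g : 𝔈) x, by
    rw [← Module.End.mul_apply, Units.inv_mul, Module.End.one_apply]⟩
  rw [rk, rk, Module.End.mul_eq_comp, Module.End.mul_eq_comp,
    LinearMap.range_comp_of_range_eq_top _ (LinearMap.range_eq_top.2 hsurj), LinearMap.range_comp]
  exact (Submodule.equivMapOfInjective _ hinj _).finrank_eq.symm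

theorem IsMin.conj {a : 𝔈} (h : IsMin G a) {g : GLk} (hg : g ∈ G) :
    IsMin G ((g : 𝔈) * a * ((g⁻¹ : GLk) : 𝔈)) := by
  refine ⟨h.1.conj hg, fun e => ?_, fun b hb h0 => (rk_conj g a).trans_le (h.2.2 b hb h0)⟩
  have := congrArg (fun x : 𝔈 => ((g⁻¹ : GLk) : 𝔈) * x * (g : 𝔈)) e
  simp only [mul_zero, zero_mul] at this
  rw [← mul_assoc, ← mul_assoc, Units.inv_mul, one_mul, mul_assoc, Units.inv_mul, mul_one] at this
  exact h.2.1 this

theorem IsMin.cj {a b : 𝔈} (ha : IsRoot G a) (hb : IsMin G b) (t : k) : IsMin G (cj a b t) := by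
  rw [cj_eq a b ha.sq]
  exact hb.conj (ha.smul t).uEnd_mem

/-- Under vanishing of the words of length five the word `b a b` vanishes. -/
theorem bab_eq_zero (h2 : (2 : k) ≠ 0) {a b : 𝔈} (ha : IsRoot G a) (hb : IsMin G b)
    (hb5 : (b * a) * (b * a) * b = 0) : b * a * b = 0 := by
  have hbb := hb.1.sq
  have hcz : ∀ t : k, IsRoot G (b * cj a b t - cj a b t * b) := by
    intro t
    have h1 : ∀ s : k, b * cj a b s * b = 0 := fun s => by rw [b_cj_b a b hbb, hb5, smul_zero]
    have h2 : cj a b t * b * cj a b t = 0 := by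
      set U := (1 + t • a : 𝔈)
      set V := (1 - t • a : 𝔈)
      have huv : U * V = 1 := (uEnd (t • a) (smul_sq ha.sq t)).val_inv
      have hvu : V * U = 1 := (uEnd (t • a) (smul_sq ha.sq t)).inv_val
      have e : cj a b t = U * b * V := cj_eq a b ha.sq t
      have e' : cj a b (-t) = V * b * U := by
        rw [cj_eq a b ha.sq, neg_smul, ← sub_eq_add_neg, sub_neg_eq_add]
      calc cj a b t * b * cj a b t = U * b * (V * b * U) * b * V := by
            rw [e]; simp only [mul_assoc]
        _ = U * (b * cj a b (-t) * b) * V := by rw [← e']; simp only [mul_assoc]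
        _ = 0 := by rw [h1, mul_zero, zero_mul]
    have hc := (IsMin.cj ha hb t).1
    have r1 := hc.conj_root hb.1 1
    rw [one_smul, mul_one, one_smul, h2, sub_zero] at r1
    have h3 := h1 t
    have := hb.1.sub r1 (by
      rw [mul_add, hbb, zero_add, mul_sub, ← mul_assoc, h3, ← mul_assoc, hbb, zero_mul, sub_zero])
      (by
      rw [add_mul, hbb, zero_add, sub_mul, mul_assoc (cj a b t) b b, hbb, mul_zero, h3, sub_zero])
    simpa using this
  have hbx : ∀ x : 𝔈, b * (b * x) = 0 := fun x => by rw [← mul_assoc, hbb, zero_mul]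
  have hz : ∀ t : k, b * cj a b t - cj a b t * b =
      (2 * t) • (b * a * b) - (t * t) • (b * a * b * a - a * b * a * b) := by
    intro t
    simp only [cj, mul_add, add_mul, mul_sub, sub_mul, mul_assoc, mul_smul_comm, smul_mul_assoc,
      hbb, hbx, zero_add, add_zero, sub_zero, mul_zero, smul_sub, smul_zero, zero_mul, smul_add]
    module
  obtain ⟨p1, p2, p3, p4⟩ := comm_products a b ha.sq hbb (by simpa [mul_assoc] using hb5)
  have hr := (hcz 1).sub (hcz (-1))
    (by simp only [hz, mul_sub, sub_mul, smul_mul_smul_comm, p1, p2, p3, p4, smul_zero, sub_zero])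
    (by simp only [hz, mul_sub, sub_mul, smul_mul_smul_comm, p1, p2, p3, p4, smul_zero, sub_zero])
  rw [hz, hz] at hr
  have hne : (4 : k) ≠ 0 := by
    rw [show (4 : k) = 2 * 2 by norm_num]
    exact mul_ne_zero h2 h2
  have hroot : IsRoot G (b * a * b) := by
    have := hr.smul (4 : k)⁻¹
    convert this using 1
    match_scalars <;> field_simp <;> ring
  by_contra h0
  have hle : LinearMap.range (b * a * b) ≤ LinearMap.range b := by
    rw [mul_assoc, Module.End.mul_eq_comp]
    exact LinearMap.range_comp_le_range _ _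
  have heq := Submodule.eq_of_le_of_finrank_le hle (hb.2.2 _ hroot h0)
  refine h0 (LinearMap.ext fun m => ?_)
  obtain ⟨x, hx⟩ : (a * b) m ∈ (⊤ : Submodule k M) := Submodule.mem_top
  obtain ⟨y, hy⟩ := heq.ge (LinearMap.mem_range_self b ((a * b) m))
  have hy' : (b * a * b) m = (b * a * b) y := by
    rw [hy]; simp [mul_assoc]
  rw [hy']
  obtain ⟨z, hz'⟩ := heq.ge (LinearMap.mem_range_self b y)
  have : (b * a * b) y = (b * a) ((b * a * b) z) := by rw [hz']; rfl
  rw [this]
  exact LinearMap.congr_fun (show (b * a) * (b * a * b) = 0 by rw [← mul_assoc]; exact hb5) z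

/-- Nilpotent minimal pairs satisfy `a b a = 0 = b a b`. -/
theorem aba_of_pow (h2 : (2 : k) ≠ 0) : ∀ (j : ℕ) {a b : 𝔈}, IsMin G a → IsMin G b →
    (a * b) ^ j * a = 0 → (b * a) ^ j * b = 0 → a * b * a = 0 ∧ b * a * b = 0 := by
  intro j
  induction j using Nat.strong_induction_on with
  | _ j ih =>
    intro a b ha hb hA hB
    rcases lt_or_ge j 2 with hj | hj
    · interval_cases j
      · exact absurd (by simpa using hA) ha.2.1
      · exact ⟨by simpa using hA, by simpa using hB⟩
    have key : ∀ {a b : 𝔈}, IsMin G a → IsMin G b → (b * a) ^ j * b = 0 → b * a * b = 0 := by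
      intro a b ha hb hB
      refine bab_eq_zero h2 ha.1 hb ?_
      have hz : ∀ t : k, (b * cj a b t) ^ ((j + 1) / 2) * b = 0 := by
        intro t
        obtain ⟨r, hr⟩ : ∃ r, 2 * ((j + 1) / 2) = r + j := ⟨2 * ((j + 1) / 2) - j, by omega⟩
        rw [b_cj_pow a b hb.1.sq, hr, pow_add, mul_assoc, hB, mul_zero, smul_zero]
      set i := (j + 1) / 2
      have hz' : (cj a b 1 * b) ^ i * cj a b 1 = 0 := by
        set u := uEnd ((1 : k) • a) (smul_sq ha.1.sq 1)
        have e : cj a b 1 = (u : 𝔈) * b * ((u⁻¹ : GLk) : 𝔈) := cj_eq a b ha.1.sq 1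
        have e' : b = (u : 𝔈) * cj a b (-1) * ((u⁻¹ : GLk) : 𝔈) := by
          rw [cj_eq a b ha.1.sq, neg_smul, ← sub_eq_add_neg, sub_neg_eq_add]
          show b = (u : 𝔈) * (((u⁻¹ : GLk) : 𝔈) * b * (u : 𝔈)) * ((u⁻¹ : GLk) : 𝔈)
          simp only [mul_assoc, Units.mul_inv, mul_one]
          rw [← mul_assoc, Units.mul_inv, one_mul]
        have em : cj a b 1 * b = (u : 𝔈) * (b * cj a b (-1)) * ((u⁻¹ : GLk) : 𝔈) := by
          conv_lhs => rw [e]; arg 2; rw [e']
          simp only [mul_assoc, Units.inv_mul_cancel_left]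
        rw [em, Units.conj_pow]
        calc _ = (u : 𝔈) * ((b * cj a b (-1)) ^ i * b) * ((u⁻¹ : GLk) : 𝔈) := by
              rw [e]; simp only [mul_assoc, Units.inv_mul_cancel_left]
          _ = 0 := by rw [hz, mul_zero, zero_mul]
      have h := (ih i (by omega) hb (IsMin.cj ha.1 hb 1) (hz 1) hz').1
      rw [b_cj_b a b hb.1.sq] at h
      simpa using h
    exact ⟨key hb ha hA, key ha hb hB⟩

theorem aba_of_isNilSet (h2 : (2 : k) ≠ 0) {a b : 𝔈} (ha : IsMin G a) (hb : IsMin G b)
    {T : Set 𝔈} (hT : IsNilSet T) (haT : a ∈ T) (hbT : b ∈ T) :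
    a * b * a = 0 ∧ b * a * b = 0 := by
  obtain ⟨n, hn⟩ := hT
  have key : ∀ {a b : 𝔈}, a ∈ T → b ∈ T → (a * b) ^ n * a = 0 := by
    intro a b ha hb
    have h : ∀ (j : ℕ) (m : M), ((a * b) ^ j * a) m ∈ flag T j := by
      intro j
      induction j with
      | zero => intro m; exact Submodule.mem_top
      | succ j ih =>
        intro m
        rw [pow_succ', mul_assoc, Module.End.mul_apply, Module.End.mul_apply]
        exact flag_antitone T (by omega) (apply_mem_flag_succ ha (apply_mem_flag_succ hb (ih m)))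
    ext m
    have := h n m
    rw [hn, Submodule.mem_bot] at this
    exact this
  exact aba_of_pow h2 n ha hb (key haT hbT) (key hbT haT)

end Finite

end CfsgLib.PLocal.QPair
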