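import Mathlib
import Cfsg.Agent.Lib.PLocal.QdFree
import Cfsg.Agent.Lib.PLocal.QdFusion

/-!
# A section `Qd(p)` gives a `p`-local section `SL₂(p)`
-/

set_option autoImplicit false

namespace CfsgLib.PLocal

open Subgroup
open scoped MatrixGroups

universe u

variable {p : ℕ} [hp : Fact p.Prime]

theorem exists_local_sl_of_qd {G : Type u} [Group G] [Finite G] {K : Subgroup G}
    (f : K →* ↥(Cfsg.qd p)) (hf : Function.Surjective f) :
    ∃ P : Subgroup G, IsPGroup p P ∧ P ≠ ⊥ ∧
      Cfsg.Involves SL(2, ZMod p) ↥(normalizer (P : Set G)) := by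
  obtain ⟨π, τ, hπ⟩ := exists_qdProj p
  set ψ := π.comp f with hψ
  have hπs : Function.Surjective π := fun M =>
    ⟨⟨affMat 0 M, affMat_mem_qd 0 M⟩, (affMat_injective (hπ ⟨affMat 0 M, affMat_mem_qd 0 M⟩).symm).2⟩
  have hψs : Function.Surjective ψ := hπs.comp hf
  obtain ⟨T⟩ : Nonempty (Sylow p ψ.ker) := inferInstance
  set P₀ := (T : Subgroup ψ.ker).map ψ.ker.subtype with hP₀
  have hTne : (T : Subgroup ψ.ker) ≠ ⊥ := by
    intro h0
    let a : ↥(Cfsg.qd p) := ⟨affMat (Pi.single 0 1) 1, affMat_mem_qd _ _⟩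
    obtain ⟨x, hx⟩ := hf a
    have hxD : x ∈ ψ.ker := by
      rw [MonoidHom.mem_ker, hψ, MonoidHom.comp_apply, hx]
      exact ((affMat_injective (hπ a).symm).2)
    have ha1 : a ≠ 1 := fun h1 => by
      have h2 : affMat (Pi.single 0 1) (1 : SL(2, ZMod p)) = affMat 0 1 := by
        rw [affMat_zero_one]
        exact congrArg Subtype.val h1
      simpa using congrFun (affMat_injective h2).1 0
    have hord : orderOf a = p := orderOf_eq_prime (Subtype.ext (affMat_one_pow _)) ha1
    have hd : p ∣ Nat.card ψ.ker := by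
      have h1 : orderOf a ∣ orderOf x := by rw [← hx]; exact orderOf_map_dvd f x
      rw [hord] at h1
      exact h1.trans (Subgroup.orderOf_dvd_natCard _ hxD)
    exact T.ne_bot_of_dvd_card hd h0
  have hP₀ne : P₀ ≠ ⊥ := fun h0 =>
    hTne ((map_eq_bot_iff_of_injective _ ψ.ker.subtype_injective).1 h0)
  set P := P₀.map K.subtype with hP
  refine ⟨P, (T.2.map _).map _, fun h0 => hP₀ne ((map_eq_bot_iff_of_injective _
    K.subtype_injective).1 h0), ?_⟩
  set N₀ := normalizer (P₀ : Set K) with hN₀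
  have hsurj : Function.Surjective (ψ.comp N₀.subtype) := by
    intro M
    obtain ⟨x, rfl⟩ := hψs M
    have hx : x ∈ N₀ ⊔ ψ.ker := (Sylow.normalizer_sup_eq_top T).symm ▸ mem_top x
    obtain ⟨n, hn, d, hd, rfl⟩ := mem_sup_of_normal_right.1 hx
    refine ⟨⟨n, hn⟩, ?_⟩
    show ψ n = ψ (n * d)
    rw [map_mul, hd, mul_one]
  let e₁ := (N₀.equivMapOfInjective K.subtype K.subtype_injective).symm
  let e₂ := subgroupOfEquivOfLe (le_normalizer_map (H := P₀) K.subtype)
  exact involves_of_sec ((ψ.comp N₀.subtype).comp (e₂.trans e₁).toMonoidHom)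
    (hsurj.comp (e₂.trans e₁).surjective)

end CfsgLib.PLocal
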