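import Cfsg.Agent.Lib.PLocal.QdFree
import Cfsg.Agent.Lib.PLocal.SLTwoSection
import Cfsg.Agent.Lib.PLength.DerivedBound
import Cfsg.Agent.Lib.Solvable.HallHigman

/-!
# Quadratic elements on the Fitting subgroup of a solvable group

In a finite solvable group whose nontrivial `O_r` all have `r ≥ 5`, an element acting
quadratically on the Fitting subgroup lies in it.
-/

set_option autoImplicit false

namespace CfsgLib.PLocal

open Subgroup
open scoped commutatorElement MatrixGroups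

universe u

variable {X : Type u} [Group X] [Finite X]

theorem quadratic_zpowers {P : Subgroup X} {a : X}
    (h : ∀ w ∈ P, Commute ⁅w, a⁆ a) : ⁅⁅P, zpowers a⁆, zpowers a⁆ = ⊥ := by
  rw [Subgroup.commutator_eq_bot_iff_le_centralizer]
  refine Subgroup.commutator_le.2 fun w hw b hb => ?_
  obtain ⟨i, rfl⟩ := mem_zpowers_iff.1 hb
  have hc := h w hw
  have e : ⁅w, a ^ i⁆ = ⁅w, a⁆ ^ i := by
    have h1 : w * a * w⁻¹ = ⁅w, a⁆ * a := by simp [commutatorElement_def]
    rw [commutatorElement_def w (a ^ i), ← conj_zpow, h1, hc.mul_zpow, mul_inv_cancel_right]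
  rw [e]
  refine mem_centralizer_iff.2 fun c hc' => ?_
  obtain ⟨j, rfl⟩ := mem_zpowers_iff.1 hc'
  exact ((hc.zpow_zpow i j).eq).symm

theorem mk_mem_pCore_of_quadratic [Group.IsSolvable X] {r : ℕ} [hr : Fact r.Prime]
    (h5 : Cfsg.pCore r X ≠ ⊥ → 5 ≤ r) {a : X}
    (h : ∀ w ∈ Cfsg.pCore r X, Commute ⁅w, a⁆ a) :
    haveI := Cfsg.pCore_normal r X
    (QuotientGroup.mk a : X ⧸ centralizer (Cfsg.pCore r X : Set X)) ∈
      Cfsg.pCore r (X ⧸ centralizer (Cfsg.pCore r X : Set X)) := by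
  haveI := Cfsg.pCore_normal r X
  by_cases hb : Cfsg.pCore r X = ⊥
  · have : (QuotientGroup.mk a : X ⧸ centralizer (Cfsg.pCore r X : Set X)) = 1 :=
      (QuotientGroup.eq_one_iff a).2 (fun x hx => by
        rw [hb] at hx
        obtain rfl := mem_bot.1 hx
        simp)
    rw [this]; exact one_mem _
  · have hs : Cfsg.IsPSolvable r X := by
      obtain ⟨k, hk⟩ := CfsgLib.PLength.isPSolvable_of_isSolvable (p := r) _ X le_rfl ‹_›
      exact hk.isPSolvable
    exact isPStableOn_of_not_involves_qd (by have := h5 hb; omega)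
      (not_involves_qd_of_no_sl (no_slTwo_section_of_isPSolvable (h5 hb) hs))
      (Cfsg.pCore r X) (CfsgLib.Solvable.pCore_isPGroup r) a (quadratic_zpowers h)

/-- In a finite solvable group whose nontrivial cores `O_r` all have `r ≥ 5`, every element acting
quadratically on the Fitting subgroup lies in it. -/
theorem mem_fittingSubgroup_of_quadratic [Group.IsSolvable X]
    (h5 : ∀ r : ℕ, r.Prime → Cfsg.pCore r X ≠ ⊥ → 5 ≤ r) {a : X}
    (hq : ∀ w ∈ Cfsg.fittingSubgroup X, Commute ⁅w, a⁆ a) : a ∈ Cfsg.fittingSubgroup X := by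
  classical
  set W := Cfsg.fittingSubgroup X with hW
  set C : Nat.Primes → Subgroup X := fun r => centralizer (Cfsg.pCore (r : ℕ) X : Set X) with hC
  have hCn : ∀ r, (C r).Normal := fun r => by
    haveI := Cfsg.pCore_normal (r : ℕ) X
    exact inferInstance
  set K' : Nat.Primes → Subgroup X := fun r =>
    haveI := hCn r
    (Cfsg.pCore (r : ℕ) (X ⧸ C r)).comap (QuotientGroup.mk' (C r)) with hK'
  have hK'n : ∀ r, (K' r).Normal := fun r => by
    haveI := hCn r
    haveI := Cfsg.pCore_normal (r : ℕ) (X ⧸ C r)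
    exact Subgroup.Normal.comap inferInstance _
  set K := ⨅ r, K' r with hK
  haveI hKn : K.Normal := normal_iInf_normal hK'n
  have haK : a ∈ K := by
    refine mem_iInf.2 fun r => ?_
    haveI : Fact (r : ℕ).Prime := ⟨r.2⟩
    exact mk_mem_pCore_of_quadratic (h5 r r.2) fun w hw =>
      hq w (CfsgLib.Solvable.pCore_le_fittingSubgroup _ hw)
  have hkey : ∀ z ∈ K, ∀ q r : Nat.Primes, q ≠ r → (∃ k, z ^ (q : ℕ) ^ k = 1) → z ∈ C r := by
    intro z hz q r hqr ⟨k, hk⟩
    haveI := hCn r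
    haveI : Fact (r : ℕ).Prime := ⟨r.2⟩
    have hm : QuotientGroup.mk' (C r) z ∈ Cfsg.pCore (r : ℕ) (X ⧸ C r) := mem_iInf.1 hz r
    obtain ⟨j, hj⟩ := CfsgLib.Solvable.pCore_isPGroup (G := X ⧸ C r) (r : ℕ) ⟨_, hm⟩
    have hj' : (QuotientGroup.mk' (C r) z) ^ (r : ℕ) ^ j = 1 := by
      simpa using congrArg Subtype.val hj
    have hk' : (QuotientGroup.mk' (C r) z) ^ (q : ℕ) ^ k = 1 := by rw [← map_pow, hk, map_one]
    have hcop : Nat.gcd ((q : ℕ) ^ k) ((r : ℕ) ^ j) = 1 :=
      Nat.coprime_pow_primes k j q.2 r.2 fun e => hqr (Subtype.ext e)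
    have := pow_gcd_eq_one.2 ⟨hk', hj'⟩
    rw [hcop, pow_one] at this
    exact (QuotientGroup.eq_one_iff z).1 this
  have hcent : ∀ z : X, (∀ r, z ∈ C r) → z ∈ centralizer (W : Set X) := by
    intro z hz
    refine mem_centralizer_iff.2 fun w hw => ?_
    have hle : W ≤ centralizer ({z} : Set X) := by
      rw [hW, CfsgLib.Solvable.fittingSubgroup_eq_iSup_pCore]
      exact iSup_le fun r x hx =>
        mem_centralizer_singleton_iff.2 (mem_centralizer_iff.1 (hz r) x hx)
    exact mem_centralizer_singleton_iff.1 (hle hw)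
  suffices hKW : K ≤ W from hKW haK
  intro y hy
  suffices hall : ∀ q : Nat.Primes, ∀ P : Sylow (q : ℕ) K, (P : Subgroup K).map K.subtype ≤ W by
    have hd : Nat.card K ∣ Nat.card (W.subgroupOf K) := by
      refine Nat.dvd_iff_prime_pow_dvd_dvd _ _ |>.2 fun q j hqp hqd => ?_
      haveI : Fact q.Prime := ⟨hqp⟩
      obtain ⟨P⟩ := (inferInstance : Nonempty (Sylow q K))
      have hP : (P : Subgroup K) ≤ W.subgroupOf K := fun x hx => hall ⟨q, hqp⟩ P ⟨x, hx, rfl⟩
      refine Nat.dvd_trans ?_ (card_dvd_of_le hP)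
      rw [P.card_eq_multiplicity]
      exact Nat.pow_dvd_pow q ((Nat.Prime.pow_dvd_iff_le_factorization hqp Nat.card_pos.ne').1 hqd)
    have htop := Subgroup.eq_top_of_le_card _ (Nat.le_of_dvd Nat.card_pos hd)
    have : (⟨y, hy⟩ : K) ∈ W.subgroupOf K := by rw [htop]; exact mem_top _
    exact this
  intro q P
  haveI : Fact (q : ℕ).Prime := ⟨q.2⟩
  set L := K ⊓ ⨅ r : {r : Nat.Primes // r ≠ q}, C r.1 with hL
  haveI hLn : L.Normal := by
    haveI : (⨅ r : {r : Nat.Primes // r ≠ q}, C r.1).Normal := normal_iInf_normal fun r => hCn r.1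
    exact inferInstance
  have hPL : (P : Subgroup K).map K.subtype ≤ L := by
    rintro _ ⟨x, hx, rfl⟩
    refine ⟨x.2, mem_iInf.2 fun r => hkey _ x.2 q r.1 (Ne.symm r.2) ?_⟩
    obtain ⟨k, hk⟩ := P.2 ⟨x, hx⟩
    exact ⟨k, by simpa using congrArg (fun s : (P : Subgroup K) => ((s : K) : X)) hk⟩
  refine hPL.trans (CfsgLib.Solvable.le_fittingSubgroup hLn ?_)
  -- the elements of `L` of order prime to `q` are central in it
  have hrcentral : ∀ r : Nat.Primes, r ≠ q → ∀ z ∈ L, (∃ k, z ^ (r : ℕ) ^ k = 1) →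
      ∀ l ∈ L, Commute z l := by
    intro r hr z hz hzk l hl
    have hzC : z ∈ centralizer (W : Set X) := by
      refine hcent z fun s => ?_
      by_cases hs : s = q
      · subst hs; exact hkey z hz.1 r s hr hzk
      · exact mem_iInf.1 hz.2 ⟨s, hs⟩
    have hzW : z ∈ W := CfsgLib.Solvable.centralizer_fittingSubgroup_le hzC
    haveI : Fact (r : ℕ).Prime := ⟨r.2⟩
    set Z := W ⊓ centralizer (W : Set X) with hZ
    let T : Subgroup X :=
      { carrier := {u | u ∈ Z ∧ ∃ k, u ^ (r : ℕ) ^ k = 1}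
        one_mem' := ⟨Z.one_mem, 0, by simp⟩
        mul_mem' := by
          rintro u v ⟨hu, i, hi⟩ ⟨hv, j, hj⟩
          have huv : Commute u v := ((mem_centralizer_iff.1 hu.2) v hv.1).symm
          refine ⟨Z.mul_mem hu hv, i + j, ?_⟩
          rw [huv.mul_pow]
          have e1 : u ^ (r : ℕ) ^ (i + j) = 1 := by rw [pow_add, pow_mul, hi, one_pow]
          have e2 : v ^ (r : ℕ) ^ (i + j) = 1 := by
            rw [pow_add, mul_comm, pow_mul, hj, one_pow]
          rw [e1, e2, one_mul]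
        inv_mem' := by
          rintro u ⟨hu, i, hi⟩
          exact ⟨Z.inv_mem hu, i, by rw [inv_pow, hi, inv_one]⟩ }
    have hTn : T.Normal := by
      haveI hWn : W.Normal := CfsgLib.Solvable.fittingSubgroup_normal X
      have hZn : Z.Normal := inferInstance
      refine ⟨fun u hu g => ⟨hZn.conj_mem u hu.1 g, ?_⟩⟩
      obtain ⟨i, hi⟩ := hu.2
      exact ⟨i, by rw [conj_pow, hi, mul_one, mul_inv_cancel]⟩
    have hTp : IsPGroup (r : ℕ) T := fun u => by
      obtain ⟨i, hi⟩ := u.2.2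
      exact ⟨i, Subtype.ext (by simpa using hi)⟩
    have hzT : z ∈ Cfsg.pCore (r : ℕ) X :=
      (le_sSup ⟨hTn, hTp⟩ : T ≤ Cfsg.pCore (r : ℕ) X) ⟨⟨hzW, hzC⟩, hzk⟩
    exact mem_centralizer_iff.1 (mem_iInf.1 hl.2 ⟨r, hr⟩) z hzT
  have hq' : IsPGroup (q : ℕ) (L ⧸ center L) := by
    by_contra hne
    obtain ⟨r, hrp, hrd, hrq⟩ : ∃ r : ℕ, r.Prime ∧ r ∣ Nat.card (L ⧸ center L) ∧ r ≠ (q : ℕ) := by
      by_contra hcon
      push Not at hcon
      refine hne (IsPGroup.of_card (n := _) (Nat.eq_prime_pow_of_unique_prime_dvd Nat.card_pos.ne'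
        fun {d} hd hdd => hcon d hd hdd))
    haveI : Fact r.Prime := ⟨hrp⟩
    obtain ⟨R⟩ := (inferInstance : Nonempty (Sylow r L))
    have hR : (R : Subgroup L) ≤ center L := by
      intro x hx
      refine mem_center_iff.2 fun l => Subtype.ext ?_
      obtain ⟨k, hk⟩ := R.2 ⟨x, hx⟩
      exact (hrcentral ⟨r, hrp⟩ (fun e => hrq (congrArg Subtype.val e)) x x.2
        ⟨k, by simpa using congrArg (fun s : (R : Subgroup L) => ((s : L) : X)) hk⟩ l l.2).eq.symm
    rw [← index_eq_card] at hrd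
    exact R.not_dvd_index (hrd.trans (index_dvd_of_le hR))
  haveI : Group.IsNilpotent (L ⧸ center L) := hq'.isNilpotent
  exact Subgroup.isNilpotent_of_ker_le_center (QuotientGroup.mk' (center L))
    (by rw [QuotientGroup.ker_mk'])

end CfsgLib.PLocal
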