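import Mathlib
import Cfsg.Prelude.Def_PLocal

/-!
# Glauberman's lemma for the replacement theorem
-/

set_option autoImplicit false

namespace CfsgLib.PLocal

open Subgroup

universe u

variable {G : Type u} [Group G]

/-- Glauberman's lemma: when the elements `a x a⁻¹ x⁻¹` normalize the abelian group `A`, they
commute with each other and with `A ⊓ B`. -/
theorem replace_commutators_commute {A B : Subgroup G} (hA : IsMulCommutative A)
    (hAB : A ≤ Subgroup.normalizer (B : Set G))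
    (hder : ∀ x ∈ B, ∀ y ∈ B, x * y * x⁻¹ * y⁻¹ ∈ A)
    (h2 : (∀ x ∈ B, x ^ 2 = 1 → x = 1) ∨ IsMulCommutative B)
    {x : G} (hx : x ∈ B) (hN : ∀ a ∈ A, a * x * a⁻¹ * x⁻¹ ∈ Subgroup.normalizer (A : Set G)) :
    (∀ d ∈ A, d ∈ B → ∀ a ∈ A, Commute d (a * x * a⁻¹ * x⁻¹)) ∧
      ∀ a ∈ A, ∀ b ∈ A, Commute (a * x * a⁻¹ * x⁻¹) (b * x * b⁻¹ * x⁻¹) := by
  have hcA : ∀ a ∈ A, ∀ b ∈ A, a * b = b * a := fun a ha b hb =>
    congrArg Subtype.val (hA.is_comm.comm (⟨a, ha⟩ : A) ⟨b, hb⟩)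
  let u : G → G := fun a => a * x * a⁻¹ * x⁻¹
  let β : G → G → G := fun s t => s * t * s⁻¹ * t⁻¹
  have hu : ∀ a ∈ A, u a ∈ B := fun a ha =>
    B.mul_mem ((Subgroup.mem_normalizer_iff.mp (hAB ha) x).mp hx) (B.inv_mem hx)
  have hconjB : ∀ a ∈ A, ∀ s ∈ B, a * s * a⁻¹ ∈ B := fun a ha s hs =>
    (Subgroup.mem_normalizer_iff.mp (hAB ha) s).mp hs
  have hβB : ∀ s ∈ B, ∀ t ∈ B, β s t ∈ B := fun s hs t ht =>
    B.mul_mem (B.mul_mem (B.mul_mem hs ht) (B.inv_mem hs)) (B.inv_mem ht)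
  have hBA : ∀ s ∈ B, ∀ t ∈ B, ∀ a ∈ A, Commute a (β s t) := fun s hs t ht a ha =>
    hcA a ha _ (hder s hs t ht)
  have hcomm : ∀ s ∈ B, ∀ t ∈ B, ∀ q ∈ B, ∀ r ∈ B, Commute (β s t) (β q r) :=
    fun s hs t ht q hq r hr => hcA _ (hder s hs t ht) _ (hder q hq r hr)
  -- the derived subgroup is centralized by the elements `u a`
  have hcu : ∀ a ∈ A, ∀ s ∈ B, ∀ t ∈ B, Commute (u a) (β s t) := by
    intro a ha s hs t ht
    have hc : Commute (x * a⁻¹ * x⁻¹) (β s t) := by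
      have hxc : ∀ y ∈ B, x⁻¹ * y * x ∈ B := fun y hy =>
        B.mul_mem (B.mul_mem (B.inv_mem hx) hy) hx
      have h1 := (hBA _ (hxc s hs) _ (hxc t ht) a⁻¹ (A.inv_mem ha)).map (MulAut.conj x).toMonoidHom
      simp only [β, MulEquiv.toMonoidHom_eq_coe, MonoidHom.coe_coe, MulAut.conj_apply] at h1
      convert h1 using 1
      · simp only [β]; group
    rw [show u a = a * (x * a⁻¹ * x⁻¹) by simp only [u]; group]
    exact (hBA s hs t ht a ha).mul_left hc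
  have hβl : ∀ r ∈ B, ∀ s ∈ B, ∀ t ∈ B, Commute r (β s t) → β (r * s) t = β r t * β s t := by
    intro r hr s hs t ht hcr
    have e : β (r * s) t = r * β s t * r⁻¹ * β r t := by simp only [β]; group
    rw [e, hcr.eq, mul_inv_cancel_right]
    exact (hcomm s hs t ht r hr t ht).eq
  have hβr : ∀ r ∈ B, ∀ s ∈ B, ∀ t ∈ B, Commute s (β r t) → β r (s * t) = β r s * β r t := by
    intro r hr s hs t ht hcs
    have e : β r (s * t) = β r s * (s * β r t * s⁻¹) := by simp only [β]; group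
    rw [e, hcs.eq, mul_inv_cancel_right]
  have hβinv : ∀ a ∈ A, ∀ s ∈ B, ∀ t ∈ B, β (a * s * a⁻¹) (a * t * a⁻¹) = β s t := by
    intro a ha s hs t ht
    have e : β (a * s * a⁻¹) (a * t * a⁻¹) = a * β s t * a⁻¹ := by simp only [β]; group
    rw [e, (hBA s hs t ht a ha).eq, mul_inv_cancel_right]
  have hd : ∀ d ∈ A, d ∈ B → ∀ a ∈ A, β d (u a) = 1 := by
    intro d hd hdB a ha
    have h1 : a * d * a⁻¹ = d := by rw [hcA a ha d hd, mul_inv_cancel_right]
    have h2 := hβinv a ha d hdB x hx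
    rw [h1, show a * x * a⁻¹ = u a * x by simp only [u]; group, hβr d hdB _ (hu a ha) x hx (hcu a ha d hdB x hx)] at h2
    exact mul_eq_right.mp h2
  have hdc : ∀ d ∈ A, d ∈ B → ∀ a ∈ A, Commute d (u a) := fun d h1 h2 a ha =>
    mul_inv_eq_iff_eq_mul.mp (mul_inv_eq_one.mp (hd d h1 h2 a ha))
  refine ⟨hdc, ?_⟩
  rcases h2 with h2 | h2
  swap
  · intro a ha b hb
    exact congrArg Subtype.val (h2.is_comm.comm (⟨u a, hu a ha⟩ : B) ⟨u b, hu b hb⟩)
  let lam : G → G := fun a => β x (u a)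
  let f : G → G → G := fun a b => β (u a) (u b)
  have h3 : ∀ a ∈ A, ∀ b ∈ A, lam (a⁻¹ * b) = f a b * (lam b * (lam a)⁻¹) := by
    intro a ha b hb
    have hab : a⁻¹ * b ∈ A := A.mul_mem (A.inv_mem ha) hb
    have h := hβinv a ha x hx (u (a⁻¹ * b) * x) (B.mul_mem (hu _ hab) hx)
    rw [show a * (u (a⁻¹ * b) * x) * a⁻¹ = u b * x by simp only [u]; group,
      show a * x * a⁻¹ = u a * x by simp only [u]; group, hβl _ (hu a ha) x hx _ (B.mul_mem (hu b hb) hx) (hcu a ha x hx _ (B.mul_mem (hu b hb) hx)),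
      hβr _ (hu a ha) _ (hu b hb) x hx (hcu b hb _ (hu a ha) x hx),
      hβr x hx _ (hu b hb) x hx (hcu b hb x hx x hx),
      hβr x hx _ (hu _ hab) x hx (hcu _ hab x hx x hx),
      show β x x = 1 by simp [β], mul_one, mul_one] at h
    show lam (a⁻¹ * b) = _
    rw [show lam (a⁻¹ * b) = β x (u (a⁻¹ * b)) from rfl, ← h]
    show β (u a) (u b) * β (u a) x * β x (u b) = f a b * (β x (u b) * (β x (u a))⁻¹)
    rw [show (β x (u a))⁻¹ = β (u a) x by simp only [β]; group, mul_assoc,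
      (hcomm _ (hu a ha) x hx x hx _ (hu b hb)).eq]
  have h4 : ∀ a ∈ A, lam a⁻¹ = (lam a)⁻¹ := by
    intro a ha
    have := h3 a ha 1 A.one_mem
    simpa [lam, f, u, β] using this
  have h2' : ∀ a ∈ A, ∀ b ∈ A, f a⁻¹ b = (f a b)⁻¹ := by
    intro a ha b hb
    let d := a⁻¹ * (u a)⁻¹ * a * u a
    have hdA : d ∈ A := by
      have : (u a)⁻¹ * a * u a ∈ A := (Subgroup.mem_normalizer_iff''.mp (hN a ha) a).mp ha
      simpa [d, mul_assoc] using A.mul_mem (A.inv_mem ha) this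
    have hdB : d ∈ B := by
      refine B.mul_mem ?_ (hu a ha)
      simpa using hconjB a⁻¹ (A.inv_mem ha) _ (B.inv_mem (hu a ha))
    have e : u a⁻¹ = d * (u a)⁻¹ := by simp only [d, u]; group
    show β (u a⁻¹) (u b) = _
    rw [e, hβl d hdB _ (B.inv_mem (hu a ha)) _ (hu b hb)
      (hBA _ (B.inv_mem (hu a ha)) _ (hu b hb) d hdA), hd d hdA hdB b hb, one_mul]
    have := hβl _ (B.inv_mem (hu a ha)) _ (hu a ha) _ (hu b hb)
      (hcu a ha _ (hu a ha) _ (hu b hb)).inv_left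
    rw [inv_mul_cancel, show β 1 (u b) = 1 by simp [β]] at this
    exact eq_inv_of_mul_eq_one_left this.symm
  have hsym : ∀ a ∈ A, ∀ b ∈ A, f a⁻¹ b = lam (a * b) * ((lam b * lam a)⁻¹) := by
    intro a ha b hb
    have := h3 a⁻¹ (A.inv_mem ha) b hb
    rw [inv_inv, h4 a ha, inv_inv] at this
    rw [this, mul_inv_cancel_right]
  intro a ha b hb
  have h5 : f a b = f b a := by
    apply inv_injective
    rw [← h2' a ha b hb, ← h2' b hb a ha, hsym a ha b hb, hsym b hb a ha, hcA a ha b hb,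
      (hcomm x hx _ (hu b hb) x hx _ (hu a ha)).eq]
  have h6 : f b a = (f a b)⁻¹ := by simp only [f, β]; group
  have h7 : f a b = 1 := h2 _ (hβB _ (hu a ha) _ (hu b hb))
    (by rw [pow_two]; exact mul_eq_one_iff_eq_inv.mpr (h5.trans h6))
  exact mul_inv_eq_iff_eq_mul.mp (mul_inv_eq_one.mp h7)

end CfsgLib.PLocal
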