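import Cfsg.Agent.Lib.PLocal.NoOffender

/-!
# The absence of offenders passes to the submodule generated by conjugates

Without a section `S₃`, a subgroup `U` on which a Sylow `2`-subgroup induces no offender generates a
submodule with the same property.
-/

set_option autoImplicit false
set_option linter.unusedSectionVars false

namespace CfsgLib.PLocal.SFourW

open Subgroup CfsgLib.Fusion CfsgLib.Fusion.Offender CfsgLib.PLocal.RightClosed
open CfsgLib.PLocal.NoOffender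

universe u

section

variable {V : Type u} [CommGroup V] [Finite V]

/-- No subgroup of `S` induces an offender on `U`. -/
def NoOffU (S : Subgroup (MulAut V)) (U : Subgroup V) : Prop :=
  ∀ B ≤ S, (∀ b ∈ B, ∀ b' ∈ B, ∀ u ∈ U, b (b' u) = b' (b u)) → (∃ b ∈ B, ∃ u ∈ U, b u ≠ u) →
    ¬ Nat.card U * Nat.card ↥(B ⊓ kerOn U) ≤ Nat.card B * Nat.card ↥(U ⊓ fixOf B)

/-- The submodule generated by the images of `U`. -/
def clU (G : Subgroup (MulAut V)) (U : Subgroup V) : Subgroup V :=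
  closure {v | ∃ g ∈ G, ∃ u ∈ U, v = g u}

theorem le_clU {G : Subgroup (MulAut V)} {U : Subgroup V} : U ≤ clU G U := fun u hu =>
  subset_closure ⟨1, G.one_mem, u, hu, rfl⟩

theorem clU_inv {G : Subgroup (MulAut V)} {U : Subgroup V} {g : MulAut V} (hg : g ∈ G) {v : V}
    (hv : v ∈ clU G U) : g v ∈ clU G U := by
  have hle : clU G U ≤ (clU G U).comap g.toMonoidHom := by
    refine (closure_le _).2 ?_
    rintro _ ⟨k, hk, u, hu, rfl⟩
    exact subset_closure ⟨g * k, G.mul_mem hg hk, u, hu, rfl⟩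
  exact hle hv

theorem clU_le {G : Subgroup (MulAut V)} {U W : Subgroup V} (hU : U ≤ W)
    (hW : ∀ g ∈ G, ∀ w ∈ W, g w ∈ W) : clU G U ≤ W := by
  refine (closure_le _).2 ?_
  rintro _ ⟨g, hg, u, hu, rfl⟩
  exact hW g hg u (hU hu)

theorem card_restrict {G : Subgroup (MulAut V)} {W : Subgroup V} (hW : ∀ g ∈ G, ∀ w ∈ W, g w ∈ W)
    {B : Subgroup (MulAut V)} (hBG : B ≤ G) :
    Nat.card B = Nat.card ↥(B ⊓ kerOn W) * Nat.card ((B.subgroupOf G).map (restrictHom G W hW)) := by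
  rw [← Nat.card_congr (subgroupOfEquivOfLe hBG).toEquiv,
    card_eq_inf_ker_mul_map (B.subgroupOf G) (restrictHom G W hW)]
  congr 1
  rw [← card_map_of_injective G.subtype_injective]
  refine congrArg (fun P : Subgroup (MulAut V) => Nat.card P) ?_
  ext b
  constructor
  · rintro ⟨b, ⟨hb1, hb2⟩, rfl⟩
    exact ⟨hb1, fun u hu => congrArg Subtype.val
      (DFunLike.congr_fun (MonoidHom.mem_ker.1 hb2) ⟨u, hu⟩ :
        restrictHom G W hW b (⟨u, hu⟩ : W) = ⟨u, hu⟩)⟩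
  · rintro ⟨hb1, hb2⟩
    exact ⟨⟨b, hBG hb1⟩, ⟨hb1, MonoidHom.mem_ker.2 (MulEquiv.ext fun u =>
      Subtype.ext (hb2 u u.2))⟩, rfl⟩

/-- An offender on `W` gives one in the restriction to `W`. -/
theorem isOff_restrict {G : Subgroup (MulAut V)} {W : Subgroup V} (hW : ∀ g ∈ G, ∀ w ∈ W, g w ∈ W)
    {B : Subgroup (MulAut V)} (hB : IsPGroup 2 B) (hBG : B ≤ G)
    (hBc : ∀ b ∈ B, ∀ b' ∈ B, ∀ u ∈ W, b (b' u) = b' (b u)) (hBm : ∃ b ∈ B, ∃ u ∈ W, b u ≠ u)
    (hle : Nat.card W * Nat.card ↥(B ⊓ kerOn W) ≤ Nat.card B * Nat.card ↥(W ⊓ fixOf B)) :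
    IsOff ((B.subgroupOf G).map (restrictHom G W hW)) := by
  refine ⟨(hB.of_equiv (subgroupOfEquivOfLe hBG).symm).map _, ?_, ?_, ?_⟩
  · rintro _ ⟨b, hb, rfl⟩ _ ⟨c, hc, rfl⟩
    exact MulEquiv.ext fun u => Subtype.ext (hBc _ hb _ hc u u.2)
  · intro hbot
    obtain ⟨b, hb, u, hu, hbu⟩ := hBm
    have h1 : restrictHom G W hW ⟨b, hBG hb⟩ = 1 := mem_bot.1 (hbot ▸
      mem_map_of_mem (restrictHom G W hW) (show (⟨b, hBG hb⟩ : G) ∈ B.subgroupOf G from hb))
    exact hbu (congrArg Subtype.val (DFunLike.congr_fun h1 ⟨u, hu⟩ :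
      restrictHom G W hW ⟨b, hBG hb⟩ (⟨u, hu⟩ : W) = ⟨u, hu⟩))
  · have h1 := card_restrict hW hBG
    have h2 : Nat.card ↥(W ⊓ fixOf B) ≤
        Nat.card (fixOf ((B.subgroupOf G).map (restrictHom G W hW))) :=
      Nat.card_le_card_of_injective
        (fun u => ⟨⟨(u : V), u.2.1⟩, by
          rintro _ ⟨b, hb, rfl⟩; exact Subtype.ext (u.2.2 _ hb)⟩)
        fun a b e => Subtype.ext (congrArg
          (fun w : fixOf ((B.subgroupOf G).map (restrictHom G W hW)) => ((w : W) : V)) e)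
    refine Nat.le_of_mul_le_mul_right ?_ (Nat.card_pos (α := ↥(B ⊓ kerOn W)))
    refine hle.trans ((Nat.mul_le_mul_left _ h2).trans (le_of_eq ?_))
    rw [h1]; ring

/-- It suffices to exclude elementary offenders. -/
theorem noOffU_of_elem (hsq : ∀ v : V, v * v = 1) {S : Subgroup (MulAut V)} (hS : IsPGroup 2 S)
    {U : Subgroup V} (hUS : ∀ g ∈ S, ∀ u ∈ U, g u ∈ U)
    (h : ∀ B ≤ S, (∀ b ∈ B, ∀ b' ∈ B, ∀ u ∈ U, b (b' u) = b' (b u)) →
      (∀ b ∈ B, ∀ u ∈ U, b (b u) = u) → (∃ b ∈ B, ∃ u ∈ U, b u ≠ u) →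
      ¬ Nat.card U * Nat.card ↥(B ⊓ kerOn U) ≤ Nat.card B * Nat.card ↥(U ⊓ fixOf B)) :
    NoOffU S U := by
  intro B hBS hBc hBm hle
  let π := restrictHom S U hUS
  obtain ⟨C, hCB, hC⟩ := exists_isMinOff_le (isOff_restrict hUS (hS.to_le hBS) hBS hBc hBm hle)
  obtain ⟨D, hD⟩ : ∃ D : Subgroup S, D = C.comap π ⊓ B.subgroupOf S := ⟨_, rfl⟩
  have hDC : D.map π = C := by
    refine le_antisymm (map_le_iff_le_comap.2 (hD ▸ inf_le_left)) fun c hc' => ?_
    obtain ⟨s, hs, rfl⟩ := hCB hc'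
    exact ⟨s, hD ▸ ⟨hc', hs⟩, rfl⟩
  obtain ⟨E, hE⟩ : ∃ E, E = D.map S.subtype := ⟨_, rfl⟩
  have hmemE : ∀ e, e ∈ E ↔ ∃ d ∈ D, (d : MulAut V) = e := fun e => by rw [hE]; rfl
  have hEB : E ≤ B := fun e he => by
    obtain ⟨d, hd, rfl⟩ := (hmemE e).1 he
    rw [hD] at hd; exact hd.2
  have hES : E.subgroupOf S = D := hE ▸ comap_map_eq_self_of_injective S.subtype_injective D
  refine h E (hEB.trans hBS) (fun b hb c hc => hBc b (hEB hb) c (hEB hc)) ?_ ?_ ?_
  · intro e he u hu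
    obtain ⟨d, hd, rfl⟩ := (hmemE e).1 he
    have hq := hC.quadratic (fun v => ⟨1, by rw [pow_one, pow_two]; exact Subtype.ext (hsq v)⟩)
      (⟨u, hu⟩ : U) _ (hDC ▸ mem_map_of_mem π hd) _ (hDC ▸ mem_map_of_mem π hd)
    have h3 := congrArg Subtype.val hq
    rw [restrictHom_apply, Subgroup.coe_mul, Subgroup.coe_inv, restrictHom_apply, map_mul, map_inv,
      mul_inv_eq_iff_eq_mul, mul_right_comm, hsq, one_mul, inv_eq_of_mul_eq_one_left (hsq _)] at h3
    exact h3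
  · obtain ⟨c, hc, hc1⟩ : ∃ c ∈ C, c ≠ 1 := by
      by_contra! hh
      exact hC.1.2.2.1 ((eq_bot_iff_forall _).2 hh)
    obtain ⟨d, hd, rfl⟩ := hDC.ge hc
    by_contra! hh
    exact hc1 (MulEquiv.ext fun u => Subtype.ext (hh _ ((hmemE _).2 ⟨d, hd, rfl⟩) u u.2))
  · have h1 := card_restrict hUS (hEB.trans hBS)
    rw [hES, hDC] at h1
    have h2 : Nat.card (fixOf C) ≤ Nat.card ↥(U ⊓ fixOf E) :=
      Nat.card_le_card_of_injective (fun u => ⟨((u : U) : V), (u : U).2, fun e he => by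
        obtain ⟨d, hd, rfl⟩ := (hmemE e).1 he
        exact congrArg Subtype.val (u.2 _ (hDC ▸ mem_map_of_mem π hd))⟩)
        fun a b e => Subtype.ext (Subtype.ext
          (congrArg (fun w : ↥(U ⊓ fixOf E) => (w : V)) e :))
    rw [h1]
    calc Nat.card U * Nat.card ↥(E ⊓ kerOn U)
        ≤ (Nat.card C * Nat.card (fixOf C)) * Nat.card ↥(E ⊓ kerOn U) :=
          Nat.mul_le_mul_right _ hC.1.2.2.2
      _ = Nat.card ↥(E ⊓ kerOn U) * Nat.card C * Nat.card (fixOf C) := by ring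
      _ ≤ _ := Nat.mul_le_mul_left _ h2

/-- A minimal offender fixes `U`. -/
theorem le_fixOf_of_isMinOff {S B : Subgroup (MulAut V)} {U : Subgroup V} (hU : NoOffU S U)
    (hB : IsMinOff B) (hBS : B ≤ S) : U ≤ fixOf B := by
  by_contra hnot
  obtain ⟨u, hu, hnu⟩ := SetLike.not_le_iff_exists.1 hnot
  obtain ⟨b, hb, hbu⟩ : ∃ b ∈ B, b u ≠ u := by
    by_contra! hh
    exact hnu hh
  refine hU B hBS (fun a ha c hc w _ => ?_) ⟨b, hb, u, hu, hbu⟩ ?_
  · show (a * c) w = (c * a) w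
    rw [hB.1.2.1 a ha c hc]
  obtain ⟨B₀, hB₀⟩ : ∃ B₀, B₀ = B ⊓ kerOn U := ⟨_, rfl⟩
  rw [← hB₀]
  have hle : B₀ ≤ B := hB₀ ▸ inf_le_left
  have h1 : Nat.card B₀ * Nat.card (fixOf B₀) ≤ Nat.card V := by
    by_cases h0 : B₀ = ⊥
    · rw [h0, card_bot, one_mul]; exact card_le_card_group _
    by_contra hlt
    refine hB.2 B₀ (lt_of_le_of_ne hle fun he => hbu ((hB₀ ▸ he.ge hb : b ∈ B ⊓ kerOn U).2 u hu)) ?_
    exact ⟨hB.1.1.to_le hle, fun a ha c hc => hB.1.2.1 a (hle ha) c (hle hc), h0, (not_le.1 hlt).le⟩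
  have h2 : Nat.card U * Nat.card (fixOf B) ≤ Nat.card (fixOf B₀) * Nat.card ↥(U ⊓ fixOf B) := by
    rw [← card_sup_mul_card_inf]
    exact Nat.mul_le_mul_right _ (card_le_of_le
      (sup_le (fun w hw c hc => (hB₀ ▸ hc : c ∈ B ⊓ kerOn U).2 w hw) (fixOf_anti hle)))
  refine Nat.le_of_mul_le_mul_right ?_ (Nat.card_pos (α := fixOf B))
  calc Nat.card U * Nat.card B₀ * Nat.card (fixOf B)
      = Nat.card B₀ * (Nat.card U * Nat.card (fixOf B)) := by ring
    _ ≤ Nat.card B₀ * (Nat.card (fixOf B₀) * Nat.card ↥(U ⊓ fixOf B)) := Nat.mul_le_mul_left _ h2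
    _ = Nat.card B₀ * Nat.card (fixOf B₀) * Nat.card ↥(U ⊓ fixOf B) := by ring
    _ ≤ Nat.card B * Nat.card (fixOf B) * Nat.card ↥(U ⊓ fixOf B) :=
        Nat.mul_le_mul_right _ (h1.trans hB.1.2.2.2)
    _ = _ := by ring

end

/-- The absence of offenders passes to the generated submodule. -/
theorem noOffU_clU : ∀ (n : ℕ) (V : Type u) [CommGroup V] [Finite V] (G S : Subgroup (MulAut V))
    (U : Subgroup V), Nat.card G ≤ n → (∀ v : V, v * v = 1) → NoThree G → S ≤ G → IsPGroup 2 S →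
    ¬ 2 ∣ S.relIndex G → NoOffU S U → NoOffU S (clU G U) := by
  haveI : Fact (Nat.Prime 2) := ⟨Nat.prime_two⟩
  intro n
  induction n using Nat.strong_induction_on with
  | _ n ih =>
    -- the case of a generating subgroup
    have key : ∀ (V : Type u) [CommGroup V] [Finite V] (G S : Subgroup (MulAut V)) (U : Subgroup V),
        Nat.card G ≤ n → (∀ v : V, v * v = 1) → NoThree G → S ≤ G → IsPGroup 2 S →
        ¬ 2 ∣ S.relIndex G → NoOffU S U → clU G U = ⊤ → ∀ A ≤ S, ¬ IsOff A := by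
      intro V _ _ G S U hn hsq hfree hSG hS hidx hU htop A hAS hA
      obtain ⟨B, hBA, hB⟩ := exists_isMinOff_le hA
      obtain ⟨J, hJ⟩ : ∃ J, J = offJoin S G := ⟨_, rfl⟩
      have hBJ : B ≤ J := hJ ▸ le_offJoin hB (hBA.trans hAS) (hBA.trans (hAS.trans hSG))
      have hJS : J ≤ S := hJ ▸ (offJoin_le S G).trans inf_le_left
      obtain ⟨N, hN⟩ : ∃ N, N = G ⊓ Subgroup.normalizer (J : Set (MulAut V)) := ⟨_, rfl⟩
      have hNG : N ≤ G := hN ▸ inf_le_left
      have hSN : S ≤ N := fun s hs => hN ▸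
        ⟨hSG hs, mem_norm_of_eq (hJ ▸ offJoin_normalised hs (hSG hs))⟩
      by_cases hNe : N = G
      · have hUJ : U ≤ fixOf J := by
          intro u hu j hj
          have hle : J ≤ stabElt u := by
            rw [hJ]
            exact sSup_le fun C hC c hc => le_fixOf_of_isMinOff hU hC.1 hC.2.1 hu c hc
          exact hle hj
        have hfix : fixOf J = ⊤ := top_le_iff.1 (htop.ge.trans (clU_le hUJ
          (fixOf_invariant fun g hg => eq_of_mem_norm (hN ▸ hNe.ge hg : g ∈ G ⊓ _).2)))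
        refine hB.1.2.2.1 ((eq_bot_iff_forall _).2 fun b hb => MulEquiv.ext fun v => ?_)
        exact (hfix ▸ mem_top v : v ∈ fixOf J) b (hBJ hb)
      have hNlt : Nat.card N < n := lt_of_lt_of_le
        (lt_of_le_of_ne (card_le_of_le hNG) fun he => hNe (eq_of_le_of_card_ge hNG he.ge)) hn
      obtain ⟨U₁, hU₁⟩ : ∃ U₁, U₁ = clU N U := ⟨_, rfl⟩
      have hU₁n : NoOffU S U₁ := hU₁ ▸ ih _ hNlt V N S U le_rfl hsq (hfree.mono hNG) hSN hS
        (fun h => hidx (h.trans (Dvd.intro _ (relIndex_mul_relIndex S N G hSN hNG)))) hU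
      have hG : G ≤ stabSub G U₁ := le_stab hsq hfree hSG hS (L := S) le_rfl
        (fun C hC hCS => le_fixOf_of_isMinOff hU₁n hC hCS)
        (fun C hCS _ hc hm => hU₁n C hCS hc hm) _ G rfl le_rfl (by rwa [inf_eq_left.2 hSG])
        (by
          rw [← hJ, ← hN]
          exact fun g hg => ⟨hNG hg, fun u hu => by rw [hU₁] at hu ⊢; exact clU_inv hg hu⟩)
      have hU₁t : U₁ = ⊤ := top_le_iff.1 (htop.ge.trans
        (clU_le (hU₁ ▸ le_clU) fun g hg w hw => (hG hg).2 w hw))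
      refine hU₁n A hAS (fun a ha c hc w _ => ?_) ?_ ?_
      · show (a * c) w = (c * a) w
        rw [hA.2.1 a ha c hc]
      · by_contra! hh
        exact hA.2.2.1 ((eq_bot_iff_forall _).2 fun a ha => MulEquiv.ext fun v =>
          hh a ha v (hU₁t ▸ mem_top v))
      · have hk : A ⊓ kerOn U₁ = ⊥ := (eq_bot_iff_forall _).2 fun a ha => MulEquiv.ext fun v =>
          ha.2 v (hU₁t ▸ mem_top v)
        rw [hk, hU₁t, card_bot, mul_one, top_inf_eq, card_top]
        exact hA.2.2.2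
    intro V _ _ G S U hn hsq hfree hSG hS hidx hU B hBS hBc hBm hle
    obtain ⟨W, hW⟩ : ∃ W, W = clU G U := ⟨_, rfl⟩
    rw [← hW] at hBc hBm hle
    have hWG : ∀ g ∈ G, ∀ w ∈ W, g w ∈ W := fun g hg w hw => by
      rw [hW] at hw ⊢; exact clU_inv hg hw
    have hUW : U ≤ W := hW ▸ le_clU
    let π := restrictHom G W hWG
    obtain ⟨U', hU'⟩ : ∃ U' : Subgroup W, U' = U.subgroupOf W := ⟨_, rfl⟩
    obtain ⟨S', hS'⟩ : ∃ S', S' = (S.subgroupOf G).map π := ⟨_, rfl⟩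
    have hBG : B ≤ G := hBS.trans hSG
    have hU'n : NoOffU S' U' := by
      intro C hCS hc hm hCle
      obtain ⟨D, hD⟩ : ∃ D : Subgroup G, D = C.comap π ⊓ S.subgroupOf G := ⟨_, rfl⟩
      have hDC : D.map π = C := by
        refine le_antisymm (map_le_iff_le_comap.2 (hD ▸ inf_le_left)) fun c hc' => ?_
        obtain ⟨s, hs, rfl⟩ := hS'.le (hCS hc')
        exact ⟨s, hD ▸ ⟨hc', hs⟩, rfl⟩
      obtain ⟨E, hE⟩ : ∃ E, E = D.map G.subtype := ⟨_, rfl⟩
      have hmemE : ∀ e, e ∈ E ↔ ∃ d ∈ D, (d : MulAut V) = e := fun e => by rw [hE]; rfl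
      refine hU E (fun e he => ?_) ?_ ?_ ?_
      · obtain ⟨d, hd, rfl⟩ := (hmemE e).1 he
        rw [hD] at hd; exact hd.2
      · intro e he e' he' u hu
        obtain ⟨d, hd, rfl⟩ := (hmemE e).1 he
        obtain ⟨d', hd', rfl⟩ := (hmemE e').1 he'
        exact congrArg Subtype.val (hc _ (hDC ▸ mem_map_of_mem π hd) _ (hDC ▸ mem_map_of_mem π hd')
          ⟨u, hUW hu⟩ (hU' ▸ hu))
      · obtain ⟨c, hc', u, hu, hne⟩ := hm
        obtain ⟨d, hd, rfl⟩ := hDC.ge hc'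
        exact ⟨(d : MulAut V), (hmemE _).2 ⟨d, hd, rfl⟩, (u : V), (hU' ▸ hu : u ∈ U.subgroupOf W),
          fun he => hne (Subtype.ext he)⟩
      · have hcE : Nat.card E = Nat.card D := hE ▸ card_map_of_injective G.subtype_injective
        have hcU : Nat.card U' = Nat.card U := hU' ▸ Nat.card_congr (subgroupOfEquivOfLe hUW).toEquiv
        have hfix : Nat.card ↥(U' ⊓ fixOf C) ≤ Nat.card ↥(U ⊓ fixOf E) :=
          Nat.card_le_card_of_injective (fun u => ⟨((u : W) : V), (hU' ▸ u.2.1 : (u : W) ∈ U.subgroupOf W),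
            fun e he => by
              obtain ⟨d, hd, rfl⟩ := (hmemE e).1 he
              exact congrArg Subtype.val (u.2.2 _ (hDC ▸ mem_map_of_mem π hd))⟩)
            fun a b e => Subtype.ext (Subtype.ext
              (congrArg (fun w : ↥(U ⊓ fixOf E) => (w : V)) e :))
        have hker : Nat.card ↥(E ⊓ kerOn U) ≤ Nat.card ↥(D ⊓ π.ker) * Nat.card ↥(C ⊓ kerOn U') := by
          obtain ⟨D₀, hD₀⟩ : ∃ D₀ : Subgroup G, D₀ = D ⊓ (kerOn U).subgroupOf G := ⟨_, rfl⟩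
          have h1 : Nat.card ↥(E ⊓ kerOn U) ≤ Nat.card D₀ := by
            rw [← card_map_of_injective (f := G.subtype) (K := D₀) G.subtype_injective]
            refine card_le_of_le ?_
            rintro e ⟨he, hek⟩
            obtain ⟨d, hd, rfl⟩ := (hmemE e).1 he
            exact ⟨d, hD₀ ▸ ⟨hd, hek⟩, rfl⟩
          rw [card_eq_inf_ker_mul_map D₀ π] at h1
          refine h1.trans (Nat.mul_le_mul
            (card_le_of_le (inf_le_inf_right _ (hD₀ ▸ inf_le_left))) (card_le_of_le ?_))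
          rintro _ ⟨d, hd, rfl⟩
          rw [hD₀] at hd
          exact ⟨hDC ▸ mem_map_of_mem π hd.1,
            fun u hu => Subtype.ext (hd.2 (u : V) (hU' ▸ hu : u ∈ U.subgroupOf W))⟩
        have hcD : Nat.card D = Nat.card ↥(D ⊓ π.ker) * Nat.card C := by
          rw [card_eq_inf_ker_mul_map D π, hDC]
        calc Nat.card U * Nat.card ↥(E ⊓ kerOn U)
            ≤ Nat.card U' * (Nat.card ↥(D ⊓ π.ker) * Nat.card ↥(C ⊓ kerOn U')) := by
              rw [hcU]; exact Nat.mul_le_mul_left _ hker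
          _ = Nat.card ↥(D ⊓ π.ker) * (Nat.card U' * Nat.card ↥(C ⊓ kerOn U')) := by ring
          _ ≤ Nat.card ↥(D ⊓ π.ker) * (Nat.card C * Nat.card ↥(U' ⊓ fixOf C)) :=
              Nat.mul_le_mul_left _ hCle
          _ = Nat.card D * Nat.card ↥(U' ⊓ fixOf C) := by rw [hcD]; ring
          _ ≤ Nat.card E * Nat.card ↥(U ⊓ fixOf E) := by
              rw [hcE]; exact Nat.mul_le_mul_left _ hfix
    have hrng : Nat.card π.range ≤ n :=
      (Nat.card_le_card_of_surjective π.rangeRestrict π.rangeRestrict_surjective).trans hn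
    have hidx' : ¬ 2 ∣ S'.relIndex π.range := by
      intro h
      have h1 : (S.subgroupOf G).map π.rangeRestrict = S'.subgroupOf π.range := by
        ext m
        refine ⟨fun ⟨a, ha, he⟩ => ?_, fun hm => ?_⟩
        · rw [mem_subgroupOf, hS']; exact ⟨a, ha, congrArg Subtype.val he⟩
        · rw [mem_subgroupOf, hS'] at hm
          obtain ⟨a, ha, he⟩ := hm
          exact ⟨a, ha, Subtype.ext he⟩
      rw [Subgroup.relIndex, ← h1] at h
      exact hidx (h.trans (index_map_dvd _ π.rangeRestrict_surjective))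
    have htop' : clU π.range U' = ⊤ := by
      refine top_le_iff.1 fun w _ => ?_
      have hgoal : W ≤ (clU π.range U').map W.subtype := by
        conv_lhs => rw [hW]
        refine (closure_le _).2 ?_
        rintro _ ⟨g, hg, u, hu, rfl⟩
        exact ⟨π ⟨g, hg⟩ ⟨u, hUW hu⟩,
          subset_closure ⟨_, ⟨⟨g, hg⟩, rfl⟩, ⟨u, hUW hu⟩, hU' ▸ hu, rfl⟩, rfl⟩
      obtain ⟨w', hw', he⟩ := hgoal w.2
      exact Subtype.ext he ▸ hw'
    exact key W π.range S' U' hrng (fun w => Subtype.ext (hsq w)) (hfree.restrict hWG)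
      (by rw [hS']; exact map_le_range _ _)
      (hS' ▸ (hS.of_equiv (subgroupOfEquivOfLe hSG).symm).map π) hidx' hU'n htop'
      ((B.subgroupOf G).map π) (hS' ▸ map_mono fun b hb => hBS hb)
      (isOff_restrict hWG (hS.to_le hBS) hBG hBc hBm hle)

end CfsgLib.PLocal.SFourW
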