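import Cfsg.Agent.Lib.PLocal.SFourModule
import Cfsg.Agent.Lib.Amalgam.SThreeFreeModule
import Cfsg.Agent.Lib.Amalgam.SThreeFreeComponents
import Cfsg.Agent.Lib.Solvable.PCore

/-!
# A subgroup with the `3/2` property lies in the core

`V` is normal in the Sylow subgroup, `X'` and `Y'` are the parts of `V` and of a conjugate lying in
`V^g Q` and `V Q`. An element of odd prime order in `⟨V, V^g⟩` acts faithfully on their join, so one
of the two moves too much.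
-/

set_option autoImplicit false
set_option linter.unusedSectionVars false

namespace CfsgLib.PLocal.SFourW

open Subgroup CfsgLib.PLocal CfsgLib.Fusion
open scoped commutatorElement

universe u

/-- A step of the coprime action. -/
theorem fix_of_step {G : Type*} [Group G] {l p f : G} {r k : ℕ} (hr : Nat.Coprime r 2)
    (hlr : l ^ r = 1) (hf : f ^ 2 ^ k = 1) (hlf : l * f * l⁻¹ = f) (hlp : l * p * l⁻¹ = f * p) :
    f = 1 := by
  have hit : ∀ j : ℕ, l ^ j * p * (l ^ j)⁻¹ = f ^ j * p := by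
    intro j
    induction j with
    | zero => simp
    | succ j ih =>
      calc l ^ (j + 1) * p * (l ^ (j + 1))⁻¹ = l * (l ^ j * p * (l ^ j)⁻¹) * l⁻¹ := by
            rw [pow_succ']; group
        _ = (l * f * l⁻¹) ^ j * (l * p * l⁻¹) := by rw [ih, conj_pow]; group
        _ = f ^ (j + 1) * p := by rw [hlf, hlp, pow_succ, mul_assoc]
  have h1 := hit r
  rw [hlr, inv_one, one_mul, mul_one, right_eq_mul] at h1
  exact orderOf_eq_one_iff.1 (Nat.eq_one_of_dvd_coprimes (hr.pow_right k)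
    (orderOf_dvd_of_pow_eq_one h1) (orderOf_dvd_of_pow_eq_one hf))

section Core

variable {G : Type u} [Group G] [Finite G] {S V Q : Subgroup G} [hQn : Q.Normal]
  (hS : IsPGroup 2 S) (hVS : V ≤ S) (hVel : Cfsg.IsElementaryAbelian 2 V)
  (hSV : S ≤ Subgroup.normalizer (V : Set G)) (hQS : Q ≤ S) (hcQ : centralizer (Q : Set G) ≤ Q)

/-- The part of `V` in `V^g Q`. -/
def xPart (Q V : Subgroup G) (g : G) : Subgroup G := V ⊓ (conjSub g V ⊔ Q)

/-- The part of `V^g` in `V Q`. -/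
def yPart (Q V : Subgroup G) (g : G) : Subgroup G := conjSub g V ⊓ (V ⊔ Q)

theorem conjSub_normal (g : G) : conjSub g Q = Q :=
  eq_of_le_of_card_ge (by rintro _ ⟨x, hx, rfl⟩; exact hQn.conj_mem x hx g) (card_conjSub g Q).ge

theorem conjSub_xPart_inv (g : G) : conjSub g (xPart Q V g⁻¹) = yPart Q V g := by
  unfold xPart yPart
  rw [conjSub, map_inf _ _ _ (MulAut.conj g).injective, Subgroup.map_sup]
  have h1 : (conjSub g⁻¹ V).map (MulAut.conj g).toMonoidHom = V := by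
    show conjSub g (conjSub g⁻¹ V) = V
    rw [← conjSub_mul, mul_inv_cancel, conjSub_one]
  rw [h1, show Q.map (MulAut.conj g).toMonoidHom = Q from conjSub_normal g]
  rfl

theorem conjSub_xPart_inv_centralizer (g : G) :
    conjSub g (xPart Q V g⁻¹ ⊓ centralizer (conjSub g⁻¹ V : Set G)) =
      yPart Q V g ⊓ centralizer (V : Set G) := by
  have key : ∀ x, x ∈ centralizer (conjSub g⁻¹ V : Set G) ↔ g * x * g⁻¹ ∈ centralizer (V : Set G) := by
    intro x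
    constructor
    · intro hx v hv
      have h := hx (g⁻¹ * v * g⁻¹⁻¹) (conj_mem_conjSub hv)
      calc v * (g * x * g⁻¹) = g * ((g⁻¹ * v * g⁻¹⁻¹) * x) * g⁻¹ := by group
        _ = g * (x * (g⁻¹ * v * g⁻¹⁻¹)) * g⁻¹ := by rw [h]
        _ = _ := by group
    · rintro hx _ ⟨v, hv, rfl⟩
      have h := hx v hv
      show g⁻¹ * v * g⁻¹⁻¹ * x = x * (g⁻¹ * v * g⁻¹⁻¹)
      calc g⁻¹ * v * g⁻¹⁻¹ * x = g⁻¹ * (v * (g * x * g⁻¹)) * g := by group
        _ = g⁻¹ * (g * x * g⁻¹ * v) * g := by rw [h]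
        _ = _ := by group
  ext y
  constructor
  · rintro ⟨x, ⟨hx1, hx2⟩, rfl⟩
    exact ⟨(conjSub_xPart_inv g).le (mem_map_of_mem _ hx1), (key x).1 hx2⟩
  · rintro ⟨hy1, hy2⟩
    obtain ⟨x, hx, rfl⟩ := (conjSub_xPart_inv g).ge hy1
    exact ⟨x, ⟨hx, (key x).2 hy2⟩, rfl⟩

include hS hVS hVel hSV hQS hcQ

/-- The two estimates for one conjugate. -/
theorem pair_bounds (hsq : SqGood S V) {B₁ : Subgroup (G ⧸ Q)} (hB₁ : B₁ ≤ V.map (QuotientGroup.mk' Q))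
    {t : G ⧸ Q} (ht : t ∈ V.map (QuotientGroup.mk' Q)) {g : G} {r j : ℕ} (hr : r.Prime) (hr2 : r ≠ 2)
    (hxr : (QuotientGroup.mk' Q g) ^ r = 1) (hx1 : QuotientGroup.mk' Q g ≠ 1)
    (hcomm : ∀ a ∈ B₁, a * QuotientGroup.mk' Q g = QuotientGroup.mk' Q g * a)
    (hti : t * QuotientGroup.mk' Q g * t⁻¹ = (QuotientGroup.mk' Q g)⁻¹)
    (hk : ∀ k, 1 ≤ k → r ∣ 2 ^ k - 1 → 4 * j ≤ k + 1) (hj1 : 1 ≤ j)
    (hcard : Nat.card (V.map (QuotientGroup.mk' Q)) ≤ Nat.card B₁ * 2 ^ j) :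
    4 ^ j * Nat.card ↥(yPart Q V g ⊓ centralizer (V : Set G)) ≤ Nat.card (yPart Q V g) ∧
      Nat.card (yPart Q V g) ^ 3 *
          Nat.card ↥(xPart Q V g ⊓ centralizer (conjSub g V : Set G)) ^ 2 <
        4 ^ j * Nat.card (xPart Q V g) ^ 2 *
          Nat.card ↥(yPart Q V g ⊓ centralizer (V : Set G)) ^ 3 := by
  haveI := Fact.mk Nat.prime_two
  have hr2' : Nat.Coprime r 2 := (Nat.coprime_primes hr Nat.prime_two).2 hr2
  obtain ⟨q, hq⟩ : ∃ q : G →* G ⧸ Q, q = QuotientGroup.mk' Q := ⟨_, rfl⟩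
  rw [← hq] at hB₁ ht hxr hx1 hcomm hti hcard
  have hqQ : ∀ z, q z = 1 ↔ z ∈ Q := fun z => by rw [hq]; exact QuotientGroup.eq_one_iff z
  obtain ⟨W, hW⟩ : ∃ W, W = conjSub g V := ⟨_, rfl⟩
  obtain ⟨X, hX⟩ : ∃ X, X = xPart Q V g := ⟨_, rfl⟩
  obtain ⟨Y, hY⟩ : ∃ Y, Y = yPart Q V g := ⟨_, rfl⟩
  rw [← hX, ← hY, ← hW]
  have hXdef : X = V ⊓ (W ⊔ Q) := by rw [hX, hW]; rfl
  have hYdef : Y = W ⊓ (V ⊔ Q) := by rw [hY, hW]; rfl
  have hWel : Cfsg.IsElementaryAbelian 2 W := hW ▸ elemAb_map _ hVel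
  have hVQ : V ⊔ Q ≤ Subgroup.normalizer (V : Set G) :=
    sup_le le_normalizer (hQS.trans hSV)
  have hVQS : V ⊔ Q ≤ S := sup_le hVS hQS
  have hWQ : W ⊔ Q ≤ Subgroup.normalizer (W : Set G) := by
    have h1 : W ⊔ Q = conjSub g (V ⊔ Q) := by
      rw [hW, conjSub, conjSub, Subgroup.map_sup]
      congr 1
      exact (conjSub_normal g).symm
    rw [h1, hW]
    rintro _ ⟨n, hn, rfl⟩
    refine mem_normalizer_iff_map_conj_eq.2 (eq_of_le_of_card_ge ?_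
      (card_map_of_injective (MulAut.conj _).injective).ge)
    rintro _ ⟨_, ⟨v, hv, rfl⟩, rfl⟩
    refine ⟨n * v * n⁻¹, (mem_normalizer_iff.1 (hVQ hn) v).1 hv, ?_⟩
    simp [mul_assoc]
  -- commutators
  have hcV : ∀ v ∈ V, ∀ y ∈ V ⊔ Q, ⁅v, y⁆ ∈ X := by
    intro v hv y hy
    rw [hXdef]
    refine ⟨?_, mem_sup_right ((hqQ _).1 ?_)⟩
    · rw [commutatorElement_def, mul_assoc, mul_assoc]
      refine V.mul_mem hv ?_
      rw [← mul_assoc]
      exact (mem_normalizer_iff.1 (hVQ hy) _).1 (V.inv_mem hv)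
    · obtain ⟨v', hv', z, hz, rfl⟩ := mem_sup_of_normal_right.1 hy
      rw [map_commutatorElement, map_mul, (hqQ z).2 hz, mul_one, ← map_commutatorElement,
        commutatorElement_eq_one_iff_mul_comm.2 (elemAb_comm hVel hv hv'), map_one]
  have hcW : ∀ w ∈ W, ∀ y ∈ W ⊔ Q, ⁅w, y⁆ ∈ Y := by
    intro w hw y hy
    rw [hYdef]
    refine ⟨?_, mem_sup_right ((hqQ _).1 ?_)⟩
    · rw [commutatorElement_def, mul_assoc, mul_assoc]
      refine W.mul_mem hw ?_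
      rw [← mul_assoc]
      exact (mem_normalizer_iff.1 (hWQ hy) _).1 (W.inv_mem hw)
    · obtain ⟨v', hv', z, hz, rfl⟩ := mem_sup_of_normal_right.1 hy
      rw [map_commutatorElement, map_mul, (hqQ z).2 hz, mul_one, ← map_commutatorElement,
        commutatorElement_eq_one_iff_mul_comm.2 (elemAb_comm hWel hw hv'), map_one]
  obtain ⟨P, hP⟩ : ∃ P, P = X ⊔ Y := ⟨_, rfl⟩
  have hXP : X ≤ P := hP ▸ le_sup_left
  have hYP : Y ≤ P := hP ▸ le_sup_right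
  have hPS : P ≤ S := hP ▸ sup_le ((hXdef ▸ inf_le_left : X ≤ V).trans hVS)
    ((hYdef ▸ inf_le_right : Y ≤ V ⊔ Q).trans hVQS)
  -- the group acting
  let St : Subgroup G :=
    { carrier := {h | h ∈ Subgroup.normalizer (P : Set G) ∧ ∀ z ∈ Q, h * z * h⁻¹ * z⁻¹ ∈ P}
      one_mem' := ⟨one_mem _, fun z _ => by simp⟩
      mul_mem' := fun {a b} ha hb => ⟨mul_mem ha.1 hb.1, fun z hz => by
        have h1 : a * b * z * (a * b)⁻¹ * z⁻¹ = a * (b * z * b⁻¹ * z⁻¹) * a⁻¹ * (a * z * a⁻¹ * z⁻¹) := by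
          group
        rw [h1]
        exact P.mul_mem ((mem_normalizer_iff.1 ha.1 _).1 (hb.2 z hz)) (ha.2 z hz)⟩
      inv_mem' := fun {a} ha => ⟨inv_mem ha.1, fun z hz => by
        have h1 := P.inv_mem (ha.2 (a⁻¹ * z * a) (by
          simpa using hQn.conj_mem z hz a⁻¹))
        simpa [mul_assoc] using h1⟩ }
  have hVSt : V ≤ St := by
    intro v hv
    refine ⟨?_, fun z hz => hXP (hcV v hv z (mem_sup_right hz))⟩
    refine mem_normalizer_iff_map_conj_eq.2 (eq_of_le_of_card_ge ?_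
      (card_map_of_injective (MulAut.conj v).injective).ge)
    rw [map_le_iff_le_comap, hP]
    refine sup_le (fun x hx => ?_) fun y hy => ?_
    · show v * x * v⁻¹ ∈ X ⊔ Y
      rw [elemAb_comm hVel hv (hXdef.le hx).1, mul_inv_cancel_right]
      exact mem_sup_left hx
    · show v * y * v⁻¹ ∈ X ⊔ Y
      rw [show v * y * v⁻¹ = ⁅v, y⁆ * y by rw [commutatorElement_def]; group]
      exact mul_mem (mem_sup_left (hcV v hv y (hYdef.le hy).2)) (mem_sup_right hy)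
  have hWSt : W ≤ St := by
    intro v hv
    refine ⟨?_, fun z hz => hYP (hcW v hv z (mem_sup_right hz))⟩
    refine mem_normalizer_iff_map_conj_eq.2 (eq_of_le_of_card_ge ?_
      (card_map_of_injective (MulAut.conj v).injective).ge)
    rw [map_le_iff_le_comap, hP]
    refine sup_le (fun x hx => ?_) fun y hy => ?_
    · show v * x * v⁻¹ ∈ X ⊔ Y
      rw [show v * x * v⁻¹ = ⁅v, x⁆ * x by rw [commutatorElement_def]; group]
      exact mul_mem (mem_sup_right (hcW v hv x (hXdef.le hx).2)) (mem_sup_left hx)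
    · show v * y * v⁻¹ ∈ X ⊔ Y
      rw [elemAb_comm hWel hv (hYdef.le hy).1, mul_inv_cancel_right]
      exact mem_sup_right hy
  obtain ⟨H, hH⟩ : ∃ H, H = V ⊔ W := ⟨_, rfl⟩
  have hHSt : H ≤ St := hH ▸ sup_le hVSt hWSt
  have hXH : X ≤ H := fun x hx => hH ▸ mem_sup_left (hXdef.le hx).1
  have hYH : Y ≤ H := fun y hy => hH ▸ mem_sup_right (hYdef.le hy).1
  obtain ⟨Z, hZ⟩ : ∃ Z, Z = P ⊓ centralizer (H : Set G) := ⟨_, rfl⟩
  obtain ⟨Z', hZ'⟩ : ∃ Z' : Subgroup P, Z' = Z.subgroupOf P := ⟨_, rfl⟩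
  haveI hZn : Z'.Normal := ⟨fun z hz p => by
    rw [hZ', mem_subgroupOf] at hz ⊢
    have hz2 : (z : G) ∈ P ⊓ centralizer (H : Set G) := hZ.le hz
    have h1 : (p : G) * z = z * p := hz2.2 p (hP.le.trans (sup_le hXH hYH) p.2)
    simpa [h1] using hz⟩
  let π := QuotientGroup.mk' Z'
  have hπ1 : ∀ p : P, π p = 1 ↔ (p : G) ∈ Z := fun p => by
    show QuotientGroup.mk' Z' p = 1 ↔ _
    rw [QuotientGroup.mk'_apply, QuotientGroup.eq_one_iff, hZ', mem_subgroupOf]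
  obtain ⟨Xb, hXb⟩ : ∃ Xb, Xb = (X.subgroupOf P).map π := ⟨_, rfl⟩
  obtain ⟨Yb, hYb⟩ : ∃ Yb, Yb = (Y.subgroupOf P).map π := ⟨_, rfl⟩
  have htopM : Xb ⊔ Yb = ⊤ := by
    rw [hXb, hYb, ← Subgroup.map_sup, ← subgroupOf_sup hXP hYP, ← hP, subgroupOf_self,
      map_top_of_surjective _ (QuotientGroup.mk'_surjective Z')]
  have hMc : ∀ a b : P ⧸ Z', a * b = b * a := by
    have h1 : Xb ⊔ Yb ≤ centralizer (Xb : Set (P ⧸ Z')) ⊓ centralizer (Yb : Set (P ⧸ Z')) := by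
      have hxy : ∀ x ∈ Xb, ∀ y ∈ Yb, x * y = y * x := by
        rw [hXb, hYb]
        rintro _ ⟨x, hx, rfl⟩ _ ⟨y, hy, rfl⟩
        rw [← commutatorElement_eq_one_iff_mul_comm, ← map_commutatorElement, hπ1]
        rw [show ((⁅x, y⁆ : P) : G) = ⁅(x : G), (y : G)⁆ from map_commutatorElement P.subtype x y, hZ]
        have hx' := hXdef.le hx
        have hy' := hYdef.le hy
        have hin := hcV _ hx'.1 _ hy'.2
        refine ⟨hXP hin, ?_⟩
        have hinW : ⁅(x : G), (y : G)⁆ ∈ W := by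
          rw [← commutatorElement_inv]
          exact W.inv_mem (hYdef.le (hcW _ hy'.1 _ hx'.2)).1
        intro h hh
        have hle : H ≤ centralizer ({⁅(x : G), (y : G)⁆} : Set G) := hH ▸ sup_le
          (fun v hv => mem_centralizer_singleton_iff.2 (elemAb_comm hVel hv (hXdef.le hin).1))
          (fun v hv => mem_centralizer_singleton_iff.2 (elemAb_comm hWel hv hinW))
        exact mem_centralizer_singleton_iff.1 (hle hh)
      refine sup_le (le_inf ?_ fun x hx y hy => (hxy x hx y hy).symm)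
        (le_inf (fun y hy x hx => hxy x hx y hy) ?_)
      · rw [hXb]
        rintro _ ⟨x, hx, rfl⟩ _ ⟨x', hx', rfl⟩
        rw [← map_mul, ← map_mul]
        exact congrArg π (Subtype.ext (elemAb_comm hVel (hXdef.le hx').1 (hXdef.le hx).1))
      · rw [hYb]
        rintro _ ⟨x, hx, rfl⟩ _ ⟨x', hx', rfl⟩
        rw [← map_mul, ← map_mul]
        exact congrArg π (Subtype.ext (elemAb_comm hWel (hYdef.le hx').1 (hYdef.le hx).1))
    rw [htopM] at h1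
    intro a b
    obtain ⟨hax, hay⟩ := h1 (mem_top a)
    have h2 : Xb ⊔ Yb ≤ centralizer ({a} : Set (P ⧸ Z')) := sup_le
      (fun y hy => mem_centralizer_singleton_iff.2 (hax y hy))
      (fun y hy => mem_centralizer_singleton_iff.2 (hay y hy))
    rw [htopM] at h2
    exact (mem_centralizer_singleton_iff.1 (h2 (mem_top b))).symm
  letI : CommGroup (P ⧸ Z') := { (inferInstance : Group (P ⧸ Z')) with mul_comm := hMc }
  have hM2 : IsPGroup 2 (P ⧸ Z') := (hS.to_le hPS).to_quotient Z'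
  -- the action
  have hHN : ∀ h : H, (h : G) ∈ Subgroup.normalizer (P : Set G) := fun h => (hHSt h.2).1
  let ν : H → MulAut P := fun h => P.normalizerMonoidHom ⟨(h : G), hHN h⟩
  have hν : ∀ (h : H) (p : P), ((ν h p : P) : G) = (h : G) * p * (h : G)⁻¹ := fun h p => rfl
  have hνZ : ∀ h : H, Z'.map (ν h).toMonoidHom = Z' := fun h => by
    have hfix : ∀ z ∈ Z', ν h z = z := fun z hz => by
      rw [hZ', mem_subgroupOf] at hz
      have hz2 : (z : G) ∈ P ⊓ centralizer (H : Set G) := hZ.le hz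
      exact Subtype.ext (by rw [hν, hz2.2 h h.2, mul_inv_cancel_right])
    ext z
    exact ⟨fun ⟨w, hw, e⟩ => e ▸ (by rw [MulEquiv.coe_toMonoidHom, hfix w hw]; exact hw),
      fun hz => ⟨z, hz, hfix z hz⟩⟩
  let σ : H →* MulAut (P ⧸ Z') := MonoidHom.mk'
    (fun h => QuotientGroup.congr Z' Z' (ν h) (hνZ h)) fun a b => by
      refine MulEquiv.ext fun m => ?_
      obtain ⟨p, rfl⟩ := QuotientGroup.mk_surjective m
      refine congrArg QuotientGroup.mk (Subtype.ext ?_)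
      show ((ν (a * b) p : P) : G) = ((ν a (ν b p) : P) : G)
      rw [hν, hν, hν, Subgroup.coe_mul]
      group
  have hσ : ∀ (h : H) (p : P), σ h (π p) = π (ν h p) := fun _ _ => rfl
  -- the element of odd prime order
  obtain ⟨v₀, hv₀, hv₀t⟩ := ht
  obtain ⟨w₀, hw₀⟩ : ∃ w₀, w₀ = g * v₀ * g⁻¹ := ⟨_, rfl⟩
  have hv₀2 : v₀ * v₀ = 1 := by rw [← pow_two]; exact hVel.2 v₀ hv₀
  have hw₀2 : w₀ * w₀ = 1 := by
    rw [hw₀, show g * v₀ * g⁻¹ * (g * v₀ * g⁻¹) = g * (v₀ * v₀) * g⁻¹ by group, hv₀2]; group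
  have hw₀W : w₀ ∈ W := by rw [hw₀, hW]; exact conj_mem_conjSub hv₀
  obtain ⟨d, hd⟩ : ∃ d, d = v₀ * w₀ := ⟨_, rfl⟩
  have hqd : q d = ((q g) ^ 2)⁻¹ := by
    have e1 : q g * t = t * (q g)⁻¹ := by
      rw [← hti]
      have ht2 : t * t = 1 := by rw [← hv₀t, ← map_mul, hv₀2, map_one]
      have ht3 : t⁻¹ = t := inv_eq_of_mul_eq_one_left ht2
      rw [ht3, ← mul_assoc, ← mul_assoc, ht2, one_mul]
    rw [hd, hw₀, map_mul, map_mul, map_mul, map_inv, hv₀t, e1, pow_two]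
    have ht2 : t * t = 1 := by rw [← hv₀t, ← map_mul, hv₀2, map_one]
    rw [mul_inv_rev, ← mul_assoc, ← mul_assoc, ht2, one_mul]
  obtain ⟨a, m, hm, hord⟩ := Nat.exists_eq_pow_mul_and_not_dvd (orderOf_pos d).ne' 2 (by norm_num)
  obtain ⟨l, hl⟩ : ∃ l, l = d ^ 2 ^ a := ⟨_, rfl⟩
  have hlm : l ^ m = 1 := by rw [hl, ← pow_mul, ← hord]; exact pow_orderOf_eq_one d
  have hql : (q l) ^ r = 1 := by
    rw [hl, map_pow, ← pow_mul, mul_comm, pow_mul, hqd, inv_pow, ← pow_mul, mul_comm 2 r, pow_mul,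
      hxr, one_pow, inv_one, one_pow]
  have hlr : l ^ r = 1 := by
    obtain ⟨k, hk'⟩ := hS ⟨l ^ r, hQS ((hqQ _).1 (by rw [map_pow, hql]))⟩
    have hk'' : (l ^ r) ^ 2 ^ k = 1 := congrArg Subtype.val hk'
    exact orderOf_eq_one_iff.1 (Nat.eq_one_of_dvd_coprimes
      (((Nat.prime_two.coprime_iff_not_dvd).2 hm).symm.pow_right k)
      (orderOf_dvd_of_pow_eq_one (by rw [← pow_mul, mul_comm, pow_mul, hlm, one_pow]))
      (orderOf_dvd_of_pow_eq_one hk''))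
  have hlQ : q l ≠ 1 := by
    intro h
    rw [hl, map_pow] at h
    have h2 : (q g) ^ (2 ^ (a + 1)) = 1 := by
      rw [pow_succ', pow_mul, ← inv_eq_one, ← inv_pow, ← hqd, h]
    exact hx1 (orderOf_eq_one_iff.1 (Nat.eq_one_of_dvd_coprimes (hr2'.pow_right (a + 1))
      (orderOf_dvd_of_pow_eq_one hxr) (orderOf_dvd_of_pow_eq_one h2)))
  have hv₀H : v₀ ∈ H := hH ▸ mem_sup_left hv₀
  have hlH : l ∈ H := by
    rw [hl, hd]; exact pow_mem (H.mul_mem hv₀H (hH ▸ mem_sup_right hw₀W)) _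
  have hvl : v₀ * l * v₀⁻¹ = l⁻¹ := by
    have e : v₀ * d * v₀⁻¹ = d⁻¹ := by
      rw [hd, ← mul_assoc, hv₀2, one_mul, mul_inv_rev, inv_eq_of_mul_eq_one_left hw₀2]
    rw [hl, ← conj_pow, e, inv_pow]
  have hlσ : σ ⟨l, hlH⟩ ≠ 1 := by
    intro h
    have hfixP : ∀ p ∈ P, l * p * l⁻¹ = p := by
      intro p hp
      have h1 : π (ν ⟨l, hlH⟩ ⟨p, hp⟩) = π ⟨p, hp⟩ := by
        rw [← hσ, h, MulAut.one_apply]
      have h2 : l * p * l⁻¹ * p⁻¹ ∈ Z := by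
        have := (hπ1 (ν ⟨l, hlH⟩ ⟨p, hp⟩ * (⟨p, hp⟩ : P)⁻¹)).1 (by rw [map_mul, map_inv, h1, mul_inv_cancel])
        simpa [hν] using this
      obtain ⟨k, hk'⟩ := hS ⟨_, hPS (hZ.le h2).1⟩
      have hf := fix_of_step (k := k) hr2' hlr (congrArg Subtype.val hk')
        (by rw [(hZ.le h2).2 l hlH, mul_inv_cancel_right]) (p := p) (by group)
      exact mul_inv_eq_one.1 hf
    refine hlQ ((hqQ l).2 (hcQ fun z hz => ?_))
    have h2 := (hHSt hlH).2 z hz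
    obtain ⟨k, hk'⟩ := hS ⟨_, hPS h2⟩
    have hf := fix_of_step (k := k) hr2' hlr (congrArg Subtype.val hk') (hfixP _ h2) (p := z) (by group)
    exact (mul_inv_eq_iff_eq_mul.1 (mul_inv_eq_one.1 hf)).symm
  obtain ⟨k, hk1, hk2, hk3⟩ := CfsgLib.Amalgam.SFree.exists_le_index hM2 (σ ⟨v₀, hv₀H⟩) (σ ⟨l, hlH⟩)
    (by rw [← map_mul, show (⟨v₀, hv₀H⟩ : H) * ⟨v₀, hv₀H⟩ = 1 from Subtype.ext hv₀2, map_one])
    (by rw [← map_inv, ← map_mul, ← map_mul, ← map_inv]; exact congrArg σ (Subtype.ext hvl))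
    hr hr2 (by rw [← map_pow, show (⟨l, hlH⟩ : H) ^ r = 1 from Subtype.ext hlr, map_one]) hlσ
  obtain ⟨e, he⟩ := CfsgLib.Amalgam.SFree.index_eq_two_pow hM2
    (CfsgLib.Amalgam.SFree.fixSub (σ ⟨v₀, hv₀H⟩))
  rw [he] at hk3
  have h2j : 2 * j ≤ e := CfsgLib.Amalgam.SFree.exp_le hk3 (hk k hk1 hk2)
  have hXfix : Xb ≤ CfsgLib.Amalgam.SFree.fixSub (σ ⟨v₀, hv₀H⟩) := by
    rw [hXb]
    rintro _ ⟨x, hx, rfl⟩
    refine CfsgLib.Amalgam.SFree.mem_fixSub.2 ?_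
    rw [hσ]
    exact congrArg π (Subtype.ext (by
      have hxV : (x : G) ∈ V := (hXdef.le hx).1
      rw [hν, elemAb_comm hVel hv₀ hxV, mul_inv_cancel_right]))
  -- `|Ȳ| ≥ 4 ^ j`
  have hYsmall : 4 ^ j ≤ Nat.card Yb := by
    have h1 : Nat.card (P ⧸ Z') ≤ Nat.card Xb * Nat.card Yb := by
      rw [← CfsgLib.PLocal.RightClosed.card_sup_mul_card_inf, htopM, card_top]
      exact Nat.le_mul_of_pos_right _ Nat.card_pos
    have h2 : 2 ^ e ≤ Xb.index := he ▸ Nat.le_of_dvd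
      (Nat.pos_of_ne_zero index_ne_zero_of_finite) (index_dvd_of_le hXfix)
    rw [← Xb.card_mul_index] at h1
    calc 4 ^ j = 2 ^ (2 * j) := by rw [pow_mul]; norm_num
      _ ≤ 2 ^ e := Nat.pow_le_pow_right two_pos h2j
      _ ≤ Xb.index := h2
      _ ≤ _ := Nat.le_of_mul_le_mul_left h1 Nat.card_pos
  have hYcard : Nat.card Y = Nat.card ↥(Y ⊓ centralizer (V : Set G)) * Nat.card Yb := by
    rw [← Nat.card_congr (subgroupOfEquivOfLe hYP).toEquiv,
      CfsgLib.PLocal.RightClosed.card_eq_inf_ker_mul_map (Y.subgroupOf P) π, ← hYb]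
    congr 1
    rw [← card_map_of_injective P.subtype_injective]
    refine congrArg (fun U : Subgroup G => Nat.card U) ?_
    ext y
    constructor
    · rintro ⟨y, ⟨hy1, hy2⟩, rfl⟩
      exact ⟨hy1, fun v hv => (hZ.le ((hπ1 y).1 (MonoidHom.mem_ker.1 hy2))).2 v (hH ▸ mem_sup_left hv)⟩
    · rintro ⟨hy1, hy2⟩
      refine ⟨⟨y, hYP hy1⟩, ⟨hy1, MonoidHom.mem_ker.2 ((hπ1 _).2 (hZ.ge ⟨hYP hy1, ?_⟩))⟩, rfl⟩
      intro h hh
      have hle : H ≤ centralizer ({y} : Set G) := hH ▸ sup_le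
        (fun v hv => mem_centralizer_singleton_iff.2 (hy2 v hv))
        (fun v hv => mem_centralizer_singleton_iff.2 (elemAb_comm hWel hv (hYdef.le hy1).1))
      exact mem_centralizer_singleton_iff.1 (hle hh)
  refine ⟨by rw [hYcard, mul_comm]; exact Nat.mul_le_mul_left _ hYsmall, ?_⟩
  -- the property of `V`
  have hYV : ¬ Y ≤ centralizer (V : Set G) := fun h => by
    rw [inf_eq_left.2 h] at hYcard
    have h4 : Nat.card Yb = 1 := by
      have hpos : 0 < Nat.card Y := Nat.card_pos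
      exact Nat.eq_of_mul_eq_mul_left hpos (by rw [mul_one]; exact hYcard.symm)
    rw [h4] at hYsmall
    have : 4 ≤ 4 ^ j := Nat.le_self_pow (by omega) 4
    omega
  have hel : ElemAct V Y := by
    refine ⟨commutator_le.2 fun a ha b hb => ?_, fun b hb => ?_, hYV⟩
    · rw [commutatorElement_eq_one_iff_mul_comm.2 (elemAb_comm hWel (hYdef.le ha).1 (hYdef.le hb).1)]
      exact one_mem _
    · rw [hWel.2 b (hYdef.le hb).1]; exact one_mem _
  have hprop := hsq Y ((hYdef ▸ inf_le_right : Y ≤ V ⊔ Q).trans hVQS) hel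
  have hVcard : Nat.card V ≤ 2 ^ j * Nat.card X := by
    have hA : (V ⊓ B₁.comap q) ≤ X := by
      rintro v ⟨hv, hvB⟩
      rw [hXdef]
      refine ⟨hv, ?_⟩
      have h1 : q (g * v * g⁻¹) = q v := by
        rw [map_mul, map_mul, map_inv, ← hcomm _ hvB, mul_inv_cancel_right]
      have h2 : (g * v * g⁻¹)⁻¹ * v ∈ Q := (hqQ _).1 (by rw [map_mul, map_inv, h1, inv_mul_cancel])
      rw [show v = g * v * g⁻¹ * ((g * v * g⁻¹)⁻¹ * v) by group]
      exact mul_mem (mem_sup_left (hW ▸ conj_mem_conjSub hv)) (mem_sup_right h2)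
    have h1 := CfsgLib.PLocal.RightClosed.card_eq_inf_ker_mul_map V q
    have h2 := CfsgLib.PLocal.RightClosed.card_eq_inf_ker_mul_map (V ⊓ B₁.comap q) q
    have h3 : (V ⊓ B₁.comap q).map q = B₁ := le_antisymm
      (map_le_iff_le_comap.2 inf_le_right) fun b hb => by
        obtain ⟨v, hv, rfl⟩ := hB₁ hb
        exact ⟨v, ⟨hv, hb⟩, rfl⟩
    have h4 : V ⊓ q.ker ≤ V ⊓ B₁.comap q ⊓ q.ker := fun v hv =>
      ⟨⟨hv.1, by
        show q v ∈ B₁
        rw [MonoidHom.mem_ker.1 hv.2]; exact one_mem _⟩, hv.2⟩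
    calc Nat.card V = Nat.card ↥(V ⊓ q.ker) * Nat.card (V.map q) := h1
      _ ≤ Nat.card ↥(V ⊓ B₁.comap q ⊓ q.ker) * (Nat.card B₁ * 2 ^ j) :=
          Nat.mul_le_mul (card_le_of_le h4) hcard
      _ = 2 ^ j * Nat.card ↥(V ⊓ B₁.comap q) := by rw [h2, h3]; ring
      _ ≤ _ := Nat.mul_le_mul_left _ (card_le_of_le hA)
  calc Nat.card Y ^ 3 * Nat.card ↥(X ⊓ centralizer (W : Set G)) ^ 2
      ≤ Nat.card Y ^ 3 * Nat.card ↥(V ⊓ centralizer (Y : Set G)) ^ 2 :=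
        Nat.mul_le_mul_left _ (Nat.pow_le_pow_left (card_le_of_le
          (show X ⊓ centralizer (W : Set G) ≤ V ⊓ centralizer (Y : Set G) from fun x hx =>
            ⟨(hXdef.le hx.1).1, fun y hy => hx.2 y (hYdef.le hy).1⟩)) 2)
    _ < Nat.card V ^ 2 * Nat.card ↥(Y ⊓ centralizer (V : Set G)) ^ 3 := hprop
    _ ≤ (2 ^ j * Nat.card X) ^ 2 * Nat.card ↥(Y ⊓ centralizer (V : Set G)) ^ 3 :=
        Nat.mul_le_mul_right _ (Nat.pow_le_pow_left hVcard 2)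
    _ = _ := by
        rw [mul_pow, show ((2 : ℕ) ^ j) ^ 2 = 4 ^ j by rw [← pow_mul, mul_comm, pow_mul]; norm_num]

end Core

variable {G : Type u} [Group G] [Finite G]
  (hfree : ¬ Cfsg.Involves (Equiv.Perm (Fin 4)) G)
  (hK : Cfsg.IsCompositionKGroupWith Cfsg.IsSuzukiOrPSL2OddPowerThree G)
  (hc : centralizer (Cfsg.pCore 2 G : Set G) ≤ Cfsg.pCore 2 G) (S : Sylow 2 G) {V : Subgroup G}
  (hVS : V ≤ (S : Subgroup G)) (hVel : Cfsg.IsElementaryAbelian 2 V)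
  (hSV : (S : Subgroup G) ≤ Subgroup.normalizer (V : Set G)) (hsq : SqGood (S : Subgroup G) V)

include hfree hK hc hVS hVel hSV hsq

/-- A subgroup with the `3/2` property lies in the core. -/
theorem sqGood_le_pCore : V ≤ Cfsg.pCore 2 G := by
  haveI := Fact.mk Nat.prime_two
  obtain ⟨Q, hQ⟩ : ∃ Q : Subgroup G, Q = Cfsg.pCore 2 G := ⟨_, rfl⟩
  haveI hQn : Q.Normal := hQ ▸ Cfsg.pCore_normal 2 G
  have hQS : Q ≤ (S : Subgroup G) := hQ ▸ CfsgLib.Solvable.pCore_le_sylow S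
  have hcQ : centralizer (Q : Set G) ≤ Q := by rw [hQ]; exact hc
  rw [← hQ]
  by_contra hnot
  have hS3 : ¬ Cfsg.Involves (Equiv.Perm (Fin 3)) (G ⧸ Q) :=
    sThree_free_quotient hfree (T := Q) (hQ ▸ CfsgLib.Solvable.pCore_isPGroup 2) (N := Q) hcQ
  have hcore : Cfsg.pCore 2 (G ⧸ Q) = ⊥ := by
    subst hQ; exact CfsgLib.Solvable.pCore_quotient_eq_bot 2
  have hBne : V.map (QuotientGroup.mk' Q) ≠ ⊥ := fun h => hnot fun v hv =>
    (QuotientGroup.eq_one_iff v).1 (mem_bot.1 (h ▸ mem_map_of_mem (QuotientGroup.mk' Q) hv))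
  obtain ⟨B₁, hlt, t, ht, x, -, r, j, hr, hr2, hxr, hx1, hcomm, hti, hk, hcard⟩ :=
    CfsgLib.Amalgam.SFree.redIn_of_sfree hS3 (compK_of_surjective (QuotientGroup.mk'_surjective Q) hK)
      hcore (elemAb_map _ hVel) hBne
  have hj1 : 1 ≤ j := by
    by_contra h0
    obtain rfl : j = 0 := by omega
    rw [pow_zero, mul_one] at hcard
    exact hlt.ne (eq_of_le_of_card_ge hlt.le hcard)
  obtain ⟨g, rfl⟩ := QuotientGroup.mk'_surjective Q x
  obtain ⟨hb1, hp1⟩ := pair_bounds S.2 hVS hVel hSV hQS hcQ hsq hlt.le ht hr hr2 hxr hx1 hcomm hti hk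
    hj1 hcard
  obtain ⟨hb2, hp2⟩ := pair_bounds (g := g⁻¹) S.2 hVS hVel hSV hQS hcQ hsq hlt.le ht hr hr2
    (by rw [map_inv, inv_pow, hxr, inv_one]) (by rw [map_inv, inv_ne_one]; exact hx1)
    (fun a ha => by rw [map_inv]; exact (Commute.inv_right (hcomm a ha)).eq)
    (by rw [map_inv, ← conj_inv, hti]) hk hj1 hcard
  have e1 : Nat.card (xPart Q V g⁻¹) = Nat.card (yPart Q V g) := by
    rw [← card_conjSub g, conjSub_xPart_inv]
  have e2 : Nat.card (yPart Q V g⁻¹) = Nat.card (xPart Q V g) := by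
    rw [← card_conjSub g⁻¹ (xPart Q V g)]
    have h := conjSub_xPart_inv (Q := Q) (V := V) g⁻¹
    rw [inv_inv] at h
    rw [h]
  have e3 : Nat.card ↥(xPart Q V g⁻¹ ⊓ centralizer (conjSub g⁻¹ V : Set G)) =
      Nat.card ↥(yPart Q V g ⊓ centralizer (V : Set G)) := by
    rw [← card_conjSub g, conjSub_xPart_inv_centralizer]
  have e4 : Nat.card ↥(yPart Q V g⁻¹ ⊓ centralizer (V : Set G)) =
      Nat.card ↥(xPart Q V g ⊓ centralizer (conjSub g V : Set G)) := by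
    rw [← card_conjSub g⁻¹ (xPart Q V g ⊓ centralizer (conjSub g V : Set G))]
    have h := conjSub_xPart_inv_centralizer (Q := Q) (V := V) g⁻¹
    rw [inv_inv] at h
    rw [h]
  rw [e2, e4] at hb2
  rw [e1, e2, e3, e4] at hp2
  obtain ⟨p, hp⟩ : ∃ p, p = Nat.card (yPart Q V g) := ⟨_, rfl⟩
  obtain ⟨p', hp'⟩ : ∃ p', p' = Nat.card (xPart Q V g) := ⟨_, rfl⟩
  obtain ⟨c, hc1⟩ : ∃ c, c = Nat.card ↥(yPart Q V g ⊓ centralizer (V : Set G)) := ⟨_, rfl⟩
  obtain ⟨c', hc2⟩ : ∃ c', c' = Nat.card ↥(xPart Q V g ⊓ centralizer (conjSub g V : Set G)) :=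
    ⟨_, rfl⟩
  rw [← hp, ← hc1] at hb1
  rw [← hp, ← hp', ← hc1, ← hc2] at hp1 hp2
  rw [← hp', ← hc2] at hb2
  have h1 : p * p' < 4 ^ j * 4 ^ j * c * c' := by
    refine Nat.lt_of_mul_lt_mul_left (a := p ^ 2 * p' ^ 2 * c ^ 2 * c' ^ 2) ?_
    calc p ^ 2 * p' ^ 2 * c ^ 2 * c' ^ 2 * (p * p') = (p ^ 3 * c' ^ 2) * (p' ^ 3 * c ^ 2) := by ring
      _ < (4 ^ j * p' ^ 2 * c ^ 3) * (4 ^ j * p ^ 2 * c' ^ 3) := Nat.mul_lt_mul'' hp1 hp2
      _ = _ := by ring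
  exact h1.not_ge (le_of_eq_of_le (by ring) (Nat.mul_le_mul hb1 hb2))

end CfsgLib.PLocal.SFourW
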