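import Cfsg.Agent.Lib.PLocal.SFourClosure
import Cfsg.Agent.Lib.PLocal.SFourPair
import Cfsg.Agent.Lib.Fusion.OffenderGroup
import Cfsg.Agent.Lib.PLocal.Thompson

/-!
# Subgroups without offenders: normal closure and the Thompson subgroup
-/

set_option autoImplicit false
set_option linter.unusedSectionVars false

namespace CfsgLib.PLocal.SFourW

open Subgroup CfsgLib.PLocal CfsgLib.Fusion CfsgLib.Fusion.Offender
open scoped commutatorElement

universe u

variable {G : Type u} [Group G] [Finite G]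

/-- An elementary subgroup of largest order centralises a normalised subgroup without offenders. -/
theorem maxElem_le_centralizer {S Y A : Subgroup G} (hY : NoOffOn S Y) (hYS : Y ≤ S)
    (hYel : Cfsg.IsElementaryAbelian 2 Y) (hA : A ∈ maxElemIn 2 S) :
    A ≤ centralizer (Y : Set G) := by
  by_contra hnot
  refine (hY A hA.1 ⟨?_, fun a ha => by rw [hA.2.1.2 a ha]; exact one_mem _, hnot⟩).not_ge ?_
  · refine commutator_le.2 fun a ha b hb => ?_
    rw [commutatorElement_eq_one_iff_mul_comm.2 (elemAb_comm hA.2.1 ha hb)]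
    exact one_mem _
  obtain ⟨A₀, hA₀⟩ : ∃ A₀, A₀ = A ⊓ centralizer (Y : Set G) := ⟨_, rfl⟩
  rw [← hA₀]
  have hA₀A : A₀ ≤ A := hA₀ ▸ inf_le_left
  have hA₀C : A₀ ≤ centralizer (Y : Set G) := hA₀ ▸ inf_le_right
  have hK : Cfsg.IsElementaryAbelian 2 (A₀ ⊔ Y : Subgroup G) :=
    elemAb_sup (elemAb_mono hA.2.1 hA₀A) hYel (fun a ha y hy => hA₀C ha y hy)
  have h1 := hA.2.2 (A₀ ⊔ Y) (sup_le (hA₀A.trans hA.1) hYS) hK
  have h2 : Nat.card A₀ * Nat.card Y ≤
      Nat.card ↥(A₀ ⊔ Y : Subgroup G) * Nat.card ↥(A₀ ⊓ Y) := by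
    haveI : IsMulCommutative ↥(A₀ ⊔ Y : Subgroup G) := hK.1
    letI : CommGroup ↥(A₀ ⊔ Y : Subgroup G) :=
      { (inferInstance : Group ↥(A₀ ⊔ Y : Subgroup G)) with mul_comm := fun a b => hK.1.is_comm.comm a b }
    rw [← Nat.card_congr (subgroupOfEquivOfLe (le_sup_left : A₀ ≤ A₀ ⊔ Y)).toEquiv,
      ← Nat.card_congr (subgroupOfEquivOfLe (le_sup_right : Y ≤ A₀ ⊔ Y)).toEquiv,
      ← RightClosed.card_sup_mul_card_inf]
    refine Nat.mul_le_mul (card_le_card_group _) (le_of_eq ?_)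
    rw [← Nat.card_congr (subgroupOfEquivOfLe (inf_le_left.trans le_sup_left : A₀ ⊓ Y ≤ A₀ ⊔ Y)).toEquiv]
    rfl
  rw [mul_comm]
  refine h2.trans (Nat.mul_le_mul h1 (card_le_of_le fun z hz => ⟨hz.2, fun a ha => ?_⟩))
  exact elemAb_comm hA.2.1 ha (hA₀A hz.1)

theorem thompson_le_centralizer {S Y : Subgroup G} (hY : NoOffOn S Y) (hYS : Y ≤ S)
    (hYel : Cfsg.IsElementaryAbelian 2 Y) :
    Cfsg.thompsonSubgroupOf 2 S ≤ centralizer (Y : Set G) := by
  rw [thompsonOf_eq]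
  exact sSup_le fun A hA => maxElem_le_centralizer hY hYS hYel hA

variable (hfree : ¬ Cfsg.Involves (Equiv.Perm (Fin 4)) G)

include hfree

/-- The absence of offenders passes to the normal closure. -/
theorem noOffOn_normalClosure (S : Sylow 2 G) {V Y : Subgroup G}
    (hYel : Cfsg.IsElementaryAbelian 2 Y) (hY : Y = Subgroup.normalClosure (V : Set G))
    (hSV : (S : Subgroup G) ≤ Subgroup.normalizer (V : Set G))
    (hV : NoOffOn (S : Subgroup G) V) : NoOffOn (S : Subgroup G) Y := by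
  haveI := Fact.mk Nat.prime_two
  haveI hYn : Y.Normal := hY ▸ normalClosure_normal
  have hVY : V ≤ Y := hY ▸ le_normalClosure
  haveI hYc : IsMulCommutative Y := hYel.1
  letI : CommGroup Y := { (inferInstance : Group Y) with mul_comm := fun a b => hYc.is_comm.comm a b }
  obtain ⟨ρ, hρdef⟩ : ∃ ρ : G →* MulAut Y, ρ = MulAut.conjNormal (H := Y) := ⟨_, rfl⟩
  have hρ : ∀ (g : G) (y : Y), ((ρ g y : Y) : G) = g * y * g⁻¹ := fun g y => by
    rw [hρdef]; exact MulAut.conjNormal_apply g y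
  have hmove : ∀ (g : G) (y : Y), ρ g y = y ↔ (y : G) * g = g * y := fun g y => by
    rw [Subtype.ext_iff, hρ, mul_inv_eq_iff_eq_mul, eq_comm]
  obtain ⟨U, hU⟩ : ∃ U, U = V.subgroupOf Y := ⟨_, rfl⟩
  have hmemU : ∀ y : Y, y ∈ U ↔ (y : G) ∈ V := fun y => by rw [hU, mem_subgroupOf]
  have hkerle : ∀ W : Subgroup Y, ρ.ker ≤ (kerOn W).comap ρ := fun W g hg => by
    show ρ g ∈ kerOn W
    rw [MonoidHom.mem_ker.1 hg]; exact one_mem _
  have hcardker : ∀ (R : Subgroup G) (W : Subgroup Y),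
      Nat.card ↥(R ⊓ (kerOn W).comap ρ) =
        Nat.card ↥(R ⊓ ρ.ker) * Nat.card ↥(R.map ρ ⊓ kerOn W) := fun R W => by
    rw [RightClosed.card_eq_inf_ker_mul_map (R ⊓ (kerOn W).comap ρ) ρ]
    congr 1
    · refine congrArg (fun T : Subgroup G => Nat.card T) ?_
      rw [inf_assoc, inf_eq_right.2 (hkerle W)]
    · refine congrArg (fun T : Subgroup (MulAut Y) => Nat.card T) ?_
      ext z
      exact ⟨fun ⟨a, ha, e⟩ => e ▸ ⟨⟨a, ha.1, rfl⟩, ha.2⟩, fun ⟨⟨a, ha, e⟩, hz⟩ =>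
        ⟨a, ⟨ha, show ρ a ∈ kerOn W from e ▸ hz⟩, e⟩⟩
  have hUn : NoOffU ((S : Subgroup G).map ρ) U := by
    refine noOffU_of_elem (fun y => Subtype.ext (by rw [Subgroup.coe_mul, ← pow_two]; exact hYel.2 _ y.2))
      (S.2.map ρ) ?_ fun B hB hc hsq' hm hle => ?_
    · rintro _ ⟨s, hs, rfl⟩ u hu
      rw [hmemU, hρ]
      exact (mem_normalizer_iff.1 (hSV hs) _).1 ((hmemU u).1 hu)
    obtain ⟨R, hR⟩ : ∃ R, R = (S : Subgroup G) ⊓ B.comap ρ := ⟨_, rfl⟩
    have hRS : R ≤ (S : Subgroup G) := hR ▸ inf_le_left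
    have hRB : R.map ρ = B := le_antisymm
      (map_le_iff_le_comap.2 (hR ▸ inf_le_right)) fun b hb => by
        obtain ⟨s, hs, rfl⟩ := hB hb
        exact ⟨s, hR ▸ ⟨hs, hb⟩, rfl⟩
    have hfixU : ∀ r : G, ρ r ∈ kerOn U ↔ r ∈ centralizer (V : Set G) := fun r =>
      ⟨fun h v hv => (hmove r ⟨v, hVY hv⟩).1 (h _ ((hmemU _).2 hv)),
        fun h u hu => (hmove r u).2 (h _ ((hmemU u).1 hu))⟩
    have hc' : ∀ a ∈ R, ∀ b ∈ R, ∀ u ∈ U, ρ a (ρ b u) = ρ b (ρ a u) := fun a ha b hb u hu =>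
      hc _ (hRB ▸ mem_map_of_mem ρ ha) _ (hRB ▸ mem_map_of_mem ρ hb) u hu
    have hel : ElemAct V R := by
      refine ⟨commutator_le.2 fun a ha b hb => (hfixU _).1 fun u hu => ?_, fun a ha => ?_, ?_⟩
      · rw [commutatorElement_def, map_mul, map_mul, map_mul, MulAut.mul_apply, MulAut.mul_apply,
          MulAut.mul_apply]
        rw [hc' a⁻¹ (R.inv_mem ha) b⁻¹ (R.inv_mem hb) u hu, map_inv, map_inv, MulAut.apply_inv_self,
          MulAut.apply_inv_self]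
      · refine (hfixU _).1 fun u hu => ?_
        rw [pow_two, map_mul, MulAut.mul_apply]
        exact hsq' _ (hRB ▸ mem_map_of_mem ρ ha) u hu
      · intro hle'
        obtain ⟨b, hb, u, hu, hne⟩ := hm
        obtain ⟨r, hr, rfl⟩ := hRB.ge hb
        exact hne ((hfixU r).2 (hle' hr) u hu)
    refine (hV R hRS hel).not_ge ?_
    have hker : Nat.card ↥(R ⊓ centralizer (V : Set G)) =
        Nat.card ↥(R ⊓ ρ.ker) * Nat.card ↥(B ⊓ kerOn U) := by
      rw [← hRB, ← hcardker]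
      refine congrArg (fun T : Subgroup G => Nat.card T) ?_
      ext r
      exact and_congr_right fun _ => (hfixU r).symm
    have hcR : Nat.card R = Nat.card ↥(R ⊓ ρ.ker) * Nat.card B := by
      rw [RightClosed.card_eq_inf_ker_mul_map R ρ, hRB]
    have hfix : Nat.card ↥(U ⊓ fixOf B) ≤ Nat.card ↥(V ⊓ centralizer (R : Set G)) :=
      Nat.card_le_card_of_injective (fun u => ⟨((u : Y) : G), (hmemU _).1 u.2.1, fun r hr =>
        ((hmove r u).1 (u.2.2 _ (hRB ▸ mem_map_of_mem ρ hr))).symm⟩)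
        fun a b e => Subtype.ext (Subtype.ext (congrArg Subtype.val e :))
    have hcU : Nat.card U = Nat.card V := hU ▸ Nat.card_congr (subgroupOfEquivOfLe hVY).toEquiv
    calc Nat.card V * Nat.card ↥(R ⊓ centralizer (V : Set G))
        = Nat.card ↥(R ⊓ ρ.ker) * (Nat.card U * Nat.card ↥(B ⊓ kerOn U)) := by rw [hker, hcU]; ring
      _ ≤ Nat.card ↥(R ⊓ ρ.ker) * (Nat.card B * Nat.card ↥(U ⊓ fixOf B)) := Nat.mul_le_mul_left _ hle
      _ ≤ _ := by rw [hcR, ← mul_assoc]; exact Nat.mul_le_mul_left _ hfix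
  have hidx : ¬ 2 ∣ ((S : Subgroup G).map ρ).relIndex ρ.range := by
    intro h
    have h1 : (S : Subgroup G).map ρ.rangeRestrict = ((S : Subgroup G).map ρ).subgroupOf ρ.range := by
      ext m
      exact ⟨fun ⟨a, ha, he⟩ => ⟨a, ha, congrArg Subtype.val he⟩,
        fun ⟨a, ha, he⟩ => ⟨a, ha, Subtype.ext he⟩⟩
    rw [Subgroup.relIndex, ← h1] at h
    exact S.not_dvd_index (h.trans (index_map_dvd _ ρ.rangeRestrict_surjective))
  have hall := noOffU_clU (Nat.card ρ.range) Y ρ.range ((S : Subgroup G).map ρ) U le_rfl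
    (fun y => Subtype.ext (by rw [Subgroup.coe_mul, ← pow_two]; exact hYel.2 _ y.2))
    (hρdef ▸ noThree_conjNormal hfree Y) (map_le_range _ _) (S.2.map ρ) hidx hUn
  obtain ⟨T, hT⟩ : ∃ T, T = clU ρ.range U := ⟨_, rfl⟩
  rw [← hT] at hall
  have htop : T = ⊤ := by
    have hn : (T.map Y.subtype).Normal := ⟨fun z hz g => by
      obtain ⟨y, hy, rfl⟩ := hz
      exact ⟨ρ g y, by rw [hT] at hy ⊢; exact clU_inv (MonoidHom.mem_range.2 ⟨g, rfl⟩) hy, hρ g y⟩⟩
    have hle : Y ≤ T.map Y.subtype := by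
      conv_lhs => rw [hY]
      exact normalClosure_le_normal fun v hv => ⟨⟨v, hVY hv⟩, hT ▸ le_clU ((hmemU _).2 hv), rfl⟩
    refine top_le_iff.1 fun y _ => ?_
    obtain ⟨y', hy', e⟩ := hle y.2
    exact Subtype.ext e ▸ hy'
  subst htop
  intro R hR hel
  by_contra hle
  rw [not_lt] at hle
  have hfixT : ∀ r : G, ρ r ∈ kerOn (⊤ : Subgroup Y) ↔ r ∈ centralizer (Y : Set G) := fun r =>
    ⟨fun h v hv => (hmove r ⟨v, hv⟩).1 (h _ (mem_top _)), fun h u _ => (hmove r u).2 (h _ u.2)⟩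
  refine hall (R.map ρ) (map_mono hR) ?_ ?_ ?_
  · rintro _ ⟨a, ha, rfl⟩ _ ⟨b, hb, rfl⟩ u -
    have h1 := (hfixT _).2 (hel.1 (commutator_mem_commutator (R.inv_mem ha) (R.inv_mem hb))) u (mem_top u)
    rw [commutatorElement_def, inv_inv, inv_inv, map_mul, map_mul, map_mul, MulAut.mul_apply,
      MulAut.mul_apply, MulAut.mul_apply, map_inv, map_inv] at h1
    calc ρ a (ρ b u) = ρ b (ρ a ((ρ a)⁻¹ ((ρ b)⁻¹ (ρ a (ρ b u))))) := by
          rw [MulAut.apply_inv_self, MulAut.apply_inv_self]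
      _ = ρ b (ρ a u) := by rw [h1]
  · by_contra! hh
    exact hel.2.2 fun r hr => (hfixT r).1 fun u _ => hh _ (mem_map_of_mem ρ hr) u (mem_top u)
  · have hker : Nat.card ↥(R ⊓ centralizer (Y : Set G)) =
        Nat.card ↥(R ⊓ ρ.ker) * Nat.card ↥(R.map ρ ⊓ kerOn (⊤ : Subgroup Y)) := by
      rw [← hcardker]
      refine congrArg (fun T : Subgroup G => Nat.card T) ?_
      ext r
      exact and_congr_right fun _ => (hfixT r).symm
    have hcR : Nat.card R = Nat.card ↥(R ⊓ ρ.ker) * Nat.card (R.map ρ) :=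
      RightClosed.card_eq_inf_ker_mul_map R ρ
    have hfix : Nat.card ↥(Y ⊓ centralizer (R : Set G)) ≤
        Nat.card ↥((⊤ : Subgroup Y) ⊓ fixOf (R.map ρ)) :=
      Nat.card_le_card_of_injective (fun y => ⟨⟨(y : G), y.2.1⟩, mem_top _, by
        rintro _ ⟨r, hr, rfl⟩; exact (hmove r _).2 (y.2.2 r hr).symm⟩)
        fun a b e => Subtype.ext (congrArg (fun w : ↥((⊤ : Subgroup Y) ⊓ fixOf (R.map ρ)) =>
          ((w : Y) : G)) e :)
    refine Nat.le_of_mul_le_mul_left ?_ (Nat.card_pos (α := ↥(R ⊓ ρ.ker)))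
    rw [card_top]
    calc Nat.card ↥(R ⊓ ρ.ker) * (Nat.card Y * Nat.card ↥(R.map ρ ⊓ kerOn (⊤ : Subgroup Y)))
        = Nat.card Y * Nat.card ↥(R ⊓ centralizer (Y : Set G)) := by rw [hker]; ring
      _ ≤ Nat.card R * Nat.card ↥(Y ⊓ centralizer (R : Set G)) := hle
      _ ≤ Nat.card R * Nat.card ↥((⊤ : Subgroup Y) ⊓ fixOf (R.map ρ)) := Nat.mul_le_mul_left _ hfix
      _ = _ := by rw [hcR]; ring

end CfsgLib.PLocal.SFourW
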