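import Cfsg.Agent.Lib.PLocal.SylFixBase

/-!
# The fixed point ratio of a Sylow subgroup is at most `(p - 1) / (2p - 1)`

In a group generated by its Sylow `p`-subgroups the slack of every invariant set is non-negative. The
induction carries along: if the slack plus `p` times the size of a set `T` of points is at most
`p (p - 1)`, some Sylow subgroup fixes `T` pointwise. For a tight primitive configuration this would
put a Sylow subgroup into the pointwise stabiliser of a cycle of length `p`.
-/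

set_option autoImplicit false

namespace CfsgLib.PLocal.SylFix

open Subgroup
open scoped Pointwise

universe u

variable {p : ℕ} [Fact p.Prime] {G Ω : Type u} [Group G] [Finite G] [MulAction G Ω]

variable (p) in
/-- Non-negativity for groups of order at most `N`. -/
def NonnegUpTo (N : ℕ) : Prop :=
  ∀ (H : Type u) [Group H] [Finite H], Nat.card H ≤ N → IsGen p H →
    ∀ (Δ : Type u) [MulAction H Δ] (P : Sylow p H) (s : Finset Δ), Invariant H s → 0 ≤ slack P s

omit [Fact p.Prime] [Finite G] in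
theorem isGen_fixGen (a : Ω) : IsGen p (fixGen p G a) := by
  refine Subgroup.map_injective (fixGen p G a).subtype_injective (le_antisymm ?_ ?_)
  · exact Subgroup.map_mono le_top
  · rw [← MonoidHom.range_eq_map, Subgroup.range_subtype, Subgroup.map_iSup]
    refine iSup₂_le fun Q hQ => le_iSup_of_le (Q.subtype (le_fixGen hQ)) ?_
    intro x hx
    exact ⟨⟨x, le_fixGen hQ hx⟩, hx, rfl⟩

omit [Fact p.Prime] in
theorem card_fixGen_lt {a : Ω} (ha : ¬ ∀ g : G, g • a = a) :
    Nat.card (fixGen p G a) < Nat.card G := by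
  refine lt_of_le_of_ne (Subgroup.card_le_card_group _) fun e => ha fun g => ?_
  have := Subgroup.eq_top_of_card_eq _ e
  exact fixGen_le (p := p) a (this ▸ mem_top g)

/-- Passing to the subgroup generated by the Sylow subgroups fixing `a`. -/
theorem slack_fixGen {s : Finset Ω} {a : Ω} (ha : a ∈ s) (hmv : ∀ b ∈ s, ¬ ∀ g : G, g • b = b)
    (hmax : ∀ b ∈ s, fixSet p G a ⊆ fixSet p G b → b = a) {P : Sylow p G} (hP : P ∈ fixSet p G a) :
    slack (P.subtype (le_fixGen hP)) s = slack P s + p := by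
  classical
  have hkey : ∀ b ∈ s, weight (P.subtype (le_fixGen hP)) b = weight P b + if b = a then (p : ℤ) else 0 := by
    intro b hb
    have hPiff : (∀ g ∈ ((P.subtype (le_fixGen hP) : Sylow p (fixGen p G a)) : Subgroup (fixGen p G a)),
        g • b = b) ↔ ∀ g ∈ (P : Subgroup G), g • b = b :=
      ⟨fun h g hg => h ⟨g, le_fixGen hP hg⟩ hg, fun h g hg => h g hg⟩
    by_cases hba : b = a
    · subst hba
      rw [if_pos rfl, weight_top (fun g : fixGen p G b => (fixGen_le (p := p) (G := G) b g.2 : (g : G) • b = b)), weight_fixed (hmv b hb) hP,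
        neg_add_cancel]
    · rw [if_neg hba, add_zero]
      have hK : ¬ ∀ g : fixGen p G a, g • b = b := fun h =>
        hba (hmax b hb fun Q hQ g hg => h ⟨g, le_fixGen hQ hg⟩)
      by_cases h2 : ∀ g ∈ (P : Subgroup G), g • b = b
      · rw [weight_fixed hK (hPiff.2 h2), weight_fixed (hmv b hb) h2]
      · rw [weight_moved (fun e => h2 (hPiff.1 e)), weight_moved h2]
  rw [slack, slack, Finset.sum_congr rfl hkey, Finset.sum_add_distrib, Finset.sum_ite_eq', if_pos ha]

omit [Fact p.Prime] [Finite G] in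
theorem invariant_fixGen {s : Finset Ω} (hs : Invariant G s) (a : Ω) :
    Invariant (fixGen p G a) s := fun g b hb => hs g b hb

theorem invariant_image [DecidableEq (Set (Sylow p G))] {s : Finset Ω} (hs : Invariant G s) :
    Invariant G (s.image (fixSet p G)) := fun g B hB => by
  obtain ⟨b, hb, rfl⟩ := Finset.mem_image.1 hB
  rw [smul_fixSet]
  exact Finset.mem_image_of_mem _ (hs g b hb)

theorem card_fibre_smul [DecidableEq (Set (Sylow p G))] {s : Finset Ω} (hs : Invariant G s) (g : G)
    (B : Set (Sylow p G)) :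
    (s.filter fun b => fixSet p G b = g • B).card = (s.filter fun b => fixSet p G b = B).card := by
  refine Finset.card_nbij' (fun b => g⁻¹ • b) (fun b => g • b) (fun b hb => ?_) (fun b hb => ?_)
    (fun b _ => smul_inv_smul g b) (fun b _ => inv_smul_smul g b)
  · simp only [Finset.coe_filter, Set.mem_ofPred_eq] at hb ⊢
    exact ⟨hs _ b hb.1, by rw [← smul_fixSet, hb.2, inv_smul_smul]⟩
  · simp only [Finset.coe_filter, Set.mem_ofPred_eq] at hb ⊢
    exact ⟨hs _ b hb.1, by rw [← smul_fixSet, hb.2]⟩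

theorem slack_image_le [DecidableEq (Set (Sylow p G))] {N : ℕ} (hA : NonnegUpTo.{u} p N)
    (hN : Nat.card G ≤ N) (hG : IsGen p G) (P : Sylow p G) {s : Finset Ω} (hs : Invariant G s)
    (hne : ∀ b ∈ s, (fixSet p G b).Nonempty) : slack P (s.image (fixSet p G)) ≤ slack P s := by
  have e1 : slack P s = ∑ B ∈ s.image (fixSet p G),
      ((s.filter fun b => fixSet p G b = B).card : ℤ) * weight P B := by
    rw [slack, Finset.sum_congr rfl fun b hb => (weight_fixSet hG P (hne b hb)).symm,
      Finset.sum_comp (weight P) (fixSet p G)]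
    exact Finset.sum_congr rfl fun B _ => nsmul_eq_mul _ _
  rw [← sub_nonneg, e1, slack, ← Finset.sum_sub_distrib]
  refine sum_nonneg_of_orbits (invariant_image hs) fun B hB => ?_
  have hc : ∀ C ∈ orbitFin G B, ((s.filter fun b => fixSet p G b = C).card : ℤ) =
      ((s.filter fun b => fixSet p G b = B).card : ℤ) := fun C hC => by
    obtain ⟨g, rfl⟩ := mem_orbitFin.1 hC
    rw [card_fibre_smul hs]
  have h1 : 0 ≤ slack P (orbitFin G B) := hA G hN hG _ P _ (invariant_orbitFin B)
  have h2 : (1 : ℤ) ≤ ((s.filter fun b => fixSet p G b = B).card : ℤ) := by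
    obtain ⟨b, hb, hbB⟩ := Finset.mem_image.1 hB
    exact_mod_cast Finset.card_pos.2 ⟨b, Finset.mem_filter.2 ⟨hb, hbB⟩⟩
  rw [Finset.sum_congr rfl fun C hC => by rw [hc C hC, ← sub_one_mul], ← Finset.mul_sum]
  exact mul_nonneg (sub_nonneg.2 h2) h1

/-- Few points have a common Sylow subgroup. -/
theorem exists_common {N : ℕ} (hA : NonnegUpTo.{u} p N) :
    ∀ (m : ℕ) {G Ω : Type u} [Group G] [Finite G] [MulAction G Ω], Nat.card G ≤ N → IsGen p G →
      ∀ (P : Sylow p G) (s T : Finset Ω), Invariant G s → T ⊆ s → T.card ≤ m →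
        slack P s + (p : ℤ) * T.card ≤ (p : ℤ) * ((p : ℤ) - 1) →
        ∃ Q : Sylow p G, ∀ t ∈ T, Q ∈ fixSet p G t := by
  classical
  intro m
  induction m with
  | zero =>
    intro G Ω _ _ _ _ _ P s T _ _ hT _
    exact ⟨P, fun t ht => absurd ht (by rw [Finset.card_eq_zero.1 (Nat.le_zero.1 hT)]; simp)⟩
  | succ m ih =>
    intro G Ω _ _ _ hN hG P s T hs hTs hT hsum
    by_cases hTe : T = ∅
    · exact ⟨P, fun t ht => absurd ht (by simp [hTe])⟩
    have hp : (0 : ℤ) < p := by exact_mod_cast (Fact.out : p.Prime).pos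
    by_cases hfx : ∃ t ∈ T, ∀ g : G, g • t = t
    · obtain ⟨t, ht, htf⟩ := hfx
      have hc := Finset.card_erase_add_one ht
      obtain ⟨Q, hQ⟩ := ih hN hG P s (T.erase t) hs ((Finset.erase_subset _ _).trans hTs) (by omega)
        (le_trans (by gcongr; exact Finset.erase_subset _ _) hsum)
      refine ⟨Q, fun u hu => ?_⟩
      by_cases hut : u = t
      · subst hut; exact fun g _ => htf g
      · exact hQ u (Finset.mem_erase.2 ⟨hut, hu⟩)
    push Not at hfx
    set s₁ := s.filter fun b => ∃ t ∈ T, ∃ g : G, g • t = b with hs₁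
    have hs₁inv : Invariant G s₁ := fun g b hb => by
      rw [hs₁, Finset.mem_filter] at hb ⊢
      obtain ⟨hb, t, ht, x, rfl⟩ := hb
      exact ⟨hs g _ hb, t, ht, g * x, mul_smul g x t⟩
    have hTs₁ : T ⊆ s₁ := fun t ht => Finset.mem_filter.2 ⟨hTs ht, t, ht, 1, one_smul G t⟩
    have hle : slack P s₁ ≤ slack P s := by
      rw [slack, slack, ← Finset.sum_sdiff (s₁ := s₁) (s₂ := s) (Finset.filter_subset _ _)]
      exact le_add_of_nonneg_left (hA G hN hG Ω P _ (invariant_sdiff hs hs₁inv))
    have hmv : ∀ b ∈ s₁, ∃ g : G, g • b ≠ b := fun b hb => by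
      obtain ⟨-, t, ht, x, rfl⟩ := Finset.mem_filter.1 hb
      obtain ⟨g, hg⟩ := hfx t ht
      refine ⟨x * g * x⁻¹, fun e => hg ?_⟩
      rw [mul_smul, inv_smul_smul, mul_smul] at e
      exact smul_left_cancel x e
    have hT1 : (1 : ℤ) ≤ T.card := by
      exact_mod_cast Finset.card_pos.2 (Finset.nonempty_iff_ne_empty.2 hTe)
    have hne : ∀ b ∈ s₁, (fixSet p G b).Nonempty := fun b hb => by
      by_contra hcon
      have h1 := le_slack_of_no_fixed (b := b) P fun c hc e =>
        hcon (fixSet_nonempty_of_orbit P hc e)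
      have h2 : slack P (orbitFin G b) ≤ slack P s₁ := by
        rw [slack, slack, ← Finset.sum_sdiff (orbitFin_subset hs₁inv hb)]
        exact le_add_of_nonneg_left
          (hA G hN hG Ω P _ (invariant_sdiff hs₁inv (invariant_orbitFin b)))
      nlinarith
    -- the reduced set
    set s₂ := s₁.image (fixSet p G) with hs₂
    set T₂ := T.image (fixSet p G) with hT₂
    suffices ∃ Q : Sylow p G, ∀ B ∈ T₂, Q ∈ fixSet p G B by
      obtain ⟨Q, hQ⟩ := this
      refine ⟨Q, fun t ht => ?_⟩
      have := hQ _ (Finset.mem_image_of_mem _ ht)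
      rwa [fixSet_fixSet (hne t (hTs₁ ht))] at this
    have hs₂inv : Invariant G s₂ := invariant_image hs₁inv
    have hmv₂ : ∀ B ∈ s₂, ¬ ∀ g : G, g • B = B := fun B hB e => by
      obtain ⟨b, hb, rfl⟩ := Finset.mem_image.1 hB
      obtain ⟨g, hg⟩ := hmv b hb
      exact hg ((top_fixSet_iff hG (hne b hb)).1 e g)
    have hinj : ∀ B ∈ s₂, fixSet p G B = B := fun B hB => by
      obtain ⟨b, hb, rfl⟩ := Finset.mem_image.1 hB
      exact fixSet_fixSet (hne b hb)
    have hT₂c : T₂.card ≤ T.card := Finset.card_image_le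
    have hsum₂ : slack P s₂ + (p : ℤ) * T₂.card ≤ (p : ℤ) * ((p : ℤ) - 1) := by
      refine le_trans (add_le_add ((slack_image_le hA hN hG P hs₁inv hne).trans hle) ?_) hsum
      gcongr
    obtain ⟨A, hA₂, hAmax⟩ := T₂.exists_max_image Set.ncard
      ((Finset.nonempty_iff_ne_empty.2 hTe).image _)
    have hA₁ : A ∈ s₂ := Finset.image_subset_image hTs₁ hA₂
    have hmax : ∀ B ∈ s₂, fixSet p G A ⊆ fixSet p G B → B = A := fun B hB hsub => by
      rw [hinj A hA₁, hinj B hB] at hsub
      refine (Set.eq_of_subset_of_ncard_le hsub ?_).symm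
      obtain ⟨b, hb, rfl⟩ := Finset.mem_image.1 hB
      obtain ⟨-, t, ht, x, rfl⟩ := Finset.mem_filter.1 hb
      rw [fixSet_ncard_smul]
      exact hAmax _ (Finset.mem_image_of_mem _ ht)
    obtain ⟨P', hP'⟩ : (fixSet p G A).Nonempty := by
      rw [hinj A hA₁]
      obtain ⟨b, hb, rfl⟩ := Finset.mem_image.1 hA₁
      exact hne b hb
    have e := slack_fixGen hA₁ hmv₂ hmax hP'
    rw [slack_eq hs₂inv P P'] at e
    have hcard := card_fixGen_lt (p := p) (hmv₂ A hA₁)
    have hc := Finset.card_erase_add_one hA₂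
    obtain ⟨Q, hQ⟩ := ih (hcard.le.trans hN) (isGen_fixGen A) (P'.subtype (le_fixGen hP')) s₂
      (T₂.erase A) (invariant_fixGen hs₂inv A) ((Finset.erase_subset _ _).trans
        (Finset.image_subset_image hTs₁)) (by omega) (by
        rw [e]
        have : (T₂.card : ℤ) = ((T₂.erase A).card : ℤ) + 1 := by exact_mod_cast hc.symm
        rw [this] at hsum₂
        linarith)
    obtain ⟨k, hk⟩ := MulAction.exists_smul_eq (fixGen p G A) (P'.subtype (le_fixGen hP')) Q
    refine ⟨(k : G) • P', fun B hB g hg => ?_⟩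
    rw [mem_smul_iff] at hg
    have hgK : g ∈ fixGen p G A := by
      have h1 := mul_mem (mul_mem k.2 (le_fixGen hP' hg)) (inv_mem k.2)
      simpa [mul_assoc] using h1
    by_cases hBA : B = A
    · subst hBA; exact fixGen_le (p := p) B hgK
    · refine hQ B (Finset.mem_erase.2 ⟨hBA, hB⟩) ⟨g, hgK⟩ ?_
      rw [← hk, mem_smul_iff]
      exact hg

/-- A transitive, injective, moved orbit has non-negative slack. -/
theorem slack_orbit_nonneg {N : ℕ} (hA : NonnegUpTo.{u} p N) (hN : Nat.card G ≤ N + 1)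
    (hG : IsGen p G) {a : Ω} {P : Sylow p G} (hP : P ∈ fixSet p G a)
    (hmv : ¬ ∀ g : G, g • a = a)
    (hinj : ∀ b ∈ orbitFin G a, fixSet p G b = fixSet p G a → b = a) :
    0 ≤ slack P (orbitFin G a) := by
  classical
  set O := orbitFin G a with hO
  have hOinv : Invariant G O := invariant_orbitFin a
  have hmvO : ∀ b ∈ O, ¬ ∀ g : G, g • b = b := fun b hb e => hmv fun g => by
    obtain ⟨x, rfl⟩ := mem_orbitFin.1 hb
    have := e (x * g * x⁻¹)
    rw [mul_smul, inv_smul_smul, mul_smul] at this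
    exact smul_left_cancel x this
  have hmax : ∀ b ∈ O, fixSet p G a ⊆ fixSet p G b → b = a := fun b hb hsub => hinj b hb (by
    refine (Set.eq_of_subset_of_ncard_le hsub ?_).symm
    obtain ⟨x, rfl⟩ := mem_orbitFin.1 hb
    rw [fixSet_ncard_smul])
  have e := slack_fixGen (self_mem_orbitFin a) hmvO hmax hP
  have hcard : Nat.card (fixGen p G a) ≤ N := by
    have := card_fixGen_lt (p := p) hmv; omega
  have h0 : 0 ≤ slack (P.subtype (le_fixGen hP)) O :=
    hA _ hcard (isGen_fixGen a) _ _ _ (invariant_fixGen hOinv a)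
  by_contra hneg
  have h1 : slack (P.subtype (le_fixGen hP)) O = 0 := by
    obtain ⟨c, hc⟩ := dvd_slack hOinv P
    have hp : (0 : ℤ) < p := by exact_mod_cast (Fact.out : p.Prime).pos
    rw [not_le, hc] at hneg
    rw [e, hc] at h0 ⊢
    have : c = -1 := by
      have h2 : c < 0 := by nlinarith
      have h3 : -1 ≤ c := by nlinarith
      omega
    rw [this]; ring
  -- a cycle of length `p` through `a`
  obtain ⟨Q₀, y, hy, hya⟩ : ∃ Q : Sylow p G, ∃ g ∈ (Q : Subgroup G), g • a ≠ a := by
    by_contra hcon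
    push Not at hcon
    exact hmv (forall_fixes_of_sylow hG hcon)
  obtain ⟨k₀, hk₀⟩ : ∃ k, y ^ p ^ k = 1 := by
    obtain ⟨k, hk⟩ := Q₀.2 ⟨y, hy⟩
    exact ⟨k, by simpa using congrArg Subtype.val hk⟩
  have hex : ∃ k, y ^ p ^ k • a = a := ⟨k₀, by rw [hk₀, one_smul]⟩
  obtain ⟨k, hk⟩ : ∃ k, Nat.find hex = k + 1 := by
    refine ⟨Nat.find hex - 1, ?_⟩
    have : Nat.find hex ≠ 0 := fun h => hya (by have := Nat.find_spec hex; rwa [h, pow_zero, pow_one] at this)
    omega
  set x := y ^ p ^ k with hx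
  have hxa : x • a ≠ a := Nat.find_min hex (by omega)
  have hxp : x ^ p • a = a := by
    rw [hx, ← pow_mul, ← pow_succ, ← hk]
    exact Nat.find_spec hex
  have hper : ∀ i : ℕ, x ^ (i + p) • a = x ^ i • a := fun i => by rw [pow_add, mul_smul, hxp]
  have hmod : ∀ i : ℕ, x ^ i • a = x ^ (i % p) • a := fun i => by
    induction i using Nat.strong_induction_on with
    | _ i ih =>
    by_cases hi : i < p
    · rw [Nat.mod_eq_of_lt hi]
    · have hlt : i - p < i := by have := (Fact.out : p.Prime).pos; omega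
      have e1 : i = i - p + p := by omega
      conv_lhs => rw [e1, hper, ih _ hlt]
      conv_rhs => rw [e1, Nat.add_mod_right]
  set T := (Finset.Ico 1 p).image fun i : ℕ => x ^ i • a with hT
  have hTO : T ⊆ O := fun t ht => by
    obtain ⟨i, -, rfl⟩ := Finset.mem_image.1 ht
    exact mem_orbitFin.2 ⟨_, rfl⟩
  have hTc : (T.card : ℤ) ≤ (p : ℤ) - 1 := by
    have h2 : T.card ≤ p - 1 := Finset.card_image_le.trans (by simp)
    have h3 := (Fact.out : p.Prime).pos
    omega
  obtain ⟨Q, hQ⟩ := exists_common hA T.card hcard (isGen_fixGen a) (P.subtype (le_fixGen hP)) O T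
    (invariant_fixGen hOinv a) hTO le_rfl (by
      rw [h1, zero_add]; exact mul_le_mul_of_nonneg_left hTc (by positivity))
  obtain ⟨g, hg⟩ := MulAction.exists_smul_eq (fixGen p G a) (P.subtype (le_fixGen hP)) Q
  let Q' : Sylow p G := (g : G) • P
  let L : Subgroup G := ⨅ i : ℕ, MulAction.stabilizer G (x ^ i • a)
  have hQL : (Q' : Subgroup G) ≤ L := fun z hz => mem_iInf.2 fun i => by
    rw [mem_smul_iff] at hz
    have hzK : z ∈ fixGen p G a := by
      have h1 := mul_mem (mul_mem g.2 (le_fixGen hP hz)) (inv_mem g.2)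
      simpa [mul_assoc] using h1
    rw [MulAction.mem_stabilizer_iff, hmod i]
    rcases Nat.eq_zero_or_pos (i % p) with h2 | h2
    · rw [h2, pow_zero, one_smul]; exact fixGen_le (p := p) a hzK
    · refine hQ _ (Finset.mem_image_of_mem _ (Finset.mem_Ico.2
        ⟨h2, Nat.mod_lt _ (Fact.out : p.Prime).pos⟩)) ⟨z, hzK⟩ ?_
      rw [← hg, mem_smul_iff]
      exact hz
  have hnorm : x ∈ normalizer (L : Set G) := by
    refine mem_normalizer_of_conj_le fun z hz => mem_iInf.2 fun i => ?_
    rw [MulAction.mem_stabilizer_iff, mul_smul, mul_smul]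
    have e1 : x⁻¹ • x ^ i • a = x ^ (i + (p - 1)) • a := by
      rw [inv_smul_eq_iff, ← mul_smul, ← pow_succ',
        show i + (p - 1) + 1 = i + p by have := (Fact.out : p.Prime).pos; omega, hper]
    rw [e1, MulAction.mem_stabilizer_iff.1 (mem_iInf.1 hz (i + (p - 1))), ← e1, smul_inv_smul]
  have hxL := mem_of_normalizer hQL ⟨k₀, by rw [hx, ← pow_mul, mul_comm, pow_mul, hk₀, one_pow]⟩ hnorm
  have := mem_iInf.1 hxL 0
  rw [MulAction.mem_stabilizer_iff, pow_zero, one_smul] at this
  exact hxa this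

theorem nonnegUpTo (N : ℕ) : NonnegUpTo.{u} p N := by
  classical
  induction N with
  | zero => intro H _ _ h; exact absurd h (by simp [Nat.card_pos.ne'])
  | succ N ih =>
    intro H _ _ hN hG Δ _ P s hs
    refine sum_nonneg_of_orbits hs fun b _ => ?_
    show 0 ≤ slack P (orbitFin H b)
    have hp : (2 : ℤ) ≤ p := by exact_mod_cast (Fact.out : p.Prime).two_le
    by_cases hfix : ∀ c ∈ orbitFin H b, ¬ ∀ g ∈ (P : Subgroup H), g • c = c
    · exact le_trans (by nlinarith) (le_slack_of_no_fixed P hfix)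
    push Not at hfix
    obtain ⟨a, haO, hPa⟩ := hfix
    by_cases hmv : ∀ g : H, g • b = b
    · refine Finset.sum_nonneg fun c hc => le_of_eq (weight_top ?_).symm
      obtain ⟨x, rfl⟩ := mem_orbitFin.1 hc
      rw [hmv x]; exact hmv
    have hOinv : Invariant H (orbitFin H b) := invariant_orbitFin b
    have hne : ∀ c ∈ orbitFin H b, (fixSet p H c).Nonempty := fun c hc => by
      refine fixSet_nonempty_of_orbit P (c := a) ?_ hPa
      obtain ⟨x, rfl⟩ := mem_orbitFin.1 hc
      obtain ⟨z, rfl⟩ := mem_orbitFin.1 haO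
      exact mem_orbitFin.2 ⟨z * x⁻¹, by rw [mul_smul, inv_smul_smul]⟩
    set B := fixSet p H a with hB
    have himg : (orbitFin H b).image (fixSet p H) = orbitFin H B := by
      ext C
      simp only [Finset.mem_image, mem_orbitFin]
      obtain ⟨z, rfl⟩ := mem_orbitFin.1 haO
      constructor
      · rintro ⟨_, ⟨x, rfl⟩, rfl⟩
        exact ⟨x * z⁻¹, by rw [hB, smul_fixSet, mul_smul, inv_smul_smul]⟩
      · rintro ⟨x, rfl⟩
        exact ⟨x • z • b, ⟨x * z, mul_smul x z b⟩, by rw [hB, smul_fixSet]⟩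
    have e1 : slack P (orbitFin H b) =
        (((orbitFin H b).filter fun c => fixSet p H c = B).card : ℤ) * slack P (orbitFin H B) := by
      rw [slack, Finset.sum_congr rfl fun c hc => (weight_fixSet hG P (hne c hc)).symm,
        Finset.sum_comp (weight P) (fixSet p H), himg, slack, Finset.mul_sum]
      refine Finset.sum_congr rfl fun C hC => ?_
      obtain ⟨x, rfl⟩ := mem_orbitFin.1 hC
      rw [nsmul_eq_mul, card_fibre_smul hOinv]
    rw [e1]
    refine mul_nonneg (by positivity) ?_
    have hBfix : fixSet p H B = B := fixSet_fixSet (hne a haO)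
    refine slack_orbit_nonneg ih hN hG (P := P) ?_ ?_ ?_
    · rw [hBfix]; exact hPa
    · intro e
      have h2 := (top_fixSet_iff hG (hne a haO)).1 e
      obtain ⟨z, rfl⟩ := mem_orbitFin.1 haO
      refine hmv fun g => ?_
      have := h2 (z * g * z⁻¹)
      rw [mul_smul, inv_smul_smul, mul_smul] at this
      exact smul_left_cancel z this
    · intro C hC e
      obtain ⟨x, rfl⟩ := mem_orbitFin.1 hC
      rw [← smul_fixSet, hBfix] at e
      exact e

/-- The slack of an invariant set is non-negative. -/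
theorem slack_nonneg (hG : IsGen p G) (P : Sylow p G) {s : Finset Ω} (hs : Invariant G s) :
    0 ≤ slack P s := nonnegUpTo _ G le_rfl hG Ω P s hs

/-- The bound on the number of fixed points. -/
theorem card_fixed_le [Finite Ω] (hG : IsGen p G) (hmv : ∀ b : Ω, ∃ g : G, g • b ≠ b)
    (P : Sylow p G) :
    (2 * p - 1) * Nat.card {b : Ω // ∀ g ∈ (P : Subgroup G), g • b = b} ≤ (p - 1) * Nat.card Ω := by
  classical
  have := Fintype.ofFinite Ω
  have h := slack_nonneg hG P (s := (Finset.univ : Finset Ω)) fun _ _ _ => Finset.mem_univ _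
  have hm : ∀ b : Ω, ¬ ∀ g : G, g • b = b := fun b e => by
    obtain ⟨g, hg⟩ := hmv b; exact hg (e g)
  rw [slack, ← Finset.sum_filter_add_sum_filter_not Finset.univ
    (fun b : Ω => ∀ g ∈ (P : Subgroup G), g • b = b),
    Finset.sum_congr rfl fun b hb => weight_fixed (hm b) (Finset.mem_filter.1 hb).2,
    Finset.sum_congr rfl fun b hb => weight_moved (Finset.mem_filter.1 hb).2,
    Finset.sum_const, Finset.sum_const, nsmul_eq_mul, nsmul_eq_mul] at h
  have hn := Finset.card_filter_add_card_filter_not (s := (Finset.univ : Finset Ω))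
    (fun b : Ω => ∀ g ∈ (P : Subgroup G), g • b = b)
  rw [Finset.card_univ] at hn
  rw [Nat.card_eq_fintype_card, Nat.card_eq_fintype_card, Fintype.card_subtype, ← hn]
  have hp : 1 ≤ p := (Fact.out : p.Prime).one_le
  zify [hp, show 1 ≤ 2 * p by omega]
  
  linarith

end CfsgLib.PLocal.SylFix
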