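import Mathlib

/-!
# Slack of a Sylow subgroup on a finite invariant set

For a group generated by its Sylow `p`-subgroups acting on a finite invariant set `s` and a Sylow
subgroup `P`, the slack is the sum over `s` of `-p` at points fixed by `P` but not by the group,
`p - 1` at points moved by `P`, and `0` at fixed points of the group. It is non-negative exactly when
`(2p - 1) f ≤ (p - 1) n` for the moved part.
-/

set_option autoImplicit false

namespace CfsgLib.PLocal.SylFix

open Subgroup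
open scoped Pointwise

universe u

variable {p : ℕ} {G Ω : Type u} [Group G] [MulAction G Ω]

open scoped Classical in
/-- The weight of a point. -/
noncomputable def weight (P : Sylow p G) (b : Ω) : ℤ :=
  if ∀ g : G, g • b = b then 0 else if ∀ g ∈ (P : Subgroup G), g • b = b then -(p : ℤ) else (p : ℤ) - 1

/-- The slack of an invariant set. -/
noncomputable def slack (P : Sylow p G) (s : Finset Ω) : ℤ := ∑ b ∈ s, weight P b

variable (p) in
/-- The Sylow subgroups generate. -/
def IsGen (G : Type u) [Group G] : Prop := ⨆ P : Sylow p G, (P : Subgroup G) = ⊤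

/-- Invariance of a finite set. -/
def Invariant (G : Type u) {Ω : Type u} [Group G] [MulAction G Ω] (s : Finset Ω) : Prop :=
  ∀ g : G, ∀ b ∈ s, g • b ∈ s

/-- The Sylow subgroups fixing a point. -/
def fixSet (p : ℕ) (G : Type u) {Ω : Type u} [Group G] [MulAction G Ω] (b : Ω) : Set (Sylow p G) :=
  {Q | ∀ g ∈ (Q : Subgroup G), g • b = b}

theorem mem_fixSet {b : Ω} {Q : Sylow p G} : Q ∈ fixSet p G b ↔ ∀ g ∈ (Q : Subgroup G), g • b = b :=
  Iff.rfl

theorem le_stabilizer_of_mem {b : Ω} {Q : Sylow p G} (h : Q ∈ fixSet p G b) :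
    (Q : Subgroup G) ≤ MulAction.stabilizer G b := fun g hg => h g hg

theorem mem_smul_iff {g x : G} {Q : Sylow p G} :
    x ∈ ((g • Q : Sylow p G) : Subgroup G) ↔ g⁻¹ * x * g ∈ (Q : Subgroup G) := by
  rw [Sylow.coe_subgroup_smul, ← SetLike.mem_coe, Subgroup.coe_pointwise_smul,
    Set.mem_smul_set_iff_inv_smul_mem]
  simp [MulAut.smul_def]
  exact Iff.rfl

variable [Fact p.Prime]

theorem weight_moved {P : Sylow p G} {b : Ω} (h : ¬ ∀ g ∈ (P : Subgroup G), g • b = b) :
    weight P b = (p : ℤ) - 1 := by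
  rw [weight, if_neg (fun e => h fun g _ => e g), if_neg h]

theorem weight_fixed {P : Sylow p G} {b : Ω} (h1 : ¬ ∀ g : G, g • b = b)
    (h : ∀ g ∈ (P : Subgroup G), g • b = b) : weight P b = -(p : ℤ) := by
  rw [weight, if_neg h1, if_pos h]

theorem weight_top {P : Sylow p G} {b : Ω} (h1 : ∀ g : G, g • b = b) : weight P b = 0 := by
  rw [weight, if_pos h1]

section
variable [Finite G]

theorem mem_normalizer_of_conj_le {L : Subgroup G} {x : G} (h : ∀ g ∈ L, x * g * x⁻¹ ∈ L) :
    x ∈ normalizer (L : Set G) := by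
  have e : L.map (MulAut.conj x).toMonoidHom = L := by
    refine eq_of_le_of_card_ge ?_ (by
      rw [card_map_of_injective (MulAut.conj x).injective])
    rintro _ ⟨g, hg, rfl⟩
    exact h g hg
  rw [mem_normalizer_iff]
  refine fun g => ⟨fun hg => h g hg, fun hg => ?_⟩
  rw [← e] at hg
  obtain ⟨g', hg', e'⟩ := hg
  have : g' = g := (MulAut.conj x).injective (by simpa using e')
  exact this ▸ hg'

/-- A `p`-element normalising a subgroup containing a Sylow `p`-subgroup lies in it. -/
theorem mem_of_normalizer {L : Subgroup G} {Q : Sylow p G} (hQ : (Q : Subgroup G) ≤ L) {x : G}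
    (hx : ∃ k : ℕ, x ^ p ^ k = 1) (hN : x ∈ normalizer (L : Set G)) : x ∈ L := by
  have hp : p.Prime := Fact.out
  set N := normalizer (L : Set G) with hNdef
  have hLN : L ≤ N := le_normalizer
  have hn : (L.subgroupOf N).Normal := normal_subgroupOf_of_le_normalizer le_rfl
  have hndvd : ¬ p ∣ (L.subgroupOf N).index := fun h => by
    have h1 : (L.subgroupOf N).index ∣ L.index := Dvd.intro _ (relIndex_mul_index hLN)
    have h2 : L.index ∣ (Q : Subgroup G).index := index_dvd_of_le hQ
    exact Q.not_dvd_index ((h.trans h1).trans h2)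
  obtain ⟨k, hk⟩ := hx
  set y : N := ⟨x, hN⟩
  have h1 : ((QuotientGroup.mk' (L.subgroupOf N)) y) ^ p ^ k = 1 := by
    rw [← map_pow]
    have : y ^ p ^ k = 1 := Subtype.ext (by simpa using hk)
    rw [this, map_one]
  have h2 : orderOf (QuotientGroup.mk' (L.subgroupOf N) y) = 1 := by
    have hd1 := orderOf_dvd_of_pow_eq_one h1
    have hd2 := orderOf_dvd_natCard (QuotientGroup.mk' (L.subgroupOf N) y)
    rw [← index_eq_card] at hd2
    exact Nat.eq_one_of_dvd_coprimes ((hp.coprime_iff_not_dvd.2 hndvd).pow_left k) hd1 hd2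
  rw [orderOf_eq_one_iff, ← MonoidHom.mem_ker, QuotientGroup.ker_mk', mem_subgroupOf] at h2
  exact h2

theorem smul_fixSet (g : G) (b : Ω) : g • fixSet p G b = fixSet p G (g • b) := by
  ext Q
  rw [Set.mem_smul_set_iff_inv_smul_mem]
  constructor
  · intro h x hx
    have := h (g⁻¹ * x * g) (by rw [mem_smul_iff]; simpa [mul_assoc] using hx)
    rw [mul_smul, mul_smul, inv_smul_eq_iff] at this
    exact this
  · intro h x hx
    rw [mem_smul_iff, inv_inv] at hx
    have := h _ hx
    rw [mul_smul, mul_smul, inv_smul_smul] at this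
    exact (smul_left_cancel g this)

theorem fixSet_ncard_smul (g : G) (b : Ω) : (fixSet p G (g • b)).ncard = (fixSet p G b).ncard := by
  rw [← smul_fixSet, Set.ncard_smul_set]

/-- The subgroup generated by the Sylow subgroups fixing a point. -/
def fixGen (p : ℕ) (G : Type u) {Ω : Type u} [Group G] [MulAction G Ω] (b : Ω) : Subgroup G :=
  ⨆ Q ∈ fixSet p G b, (Q : Subgroup G)

omit [Fact p.Prime] [Finite G] in
theorem fixGen_le (b : Ω) : fixGen p G b ≤ MulAction.stabilizer G b :=
  iSup₂_le fun _ hQ => le_stabilizer_of_mem hQ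

omit [Fact p.Prime] [Finite G] in
theorem le_fixGen {b : Ω} {Q : Sylow p G} (h : Q ∈ fixSet p G b) : (Q : Subgroup G) ≤ fixGen p G b :=
  le_iSup₂_of_le (f := fun Q (_ : Q ∈ fixSet p G b) => (Q : Subgroup G)) Q h le_rfl

/-- A Sylow subgroup fixing the set of Sylow subgroups fixing a point fixes the point. -/
theorem fixes_of_fixes_fixSet {b : Ω} (hne : (fixSet p G b).Nonempty) {P : Sylow p G}
    (h : ∀ g ∈ (P : Subgroup G), g • fixSet p G b = fixSet p G b) :
    ∀ g ∈ (P : Subgroup G), g • b = b := by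
  intro x hx
  obtain ⟨Q, hQ⟩ := hne
  refine fixGen_le (p := p) b (mem_of_normalizer (le_fixGen hQ) ?_ ?_)
  · obtain ⟨k, hk⟩ := P.2 ⟨x, hx⟩
    exact ⟨k, by simpa using congrArg Subtype.val hk⟩
  refine mem_normalizer_of_conj_le fun g hg => ?_
  suffices hle : fixGen p G b ≤ (fixGen p G b).comap (MulAut.conj x).toMonoidHom from hle hg
  refine iSup₂_le fun R hR y hy => ?_
  show x * y * x⁻¹ ∈ fixGen p G b
  have hxR : x • R ∈ fixSet p G b := by
    rw [← h x hx]; exact Set.smul_mem_smul_set hR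
  refine le_fixGen hxR ?_
  rw [mem_smul_iff]
  simpa [mul_assoc] using hy

theorem fixes_fixSet_iff {b : Ω} (hne : (fixSet p G b).Nonempty) {P : Sylow p G} :
    (∀ g ∈ (P : Subgroup G), g • fixSet p G b = fixSet p G b) ↔ ∀ g ∈ (P : Subgroup G), g • b = b :=
  ⟨fixes_of_fixes_fixSet hne, fun h g hg => by rw [smul_fixSet, h g hg]⟩

theorem fixSet_fixSet {b : Ω} (hne : (fixSet p G b).Nonempty) :
    fixSet p G (fixSet p G b) = fixSet p G b :=
  Set.ext fun _ => fixes_fixSet_iff hne

omit [Fact p.Prime] [Finite G] in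
theorem forall_fixes_of_sylow (hG : IsGen p G) {b : Ω}
    (h : ∀ P : Sylow p G, ∀ g ∈ (P : Subgroup G), g • b = b) : ∀ g : G, g • b = b := fun g => by
  have h1 : (⊤ : Subgroup G) ≤ MulAction.stabilizer G b := hG ▸ iSup_le fun P x hx => h P x hx
  exact h1 (mem_top g)

theorem top_fixSet_iff (hG : IsGen p G) {b : Ω} (hne : (fixSet p G b).Nonempty) :
    (∀ g : G, g • fixSet p G b = fixSet p G b) ↔ ∀ g : G, g • b = b :=
  ⟨fun h => forall_fixes_of_sylow hG fun _ => fixes_of_fixes_fixSet hne fun g _ => h g,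
    fun h g => by rw [smul_fixSet, h g]⟩

theorem weight_fixSet (hG : IsGen p G) (P : Sylow p G) {b : Ω} (hne : (fixSet p G b).Nonempty) :
    weight P (fixSet p G b) = weight P b := by
  by_cases h1 : ∀ g : G, g • b = b
  · rw [weight_top h1, weight_top ((top_fixSet_iff hG hne).2 h1)]
  · have h1' : ¬ ∀ g : G, g • fixSet p G b = fixSet p G b := fun e => h1 ((top_fixSet_iff hG hne).1 e)
    by_cases h2 : ∀ g ∈ (P : Subgroup G), g • b = b
    · rw [weight_fixed h1 h2, weight_fixed h1' ((fixes_fixSet_iff hne).2 h2)]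
    · rw [weight_moved h2, weight_moved fun e => h2 ((fixes_fixSet_iff hne).1 e)]

/-- The slack is divisible by `p`. -/
theorem dvd_slack {s : Finset Ω} (hs : Invariant G s) (P : Sylow p G) : (p : ℤ) ∣ slack P s := by
  classical
  set U := s.filter fun b => ¬ ∀ g ∈ (P : Subgroup G), g • b = b with hU
  let A : SubMulAction (P : Subgroup G) Ω :=
    { carrier := (U : Set Ω)
      smul_mem' := by
        rintro ⟨g, hg⟩ b hb
        rw [Finset.mem_coe, hU, Finset.mem_filter] at hb ⊢
        refine ⟨hs g b hb.1, fun e => hb.2 fun x hx => ?_⟩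
        have h1 : (g * x * g⁻¹ * g) • b = g • b := by
          rw [mul_smul]; exact e _ (mul_mem (mul_mem hg hx) (inv_mem hg))
        rw [inv_mul_cancel_right, mul_smul] at h1
        exact smul_left_cancel g h1 }
  have : Finite A := (U.finite_toSet.to_subtype : Finite (U : Set Ω))
  have h1 := P.2.card_modEq_card_fixedPoints A
  have h2 : Nat.card (MulAction.fixedPoints (P : Subgroup G) A) = 0 := by
    rw [Nat.card_eq_zero]
    refine Or.inl ⟨fun ⟨⟨b, hb⟩, hfix⟩ => (Finset.mem_filter.1 (hb : b ∈ U)).2 fun g hg => ?_⟩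
    exact congrArg Subtype.val (hfix ⟨g, hg⟩)
  have h3 : Nat.card A = U.card := Nat.card_eq_finsetCard U
  rw [h2, h3, Nat.modEq_zero_iff_dvd] at h1
  rw [slack, ← Finset.sum_filter_add_sum_filter_not s (fun b => ¬ ∀ g ∈ (P : Subgroup G), g • b = b)]
  refine dvd_add ?_ (Finset.dvd_sum fun b hb => ?_)
  · rw [Finset.sum_congr rfl fun b hb => weight_moved (Finset.mem_filter.1 hb).2, Finset.sum_const,
      nsmul_eq_mul, ← hU]
    exact (Int.natCast_dvd_natCast.2 h1).mul_right _
  · by_cases h : ∀ g : G, g • b = b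
    · rw [weight_top h]; exact dvd_zero _
    · rw [weight_fixed h (not_not.1 (Finset.mem_filter.1 hb).2)]; exact (dvd_refl _).neg_right

/-- The slack does not depend on the Sylow subgroup. -/
theorem slack_eq {s : Finset Ω} (hs : Invariant G s) (P P' : Sylow p G) : slack P' s = slack P s := by
  obtain ⟨g, rfl⟩ := MulAction.exists_smul_eq G P P'
  refine Finset.sum_nbij' (fun b => g⁻¹ • b) (fun b => g • b) (fun b hb => hs _ b hb)
    (fun b hb => hs _ b hb) (fun b _ => smul_inv_smul g b) (fun b _ => inv_smul_smul g b) fun b _ => ?_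
  have e1 : (∀ x : G, x • b = b) ↔ ∀ x : G, x • g⁻¹ • b = g⁻¹ • b :=
    ⟨fun h x => by rw [h g⁻¹, h x], fun h => by
      have e : b = g⁻¹ • b := by
        have := h g
        rwa [smul_inv_smul] at this
      intro x
      rw [e]; exact h x⟩
  have e2 : (∀ x ∈ ((g • P : Sylow p G) : Subgroup G), x • b = b) ↔
      ∀ x ∈ (P : Subgroup G), x • g⁻¹ • b = g⁻¹ • b := by
    constructor
    · intro h x hx
      have := h (g * x * g⁻¹) (by rw [mem_smul_iff]; simpa [mul_assoc] using hx)
      rw [mul_smul, mul_smul] at this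
      rw [eq_inv_smul_iff]; exact this
    · intro h x hx
      rw [mem_smul_iff] at hx
      have := h _ hx
      rw [mul_smul, mul_smul, smul_inv_smul] at this
      exact smul_left_cancel g⁻¹ this
  by_cases h1 : ∀ x : G, x • b = b
  · rw [weight_top h1, weight_top (e1.1 h1)]
  · have h1' : ¬ ∀ x : G, x • g⁻¹ • b = g⁻¹ • b := fun e => h1 (e1.2 e)
    by_cases h2 : ∀ x ∈ ((g • P : Sylow p G) : Subgroup G), x • b = b
    · rw [weight_fixed h1 h2, weight_fixed h1' (e2.1 h2)]
    · rw [weight_moved h2, weight_moved fun e => h2 (e2.2 e)]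

/-- The orbit as a finite set. -/
noncomputable def orbitFin (G : Type u) {Ω : Type u} [Group G] [Finite G] [MulAction G Ω] (b : Ω) :
    Finset Ω :=
  (Set.finite_range fun g : G => g • b).toFinset

omit [Fact p.Prime] in
theorem mem_orbitFin {b c : Ω} : c ∈ orbitFin G b ↔ ∃ g : G, g • b = c := by
  simp [orbitFin]

omit [Fact p.Prime] in
theorem self_mem_orbitFin (b : Ω) : b ∈ orbitFin G b := mem_orbitFin.2 ⟨1, one_smul G b⟩

omit [Fact p.Prime] in
theorem invariant_orbitFin (b : Ω) : Invariant G (orbitFin G b) := fun g c hc => by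
  obtain ⟨x, rfl⟩ := mem_orbitFin.1 hc
  exact mem_orbitFin.2 ⟨g * x, mul_smul g x b⟩

omit [Fact p.Prime] in
theorem orbitFin_subset {s : Finset Ω} (hs : Invariant G s) {b : Ω} (hb : b ∈ s) :
    orbitFin G b ⊆ s := fun c hc => by
  obtain ⟨x, rfl⟩ := mem_orbitFin.1 hc
  exact hs x b hb

omit [Fact p.Prime] [Finite G] in
theorem invariant_sdiff [DecidableEq Ω] {s t : Finset Ω} (hs : Invariant G s) (ht : Invariant G t) :
    Invariant G (s \ t) := fun g b hb => by
  rw [Finset.mem_sdiff] at hb ⊢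
  exact ⟨hs g b hb.1, fun h => hb.2 (by simpa using ht g⁻¹ _ h)⟩

omit [Fact p.Prime] in
/-- A sum is non-negative if it is so on every orbit. -/
theorem sum_nonneg_of_orbits {F : Ω → ℤ} {s : Finset Ω} (hs : Invariant G s)
    (h : ∀ b ∈ s, 0 ≤ ∑ c ∈ orbitFin G b, F c) : 0 ≤ ∑ c ∈ s, F c := by
  classical
  induction hn : s.card using Nat.strong_induction_on generalizing s with
  | _ n ih =>
  subst hn
  rcases s.eq_empty_or_nonempty with rfl | ⟨b, hb⟩
  · simp
  have hsub := orbitFin_subset hs hb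
  rw [← Finset.sum_sdiff hsub]
  refine add_nonneg ?_ (h b hb)
  refine ih _ ?_ (invariant_sdiff hs (invariant_orbitFin b))
    (fun c hc => h c (Finset.mem_sdiff.1 hc).1) rfl
  exact Finset.card_lt_card (Finset.sdiff_ssubset hsub ⟨b, self_mem_orbitFin b⟩)

/-- An orbit without points fixed by a Sylow subgroup has slack at least `p (p - 1)`. -/
theorem le_slack_of_no_fixed {b : Ω} (P : Sylow p G)
    (h : ∀ c ∈ orbitFin G b, ¬ ∀ g ∈ (P : Subgroup G), g • c = c) :
    (p : ℤ) * ((p : ℤ) - 1) ≤ slack P (orbitFin G b) := by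
  classical
  have hd := dvd_slack (invariant_orbitFin b) P
  have hsum : slack P (orbitFin G b) = ((orbitFin G b).card : ℤ) * ((p : ℤ) - 1) := by
    rw [slack, Finset.sum_congr rfl fun c hc => weight_moved (h c hc), Finset.sum_const, nsmul_eq_mul]
  rw [hsum] at hd ⊢
  have hp : p.Prime := Fact.out
  have h2 : (p : ℤ) ∣ ((orbitFin G b).card : ℤ) := by
    have := dvd_sub (hd) (Dvd.intro_left ((orbitFin G b).card : ℤ) rfl : (p : ℤ) ∣ ((orbitFin G b).card : ℤ) * p)
    rw [← mul_sub] at this
    simpa using this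
  have hpos : 0 < (orbitFin G b).card := Finset.card_pos.2 ⟨b, self_mem_orbitFin b⟩
  have h3 : (p : ℤ) ≤ (orbitFin G b).card := Int.le_of_dvd (by exact_mod_cast hpos) h2
  have h4 : (0 : ℤ) ≤ (p : ℤ) - 1 := by have := hp.one_lt; omega
  exact mul_le_mul_of_nonneg_right h3 h4

theorem fixSet_nonempty_of_orbit {b : Ω} (P : Sylow p G) {c : Ω} (hc : c ∈ orbitFin G b)
    (h : ∀ g ∈ (P : Subgroup G), g • c = c) : (fixSet p G b).Nonempty := by
  obtain ⟨x, rfl⟩ := mem_orbitFin.1 hc
  have h1 : P ∈ x • fixSet p G b := by rw [smul_fixSet]; exact h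
  exact ⟨x⁻¹ • P, Set.mem_smul_set_iff_inv_smul_mem.1 h1⟩

end

end CfsgLib.PLocal.SylFix
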