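import Cfsg.Agent.Lib.PLocal.SylFix

/-!
# Sylow numbers of subgroups and orbit numbers of Sylow subgroups
-/

set_option autoImplicit false

namespace CfsgLib.PLocal.SylFix

open Subgroup
open scoped Pointwise

universe u v

variable {p : ℕ} [Fact p.Prime] {G : Type u} [Group G] [Finite G]

omit [Finite G] in
theorem isGen_of_closure (h : Subgroup.closure {g : G | ∃ k : ℕ, orderOf g = p ^ k} = ⊤) :
    IsGen p G := by
  refine eq_top_iff.2 (h ▸ (closure_le _).2 fun g hg => ?_)
  obtain ⟨k, hk⟩ := hg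
  obtain ⟨P, hP⟩ := (IsPGroup.of_card (p := p) (n := k) ((Nat.card_zpowers g).trans hk)).exists_le_sylow
  exact le_iSup (fun P : Sylow p G => (P : Subgroup G)) P (hP (mem_zpowers g))

omit [Finite G] in
theorem normal_iSup_sylow : (⨆ P : Sylow p G, (P : Subgroup G)).Normal := by
  refine ⟨fun x hx g => ?_⟩
  have : (⨆ P : Sylow p G, (P : Subgroup G)).map (MulAut.conj g).toMonoidHom ≤
      ⨆ P : Sylow p G, (P : Subgroup G) := by
    rw [Subgroup.map_iSup]
    exact iSup_le fun P => le_iSup_of_le (g • P) (le_of_eq (by rw [Sylow.coe_subgroup_smul]; rfl))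
  exact this ⟨x, hx, rfl⟩

omit [Finite G] in
theorem isGen_iSup_sylow : IsGen p (⨆ P : Sylow p G, (P : Subgroup G) : Subgroup G) := by
  refine Subgroup.map_injective
    (⨆ P : Sylow p G, (P : Subgroup G) : Subgroup G).subtype_injective (le_antisymm ?_ ?_)
  · exact Subgroup.map_mono le_top
  · rw [← MonoidHom.range_eq_map, Subgroup.range_subtype, Subgroup.map_iSup]
    refine iSup_le fun Q => le_iSup_of_le (Q.subtype (le_iSup (fun P : Sylow p G => (P : Subgroup G)) Q)) ?_
    intro x hx
    exact ⟨⟨x, le_iSup (fun P : Sylow p G => (P : Subgroup G)) Q hx⟩, hx, rfl⟩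

/-- The Sylow number of a proper subgroup containing a Sylow subgroup. -/
theorem card_sylow_subgroup_le (hG : IsGen p G) {H : Subgroup G} (hH : H ≠ ⊤) {P : Sylow p G}
    (hP : (P : Subgroup G) ≤ H) :
    (2 * p - 1) * Nat.card (Sylow p H) ≤ (p - 1) * Nat.card (Sylow p G) := by
  classical
  set n := Nat.card (G ⧸ H)
  have hmv : ∀ b : G ⧸ H, ∃ g : G, g • b ≠ b := fun b => by
    by_contra hcon
    push Not at hcon
    refine hH (eq_top_iff.2 fun g _ => ?_)
    obtain ⟨x, rfl⟩ := QuotientGroup.mk_surjective b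
    have := hcon (x * g * x⁻¹)
    rw [MulAction.Quotient.smul_coe, QuotientGroup.eq, smul_eq_mul] at this
    simpa [mul_assoc] using inv_mem this
  have hb := card_fixed_le hG hmv P
  set f := Nat.card {b : G ⧸ H // ∀ g ∈ (P : Subgroup G), g • b = b} with hf
  -- double counting
  have e1 : Nat.card (Σ Q : Sylow p G, {b : G ⧸ H // ∀ g ∈ (Q : Subgroup G), g • b = b}) =
      Nat.card (Sylow p G) * f := by
    have := Fintype.ofFinite (Sylow p G)
    rw [Nat.card_sigma, Finset.sum_congr rfl (fun Q _ => ?_), Finset.sum_const, Finset.card_univ,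
      Nat.card_eq_fintype_card, smul_eq_mul]
    obtain ⟨g, rfl⟩ := MulAction.exists_smul_eq G P Q
    refine Nat.card_congr ((MulAction.toPerm g⁻¹).subtypeEquiv fun b => ?_)
    simp only [MulAction.toPerm_apply]
    constructor
    · intro h x hx
      have := h (g * x * g⁻¹) (by rw [mem_smul_iff]; simpa [mul_assoc] using hx)
      rw [mul_smul, mul_smul] at this
      rw [eq_inv_smul_iff]; exact this
    · intro h x hx
      rw [mem_smul_iff] at hx
      have := h _ hx
      rw [mul_smul, mul_smul, smul_inv_smul] at this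
      exact smul_left_cancel g⁻¹ this
  have e2 : Nat.card (Σ b : G ⧸ H, {Q : Sylow p G // ∀ g ∈ (Q : Subgroup G), g • b = b}) =
      n * Nat.card (Sylow p H) := by
    have := Fintype.ofFinite (G ⧸ H)
    rw [Nat.card_sigma, Finset.sum_congr rfl (fun b _ => ?_), Finset.sum_const, Finset.card_univ,
      ← Nat.card_eq_fintype_card, smul_eq_mul]
    obtain ⟨x, rfl⟩ := QuotientGroup.mk_surjective b
    have hiff : ∀ Q : Sylow p G, (∀ g ∈ (Q : Subgroup G), g • (x : G ⧸ H) = (x : G ⧸ H)) ↔
        ((x⁻¹ • Q : Sylow p G) : Subgroup G) ≤ H := fun Q => by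
      constructor
      · intro h z hz
        rw [mem_smul_iff, inv_inv] at hz
        have := h _ hz
        rw [MulAction.Quotient.smul_coe, QuotientGroup.eq, smul_eq_mul] at this
        simpa [mul_assoc] using inv_mem this
      · intro h g hg
        have h1 : x⁻¹ * g * x ∈ H := h (by rw [mem_smul_iff]; simpa [mul_assoc] using hg)
        rw [MulAction.Quotient.smul_coe, QuotientGroup.eq, smul_eq_mul]
        simpa [mul_assoc] using inv_mem h1
    refine (Nat.card_congr ((MulAction.toPerm x⁻¹).subtypeEquiv hiff)).trans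
      (Nat.card_congr (Equiv.ofBijective
        (fun Q : {Q : Sylow p G // (Q : Subgroup G) ≤ H} => Q.1.subtype Q.2) ⟨?_, ?_⟩))
    · exact fun Q R e => Subtype.ext (Sylow.subtype_injective e)
    · intro R
      obtain ⟨h, hh⟩ := MulAction.exists_smul_eq H (P.subtype hP) R
      exact ⟨⟨h • P, Sylow.smul_le hP h⟩, by rw [← hh, Sylow.smul_subtype]⟩
  have e3 : Nat.card (Σ b : G ⧸ H, {Q : Sylow p G // ∀ g ∈ (Q : Subgroup G), g • b = b}) =
      Nat.card (Σ Q : Sylow p G, {b : G ⧸ H // ∀ g ∈ (Q : Subgroup G), g • b = b}) :=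
    Nat.card_congr
      { toFun := fun z => ⟨z.2.1, z.1, z.2.2⟩
        invFun := fun z => ⟨z.2.1, z.1, z.2.2⟩
        left_inv := fun _ => rfl
        right_inv := fun _ => rfl }
  rw [e1, e2] at e3
  have hn : 0 < n := Nat.card_pos
  refine Nat.le_of_mul_le_mul_left ?_ hn
  calc n * ((2 * p - 1) * Nat.card (Sylow p H)) = (2 * p - 1) * f * Nat.card (Sylow p G) := by
        rw [mul_left_comm, e3]; ring
    _ ≤ (p - 1) * n * Nat.card (Sylow p G) := Nat.mul_le_mul_right _ hb
    _ = n * ((p - 1) * Nat.card (Sylow p G)) := by ring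

/-- A `p`-group has at most `(n + (p - 1) f) / p` orbits. -/
theorem mul_card_orbits_le {Ω : Type v} [Finite Ω] {Q : Type u} [Group Q] [Finite Q] [MulAction Q Ω]
    (hQ : IsPGroup p Q) :
    p * Nat.card (MulAction.orbitRel.Quotient Q Ω) ≤
      Nat.card Ω + (p - 1) * Nat.card (MulAction.fixedPoints Q Ω) := by
  classical
  have := Fintype.ofFinite Ω
  have := Fintype.ofFinite (MulAction.orbitRel.Quotient Q Ω)
  set q : Ω → MulAction.orbitRel.Quotient Q Ω := Quotient.mk _
  have hq : ∀ a b : Ω, q b = q a ↔ b ∈ MulAction.orbit Q a := fun a b =>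
    Quotient.eq''.trans MulAction.orbitRel_apply
  have hsum : Fintype.card Ω = ∑ o, (Finset.univ.filter fun b => q b = o).card :=
    Finset.card_eq_sum_card_fiberwise fun _ _ => Finset.mem_univ _
  have hfix : (Finset.univ.filter fun b : Ω => b ∈ MulAction.fixedPoints Q Ω).card =
      ∑ o, (Finset.univ.filter fun b : Ω => b ∈ MulAction.fixedPoints Q Ω ∧ q b = o).card := by
    rw [Finset.card_eq_sum_card_fiberwise (f := q) (t := Finset.univ) fun _ _ => Finset.mem_univ _]
    simp only [Finset.filter_filter]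
  rw [Nat.card_eq_fintype_card, Nat.card_eq_fintype_card, Nat.card_eq_fintype_card,
    Fintype.card_subtype, hfix, hsum, Finset.mul_sum, ← Finset.sum_add_distrib, ← Finset.card_univ,
    Finset.card_eq_sum_ones, Finset.mul_sum]
  refine Finset.sum_le_sum fun o _ => ?_
  obtain ⟨a, ha⟩ := Quotient.exists_rep o
  subst ha
  show p * 1 ≤ (Finset.univ.filter fun b => q b = q a).card +
    (p - 1) * (Finset.univ.filter fun b => b ∈ MulAction.fixedPoints Q Ω ∧ q b = q a).card
  rw [mul_one]
  have hp := (Fact.out : p.Prime).pos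
  obtain ⟨k, hk⟩ := hQ.card_orbit a
  have hc : (Finset.univ.filter fun b => q b = q a).card = p ^ k := by
    rw [← hk, Nat.card_eq_fintype_card, ← Set.toFinset_card]
    exact congrArg Finset.card (Finset.ext fun b => by simp [hq])
  rcases k.eq_zero_or_pos with hk0 | hk0
  · have hmem : a ∈ Finset.univ.filter fun b => b ∈ MulAction.fixedPoints Q Ω ∧ q b = q a := by
      refine Finset.mem_filter.2 ⟨Finset.mem_univ _, fun g => ?_, rfl⟩
      rw [hk0, pow_zero] at hc
      obtain ⟨c, hc'⟩ := Finset.card_eq_one.1 hc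
      have h1 : ∀ b, q b = q a → b = c := fun b hb =>
        Finset.mem_singleton.1 (hc' ▸ Finset.mem_filter.2 ⟨Finset.mem_univ _, hb⟩)
      rw [h1 _ ((hq a _).2 (MulAction.mem_orbit a g)), ← h1 a rfl]
    have h2 := Finset.card_pos.2 ⟨a, hmem⟩
    have h3 : p - 1 ≤ (p - 1) * (Finset.univ.filter fun b => b ∈ MulAction.fixedPoints Q Ω ∧ q b = q a).card :=
      Nat.le_mul_of_pos_right _ h2
    rw [hc, hk0, pow_zero]
    omega
  · rw [hc]
    exact le_add_right (Nat.le_self_pow hk0.ne' p)

/-- The orbits of a Sylow subgroup in a transitive group. -/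
theorem card_orbits_le {Ω : Type v} [Finite Ω] [MulAction G Ω] [FaithfulSMul G Ω]
    (htrans : MulAction.IsPretransitive G Ω) (hpG : p ∣ Nat.card G) (P : Sylow p G) :
    (2 * p - 1) * Nat.card (MulAction.orbitRel.Quotient ↥(P : Subgroup G) Ω) ≤ p * Nat.card Ω := by
  classical
  have hp := (Fact.out : p.Prime)
  rcases isEmpty_or_nonempty Ω with hΩ | ⟨⟨a₀⟩⟩
  · rw [Nat.card_of_isEmpty (α := MulAction.orbitRel.Quotient ↥(P : Subgroup G) Ω), mul_zero]
    exact Nat.zero_le _
  set K : Subgroup G := ⨆ P : Sylow p G, (P : Subgroup G) with hK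
  have hPK : (P : Subgroup G) ≤ K := le_iSup (fun P : Sylow p G => (P : Subgroup G)) P
  have hKn : K.Normal := normal_iSup_sylow
  let e : Ω ≃ G ⧸ MulAction.stabilizer G a₀ :=
    ((Equiv.Set.univ Ω).symm.trans (Equiv.setCongr (MulAction.orbit_eq_univ G a₀).symm)).trans
      (MulAction.orbitEquivQuotientStabilizer G a₀)
  have he : ∀ (g : G) (y : G ⧸ MulAction.stabilizer G a₀), e.symm (g • y) = g • e.symm y := fun g y => by
    obtain ⟨x, rfl⟩ := QuotientGroup.mk_surjective y
    exact mul_smul g x a₀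
  have he' : ∀ (g : G) (b : Ω), e (g • b) = g • e b := fun g b => by
    apply e.symm.injective
    rw [he, Equiv.symm_apply_apply, Equiv.symm_apply_apply]
  -- `K` moves every point
  have hmv : ∀ b : G ⧸ MulAction.stabilizer G a₀, ∃ g : K, g • b ≠ b := fun b => by
    by_contra hcon
    push Not at hcon
    refine P.ne_bot_of_dvd_card hpG (eq_bot_iff.2 fun x hx => ?_)
    rw [mem_bot]
    refine eq_of_smul_eq_smul fun c : Ω => ?_
    rw [one_smul]
    obtain ⟨z, hz⟩ := MulAction.exists_smul_eq G (e.symm b) c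
    have h1 := hcon ⟨z⁻¹ * x * z, by simpa using hKn.conj_mem x (hPK hx) z⁻¹⟩
    have h2 := congrArg e.symm h1
    rw [show ∀ w : K, w • b = (w : G) • b from fun _ => rfl, he, mul_smul, mul_smul,
      inv_smul_eq_iff, hz] at h2
    exact h2
  have hb := card_fixed_le (isGen_iSup_sylow (p := p) (G := G)) hmv (P.subtype hPK)
  have ho := mul_card_orbits_le (Ω := Ω) (p := p) P.2
  have hf : Nat.card (MulAction.fixedPoints ↥(P : Subgroup G) Ω) =
      Nat.card {b : G ⧸ MulAction.stabilizer G a₀ //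
        ∀ g ∈ ((P.subtype hPK : Sylow p K) : Subgroup K), g • b = b} := by
    refine Nat.card_congr (e.subtypeEquiv fun b => ?_)
    constructor
    · intro h g hg
      show (g : G) • e b = e b
      rw [← he']
      exact congrArg e (h ⟨(g : G), hg⟩)
    · intro h g
      apply e.injective
      rw [show g • b = (g : G) • b from rfl, he']
      exact h ⟨(g : G), hPK g.2⟩ g.2
  rw [← hf, ← Nat.card_congr e] at hb
  set o := Nat.card (MulAction.orbitRel.Quotient ↥(P : Subgroup G) Ω)
  set n := Nat.card Ω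
  set f := Nat.card (MulAction.fixedPoints ↥(P : Subgroup G) Ω)
  obtain ⟨r, rfl⟩ : ∃ r, p = r + 1 := ⟨p - 1, by have := hp.pos; omega⟩
  simp only [Nat.add_sub_cancel, show 2 * (r + 1) - 1 = 2 * r + 1 by omega] at hb ho ⊢
  refine Nat.le_of_mul_le_mul_left ?_ (Nat.succ_pos r)
  calc (r + 1) * ((2 * r + 1) * o) = (2 * r + 1) * ((r + 1) * o) := by ring
    _ ≤ (2 * r + 1) * (n + r * f) := Nat.mul_le_mul_left _ ho
    _ = (2 * r + 1) * n + r * ((2 * r + 1) * f) := by ring
    _ ≤ (2 * r + 1) * n + r * (r * n) := Nat.add_le_add_left (Nat.mul_le_mul_left _ hb) _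
    _ = (r + 1) * ((r + 1) * n) := by ring

end CfsgLib.PLocal.SylFix
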