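import Cfsg.Agent.Lib.PLocal.ConjFamily

/-!
# Alperin's fusion theorem with tame intersections
-/

namespace CfsgLib.PLocal

open Subgroup

variable {G : Type*} [Group G] {p : ℕ}

/-- `P ⊓ Q` is a tame intersection and `x` an allowed element of its normalizer. -/
def TameStep (P Q : Sylow p G) (x : G) : Prop :=
  x ∈ normalizer (((P : Subgroup G) ⊓ (Q : Subgroup G) : Subgroup G) : Set G) ∧
    ¬ p ∣ ((P : Subgroup G) ⊓ normalizer (((P : Subgroup G) ⊓ (Q : Subgroup G) : Subgroup G) : Set G)).relIndex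
      (normalizer (((P : Subgroup G) ⊓ (Q : Subgroup G) : Subgroup G) : Set G)) ∧
    ¬ p ∣ ((Q : Subgroup G) ⊓ normalizer (((P : Subgroup G) ⊓ (Q : Subgroup G) : Subgroup G) : Set G)).relIndex
      (normalizer (((P : Subgroup G) ⊓ (Q : Subgroup G) : Subgroup G) : Set G)) ∧
    ((Q : Subgroup G) = (P : Subgroup G) ∨ ∃ k : ℕ, orderOf x = p ^ k)

/-- A conjugation performed step by step inside normalizers of tame intersections with `P`. -/
inductive TChain (P : Sylow p G) : Set G → G → Prop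
  | nil (A : Set G) : TChain P A 1
  | step {A : Set G} {Q : Sylow p G} {x g : G} : TameStep P Q x →
      A ⊆ ((P : Subgroup G) ⊓ (Q : Subgroup G) : Subgroup G) → TChain P (rconj x A) g →
      TChain P A (x * g)

theorem TChain.single {P Q : Sylow p G} {A : Set G} {x : G} (h : TameStep P Q x)
    (hA : A ⊆ ((P : Subgroup G) ⊓ (Q : Subgroup G) : Subgroup G)) : TChain P A x := by
  simpa using TChain.step h hA (TChain.nil _)

theorem TChain.trans {P : Sylow p G} {A : Set G} {g g' : G} (h : TChain P A g)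
    (h' : TChain P (rconj g A) g') : TChain P A (g * g') := by
  induction h with
  | nil A => rw [one_mul]; rwa [rconj_one] at h'
  | step hx hA _ ih =>
    rw [mul_assoc]
    refine TChain.step hx hA (ih ?_)
    rwa [rconj_rconj]

theorem TChain.mono {P : Sylow p G} {A B : Set G} {g : G} (h : TChain P A g) (hB : B ⊆ A) :
    TChain P B g := by
  induction h generalizing B with
  | nil A => exact TChain.nil B
  | step hx hA _ ih => exact TChain.step hx (hB.trans hA) (ih (Set.image_mono hB))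

theorem TChain.exists_data {P : Sylow p G} {A : Set G} {g : G} (h : TChain P A g) :
    ∃ (n : ℕ) (Q : Fin n → Sylow p G) (x : Fin n → G), (List.ofFn x).prod = g ∧
      (∀ i, TameStep P (Q i) (x i)) ∧
      (∀ h : 0 < n, A ⊆ (((P : Subgroup G) ⊓ (Q ⟨0, h⟩ : Subgroup G) : Subgroup G) : Set G)) ∧
      ∀ (i : Fin n) (h : i.val + 1 < n),
        rconj ((List.ofFn x).take (i.val + 1)).prod A ⊆
          (((P : Subgroup G) ⊓ (Q ⟨i.val + 1, h⟩ : Subgroup G) : Subgroup G) : Set G) := by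
  induction h with
  | nil A =>
    exact ⟨0, Fin.elim0, Fin.elim0, by simp, fun i => i.elim0,
      fun h => absurd h (lt_irrefl 0), fun i => i.elim0⟩
  | @step A Q x g hx hA _ ih =>
    obtain ⟨n, U, y, hy, hn, h0, hs⟩ := ih
    refine ⟨n + 1, Fin.cons Q U, Fin.cons x y, by simp [List.ofFn_succ, hy], ?_, ?_, ?_⟩
    · exact fun i => Fin.cases (by simpa using hx) (fun j => by simpa using hn j) i
    · intro _
      simpa using hA
    · intro i hi
      have e : (List.ofFn (Fin.cons x y : Fin (n + 1) → G)).take (i.val + 1) =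
          x :: (List.ofFn y).take i.val := by simp [List.ofFn_succ]
      rw [e, List.prod_cons, ← rconj_rconj]
      have hi' : i.val < n := by omega
      have hT' : (Fin.cons Q U : Fin (n + 1) → Sylow p G) ⟨i.val + 1, hi⟩ = U ⟨i.val, hi'⟩ :=
        Fin.cons_succ (α := fun _ => Sylow p G) Q U ⟨i.val, hi'⟩
      rw [hT']
      rcases Nat.eq_zero_or_pos i.val with h | h
      · simp only [h, List.take_zero, List.prod_nil, rconj_one]
        exact h0 (by omega)
      · obtain ⟨j, hj⟩ : ∃ j, i.val = j + 1 := ⟨i.val - 1, by omega⟩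
        have hj' : j + 1 < n := by omega
        have := hs ⟨j, by omega⟩ hj'
        simpa [hj] using this

theorem rconj_coe (g : G) (H : Subgroup G) : rconj g (H : Set G) = (conjMap g⁻¹ H : Subgroup G) := by
  ext z
  constructor
  · rintro ⟨a, ha, rfl⟩; exact ⟨a, ha, by simp⟩
  · rintro ⟨a, ha, rfl⟩; exact ⟨a, ha, by simp⟩

variable [Finite G] [Fact p.Prime]

theorem exists_tchain_aux (P : Sylow p G) : ∀ n (R : Sylow p G),
    Nat.card (P : Subgroup G) - Nat.card ((P : Subgroup G) ⊓ (R : Subgroup G) : Subgroup G) = n →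
    ∃ g, TChain P (((P : Subgroup G) ⊓ (R : Subgroup G) : Subgroup G) : Set G) g ∧
      conjMap g⁻¹ (R : Subgroup G) = (P : Subgroup G) := by
  intro n
  induction n using Nat.strong_induction_on with
  | _ n ih =>
    intro R hn
    set P' : Subgroup G := (P : Subgroup G) with hP'
    set D := P' ⊓ (R : Subgroup G) with hD
    have hcPR : Nat.card (R : Subgroup G) = Nat.card P' := by
      obtain ⟨g, rfl⟩ := MulAction.exists_smul_eq G P R
      rw [Sylow.coe_subgroup_smul]
      exact card_conjMap g P'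
    rcases eq_or_lt_of_le (inf_le_left : D ≤ P') with hDP | hDP
    · refine ⟨1, TChain.nil _, ?_⟩
      rw [inv_one, conjMap_one]
      exact (Subgroup.eq_of_le_of_card_ge (hDP ▸ inf_le_right) hcPR.le).symm
    have hcont : ∀ (g : G) (R' : Sylow p G) (M : Subgroup G), TChain P (D : Set G) g →
        conjMap g⁻¹ (R : Subgroup G) = (R' : Subgroup G) → conjMap g⁻¹ D ≤ P' ⊓ (R' : Subgroup G) →
        M ≤ P' ⊓ (R' : Subgroup G) → Nat.card D < Nat.card M →
        ∃ h, TChain P (D : Set G) h ∧ conjMap h⁻¹ (R : Subgroup G) = P' := by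
      intro g R' M hg hR' hDle hM hlt
      have h2 := card_le_of_le hM
      have h3 : Nat.card (P' ⊓ (R' : Subgroup G) : Subgroup G) ≤ Nat.card P' := card_le_of_le inf_le_left
      obtain ⟨h, hh, hh'⟩ := ih _ (by omega) R' rfl
      refine ⟨g * h, hg.trans ?_, ?_⟩
      · rw [rconj_coe]; exact hh.mono hDle
      · rw [mul_inv_rev, ← conjMap_conjMap, hR', hh']
    have hPn : Nat.card D < Nat.card (P' ⊓ normalizer (D : Set G) : Subgroup G) :=
      card_lt_card_inf_normalizer P.2 hDP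
    -- make `N_P(D)` a Sylow subgroup of `N(D)`
    obtain ⟨V, hV, hVle⟩ := exists_sylowIn_le
      (P.2.to_le (inf_le_left : P' ⊓ normalizer (D : Set G) ≤ _)) inf_le_right
    obtain ⟨P₀, hP₀⟩ := hV.2.1.exists_le_sylow
    have hle₀ : P' ⊓ normalizer (D : Set G) ≤ P' ⊓ (P₀ : Subgroup G) :=
      le_inf inf_le_left (hVle.trans hP₀)
    have h2 := card_le_of_le hle₀
    have h3 : Nat.card (P' ⊓ (P₀ : Subgroup G) : Subgroup G) ≤ Nat.card P' := card_le_of_le inf_le_left
    obtain ⟨g₁, hg₁, hg₁'⟩ := ih _ (by omega) P₀ rfl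
    let R₁ : Sylow p G := g₁⁻¹ • R
    have hR₁ : (R₁ : Subgroup G) = conjMap g₁⁻¹ (R : Subgroup G) := Sylow.coe_subgroup_smul
    set D₁ := conjMap g₁⁻¹ D with hD₁
    have hDP₀ : D ≤ P' ⊓ (P₀ : Subgroup G) := (le_inf inf_le_left le_normalizer).trans hle₀
    have hD₁le : D₁ ≤ P' ⊓ (R₁ : Subgroup G) :=
      le_inf ((conjMap_mono (hDP₀.trans inf_le_right)).trans hg₁'.le)
        (hR₁ ▸ conjMap_mono inf_le_right)
    have hch₁ : TChain P (D : Set G) g₁ := hg₁.mono hDP₀
    have hV₁ : SylowIn p (P' ⊓ normalizer (D₁ : Set G)) (normalizer (D₁ : Set G)) := by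
      have h := hV.conj g₁⁻¹
      rw [conjMap_normalizer, ← hD₁] at h
      refine h.of_card_le (P.2.to_le inf_le_left) inf_le_right (card_le_of_le (le_inf ?_ h.1))
      exact (conjMap_mono hP₀).trans hg₁'.le
    by_cases hbig : Nat.card D < Nat.card (P' ⊓ (R₁ : Subgroup G) : Subgroup G)
    · exact hcont g₁ R₁ _ hch₁ hR₁.symm hD₁le le_rfl hbig
    have hD₁eq : P' ⊓ (R₁ : Subgroup G) = D₁ :=
      (Subgroup.eq_of_le_of_card_ge hD₁le (by rw [hD₁, card_conjMap]; exact not_lt.1 hbig)).symm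
    have hR₁lt : D₁ < (R₁ : Subgroup G) := by
      refine lt_of_le_of_ne (hD₁le.trans inf_le_right) fun he => ?_
      have h4 : Nat.card D < Nat.card P' :=
        lt_of_lt_of_le hPn (card_le_of_le inf_le_left)
      rw [← hcPR, ← card_conjMap g₁⁻¹ (R : Subgroup G), ← hR₁, ← he, hD₁, card_conjMap] at h4
      exact lt_irrefl _ h4
    set M₁ := (R₁ : Subgroup G) ⊓ normalizer (D₁ : Set G) with hM₁
    have hM₁c : Nat.card D < Nat.card M₁ := by
      have := card_lt_card_inf_normalizer R₁.2 hR₁lt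
      rwa [hD₁, card_conjMap, ← hD₁] at this
    obtain ⟨V₀, hV₀, hV₀le⟩ := exists_sylowIn_le
      (R₁.2.to_le (inf_le_left : M₁ ≤ _)) inf_le_right
    obtain ⟨Q₀, hQ₀⟩ := hV₀.2.1.exists_le_sylow
    have hD₁Q : D₁ ≤ P' ⊓ (Q₀ : Subgroup G) :=
      le_inf (hD₁le.trans inf_le_left) (((le_inf (hD₁le.trans inf_le_right) le_normalizer).trans hV₀le).trans hQ₀)
    by_cases hbigQ : Nat.card D < Nat.card (P' ⊓ (Q₀ : Subgroup G) : Subgroup G)
    · have h5 : Nat.card (P' ⊓ (Q₀ : Subgroup G) : Subgroup G) ≤ Nat.card P' := card_le_of_le inf_le_left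
      obtain ⟨g₂, hg₂, hg₂'⟩ := ih _ (by omega) Q₀ rfl
      let R₂ : Sylow p G := g₂⁻¹ • R₁
      have hR₂ : (R₂ : Subgroup G) = conjMap g₂⁻¹ (R₁ : Subgroup G) := Sylow.coe_subgroup_smul
      refine hcont (g₁ * g₂) R₂ (conjMap g₂⁻¹ M₁) (hch₁.trans ?_) ?_ ?_ ?_ (by rwa [card_conjMap])
      · rw [rconj_coe]; exact hg₂.mono hD₁Q
      · rw [hR₂, hR₁, conjMap_conjMap, mul_inv_rev]
      · rw [mul_inv_rev, ← conjMap_conjMap, ← hD₁]
        exact le_inf ((conjMap_mono (hD₁Q.trans inf_le_right)).trans hg₂'.le)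
          (hR₂ ▸ conjMap_mono (hD₁le.trans inf_le_right))
      · exact le_inf ((conjMap_mono (hV₀le.trans hQ₀)).trans hg₂'.le)
          (hR₂ ▸ conjMap_mono inf_le_left)
    · have hQeq : P' ⊓ (Q₀ : Subgroup G) = D₁ :=
        (Subgroup.eq_of_le_of_card_ge hD₁Q (by rw [hD₁, card_conjMap]; exact not_lt.1 hbigQ)).symm
      have hQsyl : ¬ p ∣ ((Q₀ : Subgroup G) ⊓ normalizer (D₁ : Set G)).relIndex (normalizer (D₁ : Set G)) :=
        (hV₀.of_card_le (Q₀.2.to_le inf_le_left) inf_le_right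
          (card_le_of_le (le_inf hQ₀ hV₀.1))).2.2
      set K := closure {x : G | x ∈ normalizer (D₁ : Set G) ∧ ∃ k : ℕ, orderOf x = p ^ k} with hK
      have hKle : K ≤ normalizer (D₁ : Set G) := (closure_le _).2 fun x hx => hx.1
      have hpK : ∀ H : Subgroup G, IsPGroup p H → H ≤ normalizer (D₁ : Set G) → H ≤ K := by
        intro H hH hHN x hx
        refine subset_closure ⟨hHN hx, ?_⟩
        obtain ⟨k, hk⟩ := hH ⟨x, hx⟩
        have hd : orderOf x ∣ p ^ k := orderOf_dvd_of_pow_eq_one (congrArg Subtype.val hk)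
        obtain ⟨j, -, hj⟩ := (Nat.dvd_prime_pow (Fact.out : p.Prime)).1 hd
        exact ⟨j, hj⟩
      have hSK : SylowIn p (P' ⊓ normalizer (D₁ : Set G)) K := by
        refine ⟨hpK _ hV₁.2.1 hV₁.1, hV₁.2.1, fun hd => hV₁.2.2 (hd.trans ?_)⟩
        rw [← relIndex_mul_relIndex _ _ _ (hpK _ hV₁.2.1 hV₁.1) hKle]
        exact Dvd.intro _ rfl
      obtain ⟨k, hk, hkM⟩ := hSK.exists_conj_le (R₁.2.to_le (inf_le_left : M₁ ≤ _))
        (hpK _ (R₁.2.to_le inf_le_left) inf_le_right)
      have hKch : ∀ x ∈ K, TChain P (D₁ : Set G) x ∧ TChain P (D₁ : Set G) x⁻¹ := by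
        intro x hx
        induction hx using closure_induction with
        | mem x hx =>
          obtain ⟨hxN, j, hj⟩ := hx
          constructor
          · refine TChain.single (Q := Q₀) ⟨?_, ?_, ?_, Or.inr ⟨j, hj⟩⟩ ?_ <;> rw [hQeq]
            · exact hxN
            · exact hV₁.2.2
            · exact hQsyl
          · refine TChain.single (Q := Q₀) ⟨?_, ?_, ?_, Or.inr ⟨j, by rw [orderOf_inv, hj]⟩⟩ ?_ <;>
              rw [hQeq]
            · exact inv_mem hxN
            · exact hV₁.2.2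
            · exact hQsyl
        | one => exact ⟨TChain.nil _, by rw [inv_one]; exact TChain.nil _⟩
        | mul a b ha hb iha ihb =>
          have fix : ∀ c ∈ K, rconj c (D₁ : Set G) = (D₁ : Set G) := fun c hc => by
            rw [rconj_coe, conjMap_eq_self_iff.2 (inv_mem (hKle hc))]
          refine ⟨iha.1.trans (by rw [fix a ha]; exact ihb.1), ?_⟩
          rw [mul_inv_rev]
          exact ihb.2.trans (by rw [fix _ (inv_mem hb)]; exact iha.2)
        | inv a _ iha => exact ⟨iha.2, by rw [inv_inv]; exact iha.1⟩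
      let R₂ : Sylow p G := k • R₁
      have hR₂ : (R₂ : Subgroup G) = conjMap k (R₁ : Subgroup G) := Sylow.coe_subgroup_smul
      refine hcont (g₁ * k⁻¹) R₂ (conjMap k M₁) (hch₁.trans ?_) ?_ ?_ ?_ (by rwa [card_conjMap])
      · rw [rconj_coe]; exact (hKch k hk).2
      · rw [hR₂, hR₁, conjMap_conjMap, mul_inv_rev, inv_inv]
      · rw [mul_inv_rev, inv_inv, ← conjMap_conjMap, ← hD₁]
        refine le_inf ?_ (hR₂ ▸ conjMap_mono (hD₁le.trans inf_le_right))
        rw [conjMap_eq_self_iff.2 (hKle hk)]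
        exact hD₁le.trans inf_le_left
      · exact le_inf (hkM.trans inf_le_left) (hR₂ ▸ conjMap_mono inf_le_left)

theorem exists_tchain (P : Sylow p G) (A : Set G) (g : G) (hA : A ⊆ (P : Subgroup G))
    (hAg : rconj g A ⊆ (P : Subgroup G)) : TChain P A g := by
  obtain ⟨h, hh, hh'⟩ := exists_tchain_aux P _ (g • P) rfl
  rw [Sylow.coe_subgroup_smul] at hh hh'
  change conjMap h⁻¹ (conjMap g (P : Subgroup G)) = (P : Subgroup G) at hh'
  rw [conjMap_conjMap, conjMap_eq_self_iff] at hh'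
  have hA' : A ⊆ ((P : Subgroup G) ⊓ conjMap g (P : Subgroup G) : Subgroup G) := fun a ha =>
    ⟨hA ha, mem_conjMap.2 (hAg ⟨a, ha, rfl⟩)⟩
  have h1 : TChain P A h := hh.mono hA'
  have hlast : TChain P (rconj h A) (h⁻¹ * g) := by
    refine TChain.single (Q := P) ⟨?_, ?_, ?_, Or.inl rfl⟩ ?_
    · rw [inf_idem]; exact hh'
    · rw [inf_idem, inf_eq_left.2 le_normalizer]
      exact fun hd => P.not_dvd_index (hd.trans (relIndex_dvd_index_of_le le_normalizer))
    · rw [inf_idem, inf_eq_left.2 le_normalizer]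
      exact fun hd => P.not_dvd_index (hd.trans (relIndex_dvd_index_of_le le_normalizer))
    · rw [inf_idem]
      rintro _ ⟨a, ha, rfl⟩
      have h3 := (mem_normalizer_iff.1 hh' _).1 (hAg ⟨a, ha, rfl⟩)
      show _ ∈ (P : Subgroup G)
      simpa [mul_assoc] using h3
  simpa using h1.trans hlast

end CfsgLib.PLocal
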