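import Cfsg.Agent.Lib.Trans3.Graph
import Cfsg.Agent.Lib.Trans3.Width

/-!
# The radical of a group of 3-transpositions

`π : G → S` has a 2-group kernel, `U π d` is generated by the elements `d (q d q⁻¹)`, `q ∈ ker π`.
If the centre is trivial and two non-commuting members of the image class together with the
members commuting with one of them generate `S`, then the subgroups `U π d` generate an elementary
abelian normal subgroup.
-/

set_option autoImplicit false
set_option linter.unusedSectionVars false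

namespace CfsgLib.PLocal.ThreeRad

open Subgroup CfsgLib.Trans3

variable {G S : Type*} [Group G] [Group S]

/-- The members of `E` commuting with `a` or with `b`. -/
def perpPair (E : Set S) (a b : S) : Set S := {y | y ∈ E ∧ (Commute a y ∨ Commute b y)}

/-- The hypotheses. -/
structure Setup (D : Set G) (π : G →* S) : Prop where
  cls : Cfsg.IsThreeTranspositionClass D
  surj : Function.Surjective π
  ker2 : IsPGroup 2 π.ker
  zc : center G = ⊥
  gen : ∀ a ∈ D, ∀ b ∈ D, ¬ Commute (π a) (π b) →
    closure (perpPair (π '' D) (π a) (π b)) = ⊤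

/-- The part of the radical belonging to `d`. -/
def U (π : G →* S) (d : G) : Subgroup G :=
  closure (Set.range fun q : π.ker => d * ((q : G) * d * (q : G)⁻¹))

theorem mem_U {π : G →* S} {d q : G} (hq : q ∈ π.ker) : d * (q * d * q⁻¹) ∈ U π d :=
  subset_closure ⟨⟨q, hq⟩, rfl⟩

theorem mem_U' {π : G →* S} {d q : G} (hd : d * d = 1) (hq : q ∈ π.ker) :
    d * q * d * q⁻¹ ∈ U π d := by
  have h := mem_U (π := π) (d := d) hq
  simpa [mul_assoc] using h

namespace Setup

variable {D : Set G} {π : G →* S} (h : Setup D π)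

include h

theorem sq {d : G} (hd : d ∈ D) : d * d = 1 := sq_one h.cls.1 hd

theorem inv {d : G} (hd : d ∈ D) : d⁻¹ = d := inv_eq h.cls.1 hd

theorem conj {d : G} (hd : d ∈ D) (g : G) : g * d * g⁻¹ ∈ D := class_conj_mem h.cls g hd

theorem image_conj {d q : G} (hq : q ∈ π.ker) : π (q * d * q⁻¹) = π d := by
  rw [map_mul, map_mul, map_inv, MonoidHom.mem_ker.1 hq, one_mul, inv_one, mul_one]

/-- Members with commuting images commute. -/
theorem comm {d e : G} (hd : d ∈ D) (he : e ∈ D) (hc : Commute (π d) (π e)) : Commute d e := by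
  by_contra hn
  have h3 := pow_three h.cls.1 hd he hn
  have h1 : π (d * e) = 1 := by
    have e2 : π (d * e) ^ 2 = 1 := by
      rw [map_mul, hc.mul_pow, pow_two, pow_two, ← map_mul, ← map_mul, h.sq hd, h.sq he, map_one,
        one_mul]
    have e3 : π (d * e) ^ 3 = 1 := by rw [← map_pow, h3, map_one]
    rwa [pow_succ, e2, one_mul] at e3
  obtain ⟨k, hk⟩ := h.ker2 ⟨d * e, MonoidHom.mem_ker.2 h1⟩
  have hk' : (d * e) ^ 2 ^ k = 1 := congrArg Subtype.val hk
  have hdvd := orderOf_dvd_of_pow_eq_one hk'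
  rw [orderOf_mul_noncomm h.cls.1 hd he hn] at hdvd
  exact absurd (Nat.prime_three.dvd_of_dvd_pow hdvd) (by norm_num)

theorem U_le_ker {d : G} (hd : d ∈ D) : U π d ≤ π.ker := by
  refine (closure_le _).2 ?_
  rintro _ ⟨q, rfl⟩
  rw [SetLike.mem_coe, MonoidHom.mem_ker, map_mul, h.image_conj q.2, ← map_mul, h.sq hd, map_one]

/-- A member centralises `U π d` when the images commute. -/
theorem commute_U {d e x : G} (hd : d ∈ D) (he : e ∈ D) (hc : Commute (π e) (π d))
    (hx : x ∈ U π d) : Commute e x := by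
  have hle : U π d ≤ centralizer {e} := by
    refine (closure_le _).2 ?_
    rintro _ ⟨q, rfl⟩
    rw [SetLike.mem_coe, mem_centralizer_singleton_iff]
    have h1 := h.comm he hd hc
    have h2 := h.comm he (h.conj hd q) (by rw [h.image_conj q.2]; exact hc)
    exact ((h1.mul_right h2).eq).symm
  exact (mem_centralizer_singleton_iff.1 (hle hx)).symm

/-- The subgroups of members with commuting images commute elementwise. -/
theorem commute_UU {d e x y : G} (hd : d ∈ D) (he : e ∈ D) (hc : Commute (π d) (π e))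
    (hx : x ∈ U π d) (hy : y ∈ U π e) : Commute x y := by
  have hle : U π d ≤ centralizer {y} := by
    refine (closure_le _).2 ?_
    rintro _ ⟨q, rfl⟩
    rw [SetLike.mem_coe, mem_centralizer_singleton_iff]
    have h1 := h.commute_U he hd hc hy
    have h2 := h.commute_U he (h.conj hd q) (by rw [h.image_conj q.2]; exact hc) hy
    exact (h1.mul_left h2).eq
  exact mem_centralizer_singleton_iff.1 (hle hx)

theorem U_sq {d x : G} (hd : d ∈ D) (hx : x ∈ U π d) : x * x = 1 := by
  induction hx using closure_induction with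
  | mem y hy =>
    obtain ⟨q, rfl⟩ := hy
    have hc : Commute d ((q : G) * d * (q : G)⁻¹) :=
      h.comm hd (h.conj hd q) (by rw [h.image_conj q.2])
    calc d * (↑q * d * (↑q)⁻¹) * (d * (↑q * d * (↑q)⁻¹))
        = d * (↑q * d * (↑q)⁻¹ * d) * (↑q * d * (↑q)⁻¹) := by group
      _ = (d * d) * ((↑q * d * (↑q)⁻¹) * (↑q * d * (↑q)⁻¹)) := by rw [← hc.eq]; group
      _ = 1 := by rw [h.sq hd, h.sq (h.conj hd q), one_mul]
  | one => exact one_mul 1
  | mul a b ha hb h1 h2 =>
    have hab := h.commute_UU hd hd (Commute.refl _) ha hb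
    calc a * b * (a * b) = a * (b * a) * b := by group
      _ = (a * a) * (b * b) := by rw [← hab.eq]; group
      _ = 1 := by rw [h1, h2, one_mul]
  | inv a _ h1 => rw [← mul_inv_rev, h1, inv_one]

theorem U_inv {d x : G} (hd : d ∈ D) (hx : x ∈ U π d) : x⁻¹ = x :=
  inv_eq_of_mul_eq_one_right (h.U_sq hd hx)

/-- The kernel normalises `U π d`. -/
theorem U_conj_ker {d x r : G} (hd : d ∈ D) (hr : r ∈ π.ker) (hx : x ∈ U π d) :
    r * x * r⁻¹ ∈ U π d := by
  have hle : U π d ≤ (U π d).comap (MulAut.conj r).toMonoidHom := by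
    refine (closure_le _).2 ?_
    rintro _ ⟨q, rfl⟩
    rw [SetLike.mem_coe, mem_comap, MulEquiv.coe_toMonoidHom, MulAut.conj_apply]
    have h1 := (U π d).inv_mem (mem_U (d := d) hr)
    have h2 := mem_U (d := d) (mul_mem hr q.2)
    convert (U π d).mul_mem h1 h2 using 1
    calc r * (d * (↑q * d * (↑q)⁻¹)) * r⁻¹
        = r * (d⁻¹ * (↑q * d * (↑q)⁻¹)) * r⁻¹ := by rw [h.inv hd]
      _ = (d * (r * d * r⁻¹))⁻¹ * (d * (r * ↑q * d * (r * ↑q)⁻¹)) := by group
  exact hle hx

/-- Conjugation carries `U π d` to `U π (g d g⁻¹)`. -/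
theorem U_conj {d x : G} (g : G) (hx : x ∈ U π d) : g * x * g⁻¹ ∈ U π (g * d * g⁻¹) := by
  have hle : U π d ≤ (U π (g * d * g⁻¹)).comap (MulAut.conj g).toMonoidHom := by
    refine (closure_le _).2 ?_
    rintro _ ⟨q, rfl⟩
    rw [SetLike.mem_coe, mem_comap, MulEquiv.coe_toMonoidHom, MulAut.conj_apply]
    have h1 := mem_U (π := π) (d := g * d * g⁻¹) (π.normal_ker.conj_mem _ q.2 g)
    convert h1 using 1
    group
  exact hle hx

/-- A set of members whose images generate, closed under the kernel, generates. -/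
theorem gen_top {E : Set S} (hE : closure E = ⊤) (hED : E ⊆ π '' D) :
    closure {t | t ∈ D ∧ π t ∈ E} = ⊤ := by
  set T := {t | t ∈ D ∧ π t ∈ E} with hT
  have hmap : (closure T).map π = ⊤ := by
    rw [eq_top_iff, ← hE, MonoidHom.map_closure]
    refine closure_mono fun y hy => ?_
    obtain ⟨t, ht, rfl⟩ := hED hy
    exact ⟨t, ⟨ht, hy⟩, rfl⟩
  have hker : π.ker ≤ normalizer (closure T : Set G) := by
    intro r hr
    rw [mem_normalizer_iff]
    have key : ∀ s ∈ π.ker, ∀ x ∈ closure T, s * x * s⁻¹ ∈ closure T := by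
      intro s hs x hx
      have hle : closure T ≤ (closure T).comap (MulAut.conj s).toMonoidHom := by
        refine (closure_le _).2 fun t ht => ?_
        rw [SetLike.mem_coe, mem_comap, MulEquiv.coe_toMonoidHom, MulAut.conj_apply]
        exact subset_closure ⟨h.conj ht.1 s, by rw [h.image_conj hs]; exact ht.2⟩
      exact hle hx
    refine fun x => ⟨key r hr x, fun hx => ?_⟩
    have := key r⁻¹ (inv_mem hr) _ hx
    simpa [mul_assoc] using this
  have hprod : ∀ g : G, ∃ k ∈ closure T, ∃ r ∈ π.ker, g = k * r := by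
    intro g
    obtain ⟨k, hk, hkg⟩ := (hmap ▸ mem_top (π g) : π g ∈ (closure T).map π)
    exact ⟨k, hk, k⁻¹ * g, by rw [MonoidHom.mem_ker, map_mul, map_inv, hkg, inv_mul_cancel],
      by group⟩
  have hnorm : ∀ g : G, g ∈ normalizer (closure T : Set G) := by
    intro g
    obtain ⟨k, hk, r, hr, rfl⟩ := hprod g
    exact mul_mem (le_normalizer hk) (hker hr)
  rw [eq_top_iff, ← h.cls.2.2, closure_le]
  obtain ⟨d₀, hd₀, -⟩ := h.cls.2.1
  intro d hd
  obtain ⟨t, ht, htE⟩ : ∃ t ∈ D, π t ∈ E := by
    by_contra hne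
    have hE0 : E = ∅ := Set.eq_empty_iff_forall_notMem.2 fun y hy => by
      obtain ⟨t, ht, rfl⟩ := hED hy
      exact hne ⟨t, ht, hy⟩
    rw [hE0, Subgroup.closure_empty] at hE
    have h1 : π d = 1 := mem_bot.1 (hE ▸ mem_top (π d))
    have hcen : d ∈ center G := by
      rw [← centralizer_univ, ← coe_top, ← h.cls.2.2, centralizer_closure]
      exact mem_centralizer_iff.2 fun x hx => (h.comm hd hx (by rw [h1]; exact Commute.one_left _)).eq.symm
    rw [h.zc, mem_bot] at hcen
    exact invol_ne_one (h.cls.1.1 d hd) hcen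
  obtain ⟨g, rfl⟩ := class_exists_conj h.cls ht hd
  exact ((mem_normalizer_iff.1 (hnorm g)) t).1 (subset_closure ⟨ht, htE⟩)

/-- The subgroups of two members with non-commuting images meet trivially. -/
theorem inter_eq_one {d e x : G} (hd : d ∈ D) (he : e ∈ D) (hn : ¬ Commute (π d) (π e))
    (hxd : x ∈ U π d) (hxe : x ∈ U π e) : x = 1 := by
  have htop := h.gen_top (h.gen d hd e he hn) (fun y hy => hy.1)
  have hcen : x ∈ center G := by
    rw [← centralizer_univ, ← coe_top, ← htop, centralizer_closure]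
    refine mem_centralizer_iff.2 fun t ht => ?_
    rcases ht.2.2 with hc | hc
    · exact (h.commute_U hd ht.1 hc.symm hxd).eq
    · exact (h.commute_U he ht.1 hc.symm hxe).eq
  rw [h.zc, mem_bot] at hcen
  exact hcen

/-- All the subgroups commute elementwise. -/
theorem commute_all {d e x y : G} (hd : d ∈ D) (he : e ∈ D) (hx : x ∈ U π d) (hy : y ∈ U π e) :
    Commute x y := by
  by_cases hc : Commute (π d) (π e)
  · exact h.commute_UU hd he hc hx hy
  have hz1 : x * y * x⁻¹ * y⁻¹ ∈ U π d := by
    have := h.U_conj_ker hd (h.U_le_ker he hy) (inv_mem hx)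
    simpa [mul_assoc] using mul_mem hx this
  have hz2 : x * y * x⁻¹ * y⁻¹ ∈ U π e :=
    mul_mem (h.U_conj_ker he (h.U_le_ker hd hx) hy) (inv_mem hy)
  have h1 := h.inter_eq_one hd he hc hz1 hz2
  exact mul_inv_eq_iff_eq_mul.1 (mul_inv_eq_one.1 h1)

/-- An element of `U π d` fixed by a member with non-commuting image is trivial. -/
theorem eq_one_of_fixed {d e x : G} (hd : d ∈ D) (he : e ∈ D) (hn : ¬ Commute (π d) (π e))
    (hx : x ∈ U π d) (hfix : Commute e x) : x = 1 := by
  have hx' : x ∈ U π (e * d * e⁻¹) := by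
    have := h.U_conj e hx
    rwa [hfix.eq, mul_inv_cancel_right] at this
  refine h.inter_eq_one hd (h.conj hd e) (fun hc => hn ?_) hx hx'
  rw [map_mul, map_mul, map_inv] at hc
  have hb : π e * π d * π e = π d * π e * π d := by
    rw [← map_mul, ← map_mul, ← map_mul, ← map_mul,
      braid h.cls.1 he hd fun hc' => hn ((hc'.symm).map π)]
  have hinv : (π e)⁻¹ = π e := by rw [← map_inv, h.inv he]
  have hdd : π d * π d = 1 := by rw [← map_mul, h.sq hd, map_one]
  rw [hinv, hb] at hc
  -- `d` commutes with `d e d`, hence with `e`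
  have h1 : π d * (π d * π e * π d) = π d * π e * π d * π d := hc.eq
  calc π d * π e = π d * π e * (π d * π d) := by rw [hdd, mul_one]
    _ = π d * π e * π d * π d := by group
    _ = π d * (π d * π e * π d) := h1.symm
    _ = (π d * π d) * (π e * π d) := by group
    _ = π e * π d := by rw [hdd, one_mul]

/-- The subgroup generated by all the `U π d`. -/
def rad (_h : Setup D π) : Subgroup G := closure (⋃ d ∈ D, (U π d : Set G))

theorem U_le_rad {d : G} (hd : d ∈ D) : U π d ≤ h.rad := fun _ hx =>
  subset_closure (Set.mem_biUnion hd hx)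

theorem rad_le_ker : h.rad ≤ π.ker :=
  (closure_le _).2 (Set.iUnion₂_subset fun _ hd => h.U_le_ker hd)

theorem rad_normal : h.rad.Normal := by
  refine ⟨fun x hx g => ?_⟩
  have hle : h.rad ≤ (h.rad).comap (MulAut.conj g).toMonoidHom := by
    refine (closure_le _).2 (Set.iUnion₂_subset fun d hd y hy => ?_)
    exact h.U_le_rad (h.conj hd g) (h.U_conj g hy)
  exact hle hx

theorem rad_commute {x y : G} (hx : x ∈ h.rad) (hy : y ∈ h.rad) : Commute x y := by
  refine commute_closure ?_ hx hy
  intro a ha b hb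
  simp only [Set.mem_iUnion] at ha hb
  obtain ⟨d, hd, ha⟩ := ha
  obtain ⟨e, he, hb⟩ := hb
  exact h.commute_all hd he ha hb

theorem rad_sq {x : G} (hx : x ∈ h.rad) : x * x = 1 := by
  induction hx using closure_induction with
  | mem y hy =>
    simp only [Set.mem_iUnion] at hy
    obtain ⟨d, hd, hy⟩ := hy
    exact h.U_sq hd hy
  | one => exact one_mul 1
  | mul a b ha hb h1 h2 =>
    calc a * b * (a * b) = a * (b * a) * b := by group
      _ = (a * a) * (b * b) := by rw [← (h.rad_commute ha hb).eq]; group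
      _ = 1 := by rw [h1, h2, one_mul]
  | inv a _ h1 => rw [← mul_inv_rev, h1, inv_one]

/-- The kernel is central modulo the radical. -/
theorem conj_ker_mem {q : G} (hq : q ∈ π.ker) (g : G) : g * q * g⁻¹ * q⁻¹ ∈ h.rad := by
  haveI := h.rad_normal
  have hg : g ∈ closure D := h.cls.2.2 ▸ mem_top g
  induction hg using closure_induction generalizing q with
  | mem d hd =>
    rw [h.inv hd]
    exact h.U_le_rad hd (mem_U' (h.sq hd) hq)
  | one => simp
  | mul a b _ _ h1 h2 =>
    have h3 := h1 (q := b * q * b⁻¹) (π.normal_ker.conj_mem q hq b)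
    have := mul_mem h3 (h2 hq)
    convert this using 1
    group
  | inv a _ h1 =>
    have h3 := inv_mem (h1 (q := a⁻¹ * q * a) (by simpa using π.normal_ker.conj_mem q hq a⁻¹))
    convert h3 using 1
    group

end Setup

end CfsgLib.PLocal.ThreeRad
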