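import Cfsg.Agent.Lib.PLocal.ThreeRadBasic
import Cfsg.Agent.Lib.Trans3.Structure
import Cfsg.Agent.Lib.Trans3.RankThree
import Cfsg.Prelude.Def_KGroupFacts

/-!
# The kernel over a simple image with trivial multiplier is elementary abelian

If the image is simple, has no non-trivial stem extension and contains five pairwise commuting
members of the class with product one, then a 2-kernel in a centre-free group of 3-transpositions
is elementary abelian.
-/

set_option autoImplicit false
set_option linter.unusedSectionVars false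

namespace CfsgLib.PLocal.ThreeRad

open Subgroup CfsgLib.Trans3
open scoped commutatorElement

universe u

/-- A non-commuting pair of a class in a non-abelian simple group, together with the members
commuting with one of the two, generates. -/
theorem closure_perpPair_of_simple {S : Type*} [Group S] [Finite S] [IsSimpleGroup S]
    (hnc : ∃ x y : S, x * y ≠ y * x) {E : Set S} (hE : Cfsg.IsThreeTranspositionClass E)
    {a b : S} (ha : a ∈ E) (hb : b ∈ E) (hn : ¬ Commute a b) :
    closure (perpPair E a b) = ⊤ := by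
  have htop : commutator S = ⊤ := by
    refine (IsSimpleGroup.eq_bot_or_eq_top_of_normal (commutator S) inferInstance).resolve_left
      fun h => ?_
    obtain ⟨x, y, hxy⟩ := hnc
    have := commutator_mem_commutator (mem_top x) (mem_top y)
    rw [← _root_.commutator_def, h, mem_bot, commutatorElement_eq_one_iff_mul_comm] at this
    exact hxy this
  let e : commutator S ≃* S := (MulEquiv.subgroupCongr htop).trans Subgroup.topEquiv
  haveI : IsSimpleGroup (commutator S) := e.isSimpleGroup
  have hnab : ∃ x y : commutator S, x * y ≠ y * x := by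
    obtain ⟨x, y, hxy⟩ := hnc
    refine ⟨e.symm x, e.symm y, fun h => hxy ?_⟩
    simpa using congrArg e h
  obtain ⟨hP, hw⟩ := primitive_of_simple_commutator hE hnab
  have hG := class_isGroup hE
  set H := closure (perpPair E a b) with hH
  have hK : closure {y : S | y ∈ E ∧ Commute a y} ≤ H :=
    closure_mono fun y hy => ⟨hy.1, Or.inl hy.2⟩
  rw [eq_top_iff, ← hE.2.2, closure_le]
  intro f hf
  by_cases hc : Commute a f
  · exact subset_closure ⟨hf, Or.inl hc⟩
  · obtain ⟨g, hg, rfl⟩ := trans_noncomm_closure hG hP hw ha hb hn hf hc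
    exact mul_mem (mul_mem (hK hg) (subset_closure ⟨hb, Or.inr (Commute.refl b)⟩))
      (inv_mem (hK hg))

variable {G : Type u} {S : Type*} [Group G] [Finite G] [Group S] [Finite S]
variable {D : Set G} {π : G →* S}

namespace Setup

variable (h : Setup D π)
include h

/-- The kernel is elementary abelian. -/
theorem ker_elementary
    (hperf : commutator S = ⊤)
    (hstem : ∀ (Γ : Type u) [Group Γ] [Finite Γ] (σ : Γ →* S),
      Cfsg.IsStemExtension σ → σ.ker = ⊥)
    {s : Fin 5 → S} (hs : ∀ i, s i ∈ π '' D) (hcomm : ∀ i j, Commute (s i) (s j))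
    (hprod : s 0 * s 1 * s 2 * s 3 * s 4 = 1) :
    ∀ x ∈ π.ker, x * x = 1 ∧ ∀ y ∈ π.ker, Commute x y := by
  haveI := h.rad_normal
  set R := h.rad with hR
  let f : G ⧸ R →* S := QuotientGroup.lift R π h.rad_le_ker
  let p : G →* G ⧸ R := QuotientGroup.mk' R
  have hpR : ∀ x, p x = 1 ↔ x ∈ R := fun x => QuotientGroup.eq_one_iff x
  have hfp : ∀ x, f (p x) = π x := fun x => rfl
  have hfsurj : Function.Surjective f := fun y => by
    obtain ⟨x, rfl⟩ := h.surj y
    exact ⟨p x, rfl⟩
  have hpsurj : Function.Surjective p := QuotientGroup.mk'_surjective R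
  have hcen : f.ker ≤ center (G ⧸ R) := by
    intro k hk
    obtain ⟨q, rfl⟩ := hpsurj k
    refine mem_center_iff.2 fun g => ?_
    obtain ⟨g, rfl⟩ := hpsurj g
    have h1 := (hpR _).2 (h.conj_ker_mem (q := q) (by rwa [MonoidHom.mem_ker, hfp] at hk) g)
    rw [map_mul, map_mul, map_mul, map_inv, map_inv] at h1
    exact mul_inv_eq_iff_eq_mul.1 (mul_inv_eq_one.1 h1)
  set N := commutator (G ⧸ R) with hN
  haveI : N.Normal := inferInstance
  -- every element is a product of an element of `N` and a central one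
  have hdec : ∀ k : G ⧸ R, ∃ n ∈ N, ∃ z ∈ center (G ⧸ R), k = n * z := by
    intro k
    have hmap : N.map f = ⊤ := by
      rw [hN, _root_.commutator_def, map_commutator, map_top_of_surjective f hfsurj,
        ← _root_.commutator_def,
        hperf]
    obtain ⟨n, hn, hfn⟩ := (hmap ▸ mem_top (f k) : f k ∈ N.map f)
    refine ⟨n, hn, n⁻¹ * k, hcen ?_, by group⟩
    rw [MonoidHom.mem_ker, map_mul, map_inv, hfn, inv_mul_cancel]
  have hperfN : N ≤ ⁅N, N⁆ := by
    rw [hN, _root_.commutator_def, commutator_le]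
    intro a _ b _
    obtain ⟨n, hn, z, hz, rfl⟩ := hdec a
    obtain ⟨m, hm, w, hw, rfl⟩ := hdec b
    have hz' : ∀ g, Commute z g := fun g => (mem_center_iff.1 hz g).symm
    have hw' : ∀ g, Commute w g := fun g => (mem_center_iff.1 hw g).symm
    have : ⁅n * z, m * w⁆ = ⁅n, m⁆ := by
      rw [commutatorElement_def, commutatorElement_def, mul_inv_rev, mul_inv_rev]
      calc n * z * (m * w) * (z⁻¹ * n⁻¹) * (w⁻¹ * m⁻¹)
          = n * (z * m * z⁻¹) * (z * w * z⁻¹) * n⁻¹ * (w⁻¹ * m⁻¹) := by group
        _ = n * m * (w * n⁻¹ * w⁻¹) * m⁻¹ := by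
            rw [(hz' m).eq, (hz' w).eq]; group
        _ = n * m * n⁻¹ * m⁻¹ := by rw [(hw' n⁻¹).eq]; group
    rw [this]
    exact commutator_mem_commutator hn hm
  let σ : N →* S := f.comp N.subtype
  have hσ : σ.ker = ⊥ := by
    refine hstem N σ ⟨?_, ?_, ?_⟩
    · intro y
      obtain ⟨k, rfl⟩ := hfsurj y
      obtain ⟨n, hn, z, -, hk⟩ := hdec k
      have hmap : N.map f = ⊤ := by
        rw [hN, _root_.commutator_def, map_commutator, map_top_of_surjective f hfsurj,
        ← _root_.commutator_def,
          hperf]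
      obtain ⟨m, hm, hfm⟩ := (hmap ▸ mem_top (f k) : f k ∈ N.map f)
      exact ⟨⟨m, hm⟩, hfm⟩
    · intro n hn
      refine mem_center_iff.2 fun m => Subtype.ext ?_
      exact mem_center_iff.1 (hcen (show (n : G ⧸ R) ∈ f.ker from hn)) (m : G ⧸ R)
    · intro n _
      have h1 : (n : G ⧸ R) ∈ (commutator N).map N.subtype := by
        rw [map_subtype_commutator]
        exact hperfN n.2
      obtain ⟨m, hm, hmn⟩ := h1
      exact N.subtype_injective hmn ▸ hm
  have hNker : ∀ n ∈ N, f n = 1 → n = 1 := fun n hn hfn => by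
    have : (⟨n, hn⟩ : N) ∈ σ.ker := hfn
    rw [hσ, mem_bot] at this
    exact congrArg Subtype.val this
  obtain ⟨d, hd, hsd⟩ := hs 0
  have hcongr : ∀ e ∈ D, p d * p e ∈ N := by
    intro e he
    obtain ⟨g, rfl⟩ := class_exists_conj h.cls hd he
    have h2 : ⁅p d, p g⁆ ∈ N :=
      commutator_mem_commutator (mem_top (p d)) (mem_top (p g))
    have hinv : (p d)⁻¹ = p d := by rw [← map_inv, h.inv hd]
    rw [commutatorElement_def, hinv] at h2
    simpa [map_mul, map_inv, mul_assoc] using h2
  have hdd : p d * p d = 1 := by rw [← map_mul, h.sq hd, map_one]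
  have hside : ∀ g : G, p g ∈ N ∨ p d * p g ∈ N := by
    intro g
    have hg : g ∈ closure D := h.cls.2.2 ▸ mem_top g
    induction hg using closure_induction with
    | mem e he => exact Or.inr (hcongr e he)
    | one => exact Or.inl (by rw [map_one]; exact one_mem _)
    | mul a b _ _ h1 h2 =>
      rw [map_mul]
      rcases h1 with h1 | h1 <;> rcases h2 with h2 | h2
      · exact Or.inl (mul_mem h1 h2)
      · refine Or.inr ?_
        have h3 := mul_mem ((inferInstance : N.Normal).conj_mem _ h1 (p d)) h2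
        rw [eq_inv_of_mul_eq_one_left hdd] at h3 ⊢
        simpa [mul_assoc] using h3
      · exact Or.inr (by rw [← mul_assoc]; exact mul_mem h1 h2)
      · refine Or.inl ?_
        have h3 := mul_mem ((inferInstance : N.Normal).conj_mem _ h1 (p d)⁻¹) h2
        rw [inv_inv] at h3
        convert h3 using 1
        rw [show (p d)⁻¹ * (p d * p a) * p d * (p d * p b) = p a * ((p d * p d) * p b) by group,
          hdd, one_mul]
    | inv a _ h1 =>
      rw [map_inv]
      rcases h1 with h1 | h1
      · exact Or.inl (inv_mem h1)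
      · refine Or.inr ?_
        have h3 := (inferInstance : N.Normal).conj_mem _ (inv_mem h1) (p d)
        convert h3 using 1
        rw [mul_inv_rev, inv_eq_of_mul_eq_one_right hdd]
        calc p d * (p a)⁻¹ = p d * (p a)⁻¹ * (p d * p d) * 1 := by rw [hdd]; group
          _ = p d * ((p a)⁻¹ * p d) * p d := by group
  -- the subgroup generated by the radical parts fills the kernel, or has index two in it
  by_cases hfull : ∀ q ∈ π.ker, q ∈ R
  · exact fun x hx => ⟨h.rad_sq (hfull x hx), fun y hy => h.rad_commute (hfull x hx) (hfull y hy)⟩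
  obtain ⟨q, hq, hqR⟩ := not_forall₂.1 hfull
  have houtN : ∀ x ∈ π.ker, x ∉ R → p d * p x ∈ N := fun x hx hxR =>
    (hside x).resolve_left fun hN' => hxR ((hpR x).1 (hNker _ hN' (by rw [hfp]; exact hx)))
  have hdN : p d ∉ N := fun hd' => by
    have h1 := mul_mem hd' (houtN q hq hqR)
    rw [← mul_assoc, hdd, one_mul] at h1
    exact hqR ((hpR q).1 (hNker _ h1 (by rw [hfp]; exact hq)))
  have hpair : ∀ x ∈ π.ker, ∀ y ∈ π.ker, x ∉ R → y ∉ R → x * y ∈ R := by
    intro x hx y hy hxR hyR
    have h1 := mul_mem (houtN x hx hxR) (houtN y hy hyR)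
    have hxc : p x * p d = p d * p x :=
      (mem_center_iff.1 (hcen (show p x ∈ f.ker by rw [MonoidHom.mem_ker, hfp]; exact hx)) (p d)).symm
    rw [show p d * p x * (p d * p y) = p d * (p x * p d) * p y by group, hxc, ← mul_assoc (p d),
      hdd, one_mul, ← map_mul] at h1
    exact (hpR _).1 (hNker _ h1 (by rw [hfp, map_mul, MonoidHom.mem_ker.1 hx,
      MonoidHom.mem_ker.1 hy, one_mul]))
  choose t ht hts using hs
  have htc : ∀ i j, Commute (t i) (t j) := fun i j =>
    h.comm (ht i) (ht j) (by rw [hts, hts]; exact hcomm i j)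
  set P := t 0 * t 1 * t 2 * t 3 * t 4 with hP
  have hPker : P ∈ π.ker := by
    rw [MonoidHom.mem_ker, hP, map_mul, map_mul, map_mul, map_mul, hts, hts, hts, hts, hts, hprod]
  have hPR : P ∉ R := by
    intro hPR
    have h1 := (hpR P).2 hPR
    have hpair' : ∀ i j, p (t i) * p (t j) ∈ N := fun i j => by
      have := mul_mem (inv_mem (hcongr _ (ht i))) (hcongr _ (ht j))
      rw [mul_inv_rev, ← map_inv p (t i), h.inv (ht i)] at this
      rwa [show p (t i) * (p d)⁻¹ * (p d * p (t j)) = p (t i) * p (t j) by group] at this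
    rw [hP, map_mul, map_mul, map_mul, map_mul] at h1
    have h4 : p (t 4) ∈ N := by
      have := inv_mem (mul_mem (hpair' 0 1) (hpair' 2 3))
      convert this using 1
      refine eq_inv_of_mul_eq_one_right ?_
      rw [← h1]; group
    refine hdN ?_
    have h5 := mul_mem (hcongr _ (ht 4)) (inv_mem h4)
    rwa [mul_inv_cancel_right] at h5
  have hP2 : P * P = 1 := by
    have hsq : ∀ i, t i * t i = 1 := fun i => h.sq (ht i)
    rw [hP]
    simp only [mul_assoc]
    rw [(htc 4 0).left_comm, (htc 3 0).left_comm, (htc 2 0).left_comm, (htc 1 0).left_comm,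
      ← mul_assoc (t 0) (t 0), hsq 0, one_mul,
      (htc 4 1).left_comm, (htc 3 1).left_comm, (htc 2 1).left_comm, ← mul_assoc (t 1) (t 1),
      hsq 1, one_mul,
      (htc 4 2).left_comm, (htc 3 2).left_comm, ← mul_assoc (t 2) (t 2), hsq 2, one_mul,
      (htc 4 3).left_comm, ← mul_assoc (t 3) (t 3), hsq 3, one_mul, hsq 4]
  have hPU : ∀ e ∈ D, ∀ x ∈ U π e, Commute P x := by
    intro e he x hx
    obtain ⟨g, hg⟩ := class_exists_conj h.cls (ht 0) he
    subst hg
    have hy : g⁻¹ * x * g ∈ U π (t 0) := by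
      have := h.U_conj g⁻¹ hx
      simpa [mul_assoc] using this
    have h0 : ∀ i, Commute (t i) (g⁻¹ * x * g) := fun i =>
      h.commute_U (ht 0) (ht i) (by rw [hts, hts]; exact hcomm i 0) hy
    have h1 : Commute P (g⁻¹ * x * g) :=
      ((((h0 0).mul_left (h0 1)).mul_left (h0 2)).mul_left (h0 3)).mul_left (h0 4)
    have h2 := h1.map (MulAut.conj g).toMonoidHom
    simp only [MulEquiv.coe_toMonoidHom, MulAut.conj_apply] at h2
    rw [show g * (g⁻¹ * x * g) * g⁻¹ = x by group] at h2
    have h3 : Commute (g * P * g⁻¹ * P⁻¹) x :=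
      h.rad_commute (h.conj_ker_mem hPker g) (h.U_le_rad he hx)
    have h4 := h3.inv_left.mul_left h2
    rwa [show (g * P * g⁻¹ * P⁻¹)⁻¹ * (g * P * g⁻¹) = P by group] at h4
  have hPrad : ∀ x ∈ R, Commute P x := by
    intro x hx
    refine closure_induction (fun y hy => ?_) (Commute.one_right P)
      (fun a b _ _ h1 h2 => h1.mul_right h2) (fun a _ h1 => h1.inv_right) hx
    simp only [Set.mem_iUnion] at hy
    obtain ⟨e, he, hy⟩ := hy
    exact hPU e he y hy
  have hform : ∀ x ∈ π.ker, x ∈ R ∨ ∃ r ∈ R, x = r * P := fun x hx => by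
    by_cases hxR : x ∈ R
    · exact Or.inl hxR
    · exact Or.inr ⟨x * P, hpair x hx P hPker hxR hPR, by rw [mul_assoc, hP2, mul_one]⟩
  intro x hx
  constructor
  · rcases hform x hx with hxR | ⟨r, hr, rfl⟩
    · exact h.rad_sq hxR
    · rw [show r * P * (r * P) = r * (P * r) * P by group, (hPrad r hr).eq,
        show r * (r * P) * P = (r * r) * (P * P) by group, h.rad_sq hr, hP2, one_mul]
  · intro y hy
    rcases hform x hx with hxR | ⟨r, hr, rfl⟩ <;> rcases hform y hy with hyR | ⟨r', hr', rfl⟩
    · exact h.rad_commute hxR hyR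
    · exact (h.rad_commute hxR hr').mul_right (hPrad x hxR).symm
    · exact (h.rad_commute hr hyR).mul_left (hPrad y hyR)
    · exact ((h.rad_commute hr hr').mul_right (hPrad r hr).symm).mul_left
        ((hPrad r' hr').mul_right (Commute.refl P))

end Setup

end CfsgLib.PLocal.ThreeRad
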