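import Mathlib.GroupTheory.Complement
import Mathlib.Algebra.Group.Commute.Hom
import Mathlib.Tactic
import Mathlib.Data.Finite.Card

/-!
# A complement from a rigid family of lifts

Let `Z` be a normal subset of the quotient whose lifts act fixed-point-freely on the kernel. If the
commuting graph on `Z` is simply connected in the sense of the hypotheses `hA`, `hB`, `hC` below,
there is exactly one pairwise compatible family of lifts through a given one, and its stabiliser is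
a complement of the kernel.
-/

set_option autoImplicit false

namespace CfsgLib.PLocal.ThreeRad

open Subgroup

variable {G S : Type*} [Group G] [Group S]

/-- Fixed-point-free lifts. -/
def FpfOn (π : G →* S) (Z : Set S) : Prop :=
  ∀ g q : G, π g ∈ Z → π q = 1 → Commute g q → q = 1

variable {π : G →* S} {Z : Set S}

theorem lift_unique (hf : FpfOn π Z) {g h h' : G} (hg : π g ∈ Z) (he : π h = π h')
    (hc : Commute g h) (hc' : Commute g h') : h = h' := by
  have := hf g (h⁻¹ * h') hg (by rw [map_mul, map_inv, he, inv_mul_cancel])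
    (hc.inv_right.mul_right hc')
  exact inv_mul_eq_one.1 this

theorem lift_conj [Finite G] (hf : FpfOn π Z) {g h : G} (hg : π g ∈ Z) (he : π h = π g) :
    ∃ m : G, π m = 1 ∧ m * g * m⁻¹ = h := by
  let f : π.ker → π.ker := fun m => ⟨g⁻¹ * ((m : G) * g * (m : G)⁻¹), by
    simp [MonoidHom.mem_ker, map_mul, map_inv, MonoidHom.mem_ker.1 m.2]⟩
  have hinj : Function.Injective f := by
    intro a b hab
    have h1 : (a : G) * g * (a : G)⁻¹ = (b : G) * g * (b : G)⁻¹ :=
      mul_left_cancel (congrArg Subtype.val hab)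
    have h2 : Commute g ((b : G)⁻¹ * a) := by
      refine ((mul_inv_eq_iff_eq_mul.1 ?_)).symm
      calc (b : G)⁻¹ * a * g * ((b : G)⁻¹ * a)⁻¹
          = (b : G)⁻¹ * ((a : G) * g * (a : G)⁻¹) * b := by group
        _ = g := by rw [h1]; group
    have h3 := hf g _ hg (by simp [MonoidHom.mem_ker.1 a.2, MonoidHom.mem_ker.1 b.2]) h2
    exact Subtype.ext (inv_mul_eq_one.1 h3).symm
  obtain ⟨m, hm⟩ := Finite.injective_iff_surjective.1 hinj
    ⟨g⁻¹ * h, by rw [MonoidHom.mem_ker, map_mul, map_inv, he, inv_mul_cancel]⟩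
  exact ⟨m, m.2, mul_left_cancel (congrArg Subtype.val hm)⟩

theorem lift_exists [Finite G] (hsurj : Function.Surjective π) (hf : FpfOn π Z) {g : G} {w : S}
    (hg : π g ∈ Z) (hc : Commute (π g) w) : ∃ h : G, π h = w ∧ Commute g h := by
  obtain ⟨h₀, rfl⟩ := hsurj w
  obtain ⟨m, hm, he⟩ := lift_conj hf hg (h := h₀ * g * h₀⁻¹)
    (by rw [map_mul, map_mul, map_inv, ← hc.eq, mul_inv_cancel_right])
  refine ⟨m⁻¹ * h₀, by rw [map_mul, map_inv, hm, inv_one, one_mul], ?_⟩
  refine ((mul_inv_eq_iff_eq_mul.1 ?_)).symm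
  calc m⁻¹ * h₀ * g * (m⁻¹ * h₀)⁻¹ = m⁻¹ * (h₀ * g * h₀⁻¹) * m := by group
    _ = g := by rw [← he]; group

theorem lift_triangle [Finite G] (hsurj : Function.Surjective π) (hf : FpfOn π Z) {g h k : G}
    (hg : π g ∈ Z) (hh : π h ∈ Z) (hgh : Commute g h) (hgk : Commute g k)
    (hhk : Commute (π h) (π k)) : Commute h k := by
  obtain ⟨k', hk', hck⟩ := lift_exists hsurj hf hh hhk
  have hgk' : Commute g k' := by
    have h1 : Commute h (k' * g * k'⁻¹) := by
      have := hgh.symm.map (MulAut.conj k').toMonoidHom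
      simp only [MulEquiv.coe_toMonoidHom, MulAut.conj_apply] at this
      rwa [hck.symm.eq, mul_inv_cancel_right] at this
    have h2 := lift_unique hf hh (h := k' * g * k'⁻¹) (h' := g)
      (by rw [map_mul, map_mul, map_inv, hk', ← (hgk.map π).eq, mul_inv_cancel_right]) h1 hgh.symm
    exact (mul_inv_eq_iff_eq_mul.1 h2).symm
  rw [← lift_unique hf hg hk' hgk' hgk]
  exact hck

/-- The complement. -/
theorem complement_of_family [Finite G] (hsurj : Function.Surjective π)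
    (hne : Z.Nonempty) (hZ : ∀ s z : S, z ∈ Z → s * z * s⁻¹ ∈ Z) (hf : FpfOn π Z)
    (hA : ∀ p ∈ Z, ∀ r ∈ Z, ∃ q ∈ Z, Commute p q ∧ Commute r q)
    (hB : ∀ p ∈ Z, ∀ r ∈ Z, ∀ q ∈ Z, ∀ q' ∈ Z, ¬ Commute p r → Commute p q → Commute r q →
      Commute p q' → Commute r q' →
      ∃ a ∈ Z, Commute p a ∧ Commute r a ∧ Commute q a ∧ Commute q' a)
    (hC : ∀ p ∈ Z, ∀ r ∈ Z, ∀ r' ∈ Z, Commute r r' →
      ∃ q ∈ Z, Commute p q ∧ Commute r q ∧ Commute r' q) :
    ∃ K : Subgroup G, π.ker.IsComplement' K := by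
  classical
  obtain ⟨p, hp⟩ := hne
  obtain ⟨g₀, hg₀⟩ := hsurj p
  have hg₀Z : π g₀ ∈ Z := hg₀.symm ▸ hp
  have hex : ∀ r ∈ Z, ∃ b : G, π b = r ∧
      ∀ a : G, π a ∈ Z → Commute g₀ a → Commute (π a) r → Commute a b := by
    intro r hr
    obtain ⟨q, hq, hpq, hrq⟩ := hA p hp r hr
    obtain ⟨a₀, ha₀, hga₀⟩ := lift_exists hsurj hf hg₀Z (w := q) (by rw [hg₀]; exact hpq)
    obtain ⟨b, hb, hab⟩ := lift_exists hsurj hf (w := r) (ha₀.symm ▸ hq : π a₀ ∈ Z)
      (by rw [ha₀]; exact hrq.symm)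
    refine ⟨b, hb, fun a ha hga har => ?_⟩
    by_cases hpr : Commute p r
    · have hgb : Commute g₀ b := lift_triangle hsurj hf (ha₀.symm ▸ hq) hg₀Z hga₀.symm hab
        (by rw [hg₀, hb]; exact hpr)
      exact lift_triangle hsurj hf hg₀Z ha hga hgb (by rw [hb]; exact har)
    · obtain ⟨c, hc, hpc, hrc, hqc, hac⟩ := hB p hp r hr q hq (π a) ha hpr hpq hrq
        (hg₀ ▸ hga.map π) har.symm
      obtain ⟨c₀, hc₀, hgc₀⟩ := lift_exists hsurj hf hg₀Z (w := c) (by rw [hg₀]; exact hpc)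
      have hc₀Z : π c₀ ∈ Z := hc₀.symm ▸ hc
      have h1 : Commute a₀ c₀ := lift_triangle hsurj hf hg₀Z (ha₀.symm ▸ hq) hga₀ hgc₀
        (by rw [ha₀, hc₀]; exact hqc)
      have h2 : Commute a c₀ := lift_triangle hsurj hf hg₀Z ha hga hgc₀ (by rw [hc₀]; exact hac)
      have h3 : Commute c₀ b := lift_triangle hsurj hf (ha₀.symm ▸ hq) hc₀Z h1 hab
        (by rw [hc₀, hb]; exact hrc.symm)
      exact lift_triangle hsurj hf hc₀Z ha h2.symm h3 (by rw [hb]; exact har)
  choose! F hF hFc using hex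
  have hFp : F p = g₀ := lift_unique hf hg₀Z (by rw [hF p hp, hg₀])
    (hFc p hp g₀ hg₀Z (Commute.refl g₀) (by rw [hg₀])) (Commute.refl g₀)
  have hpair : ∀ r ∈ Z, ∀ r' ∈ Z, Commute r r' → Commute (F r) (F r') := by
    intro r hr r' hr' hrr
    obtain ⟨q, hq, hpq, hrq, hr'q⟩ := hC p hp r hr r' hr' hrr
    obtain ⟨a, ha, hga⟩ := lift_exists hsurj hf hg₀Z (w := q) (by rw [hg₀]; exact hpq)
    have haZ : π a ∈ Z := ha.symm ▸ hq
    exact lift_triangle hsurj hf haZ ((hF r hr).symm ▸ hr)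
      (hFc r hr a haZ hga (by rw [ha]; exact hrq.symm))
      (hFc r' hr' a haZ hga (by rw [ha]; exact hr'q.symm))
      (by rw [hF r hr, hF r' hr']; exact hrr)
  have huniq : ∀ F' : S → G, (∀ r ∈ Z, π (F' r) = r) →
      (∀ r ∈ Z, ∀ r' ∈ Z, Commute r r' → Commute (F' r) (F' r')) → F' p = g₀ →
      ∀ r ∈ Z, F' r = F r := by
    intro F' hF' hpair' hp' r hr
    obtain ⟨q, hq, hpq, hrq⟩ := hA p hp r hr
    have hqZ : π (F' q) ∈ Z := (hF' q hq).symm ▸ hq
    refine lift_unique hf hqZ (by rw [hF' r hr, hF r hr]) (hpair' q hq r hr hrq.symm) ?_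
    exact hFc r hr _ hqZ (hp' ▸ hpair' p hp q hq hpq) (by rw [hF' q hq]; exact hrq.symm)
  let K : Subgroup G :=
    { carrier := {g | ∀ r ∈ Z, g * F r * g⁻¹ = F (π g * r * (π g)⁻¹)}
      one_mem' := fun r _ => by simp
      mul_mem' := fun {a b} ha hb r hr => by
        rw [show a * b * F r * (a * b)⁻¹ = a * (b * F r * b⁻¹) * a⁻¹ by group, hb r hr,
          ha _ (hZ _ _ hr), map_mul]
        congr 1; group
      inv_mem' := fun {a} ha r hr => by
        have h1 := ha _ (hZ (π a)⁻¹ r hr)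
        rw [show π a * ((π a)⁻¹ * r * (π a)⁻¹⁻¹) * (π a)⁻¹ = r by group] at h1
        rw [map_inv, inv_inv, ← h1]; group }
  refine ⟨K, Subgroup.isComplement'_of_disjoint_and_mul_eq_univ ?_ ?_⟩
  · rw [Subgroup.disjoint_def]
    intro q hq hqK
    have hq1 : π q = 1 := hq
    have h1 := hqK p hp
    rw [hq1, one_mul, inv_one, mul_one, hFp] at h1
    exact hf g₀ q hg₀Z hq1 (mul_inv_eq_iff_eq_mul.1 h1).symm
  · refine Set.eq_univ_of_forall fun g => ?_
    have hZ' : ∀ r ∈ Z, (π g)⁻¹ * r * π g ∈ Z := fun r hr => by simpa using hZ (π g)⁻¹ r hr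
    let F' : S → G := fun r => g * F ((π g)⁻¹ * r * π g) * g⁻¹
    have hF' : ∀ r ∈ Z, π (F' r) = r := fun r hr => by
      simp only [F', map_mul, map_inv, hF _ (hZ' r hr)]; group
    obtain ⟨m, hm, hme⟩ := lift_conj hf hg₀Z (h := F' p) (by rw [hF' p hp, hg₀])
    have hkey : ∀ r ∈ Z, m⁻¹ * F' r * m = F r := by
      refine huniq (fun r => m⁻¹ * F' r * m) ?_ ?_ ?_
      · intro r hr
        simp only [map_mul, map_inv, hm, inv_one, one_mul, mul_one, hF' r hr]
      · intro r hr r' hr' hrr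
        have h1 : Commute ((π g)⁻¹ * r * π g) ((π g)⁻¹ * r' * π g) := by
          simpa using hrr.map (MulAut.conj (π g)⁻¹).toMonoidHom
        have h2 := (hpair _ (hZ' r hr) _ (hZ' r' hr') h1).map (MulAut.conj (m⁻¹ * g)).toMonoidHom
        simp only [MulEquiv.coe_toMonoidHom, MulAut.conj_apply] at h2
        simp only [F']
        convert h2 using 1 <;> group
      · show m⁻¹ * F' p * m = g₀
        rw [← hme]; group
    refine ⟨m, hm, m⁻¹ * g, ?_, by group⟩
    intro r hr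
    have h1 := hkey _ (hZ (π g) r hr)
    simp only [F'] at h1
    rw [show (π g)⁻¹ * (π g * r * (π g)⁻¹) * π g = r by group] at h1
    rw [map_mul, map_inv, hm, inv_one, one_mul, ← h1]
    group

end CfsgLib.PLocal.ThreeRad
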