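import Cfsg.Agent.S1631
import Cfsg.Agent.Lib.Trans3.Graph

/-!
# 3-transposition classes of the unitary groups over the field of four elements

A generating class of 3-transpositions of `SU_n(2)`, `n ≥ 4`, consists of the transvections; five
commuting transvections with centres on an isotropic line have product one.
-/

set_option autoImplicit false
set_option linter.unusedSectionVars false

namespace CfsgLib.PLocal.ThreeRad

open Cfsg.Agent.S1631 CfsgLib.MaxSub Matrix

variable {F : Type} [Field F] [Fintype F] {n : ℕ} (hF : Fintype.card F = 4)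
include hF

theorem conj_eq_sq (a : F) : qConj (hF' hF) a = a ^ 2 := qConj_apply _ a

/-- A primitive cube root of unity. -/
theorem exists_omega : ∃ ω : F, ω ^ 2 + ω + 1 = 0 ∧ ω ≠ 0 ∧ ω ≠ 1 := by
  classical
  obtain ⟨a, ha⟩ : ∃ a : F, a ∉ ({0, 1} : Finset F) := by
    by_contra h
    have h1 : (Finset.univ : Finset F).card ≤ ({0, 1} : Finset F).card :=
      Finset.card_le_card fun a _ => by_contra fun ha => h ⟨a, ha⟩
    have h2 : ({0, 1} : Finset F).card ≤ 2 := Finset.card_le_two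
    rw [Finset.card_univ, hF] at h1
    omega
  simp only [Finset.mem_insert, Finset.mem_singleton, not_or] at ha
  have h3 : a ^ 3 = 1 := by
    have := FiniteField.pow_card_sub_one_eq_one a ha.1
    rwa [hF] at this
  refine ⟨a, (mul_eq_zero.1 ?_).resolve_left (sub_ne_zero.2 ha.2), ha.1, ha.2⟩
  linear_combination h3

/-- A vector orthogonal to each of `k < n` given ones. -/
theorem exists_perp {k : ℕ} (v : Fin k → Fin n → F) :
    ∃ P : Submodule F (Fin n → F), n ≤ Module.finrank F P + k ∧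
      ∀ x, x ∈ P ↔ ∀ i, Cfsg.hermForm n F 2 x (v i) = 0 := by
  have hf := isU (n := n) hF
  refine ⟨hPerp hf (Submodule.span F (Set.range v)), ?_, fun x => ⟨fun hx i =>
    hx _ (Submodule.subset_span ⟨i, rfl⟩), fun hx w hw => ?_⟩⟩
  · have h1 := finrank_le_finrank_hPerp_add hf (Submodule.span F (Set.range v))
    have h2 : Module.finrank F (Submodule.span F (Set.range v)) ≤ k := by
      simpa [Set.finrank] using finrank_range_le_card (R := F) v
    omega
  · induction hw using Submodule.span_induction with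
    | mem y hy => obtain ⟨i, rfl⟩ := hy; exact hx i
    | zero => exact herm_zero_right hf x
    | add a b _ _ h1 h2 => rw [herm_add_right hf, h1, h2, add_zero]
    | smul c a _ h1 => rw [herm_smul_right hf, h1, mul_zero]

/-- A self-adjoint map which is not zero has a vector `x` with `h (M x) x = 1`. -/
theorem exists_diag_one (M : (Fin n → F) →ₗ[F] (Fin n → F))
    (hM : ∀ x y, Cfsg.hermForm n F 2 (M x) y = Cfsg.hermForm n F 2 x (M y))
    {x₀ : Fin n → F} (hx₀ : M x₀ ≠ 0) : ∃ x, Cfsg.hermForm n F 2 (M x) x = 1 := by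
  have hf := isU (n := n) hF
  have h2 := two_zero hF
  by_contra hno
  have hzero : ∀ x, Cfsg.hermForm n F 2 (M x) x = 0 := fun x =>
    (fixed_cases hF (by rw [← hf.herm x (M x), hM])).resolve_right fun h => hno ⟨x, h⟩
  have hpol : ∀ x y, Cfsg.hermForm n F 2 (M x) y + Cfsg.hermForm n F 2 (M y) x = 0 := by
    intro x y
    have h1 := hzero (x + y)
    rw [map_add, hf.add_left, herm_add_right hf, herm_add_right hf, hzero x, hzero y] at h1
    linear_combination h1
  obtain ⟨ω, hω, -, -⟩ := exists_omega hF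
  obtain ⟨y, hy⟩ := (hf.nondegenerate _ hx₀).1
  have h1 := hpol x₀ (ω • y)
  rw [map_smul, hf.smul_left, herm_smul_right hf, conj_eq_sq hF] at h1
  have h3 := hpol x₀ y
  apply hy
  refine herm_eq_zero_comm hf ?_
  linear_combination -h1 + ω * h3 + (Cfsg.hermForm n F 2 (M x₀) y) * hω -
    (ω * Cfsg.hermForm n F 2 (M x₀) y) * h2

/-- A generating class of 3-transpositions consists of transvections. -/
theorem class_isTr {E : Set ↥(Cfsg.SU n F 2)}
    (hE : Cfsg.IsThreeTranspositionClass E) {t : ↥(Cfsg.SU n F 2)} (ht : t ∈ E) :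
    ∃ v, IsTr t v := by
  by_contra hno
  have hf := isU (n := n) hF
  have h2 := two_zero hF
  obtain ⟨ω, hω, -, -⟩ := exists_omega hF
  let N : (Fin n → F) →ₗ[F] (Fin n → F) :=
    Matrix.mulVecLin ((t : Matrix.SpecialLinearGroup (Fin n) F) : Matrix (Fin n) (Fin n) F) +
      LinearMap.id
  have hN : ∀ x, N x = act t x + x := fun x => rfl
  have hact : ∀ x, act t x = x + N x := fun x => by
    rw [hN, add_comm (act t x) x, ← add_assoc, add_self' hF, zero_add]
  have htt : ∀ x, act t (act t x) = x := fun x => by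
    rw [← act_mul, CfsgLib.Trans3.sq_one hE.1 ht]; simp [act]
  have hiso : ∀ x y, Cfsg.hermForm n F 2 (act t x) (act t y) = Cfsg.hermForm n F 2 x y :=
    fun x y => t.2 x y
  have hadj : ∀ x y, Cfsg.hermForm n F 2 (N x) y = Cfsg.hermForm n F 2 x (N y) := fun x y => by
    rw [hN, hN, hf.add_left, herm_add_right hf]
    congr 1
    rw [← hiso x (act t y), htt]
  have hNN : ∀ x, N (N x) = 0 := fun x => by
    have h1 : act t (N x) = N x := by
      rw [hN, show act t (act t x + x) = act t (act t x) + act t x from mulVec_add _ _ _, htt,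
        add_comm]
    rw [hN, h1, add_self' hF]
  have hNh : ∀ x y, Cfsg.hermForm n F 2 (N x) (N y) = 0 := fun x y => by
    rw [hadj, hNN, herm_zero_right hf]
  -- the first pair
  obtain ⟨x₀, hx₀⟩ : ∃ x, N x ≠ 0 := by
    by_contra h
    refine CfsgLib.Trans3.invol_ne_one (hE.1.1 t ht) (su_ext fun x => ?_)
    rw [hact, not_not.1 fun hx => h ⟨x, hx⟩, add_zero]; simp [act]
  obtain ⟨x₁, hx₁⟩ := exists_diag_one hF N hadj hx₀
  set w₁ := N x₁ with hw₁
  have hx₁' : Cfsg.hermForm n F 2 x₁ w₁ = 1 := by rw [hw₁, ← hadj, hx₁]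
  let N₁ : (Fin n → F) →ₗ[F] (Fin n → F) := N + (hLin hf w₁).smulRight w₁
  have hN₁ : ∀ x, N₁ x = N x + Cfsg.hermForm n F 2 x w₁ • w₁ := fun x => rfl
  have hadj₁ : ∀ x y, Cfsg.hermForm n F 2 (N₁ x) y = Cfsg.hermForm n F 2 x (N₁ y) := fun x y => by
    rw [hN₁, hN₁, hf.add_left, herm_add_right hf, hf.smul_left, herm_smul_right hf, hadj,
      ← hf.herm w₁ y]
    ring
  obtain ⟨y₀, hy₀⟩ : ∃ x, N₁ x ≠ 0 := by
    by_contra h
    refine hno ⟨w₁, fun e => ?_, hNh x₁ x₁, fun x => ?_⟩
    · rw [e, herm_zero_right hf] at hx₁'; exact one_ne_zero hx₁'.symm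
    · have h1 : N₁ x = 0 := not_not.1 fun hx => h ⟨x, hx⟩
      rw [hN₁, ← add_self' hF (Cfsg.hermForm n F 2 x w₁ • w₁)] at h1
      rw [hact, add_right_cancel h1]
  obtain ⟨z, hz⟩ := exists_diag_one hF N₁ hadj₁ hy₀
  have hN₁x : N₁ x₁ = 0 := by rw [hN₁, hx₁', one_smul, ← hw₁, add_self' hF]
  set x₂ := z + Cfsg.hermForm n F 2 z w₁ • x₁ with hx₂
  have hx₂w : Cfsg.hermForm n F 2 x₂ w₁ = 0 := by
    rw [hx₂, hf.add_left, hf.smul_left, hx₁', mul_one]
    linear_combination (Cfsg.hermForm n F 2 z w₁) * h2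
  have hx₂d : Cfsg.hermForm n F 2 (N₁ x₂) x₂ = 1 := by
    have h1 : N₁ x₂ = N₁ z := by rw [hx₂, map_add, map_smul, hN₁x, smul_zero, add_zero]
    rw [h1, hx₂, herm_add_right hf, herm_smul_right hf, hadj₁ z x₁, hN₁x, herm_zero_right hf,
      mul_zero, add_zero, hz]
  set w₂ := N x₂ with hw₂
  have hw₂' : N₁ x₂ = w₂ := by rw [hN₁, hx₂w, zero_smul, add_zero]
  rw [hw₂'] at hx₂d
  have hx₂' : Cfsg.hermForm n F 2 x₂ w₂ = 1 := by rw [hw₂, ← hadj, hx₂d]
  have h12 : Cfsg.hermForm n F 2 x₁ w₂ = 0 := by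
    rw [hw₂, ← hadj]; exact herm_eq_zero_comm hf hx₂w
  have hw11 := hNh x₁ x₁
  have hw12 := hNh x₁ x₂
  have hw21 := hNh x₂ x₁
  have hw22 := hNh x₂ x₂
  rw [← hw₁] at hw11 hw12 hw21
  rw [← hw₂] at hw12 hw21 hw22
  have hw1x1 : Cfsg.hermForm n F 2 w₁ x₁ = 1 := hx₁
  have hw2x1 : Cfsg.hermForm n F 2 w₂ x₁ = 0 := herm_eq_zero_comm hf h12
  have hw1x2 : Cfsg.hermForm n F 2 w₁ x₂ = 0 := herm_eq_zero_comm hf hx₂w
  -- hyperbolic partners
  set f₁ := x₁ + (ω * Cfsg.hermForm n F 2 x₁ x₁) • w₁ with hf₁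
  set f₂ := x₂ + Cfsg.hermForm n F 2 x₂ x₁ • w₁ + (ω * Cfsg.hermForm n F 2 x₂ x₂) • w₂ with hf₂
  have s11 : (Cfsg.hermForm n F 2 x₁ x₁) ^ 2 = Cfsg.hermForm n F 2 x₁ x₁ := by
    rw [← conj_eq_sq hF, ← hf.herm]
  have s22 : (Cfsg.hermForm n F 2 x₂ x₂) ^ 2 = Cfsg.hermForm n F 2 x₂ x₂ := by
    rw [← conj_eq_sq hF, ← hf.herm]
  have a11 : Cfsg.hermForm n F 2 f₁ f₁ = 0 := by
    simp only [hf₁, hf.add_left, herm_add_right hf, hf.smul_left, herm_smul_right hf, hx₁', hw11,
      hw1x1, conj_eq_sq hF]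
    linear_combination (ω ^ 2) * s11 + (Cfsg.hermForm n F 2 x₁ x₁) * hω
  have a21 : Cfsg.hermForm n F 2 f₂ f₁ = 0 := by
    simp only [hf₁, hf₂, hf.add_left, herm_add_right hf, hf.smul_left, herm_smul_right hf, hx₂w,
      hw11, hw1x1, hw2x1, hw21]
    linear_combination (Cfsg.hermForm n F 2 x₂ x₁) * h2
  have a22 : Cfsg.hermForm n F 2 f₂ f₂ = 0 := by
    simp only [hf₂, hf.add_left, herm_add_right hf, hf.smul_left, herm_smul_right hf, hx₂w, hx₂',
      hx₂d, hw1x2, hw11, hw12, hw21, hw22, conj_eq_sq hF]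
    linear_combination (ω ^ 2) * s22 + (Cfsg.hermForm n F 2 x₂ x₂) * hω
  have a12 := herm_eq_zero_comm hf a21
  have b11 : Cfsg.hermForm n F 2 w₁ f₁ = 1 := by
    simp only [hf₁, herm_add_right hf, herm_smul_right hf, hw1x1, hw11, mul_zero, add_zero]
  have b21 : Cfsg.hermForm n F 2 w₂ f₁ = 0 := by
    simp only [hf₁, herm_add_right hf, herm_smul_right hf, hw2x1, hw21, mul_zero, add_zero]
  have b12 : Cfsg.hermForm n F 2 w₁ f₂ = 0 := by
    simp only [hf₂, herm_add_right hf, herm_smul_right hf, hw1x2, hw11, hw12, mul_zero, add_zero]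
  have b22 : Cfsg.hermForm n F 2 w₂ f₂ = 1 := by
    simp only [hf₂, herm_add_right hf, herm_smul_right hf, hx₂d, hw21, hw22, mul_zero, add_zero]
  have c22 : Cfsg.hermForm n F 2 f₂ w₂ = 1 := by rw [hf.herm, b22, map_one]
  have Nf₁ : N f₁ = w₁ := by rw [hf₁, map_add, map_smul, hNN, smul_zero, add_zero]
  have Nf₂ : N f₂ = w₂ := by
    rw [hf₂, map_add, map_add, map_smul, map_smul, hNN, hNN, smul_zero, smul_zero, add_zero,
      add_zero]
  -- the two transvections
  have hff : Cfsg.hermForm n F 2 (f₁ + f₂) (f₁ + f₂) = 0 := by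
    rw [hf.add_left f₁ f₂, herm_add_right hf f₁ f₁ f₂, herm_add_right hf f₂ f₁ f₂, a11, a12, a21,
      a22]
    simp
  obtain ⟨A, -, -, hA⟩ := exists_tr hF (v := f₂)
    (fun e => by rw [e, herm_zero_right hf] at b22; exact zero_ne_one b22) a22
  obtain ⟨B, -, -, hB⟩ := exists_tr hF (v := f₁ + f₂)
    (fun e => by
      have h1 := congrArg (Cfsg.hermForm n F 2 w₁) e
      rw [herm_add_right hf, b11, b12, add_zero, herm_zero_right hf] at h1
      exact one_ne_zero h1)
    hff
  let X : F → F → F → F → (Fin n → F) := fun a b c d => a • w₁ + b • w₂ + c • f₁ + d • f₂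
  have tX : ∀ a b c d, act t (X a b c d) = X (a + c) (b + d) c d := fun a b c d => by
    rw [hact]
    simp only [X, map_add, map_smul, hNN, Nf₁, Nf₂]
    rw [show N w₁ = 0 from hNN x₁, show N w₂ = 0 from hNN x₂]
    simp only [smul_zero, add_smul]
    abel
  have AX : ∀ a b c d, act A (X a b c d) = X a b c (d + b) := fun a b c d => by
    rw [hA]
    simp only [X, hf.add_left, hf.smul_left, b12, b22, a12, a22, mul_zero, mul_one, zero_add,
      add_zero, add_smul]
    abel
  have BX : ∀ a b c d, act B (X a b c d) = X a b (c + (a + b)) (d + (a + b)) := fun a b c d => by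
    rw [hB]
    simp only [X, hf.add_left, hf.smul_left, herm_add_right hf, b11, b12, b21, b22, a11, a12, a21,
      a22, mul_zero, mul_one, zero_add, add_zero, add_smul, smul_add]
    abel
  have hinv : (A * B)⁻¹ = B * A := by
    have hA' := (tr_sq hF (A := A) (v := f₂) ⟨fun e => by
      rw [e, herm_zero_right hf] at b22; exact zero_ne_one b22, a22, hA⟩).1
    have hB' := (tr_sq hF (A := B) (v := f₁ + f₂) ⟨fun e => by
      have h1 := congrArg (Cfsg.hermForm n F 2 w₁) e
      rw [herm_add_right hf, b11, b12, add_zero, herm_zero_right hf] at h1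
      exact one_ne_zero h1, hff, hB⟩).1
    refine inv_eq_of_mul_eq_one_right ?_
    calc A * B * (B * A) = A * (B * B) * A := by group
      _ = 1 := by rw [hB', mul_one, hA']
  have hs := CfsgLib.Trans3.class_conj_mem hE (A * B) ht
  rw [hinv] at hs
  set u := t * (A * B * t * (B * A)) with hu
  have uX : ∀ a b c d, act u (X a b c d) = X (c + d) c (b + d) (a + b + c + d) := fun a b c d => by
    simp only [hu, act_mul, tX, AX, BX]
    congr 1
    · linear_combination (3 * a + 3 * b + c) * h2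
    · linear_combination (3 * a + 6 * b + 2 * d) * h2
    · linear_combination (2 * a + 2 * b + c) * h2
    · linear_combination (2 * a + 4 * b + d) * h2
  have step1 : act u (X 0 0 0 1) = X 1 0 1 1 := by rw [uX]; simp
  have step2 : act u (X 1 0 1 1) = X 0 1 1 1 := by
    rw [uX]; congr 1 <;> first | linear_combination h2 | ring
  have step3 : act u (X 0 1 1 1) = X 0 1 0 1 := by
    rw [uX]; congr 1 <;> first | linear_combination h2 | ring
  have hone : ∀ x, act (1 : ↥(Cfsg.SU n F 2)) x = x := fun x => by simp [act]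
  rcases hE.1.2 t ht _ hs with h | h
  · have h1 : act (u ^ 2) (X 0 0 0 1) = X 0 0 0 1 := by rw [hu, h, hone]
    rw [pow_two, act_mul u u, step1, step2] at h1
    have h3 := congrArg (Cfsg.hermForm n F 2 · w₁) h1
    have c11 : Cfsg.hermForm n F 2 f₁ w₁ = 1 := by rw [hf.herm, b11, map_one]
    have c21 : Cfsg.hermForm n F 2 f₂ w₁ = 0 := by rw [hf.herm, b12, map_zero]
    simp [X, hf.add_left, hf.smul_left, hw11, hw21, c11, c21, herm_zero_left hf] at h3
  · have h1 : act (u ^ 3) (X 0 0 0 1) = X 0 0 0 1 := by rw [hu, h, hone]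
    rw [pow_succ', pow_two, act_mul u (u * u), act_mul u u, step1, step2, step3] at h1
    have h3 := congrArg (Cfsg.hermForm n F 2 · f₂) h1
    simp [X, hf.add_left, hf.smul_left, b22, a22, herm_zero_left hf] at h3

/-- The generating class of 3-transpositions is the class of transvections. -/
theorem class_eq_tr [DecidableEq F] (hn : 4 ≤ n) {E : Set ↥(Cfsg.SU n F 2)}
    (hE : Cfsg.IsThreeTranspositionClass E) : E = {A | ∃ v, IsTr A v} := by
  have hT : Cfsg.IsThreeTranspositionClass {A : ↥(Cfsg.SU n F 2) | ∃ v, IsTr A v} := by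
    have h1 := Cfsg.Agent.S1631.result F hF n hn
    have h2 : {g : ↥(Cfsg.SU n F 2) | (((g : Matrix.SpecialLinearGroup (Fin n) F) :
        Matrix (Fin n) (Fin n) F) - 1).rank = 1} = {A | ∃ v, IsTr A v} :=
      Set.ext fun A => rank_iff hF A
    rwa [h2] at h1
  refine Set.Subset.antisymm (fun t ht => class_isTr hF hE ht) fun A hA => ?_
  obtain ⟨d, hd, hdE⟩ := hE.2.1
  have hd' : d ∈ E := hdE ▸ mem_conjugatesOf_self
  obtain ⟨g, rfl⟩ := CfsgLib.Trans3.class_exists_conj hT (class_isTr hF hE hd') hA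
  exact CfsgLib.Trans3.class_conj_mem hE g hd'

/-- Five commuting transvections with product one. -/
theorem five_product (hn : 4 ≤ n) : ∃ s : Fin 5 → ↥(Cfsg.SU n F 2),
    (∀ i, ∃ v, IsTr (s i) v) ∧ (∀ i j, Commute (s i) (s j)) ∧
      s 0 * s 1 * s 2 * s 3 * s 4 = 1 := by
  have hf := isU (n := n) hF
  have h2 := two_zero hF
  obtain ⟨ω, hω, hω0, hω1⟩ := exists_omega hF
  obtain ⟨a, ha, haa⟩ := exists_iso hF (n := n) (by omega)
  obtain ⟨c, hc⟩ := (hf.nondegenerate a ha).1
  obtain ⟨P, hP, hPmem⟩ := exists_perp hF ![a, c]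
  obtain ⟨b, hb, hb0, hbb⟩ := exists_isotropic hf (U := P) (by omega)
  have hba : Cfsg.hermForm n F 2 b a = 0 := (hPmem b).1 hb 0
  have hbc : Cfsg.hermForm n F 2 b c = 0 := (hPmem b).1 hb 1
  have hab := herm_eq_zero_comm hf hba
  have hac : Cfsg.hermForm n F 2 a c ≠ 0 := fun e => hc (herm_eq_zero_comm hf e)
  have hcomb : ∀ k : F, a + k • b ≠ 0 := fun k e => hac (by
    have h1 := congrArg (Cfsg.hermForm n F 2 · c) e
    simpa [hf.add_left, hf.smul_left, hbc, herm_zero_left hf] using h1)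
  let v : Fin 5 → (Fin n → F) :=
    ![a, b, a + (1 : F) • b, a + ω • b, a + (ω + 1) • b]
  have horth : ∀ i j, Cfsg.hermForm n F 2 (v i) (v j) = 0 := by
    intro i j
    fin_cases i <;> fin_cases j <;>
      simp [v, hf.add_left, hf.smul_left, herm_add_right hf, herm_smul_right hf, haa, hab, hba, hbb]
  have hne : ∀ i, v i ≠ 0 := by
    intro i
    fin_cases i
    · exact ha
    · exact hb0
    · exact hcomb 1
    · exact hcomb ω
    · exact hcomb (ω + 1)
  choose s hs using fun i => exists_tr hF (hne i) (horth i i)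
  refine ⟨s, fun i => ⟨v i, hs i⟩, fun i j => (tr_comm_or_braid hF (hs i) (hs j)).1 (horth i j), ?_⟩
  refine su_ext fun x => ?_
  simp only [act_mul, (hs _).2.2, hf.add_left, hf.smul_left, horth, mul_zero, add_zero]
  simp only [v, Matrix.cons_val_zero, Matrix.cons_val_one, Matrix.cons_val]
  simp only [herm_add_right hf, herm_smul_right hf, map_one, map_add, conj_eq_sq hF]
  have hone : act (1 : ↥(Cfsg.SU n F 2)) x = x := by simp [act]
  rw [hone]
  match_scalars
  · ring
  · linear_combination (2 * Cfsg.hermForm n F 2 x a + Cfsg.hermForm n F 2 x b * (ω ^ 2 + ω + 1)) * h2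
  · linear_combination (Cfsg.hermForm n F 2 x a * (1 + ω) + Cfsg.hermForm n F 2 x b * ω ^ 3) * h2 +
      3 * Cfsg.hermForm n F 2 x b * hω

end CfsgLib.PLocal.ThreeRad
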