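import Cfsg.Agent.Lib.PLocal.ThreeRadSUClass

/-!
# Orthogonal frames in the unitary 5-space over the field of four elements

Pseudo-reflections `x ↦ ω x + h(x,p) p` of `SU_5(2)` and their expression through transvections.
-/

set_option autoImplicit false
set_option linter.unusedSectionVars false

namespace CfsgLib.PLocal.ThreeRad

open Cfsg.Agent.S1631 CfsgLib.MaxSub Matrix

/-- The Hermitian form of the 5-space. -/
abbrev hf5 {F : Type} [Field F] (x y : Fin 5 → F) : F := Cfsg.hermForm 5 F 2 x y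

/-- An orthonormal frame. -/
def IsFrame {F : Type} [Field F] [DecidableEq F] (e : Fin 5 → Fin 5 → F) : Prop :=
  ∀ i j, hf5 (e i) (e j) = if i = j then 1 else 0

/-- The pseudo-reflection at `p`. -/
def IsZeta {F : Type} [Field F] (ω : F) (A : ↥(Cfsg.SU 5 F 2)) (p : Fin 5 → F) : Prop :=
  hf5 p p = 1 ∧ ∀ x, act A x = ω • x + hf5 x p • p

/-- The product of the transvections at `a + b` and `a + ω b`. -/
def IsDelta {F : Type} [Field F] (ω : F) (A : ↥(Cfsg.SU 5 F 2)) (a b : Fin 5 → F) : Prop :=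
  ∃ R R' : ↥(Cfsg.SU 5 F 2), IsTr R (a + b) ∧ IsTr R' (a + ω • b) ∧ A = R * R'

section Act

variable {F : Type} [Field F] {n : ℕ}

theorem act_smul' (A : ↥(Cfsg.SU n F 2)) (c : F) (x : Fin n → F) :
    act A (c • x) = c • act A x := mulVec_smul _ _ _

theorem act_add' (A : ↥(Cfsg.SU n F 2)) (x y : Fin n → F) :
    act A (x + y) = act A x + act A y := mulVec_add _ _ _

theorem act_one' (x : Fin n → F) : act (1 : ↥(Cfsg.SU n F 2)) x = x := by simp [act]

end Act

variable {F : Type} [Field F] [Fintype F] [DecidableEq F] (hF : Fintype.card F = 4) {ω : F}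
  (hω : ω ^ 2 + ω + 1 = 0)
include hF

theorem isU5 : Cfsg.Geo.IsUnitaryForm (qConj (hF' hF)) (Cfsg.hermForm 5 F 2) := isU hF

theorem norm_one_of_ne {x : Fin 5 → F} (h : hf5 x x ≠ 0) : hf5 x x = 1 :=
  (fixed_cases hF ((isU5 hF).herm x x).symm).resolve_left h

/-- Two or more dimensions orthogonal to two orthogonal vectors of norm one contain a third. -/
theorem exists_norm_one_two {P : Submodule F (Fin 5 → F)} (hP : 2 ≤ Module.finrank F P)
    {p q : Fin 5 → F} (hp : hf5 p p = 1) (hq : hf5 q q = 1) (hpq : hf5 p q = 0)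
    (hPp : ∀ x ∈ P, hf5 x p = 0) (hPq : ∀ x ∈ P, hf5 x q = 0) : ∃ x ∈ P, hf5 x x = 1 := by
  have hf := isU5 hF
  have h2 := two_zero hF
  have hqp := herm_eq_zero_comm hf hpq
  have hv : p + q ∉ P := fun h => by
    have := hPp _ h
    simp only [hf5] at this hp hqp
    rw [hf.add_left, hp, hqp, add_zero] at this
    exact one_ne_zero this
  have hlt : P < P ⊔ Submodule.span F {p + q} := by
    refine lt_of_le_of_ne le_sup_left fun e => hv ?_
    rw [e]
    exact Submodule.mem_sup_right (Submodule.mem_span_singleton_self _)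
  have hdim := Submodule.finrank_lt_finrank_of_lt hlt
  obtain ⟨x, hx, hxx⟩ := exists_anisotropic hf (U := P ⊔ Submodule.span F {p + q}) (by omega)
  obtain ⟨y, hy, z, hz, rfl⟩ := Submodule.mem_sup.1 hx
  obtain ⟨c, rfl⟩ := Submodule.mem_span_singleton.1 hz
  refine ⟨y, hy, norm_one_of_ne hF fun e => hxx ?_⟩
  have e1 := hPp y hy
  have e2 := hPq y hy
  have e3 := herm_eq_zero_comm hf e1
  have e4 := herm_eq_zero_comm hf e2
  simp only [hf5] at e e1 e2 e3 e4 hp hq hpq hqp
  simp only [hf.add_left, herm_add_right hf, hf.smul_left, herm_smul_right hf, e, e1, e2, e3, e4,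
    hp, hq, hpq, hqp]
  linear_combination (c * qConj (hF' hF) c) * h2

/-- A vector of norm one orthogonal to two given vectors. -/
theorem exists_norm_one_perp_two (u v : Fin 5 → F) :
    ∃ x, hf5 x x = 1 ∧ hf5 x u = 0 ∧ hf5 x v = 0 := by
  obtain ⟨P, hP, hmem⟩ := exists_perp hF ![u, v]
  obtain ⟨x, hx, hxx⟩ := exists_anisotropic (isU5 hF) (U := P) (by omega)
  exact ⟨x, norm_one_of_ne hF hxx, (hmem x).1 hx 0, (hmem x).1 hx 1⟩

/-- A vector of norm one orthogonal to two orthogonal vectors of norm one and a third vector. -/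
theorem exists_norm_one_perp_three {p q : Fin 5 → F} (hp : hf5 p p = 1) (hq : hf5 q q = 1)
    (hpq : hf5 p q = 0) (u : Fin 5 → F) :
    ∃ x, hf5 x x = 1 ∧ hf5 x p = 0 ∧ hf5 x q = 0 ∧ hf5 x u = 0 := by
  obtain ⟨P, hP, hmem⟩ := exists_perp hF ![p, q, u]
  obtain ⟨x, hx, hxx⟩ := exists_norm_one_two hF (P := P) (by omega) hp hq hpq
    (fun y hy => (hmem y).1 hy 0) (fun y hy => (hmem y).1 hy 1)
  exact ⟨x, hxx, (hmem x).1 hx 0, (hmem x).1 hx 1, (hmem x).1 hx 2⟩

/-- A vector of norm one orthogonal to four orthonormal vectors. -/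
theorem exists_norm_one_perp_four {a b c d : Fin 5 → F} (ha : hf5 a a = 1) (hb : hf5 b b = 1)
    (hc : hf5 c c = 1) (hd : hf5 d d = 1) (hab : hf5 a b = 0) (hac : hf5 a c = 0)
    (had : hf5 a d = 0) (hbc : hf5 b c = 0) (hbd : hf5 b d = 0) (hcd : hf5 c d = 0) :
    ∃ x, hf5 x x = 1 ∧ hf5 x a = 0 ∧ hf5 x b = 0 ∧ hf5 x c = 0 ∧ hf5 x d = 0 := by
  have hf := isU5 hF
  have h2 := two_zero hF
  obtain ⟨P, hP, hmem⟩ := exists_perp hF ![a, b, c, d]
  have hPa : ∀ y ∈ P, hf5 y a = 0 := fun y hy => (hmem y).1 hy 0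
  have hPb : ∀ y ∈ P, hf5 y b = 0 := fun y hy => (hmem y).1 hy 1
  have hPc : ∀ y ∈ P, hf5 y c = 0 := fun y hy => (hmem y).1 hy 2
  have hPd : ∀ y ∈ P, hf5 y d = 0 := fun y hy => (hmem y).1 hy 3
  have hba := herm_eq_zero_comm hf hab
  have hlt : P < P ⊔ Submodule.span F {a + b} := by
    refine lt_of_le_of_ne le_sup_left fun e => ?_
    have h1 : hf5 (a + b) a = 0 :=
      hPa _ (e.symm ▸ Submodule.mem_sup_right (Submodule.mem_span_singleton_self _))
    simp only [hf5] at ha hba h1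
    rw [hf.add_left, ha, hba, add_zero] at h1
    exact one_ne_zero h1
  have hdim := Submodule.finrank_lt_finrank_of_lt hlt
  have hperp : ∀ (u : Fin 5 → F), (∀ y ∈ P, hf5 y u = 0) → hf5 a u = 0 → hf5 b u = 0 →
      ∀ y ∈ P ⊔ Submodule.span F {a + b}, hf5 y u = 0 := by
    intro u h1 h3 h4 y hy
    obtain ⟨y₁, hy₁, z, hz, rfl⟩ := Submodule.mem_sup.1 hy
    obtain ⟨t, rfl⟩ := Submodule.mem_span_singleton.1 hz
    have h5 := h1 y₁ hy₁
    simp only [hf5] at h3 h4 h5 ⊢
    simp [hf.add_left, hf.smul_left, h3, h4, h5]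
  obtain ⟨x, hx, hxx⟩ := exists_norm_one_two hF (P := P ⊔ Submodule.span F {a + b}) (by omega) hc hd
    hcd (hperp c hPc hac hbc) (hperp d hPd had hbd)
  obtain ⟨y, hy, z, hz, rfl⟩ := Submodule.mem_sup.1 hx
  obtain ⟨t, rfl⟩ := Submodule.mem_span_singleton.1 hz
  refine ⟨y, ?_, hPa y hy, hPb y hy, hPc y hy, hPd y hy⟩
  have e1 := hPa y hy
  have e2 := hPb y hy
  have e3 := herm_eq_zero_comm hf e1
  have e4 := herm_eq_zero_comm hf e2
  simp only [hf5] at hxx e1 e2 e3 e4 ha hb hab hba ⊢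
  simp only [hf.add_left, herm_add_right hf, hf.smul_left, herm_smul_right hf, e1, e2, e3, e4,
    ha, hb, hab, hba] at hxx
  linear_combination hxx - (t * qConj (hF' hF) t) * h2

/-- Two orthonormal vectors and a third one extend to a frame. -/
theorem frame_of_three {a b p : Fin 5 → F} (ha : hf5 a a = 1) (hb : hf5 b b = 1)
    (hp : hf5 p p = 1) (hab : hf5 a b = 0) (hap : hf5 a p = 0) (hbp : hf5 b p = 0) :
    ∃ e, IsFrame e ∧ e 0 = a ∧ e 1 = b ∧ e 4 = p := by
  have hf := isU5 hF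
  obtain ⟨c, hc, hca, hcb, hcp⟩ := exists_norm_one_perp_three hF ha hb hab p
  obtain ⟨d, hd, hda, hdb, hdc, hdp⟩ := exists_norm_one_perp_four hF ha hb hc hp hab
    (herm_eq_zero_comm hf hca) hap (herm_eq_zero_comm hf hcb) hbp hcp
  refine ⟨![a, b, c, d, p], fun i j => ?_, rfl, rfl, rfl⟩
  simp only [hf5] at ha hb hp hab hap hbp hc hca hcb hcp hd hda hdb hdc hdp
  fin_cases i <;> fin_cases j <;>
    simp [ha, hb, hp, hab, hap, hbp, hc, hca, hcb, hcp, hd, hda, hdb, hdc, hdp,
      herm_eq_zero_comm hf hab, herm_eq_zero_comm hf hap, herm_eq_zero_comm hf hbp,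
      herm_eq_zero_comm hf hca, herm_eq_zero_comm hf hcb, herm_eq_zero_comm hf hcp,
      herm_eq_zero_comm hf hda, herm_eq_zero_comm hf hdb, herm_eq_zero_comm hf hdc,
      herm_eq_zero_comm hf hdp]

/-- A frame through a given vector of norm one. -/
theorem frame_last {p : Fin 5 → F} (hp : hf5 p p = 1) : ∃ e, IsFrame e ∧ e 4 = p := by
  obtain ⟨a, ha, hap, -⟩ := exists_norm_one_perp_two hF p p
  obtain ⟨b, hb, hba, hbp⟩ := exists_norm_one_perp_two hF a p
  obtain ⟨e, he, -, -, h4⟩ :=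
    frame_of_three hF ha hb hp (herm_eq_zero_comm (isU5 hF) hba) hap hbp
  exact ⟨e, he, h4⟩

/-- A frame through two orthogonal vectors of norm one. -/
theorem frame_two {p q : Fin 5 → F} (hp : hf5 p p = 1) (hq : hf5 q q = 1) (hpq : hf5 p q = 0) :
    ∃ e, IsFrame e ∧ e 3 = q ∧ e 4 = p := by
  have hf := isU5 hF
  obtain ⟨a, ha, hap, haq, -⟩ := exists_norm_one_perp_three hF hp hq hpq p
  obtain ⟨e, he, h0, h1, h4⟩ := frame_of_three hF hq ha hp (herm_eq_zero_comm hf haq)
    (herm_eq_zero_comm hf hpq) hap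
  refine ⟨fun i => e (Equiv.swap 0 3 i), fun i j => ?_, ?_, ?_⟩
  · simp [he _ _]
  · simpa using h0
  · show e (Equiv.swap (0 : Fin 5) 3 4) = p
    rw [Equiv.swap_apply_of_ne_of_ne (by decide) (by decide)]; exact h4

include hω

/-- An isotropic vector orthogonal to `p` is a sum of two members of a frame ending with `p`. -/
theorem frame_iso {c p : Fin 5 → F} (hc0 : c ≠ 0) (hcc : hf5 c c = 0) (hp : hf5 p p = 1)
    (hcp : hf5 c p = 0) : ∃ e, IsFrame e ∧ e 0 + e 1 = c ∧ e 4 = p := by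
  have hf := isU5 hF
  have h2 := two_zero hF
  have hpc := herm_eq_zero_comm hf hcp
  obtain ⟨z₀, hz₀⟩ := (hf.nondegenerate c hc0).1
  set z := z₀ + hf5 z₀ p • p with hz
  have hzp : hf5 z p = 0 := by
    simp only [hf5] at hp hz ⊢
    rw [hz, hf.add_left, hf.smul_left, hp, mul_one]
    linear_combination (Cfsg.hermForm 5 F 2 z₀ p) * h2
  have hzc : hf5 z c ≠ 0 := by
    simp only [hf5] at hpc hz ⊢
    rw [hz, hf.add_left, hf.smul_left, hpc, mul_zero, add_zero]
    exact hz₀
  obtain ⟨t, ht⟩ := exists_shift hf hcc hzc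
  obtain ⟨k, hk⟩ : ∃ k, k = (hf5 z c)⁻¹ := ⟨_, rfl⟩
  set w := k • (z + t • c) with hw
  simp only [hf5] at hcc hp hcp hpc hzp hzc hk
  have hwc : Cfsg.hermForm 5 F 2 w c = 1 := by
    rw [hw, hf.smul_left, hf.add_left, hf.smul_left, hcc, mul_zero, add_zero, hk,
      inv_mul_cancel₀ hzc]
  have hcw : Cfsg.hermForm 5 F 2 c w = 1 := by rw [hf.herm, hwc, map_one]
  have hwp : Cfsg.hermForm 5 F 2 w p = 0 := by
    rw [hw, hf.smul_left, hf.add_left, hf.smul_left, hzp, hcp, mul_zero, add_zero, mul_zero]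
  have hww : Cfsg.hermForm 5 F 2 w w = 0 := by
    rw [hw, hf.smul_left, herm_smul_right hf, ht, mul_zero, mul_zero]
  set a := ω • c + w with ha'
  have ha : hf5 a a = 1 := by
    simp only [hf5, ha', hf.add_left, herm_add_right hf, hf.smul_left, herm_smul_right hf, hcc,
      hcw, hwc, hww, conj_eq_sq hF]
    linear_combination hω - (1 : F) * h2
  have hac : Cfsg.hermForm 5 F 2 a c = 1 := by
    rw [ha', hf.add_left, hf.smul_left, hcc, hwc, mul_zero, zero_add]
  have hca : Cfsg.hermForm 5 F 2 c a = 1 := by rw [hf.herm, hac, map_one]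
  simp only [hf5] at ha
  have hb : hf5 (a + c) (a + c) = 1 := by
    simp only [hf5, hf.add_left, herm_add_right hf, ha, hac, hca, hcc]
    linear_combination h2
  have hab : hf5 a (a + c) = 0 := by
    simp only [hf5, herm_add_right hf, ha, hac]
    linear_combination h2
  have hap : hf5 a p = 0 := by
    simp only [hf5, ha', hf.add_left, hf.smul_left, hcp, hwp, mul_zero, add_zero]
  have hbp : hf5 (a + c) p = 0 := by
    simp only [hf5] at hap ⊢
    rw [hf.add_left, hap, hcp, add_zero]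
  obtain ⟨e, he, h0, h1, h4⟩ := frame_of_three hF ha hb hp hab hap hbp
  exact ⟨e, he, by rw [h0, h1, ← add_assoc, add_self' hF, zero_add], h4⟩

omit hω

/-- Elements agreeing on a frame are equal. -/
theorem frame_ext {e : Fin 5 → Fin 5 → F} (he : IsFrame e) :
    (∀ x, x = ∑ i, hf5 x (e i) • e i) ∧
      ∀ A B : ↥(Cfsg.SU 5 F 2), (∀ i, act A (e i) = act B (e i)) → A = B := by
  have hf := isU5 hF
  have hli : LinearIndependent F e := by
    rw [Fintype.linearIndependent_iff]
    intro g hg i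
    have h1 := congrArg (hLin hf (e i)) hg
    rw [map_sum, map_zero] at h1
    simp only [map_smul, smul_eq_mul] at h1
    rw [Finset.sum_eq_single i (fun j _ hji => by
      show g j * hf5 (e j) (e i) = 0
      rw [he, if_neg hji, mul_zero]) (by simp)] at h1
    simpa [hLin, show Cfsg.hermForm 5 F 2 (e i) (e i) = 1 by rw [← hf5, he, if_pos rfl]] using h1
  have htop : Submodule.span F (Set.range e) = ⊤ :=
    hli.span_eq_top_of_card_eq_finrank (by simp)
  have hexp : ∀ x, x = ∑ i, hf5 x (e i) • e i := by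
    intro x
    obtain ⟨g, rfl⟩ := Submodule.mem_span_range_iff_exists_fun F |>.1
      (htop ▸ Submodule.mem_top : x ∈ Submodule.span F (Set.range e))
    refine Finset.sum_congr rfl fun i _ => ?_
    congr 1
    show g i = hLin hf (e i) _
    rw [map_sum, Finset.sum_eq_single i (fun j _ hji => by
      rw [map_smul, show hLin hf (e i) (e j) = 0 by show hf5 (e j) (e i) = 0; rw [he, if_neg hji],
        smul_zero]) (by simp), map_smul,
      show hLin hf (e i) (e i) = 1 by show hf5 (e i) (e i) = 1; rw [he, if_pos rfl], smul_eq_mul,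
      mul_one]
  refine ⟨hexp, fun A B h => su_ext fun x => ?_⟩
  rw [hexp x]
  simp only [act, Matrix.mulVec_sum, Matrix.mulVec_smul]
  exact Finset.sum_congr rfl fun i _ => by rw [show _ *ᵥ e i = _ from h i]

include hω

/-- `δ` of two orthogonal vectors of norm one. -/
theorem exists_delta {a b : Fin 5 → F} (ha : hf5 a a = 1) (hb : hf5 b b = 1) (hab : hf5 a b = 0) :
    ∃ A, IsDelta ω A a b ∧
      ∀ x, act A x = x + (ω ^ 2 * hf5 x a) • a + (ω * hf5 x b) • b := by
  have hf := isU5 hF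
  have h2 := two_zero hF
  have hba := herm_eq_zero_comm hf hab
  simp only [hf5] at ha hb hab hba ⊢
  have h3 : ω ^ 3 = 1 := by linear_combination (ω - 1) * hω
  have n0 : ∀ k : F, a + k • b ≠ 0 := fun k e => by
    have := congrArg (Cfsg.hermForm 5 F 2 · a) e
    simp [hf.add_left, hf.smul_left, ha, hba, herm_zero_left hf] at this
  obtain ⟨R, hR⟩ := exists_tr hF (v := a + b) (by simpa using n0 1) (by
    simp only [hf.add_left, herm_add_right hf, ha, hb, hab, hba]; linear_combination h2)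
  obtain ⟨R', hR'⟩ := exists_tr hF (v := a + ω • b) (n0 ω) (by
    simp only [hf.add_left, herm_add_right hf, hf.smul_left, herm_smul_right hf, ha, hb, hab, hba,
      conj_eq_sq hF]
    linear_combination h3 + h2)
  refine ⟨R * R', ⟨R, R', hR, hR', rfl⟩, fun x => ?_⟩
  simp only [act_mul, hR.2.2, hR'.2.2, hf.add_left, herm_add_right hf, hf.smul_left,
    herm_smul_right hf, ha, hb, hab, hba, conj_eq_sq hF]
  match_scalars
  · ring
  · linear_combination Cfsg.hermForm 5 F 2 x a * ((2 + ω) * h2 - hω) +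
      Cfsg.hermForm 5 F 2 x b * ((ω ^ 2 + 1) * h2 + h3)
  · linear_combination (Cfsg.hermForm 5 F 2 x a * (1 + ω) + Cfsg.hermForm 5 F 2 x b * (ω ^ 3 - ω)) * h2 +
      Cfsg.hermForm 5 F 2 x b * hω

/-- The action of `δ` on a frame. -/
theorem frame_delta {e : Fin 5 → Fin 5 → F} (he : IsFrame e) {i j : Fin 5} (hij : i ≠ j) :
    ∃ A, IsDelta ω A (e i) (e j) ∧
      ∀ k, act A (e k) = (if k = i then ω else if k = j then ω ^ 2 else 1) • e k := by
  have h2 := two_zero hF
  obtain ⟨A, hA, hact⟩ := exists_delta hF hω (by rw [he, if_pos rfl]) (by rw [he, if_pos rfl])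
    (show hf5 (e i) (e j) = 0 by rw [he, if_neg hij])
  refine ⟨A, hA, fun k => ?_⟩
  rw [hact, he, he]
  by_cases h1 : k = i
  · subst h1
    rw [if_pos rfl, if_neg hij, if_pos rfl]
    match_scalars <;> first | ring1 | linear_combination hω - ω * h2
  · by_cases h3 : k = j
    · subst h3
      rw [if_neg h1, if_pos rfl, if_neg h1, if_pos rfl]
      match_scalars <;> first | ring1 | linear_combination hω - ω ^ 2 * h2
    · rw [if_neg h1, if_neg h3, if_neg h1, if_neg h3]
      simp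

/-- Pseudo-reflections through transvections. -/
theorem frame_zeta {e : Fin 5 → Fin 5 → F} (he : IsFrame e) {A B C E : ↥(Cfsg.SU 5 F 2)}
    (hA : ∀ k, act A (e k) = (if k = 0 then ω else if k = 2 then ω ^ 2 else 1) • e k)
    (hB : ∀ k, act B (e k) = (if k = 1 then ω else if k = 2 then ω ^ 2 else 1) • e k)
    (hC : ∀ k, act C (e k) = (if k = 2 then ω else if k = 3 then ω ^ 2 else 1) • e k)
    (hE : ∀ k, act E (e k) = (if k = 2 then ω else if k = 4 then ω ^ 2 else 1) • e k) :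
    IsZeta ω (A * B * C * C * E) (e 4) ∧
      IsZeta ω (A * B * C * C * E * (A * B * C * C * E) * (A * B * (A * B))) (e 3) := by
  have hf := isU5 hF
  have h2 := two_zero hF
  obtain ⟨hexp, -⟩ := frame_ext hF he
  have h3 : ω ^ 3 = 1 := by linear_combination (ω - 1) * hω
  have key : ∀ (T : ↥(Cfsg.SU 5 F 2)) (r : Fin 5),
      (∀ k, act T (e k) = (if k = r then ω ^ 2 else ω) • e k) → IsZeta ω T (e r) := by
    intro T r hT
    refine ⟨by rw [he, if_pos rfl], fun x => ?_⟩
    conv_lhs => rw [hexp x]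
    conv_rhs => arg 1; rw [hexp x]
    simp only [act, Matrix.mulVec_sum, Matrix.mulVec_smul, Finset.smul_sum]
    rw [show hf5 x (e r) • e r = ∑ i, if i = r then hf5 x (e i) • e i else 0 by simp,
      ← Finset.sum_add_distrib]
    refine Finset.sum_congr rfl fun i _ => ?_
    rw [show _ *ᵥ e i = _ from hT i]
    split_ifs with h
    · match_scalars
      linear_combination (hf5 x (e i)) * hω - (ω * hf5 x (e i) + hf5 x (e i)) * h2
    · match_scalars
      ring
  constructor
  · refine key _ 4 fun k => ?_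
    simp only [act_mul, hE, hC, hB, hA, act_smul', smul_smul]
    congr 1
    fin_cases k <;> simp
    · linear_combination (ω ^ 4 + ω) * h3
    · linear_combination ω * h3
  · refine key _ 3 fun k => ?_
    simp only [act_mul, hE, hC, hB, hA, act_smul', smul_smul]
    congr 1
    fin_cases k <;> simp
    · linear_combination ω * h3
    · linear_combination ω * h3
    · linear_combination (ω ^ 19 + ω ^ 16 + ω ^ 13 + ω ^ 10 + ω ^ 7 + ω ^ 4 + ω) * h3
    · linear_combination (ω ^ 5 + ω ^ 2) * h3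
    · linear_combination ω * h3

/-- Every vector of norm one has a pseudo-reflection. -/
theorem exists_zeta {p : Fin 5 → F} (hp : hf5 p p = 1) : ∃ A, IsZeta ω A p := by
  obtain ⟨e, he, rfl⟩ := frame_last hF hp
  obtain ⟨A, -, hA⟩ := frame_delta hF hω he (show (0 : Fin 5) ≠ 2 by decide)
  obtain ⟨B, -, hB⟩ := frame_delta hF hω he (show (1 : Fin 5) ≠ 2 by decide)
  obtain ⟨C, -, hC⟩ := frame_delta hF hω he (show (2 : Fin 5) ≠ 3 by decide)
  obtain ⟨E, -, hE⟩ := frame_delta hF hω he (show (2 : Fin 5) ≠ 4 by decide)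
  exact ⟨_, (frame_zeta hF hω he hA hB hC hE).1⟩

omit hω

theorem zeta_conj {A : ↥(Cfsg.SU 5 F 2)} {p : Fin 5 → F} (hA : IsZeta ω A p)
    (g : ↥(Cfsg.SU 5 F 2)) : IsZeta ω (g * A * g⁻¹) (act g p) := by
  have hiso : ∀ x y, hf5 (act g x) (act g y) = hf5 x y := fun x y => g.2 x y
  refine ⟨by rw [hiso]; exact hA.1, fun x => ?_⟩
  have hx : act g (act g⁻¹ x) = x := by rw [← act_mul, mul_inv_cancel, act_one']
  rw [act_mul, act_mul, hA.2, act_add', act_smul', act_smul', hx]
  rw [← hiso (act g⁻¹ x) p, hx]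

theorem zeta_commute_of_orth {A B : ↥(Cfsg.SU 5 F 2)} {p q : Fin 5 → F} (hA : IsZeta ω A p)
    (hB : IsZeta ω B q) (hpq : hf5 p q = 0) : Commute A B := by
  have hf := isU5 hF
  have hqp := herm_eq_zero_comm hf hpq
  simp only [hf5] at hpq hqp
  refine su_ext fun x => ?_
  simp only [act_mul, hA.2, hB.2, hf5, hf.add_left, hf.smul_left, hpq, hqp]
  match_scalars <;> ring

/-- Commuting pseudo-reflections are equal or have orthogonal centres. -/
theorem zeta_commute {A B : ↥(Cfsg.SU 5 F 2)} {p q : Fin 5 → F} (hA : IsZeta ω A p)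
    (hB : IsZeta ω B q) (h : Commute A B) : hf5 p q = 0 ∨ A = B := by
  have hf := isU5 hF
  refine or_iff_not_imp_left.2 fun hpq => su_ext fun x => ?_
  have hp := hA.1
  simp only [hf5] at hpq hp
  have hrel : ∀ y, (Cfsg.hermForm 5 F 2 y q * Cfsg.hermForm 5 F 2 q p) • p =
      (Cfsg.hermForm 5 F 2 y p * Cfsg.hermForm 5 F 2 p q) • q := by
    intro y
    have h1 : act (A * B) y = act (B * A) y := by rw [h.eq]
    simp only [act_mul, hA.2, hB.2, hf5, hf.add_left, hf.smul_left] at h1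
    linear_combination (norm := module) h1
  have hn : Cfsg.hermForm 5 F 2 q p * Cfsg.hermForm 5 F 2 p q = 1 := by
    rw [hf.herm q p]; exact conj_inv hF hpq
  have h1 := hrel p
  rw [mul_comm, hn, one_smul, hp, one_mul] at h1
  rw [hA.2, hB.2, h1]
  congr 1
  simp only [hf5, herm_smul_right hf, smul_smul, ← hf.herm q p]
  congr 1
  linear_combination (Cfsg.hermForm 5 F 2 x q) * hn

/-- Transvections orthogonal to `p` commute with the pseudo-reflection at `p`. -/
theorem zeta_commute_tr {A R : ↥(Cfsg.SU 5 F 2)} {p c : Fin 5 → F} (hA : IsZeta ω A p)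
    (hR : IsTr R c) (hcp : hf5 c p = 0) : Commute A R := by
  have hf := isU5 hF
  have hpc := herm_eq_zero_comm hf hcp
  simp only [hf5] at hcp hpc
  refine su_ext fun x => ?_
  simp only [act_mul, hA.2, hR.2.2, hf5, hf.add_left, hf.smul_left, hcp, hpc]
  match_scalars <;> ring

/-- The set of pseudo-reflections. -/
def zetaSet (ω : F) : Set ↥(Cfsg.SU 5 F 2) := {A | ∃ p, IsZeta ω A p}

include hω

theorem zeta_hA : ∀ A ∈ zetaSet ω, ∀ B ∈ zetaSet ω, ∃ C ∈ zetaSet ω,
    Commute A C ∧ Commute B C := by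
  rintro A ⟨p, hA⟩ B ⟨r, hB⟩
  obtain ⟨q, hq, hqp, hqr⟩ := exists_norm_one_perp_two hF p r
  obtain ⟨C, hC⟩ := exists_zeta hF hω hq
  exact ⟨C, ⟨q, hC⟩, (zeta_commute_of_orth hF hC hA hqp).symm,
    (zeta_commute_of_orth hF hC hB hqr).symm⟩

theorem zeta_hC : ∀ A ∈ zetaSet ω, ∀ B ∈ zetaSet ω, ∀ B' ∈ zetaSet ω, Commute B B' →
    ∃ C ∈ zetaSet ω, Commute A C ∧ Commute B C ∧ Commute B' C := by
  rintro A ⟨p, hA⟩ B ⟨r, hB⟩ B' ⟨r', hB'⟩ hBB
  rcases zeta_commute hF hB hB' hBB with h | h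
  · obtain ⟨q, hq, hqr, hqr', hqp⟩ := exists_norm_one_perp_three hF hB.1 hB'.1 h p
    obtain ⟨C, hC⟩ := exists_zeta hF hω hq
    exact ⟨C, ⟨q, hC⟩, (zeta_commute_of_orth hF hC hA hqp).symm,
      (zeta_commute_of_orth hF hC hB hqr).symm, (zeta_commute_of_orth hF hC hB' hqr').symm⟩
  · obtain ⟨C, hC, h1, h2⟩ := zeta_hA hF hω A ⟨p, hA⟩ B ⟨r, hB⟩
    exact ⟨C, hC, h1, h2, h ▸ h2⟩

theorem zeta_hB : ∀ A ∈ zetaSet ω, ∀ B ∈ zetaSet ω, ∀ C ∈ zetaSet ω, ∀ C' ∈ zetaSet ω,
    ¬ Commute A B → Commute A C → Commute B C → Commute A C' → Commute B C' →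
    ∃ E ∈ zetaSet ω, Commute A E ∧ Commute B E ∧ Commute C E ∧ Commute C' E := by
  rintro A ⟨p, hA⟩ B ⟨r, hB⟩ C ⟨q, hC⟩ C' ⟨q', hC'⟩ hn hAC hBC hAC' hBC'
  have hf := isU5 hF
  by_cases hCC : Commute C C'
  · exact ⟨C, ⟨q, hC⟩, hAC, hBC, Commute.refl C, hCC.symm⟩
  have perp : ∀ {A' B' : ↥(Cfsg.SU 5 F 2)} {a b : Fin 5 → F}, IsZeta ω A' a → IsZeta ω B' b →
      Commute A' B' → ∀ E, ¬ Commute A' E → Commute B' E → hf5 a b = 0 := by
    intro A' B' a b ha hb hc E hn' hc'
    exact (zeta_commute hF ha hb hc).resolve_right fun e => hn' (e ▸ hc')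
  have hpq := perp hA hC hAC B hn hBC.symm
  have hrq := perp hB hC hBC A (fun h => hn h.symm) hAC.symm
  have hpq' := perp hA hC' hAC' B hn hBC'.symm
  have hrq' := perp hB hC' hBC' A (fun h => hn h.symm) hAC'.symm
  have hprne : hf5 r p ≠ 0 := fun e => hn (zeta_commute_of_orth hF hB hA e).symm
  have hqqne : hf5 q' q ≠ 0 := fun e => hCC (zeta_commute_of_orth hF hC' hC e).symm
  have h2 := two_zero hF
  simp only [hf5] at hpq hrq hpq' hrq' hprne hqqne
  have hpp : Cfsg.hermForm 5 F 2 p p = 1 := hA.1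
  have hrr : Cfsg.hermForm 5 F 2 r r = 1 := hB.1
  have hqq : Cfsg.hermForm 5 F 2 q q = 1 := hC.1
  have hqq' : Cfsg.hermForm 5 F 2 q' q' = 1 := hC'.1
  have hqp := herm_eq_zero_comm hf hpq
  have hqr := herm_eq_zero_comm hf hrq
  have hq'p := herm_eq_zero_comm hf hpq'
  have hq'r := herm_eq_zero_comm hf hrq'
  -- the isotropic vectors of the two degenerate lines
  have iso : ∀ {u v : Fin 5 → F}, Cfsg.hermForm 5 F 2 u u = 1 → Cfsg.hermForm 5 F 2 v v = 1 →
      Cfsg.hermForm 5 F 2 v u ≠ 0 →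
      Cfsg.hermForm 5 F 2 (v + Cfsg.hermForm 5 F 2 v u • u) u = 0 ∧
      Cfsg.hermForm 5 F 2 (v + Cfsg.hermForm 5 F 2 v u • u) (v + Cfsg.hermForm 5 F 2 v u • u) = 0 := by
    intro u v hu hv huv
    have hn1 : Cfsg.hermForm 5 F 2 u v * Cfsg.hermForm 5 F 2 v u = 1 := by
      rw [hf.herm u v]; exact conj_inv hF huv
    constructor
    · rw [hf.add_left, hf.smul_left, hu, mul_one]
      linear_combination (Cfsg.hermForm 5 F 2 v u) * h2
    · simp only [hf.add_left, herm_add_right hf, hf.smul_left, herm_smul_right hf, hu, hv,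
        ← hf.herm u v]
      linear_combination 3 * hn1 + (2 : F) * h2
  obtain ⟨hap, haa⟩ := iso hpp hrr hprne
  obtain ⟨ha'q, ha'a'⟩ := iso hqq hqq' hqqne
  set a := r + Cfsg.hermForm 5 F 2 r p • p with ha
  set a' := q' + Cfsg.hermForm 5 F 2 q' q • q with ha'
  have haq : Cfsg.hermForm 5 F 2 a q = 0 := by
    rw [ha, hf.add_left, hf.smul_left, hrq, hpq, mul_zero, add_zero]
  have ha'p : Cfsg.hermForm 5 F 2 a' p = 0 := by
    rw [ha', hf.add_left, hf.smul_left, hq'p, hqp, mul_zero, add_zero]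
  have ha'a : Cfsg.hermForm 5 F 2 a' a = 0 := by
    rw [ha, herm_add_right hf, herm_smul_right hf, ha'p, mul_zero, add_zero, ha', hf.add_left,
      hf.smul_left, hq'r, hqr, mul_zero, add_zero]
  -- the vectors are dependent: otherwise their span is too large to be totally isotropic
  obtain ⟨x, hx, hxp, hxq, hxa⟩ := exists_norm_one_perp_three hF hA.1 hC.1 hpq a
  have hxa' : Cfsg.hermForm 5 F 2 x a' = 0 := by
    by_contra hne
    have hmem : a' ∉ Submodule.span F {a} := fun hm => by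
      obtain ⟨t, ht⟩ := Submodule.mem_span_singleton.1 hm
      apply hne
      simp only [hf5] at hxa
      rw [← ht, herm_smul_right hf, hxa, mul_zero]
    have ha0 : a ≠ 0 := fun e => hn (by
      have h1 : r = Cfsg.hermForm 5 F 2 r p • p := by
        rw [← add_left_inj (Cfsg.hermForm 5 F 2 r p • p), ← ha, e, add_self' hF]
      have hnorm : Cfsg.hermForm 5 F 2 p r * Cfsg.hermForm 5 F 2 r p = 1 := by
        rw [hf.herm p r]; exact conj_inv hF hprne
      have hAB : A = B := su_ext fun y => by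
        rw [hA.2, hB.2, hf5, hf5, h1, herm_smul_right hf, smul_smul, ← hf.herm p r]
        congr 2
        linear_combination -(Cfsg.hermForm 5 F 2 y p) * hnorm
      exact hAB ▸ Commute.refl A)
    have hle : Submodule.span F {a} < Submodule.span F {a} ⊔ Submodule.span F {a'} := by
      refine lt_of_le_of_ne le_sup_left fun e => hmem ?_
      rw [e]; exact Submodule.mem_sup_right (Submodule.mem_span_singleton_self _)
    have hd := Submodule.finrank_lt_finrank_of_lt hle
    rw [finrank_span_singleton ha0] at hd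
    set W := Submodule.span F {a} ⊔ Submodule.span F {a'} with hW
    have hWp : ∀ u : Fin 5 → F, Cfsg.hermForm 5 F 2 a u = 0 → Cfsg.hermForm 5 F 2 a' u = 0 →
        ∀ y ∈ W, Cfsg.hermForm 5 F 2 y u = 0 := by
      intro u h1 h3 y hy
      obtain ⟨y₁, hy₁, z, hz, rfl⟩ := Submodule.mem_sup.1 hy
      obtain ⟨s, rfl⟩ := Submodule.mem_span_singleton.1 hy₁
      obtain ⟨t, rfl⟩ := Submodule.mem_span_singleton.1 hz
      simp [hf.add_left, hf.smul_left, h1, h3]
    obtain ⟨y, hy, hyy⟩ := exists_norm_one_two hF (P := W) (by omega) hA.1 hC.1 hpq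
      (hWp p hap ha'p) (hWp q haq ha'q)
    have h1 := hWp a haa ha'a
    have h3 := hWp a' (herm_eq_zero_comm hf ha'a) ha'a'
    obtain ⟨y₁, hy₁, y₂, hy₂, rfl⟩ := Submodule.mem_sup.1 hy
    obtain ⟨s, rfl⟩ := Submodule.mem_span_singleton.1 hy₁
    obtain ⟨t, rfl⟩ := Submodule.mem_span_singleton.1 hy₂
    simp only [hf5, herm_add_right hf, herm_smul_right hf] at hyy
    rw [h1 _ hy, h3 _ hy, mul_zero, mul_zero, add_zero] at hyy
    exact zero_ne_one hyy
  simp only [hf5] at hxp hxq hxa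
  have hxr : hf5 x r = 0 := by
    rw [ha, herm_add_right hf, herm_smul_right hf, hxp, mul_zero, add_zero] at hxa
    exact hxa
  have hxq' : hf5 x q' = 0 := by
    rw [ha', herm_add_right hf, herm_smul_right hf, hxq, mul_zero, add_zero] at hxa'
    exact hxa'
  obtain ⟨E, hE⟩ := exists_zeta hF hω hx
  exact ⟨E, ⟨x, hE⟩, (zeta_commute_of_orth hF hE hA hxp).symm,
    (zeta_commute_of_orth hF hE hB hxr).symm, (zeta_commute_of_orth hF hE hC hxq).symm,
    (zeta_commute_of_orth hF hE hC' hxq').symm⟩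

end CfsgLib.PLocal.ThreeRad
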