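import Cfsg.Agent.Lib.PLocal.ThreeRadSUQuot
import Cfsg.Agent.Lib.PLocal.ThreeRadSUFive
import Cfsg.Agent.Lib.PLocal.ThreeRadFamily

/-!
# Complement of the 2-radical over `SU_5(2)`

Pseudo-reflections act fixed-point-freely on the radical, and their compatible lifts give a
complement.
-/

set_option autoImplicit false
set_option linter.unusedSectionVars false

namespace CfsgLib.PLocal.ThreeRad

open Cfsg.Agent.S1631 Subgroup CfsgLib.MaxSub

variable {F : Type} [Field F] [Fintype F] [DecidableEq F] (hF : Fintype.card F = 4)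
variable {G : Type*} [Group G] {D : Set G} {π : G →* ↥(Cfsg.SU 5 F 2)}

/-- Conjugation of a normal subgroup through a section of the quotient map. -/
noncomputable def actOn (π : G →* ↥(Cfsg.SU 5 F 2)) (s : ↥(Cfsg.SU 5 F 2)) (u : G) : G :=
  Function.invFun π s * u * (Function.invFun π s)⁻¹

section

variable (hs : Setup D π) (hab : ∀ x ∈ π.ker, ∀ y ∈ π.ker, Commute x y)
include hs hab

theorem actOn_image {u : G} (hu : u ∈ π.ker) (g : G) : actOn π (π g) u = g * u * g⁻¹ := by
  unfold actOn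
  set r := Function.invFun π (π g) with hr
  have hpr : π r = π g := Function.invFun_eq ⟨g, rfl⟩
  have h2 := hab (g⁻¹ * r) (by rw [MonoidHom.mem_ker, map_mul, map_inv, hpr, inv_mul_cancel]) u hu
  calc r * u * r⁻¹ = g * ((g⁻¹ * r) * u * (g⁻¹ * r)⁻¹) * g⁻¹ := by group
    _ = g * u * g⁻¹ := by rw [h2.eq, mul_inv_cancel_right]

theorem actOn_mul {u : G} (hu : u ∈ π.ker) (s t : ↥(Cfsg.SU 5 F 2)) :
    actOn π (s * t) u = actOn π s (actOn π t u) := by
  obtain ⟨g, rfl⟩ := hs.surj s
  obtain ⟨k, rfl⟩ := hs.surj t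
  rw [← map_mul, actOn_image hs hab hu, actOn_image hs hab hu,
    actOn_image hs hab (π.normal_ker.conj_mem u hu k)]
  group

theorem actOn_mem {u : G} (hu : u ∈ π.ker) (s : ↥(Cfsg.SU 5 F 2)) : actOn π s u ∈ π.ker :=
  π.normal_ker.conj_mem u hu _

theorem actOn_mul' {u v : G} (s : ↥(Cfsg.SU 5 F 2)) :
    actOn π s (u * v) = actOn π s u * actOn π s v := by
  unfold actOn; group

/-- A transvection commuting with `π d` fixes `U π d`. -/
theorem actOn_fix (himg : π '' D = {A | ∃ v, IsTr A v}) {d u : G} (hd : d ∈ D) (hu : u ∈ U π d)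
    {R : ↥(Cfsg.SU 5 F 2)} {w : Fin 5 → F} (hR : IsTr R w) (hc : Commute R (π d)) :
    actOn π R u = u := by
  obtain ⟨e, he, rfl⟩ : R ∈ π '' D := himg ▸ ⟨w, hR⟩
  rw [actOn_image hs hab (hs.U_le_ker hd hu)]
  exact CfsgLib.Trans3.conj_eq_of_commute (hs.commute_U hd he hc hu)

include hF

/-- `δ` with both vectors orthogonal to the centre fixes the part of that centre. -/
theorem actOn_delta (himg : π '' D = {A | ∃ v, IsTr A v}) {ω : F} {d u : G} {c a b : Fin 5 → F}
    (hd : d ∈ D) (hdc : IsTr (π d) c) (hu : u ∈ U π d) {A : ↥(Cfsg.SU 5 F 2)}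
    (hA : IsDelta ω A a b) (ha : hf5 a c = 0) (hb : hf5 b c = 0) : actOn π A u = u := by
  have hf := isU5 hF
  obtain ⟨R, R', hR, hR', rfl⟩ := hA
  simp only [hf5] at ha hb
  rw [actOn_mul hs hab (hs.U_le_ker hd hu),
    actOn_fix hs hab himg hd hu hR' ((tr_comm_or_braid hF hR' hdc).1
      (by rw [hf.add_left, hf.smul_left, ha, hb, mul_zero, add_zero])),
    actOn_fix hs hab himg hd hu hR ((tr_comm_or_braid hF hR hdc).1
      (by rw [hf.add_left, ha, hb, add_zero]))]

/-- Pseudo-reflections fix nothing in the part of a transvection orthogonal to them. -/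
theorem U_eq_one_of_zeta (hsq : ∀ x ∈ π.ker, x * x = 1) (himg : π '' D = {A | ∃ v, IsTr A v})
    {ω : F} (hω : ω ^ 2 + ω + 1 = 0) {Z : ↥(Cfsg.SU 5 F 2)} {p c : Fin 5 → F}
    (hZ : IsZeta ω Z p) {d u : G} (hd : d ∈ D) (hdc : IsTr (π d) c) (hcp : hf5 c p = 0)
    (hu : u ∈ U π d) (hfix : actOn π Z u = u) : u = 1 := by
  have hf := isU5 hF
  have h2 := two_zero hF
  obtain ⟨e, he, hc, hp⟩ := frame_iso hF hω hdc.1 hdc.2.1 hZ.1 hcp
  obtain ⟨A, hAd, hA⟩ := frame_delta hF hω he (show (0 : Fin 5) ≠ 2 by decide)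
  obtain ⟨B, hBd, hB⟩ := frame_delta hF hω he (show (1 : Fin 5) ≠ 2 by decide)
  obtain ⟨C, hCd, hC⟩ := frame_delta hF hω he (show (2 : Fin 5) ≠ 3 by decide)
  obtain ⟨E, hEd, hE⟩ := frame_delta hF hω he (show (2 : Fin 5) ≠ 4 by decide)
  obtain ⟨N, hNd, hN⟩ := frame_delta hF hω he (show (1 : Fin 5) ≠ 3 by decide)
  obtain ⟨M, hMd, hM⟩ := frame_delta hF hω he (show (0 : Fin 5) ≠ 1 by decide)
  obtain ⟨-, hext⟩ := frame_ext hF he
  have h3 : ω ^ 3 = 1 := by linear_combination (ω - 1) * hω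
  have hZeq : Z = A * B * C * C * E := by
    have h1 := (frame_zeta hF hω he hA hB hC hE).1
    rw [hp] at h1
    exact su_ext fun x => by rw [hZ.2, h1.2]
  have hBA : Commute A B := hext _ _ fun k => by
    simp only [act_mul, hA, hB, act_smul', smul_smul]; rw [mul_comm]
  have hCA : Commute C A := hext _ _ fun k => by
    simp only [act_mul, hA, hC, act_smul', smul_smul]; rw [mul_comm]
  have hA3 : A * A * A = 1 := hext _ _ fun k => by
    simp only [act_mul, hA, act_smul', smul_smul, act_one']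
    conv_rhs => rw [← one_smul F (e k)]
    congr 1
    split_ifs
    · linear_combination h3
    · linear_combination (ω ^ 3 + 1) * h3
    · ring
  have hN' : N = B * C := hext _ _ fun k => by
    simp only [act_mul, hN, hB, hC, act_smul', smul_smul]
    congr 1
    fin_cases k <;> simp
    · linear_combination -h3
  have hM' : M = A * (B * B) := hext _ _ fun k => by
    simp only [act_mul, hM, hA, hB, act_smul', smul_smul]
    congr 1
    fin_cases k <;> simp
    · ring
    · linear_combination -(ω ^ 3 + 1) * h3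
  have hue : u ∈ π.ker := hs.U_le_ker hd hu
  have horth : ∀ i, i ≠ 0 → i ≠ 1 → hf5 (e i) c = 0 := fun i h0 h1 => by
    rw [← hc, hf5, herm_add_right hf, ← hf5, ← hf5, he, he, if_neg h0, if_neg h1, add_zero]
  have fC : actOn π C u = u :=
    actOn_delta hF hs hab himg hd hdc hu hCd (horth 2 (by decide) (by decide))
      (horth 3 (by decide) (by decide))
  have fE : actOn π E u = u :=
    actOn_delta hF hs hab himg hd hdc hu hEd (horth 2 (by decide) (by decide))
      (horth 4 (by decide) (by decide))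
  have fAB : actOn π B (actOn π A u) = u := by
    rw [← actOn_mul hs hab hue, ← hBA.eq]
    rw [hZeq, actOn_mul hs hab hue, fE, actOn_mul hs hab hue, fC, actOn_mul hs hab hue, fC] at hfix
    exact hfix
  -- `A u * u` lies in the part of the third point of the line
  obtain ⟨R, R', hR, hR', hAeq⟩ := hAd
  obtain ⟨r, hr, hrR⟩ : R ∈ π '' D := himg ▸ ⟨_, hR⟩
  obtain ⟨r', hr', hrR'⟩ : R' ∈ π '' D := himg ▸ ⟨_, hR'⟩
  have hAu : actOn π A u = r * (r' * u * r'⁻¹) * r⁻¹ := by
    rw [hAeq, ← hrR, ← hrR', ← map_mul, actOn_image hs hab hue]; group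
  set x := r' * u * r' * u⁻¹ with hx
  set y := r * u * r * u⁻¹ with hy
  have hx' : x ∈ U π r' := mem_U' (hs.sq hr') hue
  have hy' : y ∈ U π r := mem_U' (hs.sq hr) hue
  have hxk := hs.U_le_ker hr' hx'
  have hsplit : actOn π A u * u = r * x * r⁻¹ * y := by
    rw [hAu, hx, hy, hs.inv hr, hs.inv hr', eq_comm]
    calc r * (r' * u * r' * u⁻¹) * r * (r * u * r * u⁻¹)
        = r * (r' * u * r') * (u⁻¹ * (r * r) * u) * r * u⁻¹ := by group
      _ = r * (r' * u * r') * r * u⁻¹ := by rw [hs.sq hr]; group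
      _ = r * (r' * u * r') * r * u := by rw [inv_eq_of_mul_eq_one_right (hsq u hue)]
  have hfN : actOn π N (r * x * r⁻¹ * y) = r * x * r⁻¹ * y := by
    rw [actOn_mul' hs hab]
    have ho : ∀ i, i ≠ 0 → i ≠ 2 → hf5 (e i) (e 0) = 0 ∧ hf5 (e i) (e 2) = 0 := fun i h0 h1 =>
      ⟨by rw [he, if_neg h0], by rw [he, if_neg h1]⟩
    have hN1 := ho 1 (by decide) (by decide)
    have hN3 := ho 3 (by decide) (by decide)
    simp only [hf5] at hN1 hN3
    congr 1
    · refine actOn_delta hF hs hab himg (hs.conj hr' r) (c := act R (e 0 + ω • e 2)) ?_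
        (hs.U_conj r hx') hNd ?_ ?_
      · rw [map_mul, map_mul, map_inv, hrR, hrR']
        refine ⟨fun h => hR'.1 ?_, (R.2 _ _).trans hR'.2.1, fun z => ?_⟩
        · have h1 := congrArg (act R⁻¹) h
          rw [← act_mul, inv_mul_cancel, act_one'] at h1
          rw [h1]; simp [act]
        · have hz : act R (act R⁻¹ z) = z := by rw [← act_mul, mul_inv_cancel, act_one']
          have hiso : Cfsg.hermForm 5 F 2 z (act R (e 0 + ω • e 2)) =
              Cfsg.hermForm 5 F 2 (act R⁻¹ z) (e 0 + ω • e 2) := by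
            conv_lhs => rw [← hz]
            exact R.2 _ _
          rw [act_mul, act_mul, hR'.2.2, act_add', act_smul', hz, hiso]
      · simp only [hf5, hR.2.2, herm_add_right hf, herm_smul_right hf, hN1.1, hN1.2, mul_zero,
          add_zero]
      · simp only [hf5, hR.2.2, herm_add_right hf, herm_smul_right hf, hN3.1, hN3.2, mul_zero,
          add_zero]
    · refine actOn_delta hF hs hab himg hr (hrR.symm ▸ hR) hy' hNd ?_ ?_
      · simp only [hf5, herm_add_right hf, hN1.1, hN1.2, add_zero]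
      · simp only [hf5, herm_add_right hf, hN3.1, hN3.2, add_zero]
  have fCA : actOn π C (actOn π A u) = actOn π A u := by
    rw [← actOn_mul hs hab hue, hCA.eq, actOn_mul hs hab hue, fC]
  rw [← hsplit, hN', actOn_mul hs hab (mul_mem (actOn_mem hs hab hue A) hue),
    actOn_mul' hs hab, fCA, fC, actOn_mul' hs hab, fAB] at hfN
  have hBu : actOn π B u = actOn π A u := by
    have hcm := (hab _ (actOn_mem hs hab hue A) _ hue).eq
    rw [hcm] at hfN
    exact mul_left_cancel hfN
  have hAA : actOn π A (actOn π A u) = u := by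
    rw [← hBu, ← actOn_mul hs hab hue, hBA.eq, actOn_mul hs hab hue]
    exact fAB
  have hAu1 : actOn π A u = u := by
    have h1 : actOn π (A * A * A) u = actOn π A u := by
      rw [mul_assoc, actOn_mul hs hab hue, actOn_mul hs hab hue, hAA]
    have h4 : actOn π (1 : ↥(Cfsg.SU 5 F 2)) u = u := by
      rw [← map_one π, actOn_image hs hab hue]; simp
    rw [hA3, h4] at h1
    exact h1.symm
  have hMu : actOn π M u = u := by
    rw [hM', actOn_mul hs hab hue, actOn_mul hs hab hue, hBu, hAu1, hBu, hAu1, hAu1]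
  obtain ⟨S, S', hS, hS', hMeq⟩ := hMd
  rw [hc] at hS
  have hSd : S = π d := su_ext fun z => by rw [hS.2.2, hdc.2.2]
  rw [hMeq, actOn_mul hs hab hue, hSd] at hMu
  obtain ⟨s', hs'', hsS⟩ : S' ∈ π '' D := himg ▸ ⟨_, hS'⟩
  have hS'u : actOn π S' u = u := by
    have h0 : actOn π (π d) (actOn π (π d) (actOn π S' u)) = actOn π S' u := by
      rw [← actOn_mul hs hab (actOn_mem hs hab hue S'), ← map_mul, hs.sq hd,
        actOn_image hs hab (actOn_mem hs hab hue S')]
      simp
    rw [hMu, actOn_fix hs hab himg hd hu hdc (Commute.refl _)] at h0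
    exact h0.symm
  rw [← hsS, actOn_image hs hab hue] at hS'u
  refine hs.eq_one_of_fixed hd hs'' (fun hcm => ?_) hu (mul_inv_eq_iff_eq_mul.1 hS'u)
  rw [hsS] at hcm
  have hne : hf5 c (e 0 + ω • e 1) ≠ 0 := by
    rw [← hc, hf5, hf.add_left, herm_add_right hf, herm_add_right hf, herm_smul_right hf,
      herm_smul_right hf, ← hf5, ← hf5, ← hf5, ← hf5, he, he, he, he, conj_eq_sq hF]
    simp only [if_pos, if_neg (show (1 : Fin 5) ≠ 0 by decide),
      if_neg (show (0 : Fin 5) ≠ 1 by decide)]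
    intro h
    have hω0 : ω = 0 := by linear_combination hω - h
    exact (one_ne_zero : (1 : F) ≠ 0) (by linear_combination hω - (ω + 1) * hω0)
  have hb := (tr_comm_or_braid hF hdc hS').2 hne
  have h1 : π d * S' * π d = S' * π d * π d := by rw [hcm.eq]
  have hdd : π d * π d = 1 := by rw [← map_mul, hs.sq hd, map_one]
  rw [h1, mul_assoc S', hdd, mul_one] at hb
  have h5 : S' = π d := by
    calc S' = S' * π d * S' := hb
      _ = π d * (S' * S') := by rw [← hcm.eq, mul_assoc]
      _ = π d := by rw [(tr_sq hF hS').1, mul_one]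
  have h6 : act (π d) (e 0) = act S' (e 0) := by rw [h5]
  rw [hdc.2.2, hS'.2.2] at h6
  have h7 := congrArg (fun z => hf5 z (e 1)) h6
  simp only [hf5, hf.add_left, hf.smul_left, herm_add_right hf, herm_smul_right hf, ← hc] at h7
  simp only [show ∀ i j, Cfsg.hermForm 5 F 2 (e i) (e j) = if i = j then 1 else 0 from he] at h7
  simp [conj_eq_sq hF] at h7
  exact (one_ne_zero : (1 : F) ≠ 0) (by linear_combination hω + (ω + 2) * h7 - (1 : F) * h2)

/-- Pseudo-reflections act fixed-point-freely. -/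
theorem zeta_fpf (hsq : ∀ x ∈ π.ker, x * x = 1) (himg : π '' D = {A | ∃ v, IsTr A v})
    {ω : F} (hω : ω ^ 2 + ω + 1 = 0) : FpfOn π (zetaSet ω) := by
  have hf := isU5 hF
  rintro g q ⟨p, hg⟩ hq hc
  have hqk : q ∈ π.ker := hq
  have hfix : actOn π (π g) q = q := by
    rw [actOn_image hs hab hqk, hc.eq, mul_inv_cancel_right]
  set Z := π g with hZdef
  clear_value Z
  have one : ∀ {Z : ↥(Cfsg.SU 5 F 2)} {p c : Fin 5 → F}, IsZeta ω Z p → actOn π Z q = q →
      ∀ {R : ↥(Cfsg.SU 5 F 2)}, IsTr R c → hf5 c p = 0 → actOn π R q = q := by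
    intro Z p c hZ hZq R hR hcp
    obtain ⟨d, hd, rfl⟩ : R ∈ π '' D := himg ▸ ⟨c, hR⟩
    have hx : d * q * d * q⁻¹ ∈ U π d := mem_U' (hs.sq hd) hqk
    have heq : d * q * d * q⁻¹ = actOn π (π d) q * q⁻¹ := by
      rw [actOn_image hs hab hqk, hs.inv hd]
    rw [heq] at hx
    have h1 := U_eq_one_of_zeta hF hs hab hsq himg hω hZ hd hR hcp hx ?_
    · exact mul_inv_eq_one.1 h1
    · have hi : actOn π Z q⁻¹ = q⁻¹ := by
        rw [inv_eq_of_mul_eq_one_right (hsq q hqk)]; exact hZq
      rw [actOn_mul' hs hab, hi, ← actOn_mul hs hab hqk,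
        (zeta_commute_tr hF hZ hR hcp).eq, actOn_mul hs hab hqk, hZq]
  have perp : ∀ {Z Z' : ↥(Cfsg.SU 5 F 2)} {p p' : Fin 5 → F}, IsZeta ω Z p → actOn π Z q = q →
      IsZeta ω Z' p' → hf5 p p' = 0 → actOn π Z' q = q := by
    intro Z Z' p p' hZ hZq hZ' hpp
    obtain ⟨e, he, h3, h4⟩ := frame_two hF hZ.1 hZ'.1 hpp
    obtain ⟨A, hAd, hA⟩ := frame_delta hF hω he (show (0 : Fin 5) ≠ 2 by decide)
    obtain ⟨B, hBd, hB⟩ := frame_delta hF hω he (show (1 : Fin 5) ≠ 2 by decide)
    obtain ⟨C, -, hC⟩ := frame_delta hF hω he (show (2 : Fin 5) ≠ 3 by decide)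
    obtain ⟨E, -, hE⟩ := frame_delta hF hω he (show (2 : Fin 5) ≠ 4 by decide)
    obtain ⟨h5, h6⟩ := frame_zeta hF hω he hA hB hC hE
    rw [h4] at h5
    rw [h3] at h6
    have e1 : A * B * C * C * E = Z := su_ext fun x => by rw [h5.2, hZ.2]
    rw [e1] at h6
    have e2 : Z' = Z * Z * (A * B * (A * B)) := su_ext fun x => by rw [h6.2, hZ'.2]
    have hd : ∀ {T : ↥(Cfsg.SU 5 F 2)} {i j : Fin 5}, IsDelta ω T (e i) (e j) → i ≠ 4 → j ≠ 4 →
        actOn π T q = q := by
      rintro T i j ⟨R, R', hR, hR', rfl⟩ hi hj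
      have o : ∀ k, k ≠ (4 : Fin 5) → Cfsg.hermForm 5 F 2 (e k) p = 0 := fun k hk => by
        rw [← h4, ← hf5, he, if_neg hk]
      rw [actOn_mul hs hab hqk, one hZ hZq hR' (by
          simp only [hf5, hf.add_left, hf.smul_left, o i hi, o j hj, mul_zero, add_zero]),
        one hZ hZq hR (by simp only [hf5, hf.add_left, o i hi, o j hj, add_zero])]
    have fA := hd hAd (by decide) (by decide)
    have fB := hd hBd (by decide) (by decide)
    rw [e2, actOn_mul hs hab hqk, actOn_mul hs hab hqk, actOn_mul hs hab hqk, fB, fA,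
      actOn_mul hs hab hqk, fB, fA, actOn_mul hs hab hqk, hZq, hZq]
  have hall : ∀ e ∈ D, Commute e q := by
    intro e he
    obtain ⟨c, hce⟩ : ∃ c, IsTr (π e) c := by
      have h : π e ∈ π '' D := ⟨e, he, rfl⟩
      rwa [himg] at h
    obtain ⟨r, hr, hrc, -⟩ := exists_norm_one_perp_two hF c c
    obtain ⟨Y, hY⟩ := exists_zeta hF hω hr
    obtain ⟨s, hss, hsp, hsr⟩ := exists_norm_one_perp_two hF p r
    obtain ⟨X, hX⟩ := exists_zeta hF hω hss
    have hXq := perp hg hfix hX (herm_eq_zero_comm hf hsp)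
    have hYq := perp hX hXq hY hsr
    have h1 := one hY hYq hce (herm_eq_zero_comm hf hrc)
    rw [actOn_image hs hab hqk] at h1
    exact mul_inv_eq_iff_eq_mul.1 h1
  have hcen : q ∈ center G := by
    rw [← centralizer_univ, ← coe_top, ← hs.cls.2.2, centralizer_closure]
    exact mem_centralizer_iff.2 fun e he => (hall e he).eq
  rwa [hs.zc, mem_bot] at hcen

end

include hF

theorem radical_complement [Finite G] (hD : Cfsg.IsThreeTranspositionClass D)
    (hZ : center G = ⊥) (hsurj : Function.Surjective π) (hker : IsPGroup 2 π.ker) :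
    ∃ K : Subgroup G, π.ker.IsComplement' K := by
  obtain ⟨hcomm, hexp⟩ :=
    radical_elementary hF (le_refl 5) (by norm_num) (by norm_num) hD hZ hsurj hker
  have hs := setup_of_quotient hF (le_refl 5) (by norm_num) (by norm_num) hD hZ hsurj hker
  have himg := image_eq_tr hF (le_refl 5) (by norm_num) (by norm_num) hD hsurj
  have hab : ∀ x ∈ π.ker, ∀ y ∈ π.ker, Commute x y := fun x hx y hy =>
    congrArg Subtype.val (hcomm.is_comm.comm ⟨x, hx⟩ ⟨y, hy⟩)
  obtain ⟨ω, hω, -, -⟩ := exists_omega hF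
  have hf := isU5 hF
  refine complement_of_family hsurj ?_ ?_
    (zeta_fpf hF hs hab (fun x hx => by rw [← pow_two]; exact hexp x hx) himg hω)
    (zeta_hA hF hω) (zeta_hB hF hω) (zeta_hC hF hω)
  · obtain ⟨p, hp, -, -⟩ := exists_norm_one_perp_two hF (0 : Fin 5 → F) 0
    obtain ⟨A, hA⟩ := exists_zeta hF hω hp
    exact ⟨A, p, hA⟩
  · rintro s A ⟨p, hA⟩
    exact ⟨_, zeta_conj hF hA s⟩

end CfsgLib.PLocal.ThreeRad
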