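import Cfsg.Agent.Lib.PLocal.ThreeRadElem
import Cfsg.Agent.Lib.PLocal.ThreeRadSUClass
import Cfsg.Agent.Lib.Classical.UnitaryGen
import Cfsg.Agent.Lib.Classical.SUCenter
import Cfsg.Agent.S2089
import Cfsg.Prelude.Def_Transfer

/-!
# A centre-free group of 3-transpositions over `SU_n(2)` has elementary abelian 2-radical

For `n = 5` or `7` and more generally for `n ≥ 5` prime to 3 and other than 6.
-/

set_option autoImplicit false
set_option linter.unusedSectionVars false

namespace CfsgLib.PLocal.ThreeRad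

open Cfsg.Agent.S1631 Subgroup

universe u

theorem image_class {G S : Type*} [Group G] [Group S] [Nontrivial S] {D : Set G} {π : G →* S}
    (hD : Cfsg.IsThreeTranspositionClass D) (hsurj : Function.Surjective π) :
    Cfsg.IsThreeTranspositionClass (π '' D) := by
  obtain ⟨⟨hord, hprod⟩, ⟨d, hd, hDeq⟩, hgen⟩ := hD
  have hne : π d ≠ 1 := by
    intro h1
    have hle : closure D ≤ π.ker := (closure_le _).2 fun e he => by
      obtain ⟨g, rfl⟩ := isConj_iff.1 (show IsConj d e by rw [hDeq] at he; exact he)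
      rw [SetLike.mem_coe, MonoidHom.mem_ker, map_mul, map_mul, h1, mul_one, map_inv,
        mul_inv_cancel]
    obtain ⟨x, hx⟩ := exists_ne (1 : S)
    obtain ⟨g, rfl⟩ := hsurj x
    exact hx (MonoidHom.mem_ker.1 (hle (hgen ▸ mem_top g)))
  haveI : Fact (Nat.Prime 2) := ⟨Nat.prime_two⟩
  refine ⟨⟨?_, ?_⟩, ⟨π d, ⟨d, hd, rfl⟩, ?_⟩, ?_⟩
  · rintro _ ⟨e, he, rfl⟩
    refine orderOf_eq_prime (by rw [← map_pow, ← hord e he, pow_orderOf_eq_one, map_one]) ?_
    intro h1
    obtain ⟨g, rfl⟩ := isConj_iff.1 (show IsConj d e by rw [hDeq] at he; exact he)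
    refine hne ?_
    rw [map_mul, map_mul, map_inv, mul_inv_eq_one] at h1
    exact mul_left_cancel (h1.trans (mul_one _).symm)
  · rintro _ ⟨a, ha, rfl⟩ _ ⟨b, hb, rfl⟩
    rcases hprod a ha b hb with h | h
    · exact Or.inl (by rw [← map_mul, ← map_pow, h, map_one])
    · exact Or.inr (by rw [← map_mul, ← map_pow, h, map_one])
  · ext y
    constructor
    · rintro ⟨e, he, rfl⟩
      rw [hDeq] at he
      exact MonoidHom.map_isConj π (he : IsConj d e)
    · intro hy
      obtain ⟨c, rfl⟩ := isConj_iff.1 (hy : IsConj (π d) y)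
      obtain ⟨g, rfl⟩ := hsurj c
      refine ⟨g * d * g⁻¹, ?_, by simp⟩
      rw [hDeq]
      exact isConj_iff.2 ⟨g, rfl⟩
  · rw [← MonoidHom.map_closure, hgen, map_top_of_surjective π hsurj]

section SU

variable {F : Type} [Field F] [Fintype F] {n : ℕ} (hF : Fintype.card F = 4)
  (hn : 5 ≤ n) (hn6 : n ≠ 6) (hn3 : Nat.gcd n 3 = 1)
include hF hn hn6 hn3

theorem su_center : center (Cfsg.SU n F 2) = ⊥ := by
  rw [← card_eq_one, CfsgLib.Classical.card_center_su (hF' hF) (by omega)]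
  exact hn3

theorem psu_equiv : Nonempty (Cfsg.PSU n F 2 ≃* ↥(Cfsg.SU n F 2)) :=
  ⟨(QuotientGroup.quotientMulEquivOfEq (su_center hF hn hn6 hn3)).trans QuotientGroup.quotientBot⟩

theorem su_simple : IsSimpleGroup ↥(Cfsg.SU n F 2) := by
  haveI := CfsgLib.Classical.isSimpleGroup_psu (hF' hF) (n := n) (by omega) (by omega)
  obtain ⟨e⟩ := psu_equiv hF hn hn6 hn3
  exact e.symm.isSimpleGroup

theorem su_noncomm : ∃ x y : ↥(Cfsg.SU n F 2), x * y ≠ y * x := by
  haveI := su_simple hF hn hn6 hn3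
  by_contra h
  obtain ⟨x, hx⟩ := exists_ne (1 : ↥(Cfsg.SU n F 2))
  refine hx (mem_bot.1 ?_)
  rw [← su_center hF hn hn6 hn3, mem_center_iff]
  exact fun g => not_not.1 fun h' => h ⟨g, x, h'⟩

theorem su_stem (Γ : Type u) [Group Γ] [Finite Γ] (σ : Γ →* ↥(Cfsg.SU n F 2))
    (hσ : Cfsg.IsStemExtension σ) : σ.ker = ⊥ := by
  obtain ⟨e⟩ := psu_equiv hF hn hn6 hn3
  have hM : Cfsg.HasCyclicSchurMultiplier (Cfsg.PSU n F 2) 1 := by
    have h := Cfsg.Agent.S2089.result (F := F) n 2 (hF' hF) (by omega) (by omega) (by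
      simp only [Set.mem_insert_iff, Set.mem_singleton_iff, Prod.mk.injEq]; omega)
    rwa [show Nat.gcd n (2 + 1) = 1 from hn3] at h
  let eq := (equivShrink.{0} Γ).symm
  letI : Group (Shrink.{0} Γ) := eq.group
  let me : Shrink.{0} Γ ≃* Γ := eq.mulEquiv
  haveI : Finite (Shrink.{0} Γ) := Finite.of_equiv Γ eq.symm
  let τ : Shrink.{0} Γ →* Cfsg.PSU n F 2 := e.symm.toMonoidHom.comp (σ.comp me.toMonoidHom)
  have hτker : ∀ x, x ∈ τ.ker ↔ me x ∈ σ.ker := fun x => by
    simp only [τ, MonoidHom.mem_ker, MonoidHom.comp_apply, MulEquiv.coe_toMonoidHom,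
      EmbeddingLike.map_eq_one_iff]
  have hτ : Cfsg.IsStemExtension τ := by
    refine ⟨fun y => ?_, fun x hx => mem_center_iff.2 fun g => me.injective ?_, fun x hx => ?_⟩
    · obtain ⟨g, hg⟩ := hσ.1 (e y)
      exact ⟨me.symm g, by simp [τ, hg]⟩
    · rw [map_mul, map_mul]
      exact mem_center_iff.1 (hσ.2.1 ((hτker x).1 hx)) (me g)
    · have h1 : me x ∈ (commutator (Shrink.{0} Γ)).map me.toMonoidHom := by
        rw [_root_.commutator_def, map_commutator, map_top_of_surjective _ me.surjective,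
          ← _root_.commutator_def]
        exact hσ.2.2 ((hτker x).1 hx)
      obtain ⟨y, hy, hyx⟩ := h1
      exact me.injective hyx ▸ hy
  obtain ⟨f, hf⟩ := hM.2 (Shrink.{0} Γ) τ hτ
  haveI : Subsingleton (Multiplicative (ZMod 1)) := inferInstance
  rw [eq_bot_iff]
  intro x hx
  have h1 : (⟨me.symm x, (hτker _).2 (by simpa using hx)⟩ : τ.ker) = 1 :=
    hf.subsingleton.elim _ _
  rw [mem_bot]
  simpa using congrArg Subtype.val h1

variable {G : Type u} [Group G] [Finite G] {D : Set G} {π : G →* ↥(Cfsg.SU n F 2)}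

theorem image_eq_tr (hD : Cfsg.IsThreeTranspositionClass D) (hsurj : Function.Surjective π) :
    π '' D = {A | ∃ v, IsTr A v} := by
  classical
  haveI := su_simple hF hn hn6 hn3
  exact class_eq_tr hF (by omega) (image_class hD hsurj)

theorem setup_of_quotient (hD : Cfsg.IsThreeTranspositionClass D) (hZ : center G = ⊥)
    (hsurj : Function.Surjective π) (hker : IsPGroup 2 π.ker) : Setup D π where
  cls := hD
  surj := hsurj
  ker2 := hker
  zc := hZ
  gen a ha b hb hn' := by
    haveI := su_simple hF hn hn6 hn3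
    exact closure_perpPair_of_simple (su_noncomm hF hn hn6 hn3) (image_class hD hsurj)
      ⟨a, ha, rfl⟩ ⟨b, hb, rfl⟩ hn'

theorem radical_elementary (hD : Cfsg.IsThreeTranspositionClass D) (hZ : center G = ⊥)
    (hsurj : Function.Surjective π) (hker : IsPGroup 2 π.ker) :
    Cfsg.IsElementaryAbelian 2 π.ker := by
  haveI := su_simple hF hn hn6 hn3
  obtain ⟨s, hs, hc, hp⟩ := five_product hF (n := n) (by omega)
  have hperf : commutator ↥(Cfsg.SU n F 2) = ⊤ := by
    refine (IsSimpleGroup.eq_bot_or_eq_top_of_normal _ inferInstance).resolve_left fun h => ?_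
    obtain ⟨x, y, hxy⟩ := su_noncomm hF hn hn6 hn3
    have h1 := commutator_mem_commutator (mem_top x) (mem_top y)
    rw [← _root_.commutator_def, h, mem_bot] at h1
    exact hxy (commutatorElement_eq_one_iff_mul_comm.1 h1)
  have h := (setup_of_quotient hF hn hn6 hn3 hD hZ hsurj hker).ker_elementary hperf
    (su_stem hF hn hn6 hn3) (s := s)
    (fun i => by rw [image_eq_tr hF hn hn6 hn3 hD hsurj]; exact hs i) hc hp
  exact ⟨⟨⟨fun a b => Subtype.ext ((h a a.2).2 b b.2).eq⟩⟩,
    fun a ha => by rw [pow_two]; exact (h a ha).1⟩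

end SU

end CfsgLib.PLocal.ThreeRad
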