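import Mathlib

/-!
# Truncated exponentials of sums of square-zero, mutually normalizing subspaces
-/

set_option autoImplicit false

namespace CfsgLib.PLocal

variable {E : Type*} [Ring E]

/-- `1 + z + z²/2 + z³/6`, with `6 h = 1`. -/
def tExp (h : ℤ) (z : E) : E := 1 + z + (3 * h) • (z * z) + h • (z * z * z)

theorem tExp_of_sq {h : ℤ} {z : E} (hz : z * z = 0) : tExp h z = 1 + z := by
  simp [tExp, hz]

/-- Peeling a summand from a normal subspace off a truncated exponential. -/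
theorem tExp_peel {h : ℤ} (h6 : ∀ z : E, (6 * h) • z = z) {X R : E}
    (hXX : ∀ z, X * (X * z) = 0) (hXRX : ∀ z, X * (R * (X * z)) = 0)
    (hXRRX : ∀ z, X * (R * (R * (X * z))) = 0) (hRRR : ∀ z, R * (R * (R * z)) = 0)
    (hRXRR : ∀ z, R * (X * (R * (R * z))) = 0) (hRRXR : ∀ z, R * (R * (X * (R * z))) = 0) :
    (1 + (X + (3 * h) • (R * X - X * R) + h • (R * R * X - (2 : ℤ) • (R * X * R) + X * R * R))) *
      tExp h R = tExp h (X + R) := by
  have a1 : X * X = 0 := by simpa using hXX 1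
  have a2 : X * (R * X) = 0 := by simpa using hXRX 1
  have a3 : X * (R * (R * X)) = 0 := by simpa using hXRRX 1
  have a4 : R * (R * R) = 0 := by simpa using hRRR 1
  have a5 : R * (X * (R * R)) = 0 := by simpa using hRXRR 1
  have a6 : R * (R * (X * R)) = 0 := by simpa using hRRXR 1
  rw [← sub_eq_zero]
  have key : (1 + (X + (3 * h) • (R * X - X * R) +
      h • (R * R * X - (2 : ℤ) • (R * X * R) + X * R * R))) *
      tExp h R - tExp h (X + R) = X * R - (6 * h) • (X * R) := by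
    simp only [tExp, mul_add, add_mul, mul_sub, sub_mul, one_mul, mul_one, smul_mul_assoc,
      mul_smul_comm, smul_add, smul_sub, mul_assoc, hXX, hXRX, hXRRX, hRRR, hRXRR, hRRXR,
      a1, a2, a3, a4, a5, a6, mul_zero, zero_mul, smul_zero, add_zero, zero_add, sub_zero]
    module
  rw [key, h6, sub_self]

/-- `L i` normalizes `L j`, squares vanish. -/
structure IsQuadFamily {ι : Type*} (L : ι → AddSubgroup E) : Prop where
  sq : ∀ i, ∀ a ∈ L i, ∀ b ∈ L i, a * b = 0
  bracket : ∀ i j, ∀ z ∈ L j, ∀ a ∈ L i, z * a - a * z ∈ L i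

theorem IsQuadFamily.word₁ {ι : Type*} {L : ι → AddSubgroup E} (hL : IsQuadFamily L) {i j : ι}
    {a c z : E} (ha : a ∈ L i) (hc : c ∈ L i) (hz : z ∈ L j) : a * (z * c) = 0 := by
  rw [show z * c = c * z + (z * c - c * z) by abel, mul_add,
    hL.sq i a ha _ (hL.bracket i j z hz c hc), add_zero, ← mul_assoc, hL.sq i a ha c hc, zero_mul]

theorem IsQuadFamily.word₂ {ι : Type*} {L : ι → AddSubgroup E} (hL : IsQuadFamily L) {i j k : ι}
    {a c z w : E} (ha : a ∈ L i) (hc : c ∈ L i) (hz : z ∈ L j) (hw : w ∈ L k) :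
    a * (z * (w * c)) = 0 := by
  rw [show w * c = c * w + (w * c - c * w) by abel, mul_add, mul_add,
    hL.word₁ ha (hL.bracket i k w hw c hc) hz, add_zero, ← mul_assoc z c w, ← mul_assoc a,
    hL.word₁ ha hc hz, zero_mul]

/-- A square-zero element of `L₀ + L₁ + L₂` is `g - 1` for an element `g` of a monoid containing all
`1 + a`, `a ∈ L i`. -/
theorem IsQuadFamily.one_add_mem {L : Fin 3 → AddSubgroup E} (hL : IsQuadFamily L) {h : ℤ}
    (h6 : ∀ z : E, (6 * h) • z = z) (S : Submonoid E) (hS : ∀ i, ∀ a ∈ L i, 1 + a ∈ S)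
    {a b c : E} (ha : a ∈ L 0) (hb : b ∈ L 1) (hc : c ∈ L 2)
    (hz : (a + b + c) * (a + b + c) = 0) : 1 + (a + b + c) ∈ S := by
  have q0 := hL.sq 0 a ha a ha
  have q1 := hL.sq 1 b hb b hb
  have q2 := hL.sq 2 c hc c hc
  have bab := hL.word₁ hb hb ha
  have cac := hL.word₁ hc hc ha
  have bcb := hL.word₁ hb hb hc
  have cbc := hL.word₁ hc hc hb
  have aba := hL.word₁ ha ha hb
  have aca := hL.word₁ ha ha hc
  have babb := hL.word₂ ha ha hb hb
  have bacb := hL.word₂ hb hb ha hc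
  have bcab := hL.word₂ hb hb hc ha
  have cabc := hL.word₂ hc hc ha hb
  have cbac := hL.word₂ hc hc hb ha
  have aby := hL.word₂ ha ha hb hc
  have acy := hL.word₂ ha ha hc hb
  have t : ∀ {u v : E}, u * v = 0 → ∀ z, u * (v * z) = 0 := fun h z => by
    rw [← mul_assoc, h, zero_mul]
  have t3 : ∀ {u v w : E}, u * (v * w) = 0 → ∀ z, u * (v * (w * z)) = 0 := fun {u v w} h z => by
    rw [← mul_assoc v, ← mul_assoc, h, zero_mul]
  have t4 : ∀ {u v w x : E}, u * (v * (w * x)) = 0 → ∀ z, u * (v * (w * (x * z))) = 0 :=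
    fun {u v w x} h z => by
      rw [← mul_assoc w, ← mul_assoc v, ← mul_assoc, h, zero_mul]
  have hmem0 : ∀ {z : E}, ∀ j, z ∈ L j → ∀ x ∈ L 0, z * x - x * z ∈ L 0 :=
    fun j hz x hx => hL.bracket 0 j _ hz x hx
  set R := b + c with hR
  have hbr : ∀ x ∈ L 0, R * x - x * R ∈ L 0 := fun x hx => by
    have e : R * x - x * R = (b * x - x * b) + (c * x - x * c) := by rw [hR]; noncomm_ring
    rw [e]; exact add_mem (hmem0 1 hb x hx) (hmem0 2 hc x hx)
  have hX' : a + (3 * h) • (R * a - a * R) + h • (R * R * a - (2 : ℤ) • (R * a * R) + a * R * R) ∈ L 0 := by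
    refine add_mem (add_mem ha (AddSubgroup.zsmul_mem _ (hbr a ha) _)) (AddSubgroup.zsmul_mem _ ?_ _)
    have e : R * R * a - (2 : ℤ) • (R * a * R) + a * R * R =
        R * (R * a - a * R) - (R * a - a * R) * R := by
      rw [two_zsmul]; noncomm_ring
    rw [e]; exact hbr _ (hbr a ha)
  have hp1 := tExp_peel h6 (X := a) (R := R) (t q0)
    (fun z => by simp only [hR, mul_add, add_mul, t3 aba, t3 aca, add_zero])
    (fun z => by simp only [hR, mul_add, add_mul, t4 babb, t4 aby, t4 acy,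
      t4 (hL.word₂ ha ha hc hc), add_zero])
    (fun z => by simp only [hR, mul_add, add_mul, t q1, t q2, t3 bcb, t3 cbc, mul_zero, add_zero])
    (fun z => by simp only [hR, mul_add, add_mul, t q1, t q2, t3 bab, t3 cac, t4 bacb, t4 cabc,
      mul_zero, add_zero])
    (fun z => by simp only [hR, mul_add, add_mul, t q1, t q2, t3 bab, t3 cac, t4 bcab, t4 cbac,
      mul_zero, add_zero])
  have hX'' : b + (3 * h) • (c * b - b * c) + h • (c * c * b - (2 : ℤ) • (c * b * c) + b * c * c) ∈ L 1 := by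
    have hk := hL.bracket 1 2 c hc
    refine add_mem (add_mem hb (AddSubgroup.zsmul_mem _ (hk b hb) _)) (AddSubgroup.zsmul_mem _ ?_ _)
    have e : c * c * b - (2 : ℤ) • (c * b * c) + b * c * c =
        c * (c * b - b * c) - (c * b - b * c) * c := by
      rw [two_zsmul]; noncomm_ring
    rw [e]; exact hk _ (hk b hb)
  have hp2 := tExp_peel h6 (X := b) (R := c) (t q1) (t3 bcb)
    (fun z => by rw [t q2, mul_zero]) (fun z => by rw [t q2])
    (fun z => by rw [t q2, mul_zero, mul_zero]) (fun z => by rw [t q2])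
  rw [← tExp_of_sq (h := h) hz, add_assoc a b c, ← hR, ← hp1, hR, ← hp2, tExp_of_sq q2]
  exact S.mul_mem (hS 0 _ hX') (S.mul_mem (hS 1 _ hX'') (hS 2 _ hc))

end CfsgLib.PLocal
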