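import Mathlib

/-!
Systems of transvection pairs: the combinatorics behind the theorem on irreducible groups
generated by transvections.  A pair `(a, φ)` stands for the map `x ↦ x + φ x • a`.
-/

set_option autoImplicit false

namespace CfsgLib.PLocal.TvSys

open Module

variable {k V : Type*} [Field k] [AddCommGroup V] [Module k V]

/-- The axioms satisfied by a component of the set of transvection pairs of a linear group with
trivial `p`-core. -/
structure IsTvSys (T : Set (V × Dual k V)) : Prop where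
  two_ne : (2 : k) ≠ 0
  nonempty : T.Nonempty
  left_ne : ∀ {a : V} {φ : Dual k V}, (a, φ) ∈ T → a ≠ 0
  right_ne : ∀ {a : V} {φ : Dual k V}, (a, φ) ∈ T → φ ≠ 0
  orth : ∀ {a : V} {φ : Dual k V}, (a, φ) ∈ T → φ a = 0
  smul_left : ∀ {a : V} {φ : Dual k V} (c : k), c ≠ 0 → (a, φ) ∈ T → (c • a, φ) ∈ T
  smul_right : ∀ {a : V} {φ : Dual k V} (c : k), c ≠ 0 → (a, φ) ∈ T → (a, c • φ) ∈ T
  add_left : ∀ {a b : V} {φ : Dual k V},
    (a, φ) ∈ T → (b, φ) ∈ T → a + b ≠ 0 → (a + b, φ) ∈ T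
  add_right : ∀ {a : V} {φ ψ : Dual k V},
    (a, φ) ∈ T → (a, ψ) ∈ T → φ + ψ ≠ 0 → (a, φ + ψ) ∈ T
  conj : ∀ {a b : V} {φ ψ : Dual k V},
    (a, φ) ∈ T → (b, ψ) ∈ T → (a + ψ a • b, φ - φ b • ψ) ∈ T
  inj : ∀ {a b : V} {φ ψ : Dual k V},
    (a, φ) ∈ T → (b, ψ) ∈ T → (∀ t ∈ T, t.2 a = t.2 b) → a = b
  no_rad : ∀ {a : V} {φ : Dual k V}, (a, φ) ∈ T → ∃ t ∈ T, φ t.1 ≠ 0
  irr : ∀ W : Submodule k V, (∀ t ∈ T, t.1 ∈ W ∨ ∀ w ∈ W, t.2 w = 0) →
    ∀ t ∈ T, t.1 ∈ W → ∃ w ∈ W, t.2 w ≠ 0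
  conn : ∀ S : V × Dual k V → Prop,
    (∀ t ∈ T, ∀ u ∈ T, (t.2 u.1 ≠ 0 ∨ u.2 t.1 ≠ 0) → S t → S u) →
    ∀ t ∈ T, S t → ∀ u ∈ T, S u

/-- `a` is a centre. -/
def Cen (T : Set (V × Dual k V)) (a : V) : Prop := ∃ φ, (a, φ) ∈ T

/-- some axis of `a` does not vanish at `b`. -/
def Adj (T : Set (V × Dual k V)) (a b : V) : Prop := ∃ φ, (a, φ) ∈ T ∧ φ b ≠ 0

/-- The axes of the centre `a`, together with zero. -/
def axSp (T : Set (V × Dual k V)) (a : V) : Submodule k (Dual k V) :=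
  Submodule.span k {φ | (a, φ) ∈ T}

theorem Adj.cen {T : Set (V × Dual k V)} {a b : V} (h : Adj T a b) : Cen T a :=
  h.elim fun φ hφ => ⟨φ, hφ.1⟩

theorem mem_axSp_of_mem {T : Set (V × Dual k V)} {a : V} {φ : Dual k V} (h : (a, φ) ∈ T) :
    φ ∈ axSp T a := Submodule.subset_span h

variable {T : Set (V × Dual k V)}

theorem mem_axSp (h : IsTvSys T) {a : V} {φ : Dual k V} (hφ : φ ∈ axSp T a) :
    φ = 0 ∨ (a, φ) ∈ T := by
  induction hφ using Submodule.span_induction with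
  | mem x hx => exact .inr hx
  | zero => exact .inl rfl
  | add x y _ _ hx hy =>
    rcases hx with rfl | hx
    · simpa using hy
    rcases hy with rfl | hy
    · exact .inr (by simpa using hx)
    by_cases e : x + y = 0
    · exact .inl e
    · exact .inr (h.add_right hx hy e)
  | smul c x _ hx =>
    rcases hx with rfl | hx
    · exact .inl (smul_zero c)
    by_cases hc : c = 0
    · exact .inl (by simp [hc])
    · exact .inr (h.smul_right c hc hx)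

theorem axSp_apply_self (h : IsTvSys T) {a : V} {φ : Dual k V} (hφ : φ ∈ axSp T a) :
    φ a = 0 := by
  rcases mem_axSp h hφ with rfl | hφ
  · rfl
  · exact h.orth hφ

/-- A one-sided link gives a new pair. -/
theorem mem_of_link (h : IsTvSys T) {a b : V} {φ ψ : Dual k V} (ha : (a, φ) ∈ T)
    (hb : (b, ψ) ∈ T) (h1 : ψ a = 0) (h2 : φ b ≠ 0) : (a, ψ) ∈ T := by
  have h3 : (b + φ b • a, ψ) ∈ T := by simpa [h1] using h.conj hb ha
  have e : b + φ b • a + (-1 : k) • b = φ b • a := by module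
  have h4 := h.add_left h3 (h.smul_left (-1 : k) (by simp) hb)
    (by rw [e]; exact smul_ne_zero h2 (h.left_ne ha))
  rw [e] at h4
  simpa [smul_smul, h2] using h.smul_left (φ b)⁻¹ (inv_ne_zero h2) h4

theorem Cen.ne_zero (h : IsTvSys T) {a : V} (ha : Cen T a) : a ≠ 0 :=
  ha.elim fun _ hφ => h.left_ne hφ

theorem Cen.smul (h : IsTvSys T) {a : V} (ha : Cen T a) {c : k} (hc : c ≠ 0) :
    Cen T (c • a) := ha.elim fun φ hφ => ⟨φ, h.smul_left c hc hφ⟩

theorem Cen.not_rad (h : IsTvSys T) {a : V} (ha : Cen T a) : ∃ t ∈ T, t.2 a ≠ 0 := by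
  obtain ⟨φ, hφ⟩ := ha
  by_contra hn
  push Not at hn
  have e := h.inj hφ (h.smul_left (-1 : k) (by simp) hφ) fun t ht => by simp [hn t ht]
  have e2 : (2 : k) • a = 0 := by linear_combination (norm := module) e
  rcases smul_eq_zero.1 e2 with e3 | e3
  · exact h.two_ne e3
  · exact h.left_ne hφ e3

variable [FiniteDimensional k V]

theorem axDim_conj_le (h : IsTvSys T) (a : V) {b : V} {ψ : Dual k V} (hb : (b, ψ) ∈ T) :
    finrank k (axSp T a) ≤ finrank k (axSp T (a + ψ a • b)) := by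
  obtain ⟨f, hf⟩ : ∃ f : Dual k V →ₗ[k] Dual k V, ∀ χ, f χ = χ - χ b • ψ :=
    ⟨LinearMap.id - (Dual.eval k V b).smulRight ψ, fun χ => rfl⟩
  have finj : Function.Injective f := by
    rw [← LinearMap.ker_eq_bot, Submodule.eq_bot_iff]
    intro χ hχ
    rw [LinearMap.mem_ker, hf, sub_eq_zero] at hχ
    have e : χ b = 0 := by rw [hχ]; simp [h.orth hb]
    rw [hχ, e, zero_smul]
  calc finrank k (axSp T a) = finrank k ((axSp T a).map f) :=
        (Submodule.equivMapOfInjective f finj _).finrank_eq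
    _ ≤ _ := Submodule.finrank_mono <| by
      rintro _ ⟨χ, hχ, rfl⟩
      rcases mem_axSp h hχ with rfl | hχ'
      · rw [map_zero]; exact zero_mem _
      · rw [hf]; exact mem_axSp_of_mem (h.conj hχ' hb)

theorem axDim_conj (h : IsTvSys T) (a : V) {b : V} {ψ : Dual k V} (hb : (b, ψ) ∈ T) :
    finrank k (axSp T (a + ψ a • b)) = finrank k (axSp T a) := by
  refine le_antisymm ?_ (axDim_conj_le h a hb)
  have := axDim_conj_le h (a + ψ a • b) (h.smul_right (-1 : k) (by simp) hb)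
  have e : a + ψ a • b + ((-1 : k) • ψ) (a + ψ a • b) • b = a := by
    simp [h.orth hb]
  rwa [e] at this

theorem axDim_eq_of_two (h : IsTvSys T) {a b : V} {φ ψ : Dual k V} (ha : (a, φ) ∈ T)
    (hb : (b, ψ) ∈ T) (h1 : ψ a ≠ 0) (h2 : φ b ≠ 0) :
    finrank k (axSp T a) = finrank k (axSp T b) := by
  have e1 := axDim_conj h a (h.smul_right (ψ a)⁻¹ (inv_ne_zero h1) hb)
  have e2 := axDim_conj h b (h.smul_right (φ b)⁻¹ (inv_ne_zero h2) ha)
  rw [show ((ψ a)⁻¹ • ψ) a = 1 from inv_mul_cancel₀ h1, one_smul] at e1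
  rw [show ((φ b)⁻¹ • φ) b = 1 from inv_mul_cancel₀ h2, one_smul] at e2
  rw [← e1, add_comm a b, e2]

/-- All centres have equally many axes. -/
theorem axDim_const (h : IsTvSys T) {a b : V} (ha : Cen T a) (hb : Cen T b) :
    finrank k (axSp T a) = finrank k (axSp T b) := by
  obtain ⟨S, hS⟩ : ∃ S : Set ℕ, S = {n | ∃ c, Cen T c ∧ finrank k (axSp T c) = n} := ⟨_, rfl⟩
  have hne : S.Nonempty := hS ▸ ⟨_, a, ha, rfl⟩
  have hbdd : BddAbove S := ⟨finrank k (Dual k V), fun n hn => by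
    rw [hS] at hn
    obtain ⟨c, -, rfl⟩ := hn
    exact Submodule.finrank_le _⟩
  have hmem := Nat.sSup_mem hne hbdd
  obtain ⟨m, hm⟩ : ∃ m, m = sSup S := ⟨_, rfl⟩
  rw [← hm, hS] at hmem
  have hle : ∀ c, Cen T c → finrank k (axSp T c) ≤ m := fun c hc =>
    hm ▸ le_csSup hbdd (hS ▸ ⟨c, hc, rfl⟩)
  obtain ⟨a₀, ha₀, ha₀m⟩ := hmem
  obtain ⟨W, hW⟩ : ∃ W, W = Submodule.span k {c | Cen T c ∧ finrank k (axSp T c) = m} := ⟨_, rfl⟩
  have key : ∀ t ∈ T, finrank k (axSp T t.1) = m ∨ ∀ w ∈ W, t.2 w = 0 := by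
    rintro ⟨b, ψ⟩ ht
    refine or_iff_not_imp_left.2 fun hbm w hw => ?_
    suffices W ≤ LinearMap.ker ψ from this hw
    rw [hW, Submodule.span_le]
    rintro c ⟨hc, hcm⟩
    by_contra hψ
    rw [SetLike.mem_coe, LinearMap.mem_ker] at hψ
    by_cases hex : ∃ φ, (c, φ) ∈ T ∧ φ b ≠ 0
    · obtain ⟨φ, hφ, hφb⟩ := hex
      exact hbm ((axDim_eq_of_two h hφ ht hψ hφb).symm.trans hcm)
    push Not at hex
    have hsub : axSp T c ≤ axSp T b := by
      rw [axSp, Submodule.span_le]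
      intro φ hφ
      exact mem_axSp_of_mem (mem_of_link h ht hφ (hex φ hφ) hψ)
    have heq := Submodule.eq_of_le_of_finrank_le hsub (hcm ▸ hle b ⟨ψ, ht⟩)
    exact hψ (axSp_apply_self h (heq ▸ mem_axSp_of_mem ht))
  have hirr := h.irr W fun t ht => (key t ht).imp (fun e => hW ▸ Submodule.subset_span
    ⟨⟨t.2, ht⟩, e⟩) id
  have all : ∀ t ∈ T, finrank k (axSp T t.1) = m := by
    obtain ⟨φ₀, hφ₀⟩ := ha₀
    refine h.conn _ ?_ (a₀, φ₀) hφ₀ ha₀m
    rintro ⟨c, φ⟩ ht ⟨d, ψ⟩ hu hr hc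
    by_contra hd
    have hψ := (key _ hu).resolve_left hd
    have hcW : c ∈ W := hW ▸ Submodule.subset_span ⟨⟨φ, ht⟩, hc⟩
    have hψc : ψ c = 0 := hψ c hcW
    have hnew := mem_of_link h ht hu hψc (hr.resolve_right fun e => e hψc)
    obtain ⟨w, hw, hne'⟩ := hirr _ hnew hcW
    exact hne' (hψ w hw)
  obtain ⟨φ, hφ⟩ := ha
  obtain ⟨ψ, hψ⟩ := hb
  rw [all _ hφ, all _ hψ]

/-- Linking is symmetric. -/
theorem Adj.symm (h : IsTvSys T) {a b : V} (hab : Adj T a b) (hb : Cen T b) : Adj T b a := by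
  obtain ⟨φ, hφ, hφb⟩ := hab
  by_contra hn
  simp only [Adj, not_exists, not_and, ne_eq, not_not] at hn
  have hsub : axSp T b ≤ axSp T a := by
    rw [axSp, Submodule.span_le]
    intro ψ hψ
    exact mem_axSp_of_mem (mem_of_link h hφ hψ (hn ψ hψ) hφb)
  have heq := Submodule.eq_of_le_of_finrank_eq hsub (axDim_const h hb ⟨φ, hφ⟩)
  exact hφb (axSp_apply_self h (heq ▸ mem_axSp_of_mem hφ))

/-- Axes of one of two linked centres which vanish at the other are shared. -/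
theorem Adj.shared (h : IsTvSys T) {a b : V} (hab : Adj T a b) (hb : Cen T b) {φ : Dual k V}
    (hφ : φ ∈ axSp T a) (hφb : φ b = 0) : φ ∈ axSp T b := by
  obtain ⟨ψ, hψ, hψa⟩ := hab.symm h hb
  rcases mem_axSp h hφ with rfl | hφ'
  · exact zero_mem _
  · exact mem_axSp_of_mem (mem_of_link h hψ hφ' hφb hψa)

/-- Every centre is linked to a centre. -/
theorem Cen.exists_adj (h : IsTvSys T) {a : V} (ha : Cen T a) :
    ∃ b, Cen T b ∧ Adj T a b := by
  obtain ⟨⟨b, ψ⟩, ht, hne⟩ := ha.not_rad h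
  exact ⟨b, ⟨ψ, ht⟩, Adj.symm h ⟨ψ, ht, hne⟩ ha⟩

/-- The sum of two linked centres is a centre. -/
theorem Adj.cen_add (h : IsTvSys T) {a b : V} (hab : Adj T a b) (hb : Cen T b) :
    Cen T (a + b) := by
  obtain ⟨φ, hφ, -⟩ := id hab
  obtain ⟨ψ, hψ, hψa⟩ := hab.symm h hb
  have := h.conj hφ (h.smul_right (ψ a)⁻¹ (inv_ne_zero hψa) hψ)
  simp only [LinearMap.smul_apply, smul_eq_mul, inv_mul_cancel₀ hψa, one_smul] at this
  exact ⟨_, this⟩

/-- Induction along links. -/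
theorem cen_conn (h : IsTvSys T) (S : V → Prop)
    (hS : ∀ a b, Cen T a → Cen T b → Adj T a b → S a → S b) {a : V} (ha : Cen T a) (hSa : S a)
    {b : V} (hb : Cen T b) : S b := by
  obtain ⟨φ, hφ⟩ := ha
  obtain ⟨ψ, hψ⟩ := hb
  refine h.conn (fun t => S t.1) ?_ (a, φ) hφ hSa (b, ψ) hψ
  rintro ⟨c, χ⟩ ht ⟨d, ω⟩ hu hr hc
  rcases hr with hr | hr
  · exact hS c d ⟨χ, ht⟩ ⟨ω, hu⟩ ⟨χ, ht, hr⟩ hc
  · exact hS c d ⟨χ, ht⟩ ⟨ω, hu⟩ (Adj.symm h ⟨ω, hu, hr⟩ ⟨χ, ht⟩) hc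

end CfsgLib.PLocal.TvSys
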