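import Cfsg.Agent.Lib.PLocal.TvSysGroup

/-!
Each component of the transvection pairs is a transvection system.
-/

set_option autoImplicit false

namespace CfsgLib.PLocal.TvSys

open Module

variable {p : ℕ} [Fact p.Prime] {V : Type*} [AddCommGroup V] [Module (ZMod p) V]
  {H : Subgroup (V ≃ₗ[ZMod p] V)}

/-- Two pairs whose transvections do not commute. -/
def Lnk (H : Subgroup (V ≃ₗ[ZMod p] V)) (t u : V × Dual (ZMod p) V) : Prop :=
  t ∈ pairs H ∧ u ∈ pairs H ∧ (t.2 u.1 ≠ 0 ∨ u.2 t.1 ≠ 0)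

/-- The component of a pair. -/
def compOf (H : Subgroup (V ≃ₗ[ZMod p] V)) (t₀ : V × Dual (ZMod p) V) :
    Set (V × Dual (ZMod p) V) :=
  {u | u ∈ pairs H ∧ Relation.EqvGen (Lnk H) t₀ u}

theorem lnk_symm {t u : V × Dual (ZMod p) V} (h : Lnk H t u) : Lnk H u t :=
  ⟨h.2.1, h.1, h.2.2.symm⟩

theorem compOf_step {t₀ t u : V × Dual (ZMod p) V} (ht : t ∈ compOf H t₀) (hu : u ∈ pairs H)
    (hl : t.2 u.1 ≠ 0 ∨ u.2 t.1 ≠ 0) : u ∈ compOf H t₀ :=
  ⟨hu, ht.2.trans _ _ _ (.rel _ _ ⟨ht.1, hu, hl⟩)⟩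

theorem compOf_zero {t₀ t u : V × Dual (ZMod p) V} (ht : t ∈ compOf H t₀) (hu : u ∈ pairs H)
    (hn : u ∉ compOf H t₀) : t.2 u.1 = 0 ∧ u.2 t.1 = 0 :=
  ⟨by_contra fun e => hn (compOf_step ht hu (.inl e)),
    by_contra fun e => hn (compOf_step ht hu (.inr e))⟩

theorem compOf_eq {t₀ t : V × Dual (ZMod p) V} (ht : t ∈ compOf H t₀) :
    compOf H t = compOf H t₀ := by
  ext u
  exact ⟨fun hu => ⟨hu.1, ht.2.trans _ _ _ hu.2⟩,
    fun hu => ⟨hu.1, (ht.2.symm).trans _ _ _ hu.2⟩⟩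

variable [Finite V]

theorem compOf_inj_aux (hp : Odd p) (hO : Cfsg.pCore p ↥H = ⊥) (hgen : Gen H)
    {a a' : V} {φ φ' : Dual (ZMod p) V} (ha : (a, φ) ∈ pairs H) (ha' : (a', φ') ∈ pairs H)
    (hall : ∀ t ∈ pairs H, t.2 a' = t.2 a) : a' = a := by
  by_contra hne
  have h2 : (2 : ZMod p) ≠ 0 := by
    intro e
    have h : p ∣ 2 := (CharP.cast_eq_zero_iff (ZMod p) p 2).1 (by exact_mod_cast e)
    have := Nat.le_of_dvd two_pos h
    have := (Fact.out : p.Prime).two_le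
    obtain rfl : p = 2 := by omega
    exact absurd hp (by decide)
  obtain ⟨r, hr⟩ : ∃ r, r = a' - a := ⟨_, rfl⟩
  have hr0 : r ≠ 0 := hr ▸ sub_ne_zero.2 hne
  have hrz : ∀ t ∈ pairs H, t.2 r = 0 := fun t ht => by rw [hr, map_sub, hall t ht, sub_self]
  have norad : ∀ χ, (r, χ) ∉ pairs H := fun χ hχ => by
    obtain ⟨t, ht, hne'⟩ := no_fixed_centre hp hO hgen hχ
    exact hne' (hrz t ht)
  obtain ⟨b₁, ψ₁, hb₁, hφb₁, hψa₁⟩ := exists_partner hp hO ha
  obtain ⟨b, ψ, hb, hφb, hψa⟩ : ∃ b ψ, (b, ψ) ∈ pairs H ∧ φ b = 1 ∧ ψ a = 1 :=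
    ⟨(φ b₁)⁻¹ • b₁, (ψ₁ a)⁻¹ • ψ₁,
      pairs_smul_left _ (inv_ne_zero hφb₁) (pairs_smul_right _ (inv_ne_zero hψa₁) hb₁),
      by simp [inv_mul_cancel₀ hφb₁], by simp [inv_mul_cancel₀ hψa₁]⟩
  have hoa : φ a = 0 := ha.2.2.1
  have hoa' : φ' a' = 0 := ha'.2.2.1
  have hob : ψ b = 0 := hb.2.2.1
  have e1 : φ a' = 0 := (hall _ ha).trans hoa
  have e2 : φ' a = 0 := (hall _ ha').symm.trans hoa'
  have e3 : ψ a' = 1 := (hall _ hb).trans hψa
  obtain ⟨c, hc⟩ : ∃ c, c = φ' b := ⟨_, rfl⟩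
  have hb' : (b, (-1 : ZMod p) • ψ) ∈ pairs H := pairs_smul_right _ (by simp) hb
  have q1 : (a' - b, φ' + c • ψ) ∈ pairs H := by
    have := pairs_conj ha' hb'
    convert this using 2
    · simp [e3]; module
    · simp [← hc]
      module
  have q2 : (a' - b - a, φ' + c • ψ - c • φ) ∈ pairs H := by
    have := pairs_conj q1 ha
    convert this using 2
    · simp [e1, hφb]; module
    · simp [e2, hψa]
  have q3 : (a' - b - (2 : ZMod p) • a, φ' + c • ψ - (2 * c) • φ) ∈ pairs H := by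
    have := pairs_conj q2 ha
    convert this using 2
    · simp [e1, hφb, hoa]; module
    · simp [e2, hψa, hoa]; module
  have q4 : (a' - (2 : ZMod p) • a, φ' - (2 * c) • φ) ∈ pairs H := by
    have := pairs_conj q3 hb'
    convert this using 2
    · simp [e3, hob, hψa]; module
    · simp [← hc, hob, hφb]; module
  obtain ⟨-, -, -, g₁, hg₁, t₁⟩ := id ha'
  obtain ⟨-, -, -, g₂, hg₂, t₂⟩ := id q4
  obtain ⟨g₃, hg₃, t₃⟩ := exists_tv_smul ha (-(2 * c))
  have ho4 : φ' (a' - (2 : ZMod p) • a) = 0 := by simp [hoa', e2]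
  have hg : IsTv (g₁ * g₂ * g₃) (r, (2 : ZMod p) • (φ' - c • φ)) := fun x => by
    rw [LinearEquiv.mul_apply, LinearEquiv.mul_apply, t₃ x, t₂, t₁]
    simp [hr, hoa', e2, e1, hoa]
    module
  by_cases hφ' : φ' = c • φ
  · have hc0 : c ≠ 0 := fun e => ha'.2.1 (by
      show φ' = 0
      rw [hφ', e, zero_smul])
    have m1 : (a', φ) ∈ pairs H := by
      have := pairs_smul_right c⁻¹ (inv_ne_zero hc0) ha'
      rwa [hφ', smul_smul, inv_mul_cancel₀ hc0, one_smul] at this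
    have m2 := pairs_add_left m1 (pairs_smul_left (-1 : ZMod p) (by simp) ha)
      (by rw [neg_one_smul, ← sub_eq_add_neg]; exact sub_ne_zero.2 hne)
    rw [neg_one_smul, ← sub_eq_add_neg, ← hr] at m2
    exact norad _ m2
  · refine norad _ ⟨hr0, smul_ne_zero h2 (sub_ne_zero.2 hφ'), ?_,
      _, mul_mem (mul_mem hg₁ hg₂) hg₃, hg⟩
    simp [hr, hoa', e2, e1, hoa]

theorem compOf_isTvSys (hp : Odd p) (hO : Cfsg.pCore p ↥H = ⊥) (hgen : Gen H)
    {t₀ : V × Dual (ZMod p) V} (ht₀ : t₀ ∈ pairs H) : IsTvSys (compOf H t₀) where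
  two_ne := by
    intro e
    have h : p ∣ 2 := (CharP.cast_eq_zero_iff (ZMod p) p 2).1 (by exact_mod_cast e)
    have := Nat.le_of_dvd two_pos h
    have := (Fact.out : p.Prime).two_le
    obtain rfl : p = 2 := by omega
    exact absurd hp (by decide)
  nonempty := ⟨t₀, ht₀, .refl _⟩
  left_ne h := h.1.1
  right_ne h := h.1.2.1
  orth h := h.1.2.2.1
  smul_left := fun {a φ} c hc h => by
    obtain ⟨b, ψ, hb, h1, h2⟩ := exists_partner hp hO h.1
    exact compOf_step (compOf_step h hb (.inl h1)) (pairs_smul_left c hc h.1) (.inr h1)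
  smul_right := fun {a φ} c hc h => by
    obtain ⟨b, ψ, hb, h1, h2⟩ := exists_partner hp hO h.1
    exact compOf_step (compOf_step h hb (.inl h1)) (pairs_smul_right c hc h.1) (.inl h2)
  add_left := fun {a b φ} ha hb h0 => by
    obtain ⟨c, ψ, hc, h1, h2⟩ := exists_partner hp hO ha.1
    exact compOf_step (compOf_step ha hc (.inl h1)) (pairs_add_left ha.1 hb.1 h0) (.inr h1)
  add_right := fun {a φ ψ} ha hb h0 => by
    obtain ⟨c, χ, hc, h1, h2⟩ := exists_partner hp hO ha.1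
    exact compOf_step (compOf_step ha hc (.inl h1)) (pairs_add_right ha.1 hb.1 h0) (.inl h2)
  conj := fun {a b φ ψ} ha hb => by
    have hnew := pairs_conj ha.1 hb.1
    by_cases h1 : φ b = 0
    · by_cases h2 : ψ a = 0
      · simpa [h1, h2] using ha
      · refine compOf_step hb hnew (.inl ?_)
        simpa [show ψ b = 0 from hb.1.2.2.1] using h2
    · refine compOf_step hb hnew (.inr ?_)
      simpa [show ψ b = 0 from hb.1.2.2.1] using h1
  inj := fun {a b φ ψ} ha hb hall => compOf_inj_aux hp hO hgen hb.1 ha.1 fun t ht => by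
    by_cases h : t ∈ compOf H t₀
    · exact hall t h
    · exact (compOf_zero ha ht h).2.trans (compOf_zero hb ht h).2.symm
  no_rad := fun {a φ} ha => by
    obtain ⟨t, ht, hne⟩ := no_fixed_axis hp hO hgen ha.1
    exact ⟨t, compOf_step ha ht (.inl hne), hne⟩
  irr := fun W hW t ht htW => by
    by_contra hn
    push Not at hn
    obtain ⟨ha0, hφ, ho, g, hg, hgt⟩ := ht.1
    obtain ⟨U, hU⟩ : ∃ U, U = Submodule.span (ZMod p) (Prod.fst '' compOf H t₀) := ⟨_, rfl⟩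
    have htU : t.1 ∈ U := hU ▸ Submodule.subset_span ⟨t, ht, rfl⟩
    refine hgt.ne_one ha0 hφ (elation_trivial hp hO (W ⊓ U)
      (invariant_of_pairs hgen _ fun u hu x hx => ?_) hg (fun v => ?_) fun x hx => ?_)
    · by_cases h : u ∈ compOf H t₀
      · rcases hW u h with h' | h'
        · exact Submodule.smul_mem _ _ ⟨h', hU ▸ Submodule.subset_span ⟨u, h, rfl⟩⟩
        · simp [h' x hx.1]
      · have : U ≤ LinearMap.ker u.2 := by
          rw [hU, Submodule.span_le]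
          rintro _ ⟨w, hw, rfl⟩
          exact (compOf_zero hw hu h).2
        simp [LinearMap.mem_ker.1 (this hx.2)]
    · rw [hgt v]
      simpa using Submodule.smul_mem _ (t.2 v) (show t.1 ∈ W ⊓ U from ⟨htW, htU⟩)
    · rw [hgt x]; simp [hn x hx.1]
  conn := fun S hS t ht hSt u hu => by
    suffices ∀ x y, Relation.EqvGen (Lnk H) x y →
        (x ∈ compOf H t₀ ↔ y ∈ compOf H t₀) ∧ (x ∈ compOf H t₀ → (S x ↔ S y)) from
      ((this t u ((ht.2.symm).trans _ _ _ hu.2)).2 ht).1 hSt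
    intro x y h
    induction h with
    | rel x y hxy =>
      have e : x ∈ compOf H t₀ ↔ y ∈ compOf H t₀ :=
        ⟨fun hx => compOf_step hx hxy.2.1 hxy.2.2,
          fun hy => compOf_step hy hxy.1 hxy.2.2.symm⟩
      exact ⟨e, fun hx => ⟨hS x hx y (e.1 hx) hxy.2.2, hS y (e.1 hx) x hx hxy.2.2.symm⟩⟩
    | refl x => exact ⟨Iff.rfl, fun _ => Iff.rfl⟩
    | symm x y _ ih => exact ⟨ih.1.symm, fun hy => (ih.2 (ih.1.2 hy)).symm⟩
    | trans x y z _ _ ih1 ih2 =>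
      exact ⟨ih1.1.trans ih2.1, fun hx => (ih1.2 hx).trans (ih2.2 (ih1.1.1 hx))⟩

end CfsgLib.PLocal.TvSys
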