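import Cfsg.Agent.Lib.Classical.SLGen
import Cfsg.Agent.Lib.Geom.WittSesq
import Cfsg.Agent.Lib.PLocal.TvSysComp

/-!
The decomposition of a group generated by transvections with trivial `p`-core.
-/

set_option autoImplicit false

namespace CfsgLib.PLocal.TvSys

open Module

section Restrict

variable {k V : Type*} [Field k] [AddCommGroup V] [Module k V]

/-- The action of a group of automorphisms on an invariant subspace. -/
def restrictHom (K : Subgroup (V ≃ₗ[k] V)) (U : Submodule k V)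
    (hinv : ∀ h ∈ K, ∀ x ∈ U, h x ∈ U) : ↥K →* (↥U ≃ₗ[k] ↥U) where
  toFun h :=
    { toFun := fun x => ⟨(h : V ≃ₗ[k] V) x, hinv _ h.2 x x.2⟩
      map_add' := fun x y => Subtype.ext (by simp)
      map_smul' := fun c x => Subtype.ext (by simp)
      invFun := fun x => ⟨(h : V ≃ₗ[k] V)⁻¹ x, hinv _ (inv_mem h.2) x x.2⟩
      left_inv := fun x => Subtype.ext ((h : V ≃ₗ[k] V).symm_apply_apply x)
      right_inv := fun x => Subtype.ext ((h : V ≃ₗ[k] V).apply_symm_apply x) }
  map_one' := LinearEquiv.ext fun _ => rfl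
  map_mul' _ _ := LinearEquiv.ext fun _ => rfl

theorem restrictHom_apply {K : Subgroup (V ≃ₗ[k] V)} {U : Submodule k V}
    {hinv : ∀ h ∈ K, ∀ x ∈ U, h x ∈ U} (h : ↥K) (x : ↥U) :
    ((restrictHom K U hinv h x : ↥U) : V) = (h : V ≃ₗ[k] V) x := rfl

/-- A group of automorphisms containing all transvections contains all automorphisms of
determinant one. -/
theorem det_one_mem [FiniteDimensional k V] (G : Subgroup (V ≃ₗ[k] V))
    (h : ∀ (φ : Dual k V) (v : V) (hv : φ v = 0), LinearEquiv.transvection hv ∈ G)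
    (g : V ≃ₗ[k] V) (hg : LinearMap.det (g : V →ₗ[k] V) = 1) : g ∈ G := by
  obtain ⟨b⟩ : Nonempty (Basis (Fin (finrank k V)) k V) := ⟨finBasis k V⟩
  let ψ : Matrix.SpecialLinearGroup (Fin (finrank k V)) k →* (V ≃ₗ[k] V) :=
    { toFun := fun A => LinearEquiv.ofLinear
        (Matrix.toLin b b (A : Matrix _ _ k))
        (Matrix.toLin b b ((A⁻¹ : Matrix.SpecialLinearGroup _ k) : Matrix _ _ k))
        (by rw [← Matrix.toLin_mul, ← Matrix.SpecialLinearGroup.coe_mul, mul_inv_cancel,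
          Matrix.SpecialLinearGroup.coe_one, Matrix.toLin_one])
        (by rw [← Matrix.toLin_mul, ← Matrix.SpecialLinearGroup.coe_mul, inv_mul_cancel,
          Matrix.SpecialLinearGroup.coe_one, Matrix.toLin_one])
      map_one' := LinearEquiv.toLinearMap_injective (by simp)
      map_mul' := fun A B => LinearEquiv.toLinearMap_injective (by
        simp [Matrix.toLin_mul b b b]; rfl) }
  have htop : G.comap ψ = ⊤ := by
    refine CfsgLib.Classical.sl_transvection_induction _ fun i j hij c => ?_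
    have hv : (b.coord j) (c • b i) = 0 := by simp [hij]
    rw [Subgroup.mem_comap]
    convert h _ _ hv using 1
    refine LinearEquiv.ext fun x => ?_
    show Matrix.toLin b b _ x = x + b.coord j x • c • b i
    rw [Matrix.SpecialLinearGroup.transvection_coe]
    simp [map_add, Matrix.toLin_apply, Matrix.single, Matrix.mulVec, dotProduct, ite_and,
      smul_smul, mul_comm]
  have hA : (LinearMap.toMatrix b b (g : V →ₗ[k] V)).det = 1 := by
    rw [LinearMap.det_toMatrix, hg]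
  have : ψ ⟨_, hA⟩ ∈ G := Subgroup.mem_comap.1 (htop ▸ Subgroup.mem_top _)
  convert this using 1
  exact LinearEquiv.toLinearMap_injective (Matrix.toLin_toMatrix b b _).symm

end Restrict

variable {p : ℕ} [Fact p.Prime] {V : Type*} [AddCommGroup V] [Module (ZMod p) V]

/-- The subgroup generated by the transvections of a set of pairs. -/
def tvClosure (C : Set (V × Dual (ZMod p) V)) : Subgroup (V ≃ₗ[ZMod p] V) :=
  Subgroup.closure {g | ∃ t ∈ C, IsTv g t}

theorem tvClosure_le {H : Subgroup (V ≃ₗ[ZMod p] V)} {C : Set (V × Dual (ZMod p) V)}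
    (hC : C ⊆ pairs H) : tvClosure C ≤ H :=
  (Subgroup.closure_le _).2 fun _ ⟨_, ht, hgt⟩ =>
    (hC ht).2.2.2.elim fun _ hg => hg.2.unique hgt ▸ hg.1

theorem tvClosure_fix {C : Set (V × Dual (ZMod p) V)} {x : V} (hx : ∀ t ∈ C, t.2 x = 0)
    {g : V ≃ₗ[ZMod p] V} (hg : g ∈ tvClosure C) : g x = x := by
  induction hg using Subgroup.closure_induction with
  | mem g hg => obtain ⟨t, ht, hgt⟩ := hg; rw [hgt x, hx t ht, zero_smul, add_zero]
  | one => rfl
  | mul a b _ _ iha ihb => rw [LinearEquiv.mul_apply, ihb, iha]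
  | inv a _ ih => exact (congrArg _ ih.symm).trans (a.symm_apply_apply x)

variable [Finite V]

theorem factor_range {H : Subgroup (V ≃ₗ[ZMod p] V)} {C : Set (V × Dual (ZMod p) V)}
    (hC : C ⊆ pairs H) (h : IsTvSys C) (hinv : ∀ g ∈ tvClosure C, ∀ x ∈ cenSp C, g x ∈ cenSp C) :
    ((restrictHom (tvClosure C) (cenSp C) hinv).range : Set (↥(cenSp C) ≃ₗ[ZMod p] ↥(cenSp C))) =
        {f : ↥(cenSp C) ≃ₗ[ZMod p] ↥(cenSp C) |
          LinearMap.det (f : ↥(cenSp C) →ₗ[ZMod p] ↥(cenSp C)) = 1} ∨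
      ∃ B : LinearMap.BilinForm (ZMod p) ↥(cenSp C), B.IsAlt ∧ B.Nondegenerate ∧
        ((restrictHom (tvClosure C) (cenSp C) hinv).range :
            Set (↥(cenSp C) ≃ₗ[ZMod p] ↥(cenSp C))) =
          {f : ↥(cenSp C) ≃ₗ[ZMod p] ↥(cenSp C) | ∀ x y, B (f x) (f y) = B x y} := by
  have : FiniteDimensional (ZMod p) V := Module.Finite.of_finite
  obtain ⟨hcen, hax, hcase⟩ := classify h
  have hnd : ∀ x ∈ cenSp C, (∀ φ ∈ allAx C, φ x = 0) → x = 0 := fun x hx hz => by
    by_contra h0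
    obtain ⟨t, ht, hne⟩ := (hcen x hx h0).not_rad h
    exact hne (hz _ (Submodule.subset_span ⟨t, ht, rfl⟩))
  -- the image of a generator
  have gen_mem : ∀ {g} {t : V × Dual (ZMod p) V}, t ∈ C → IsTv g t → g ∈ tvClosure C :=
    fun ht hgt => Subgroup.subset_closure ⟨_, ht, hgt⟩
  have upper : ∀ (Tgt : Subgroup (↥(cenSp C) ≃ₗ[ZMod p] ↥(cenSp C))),
      (∀ g t (ht : t ∈ C) (hgt : IsTv g t),
        restrictHom (tvClosure C) (cenSp C) hinv ⟨g, gen_mem ht hgt⟩ ∈ Tgt) →
      (restrictHom (tvClosure C) (cenSp C) hinv).range ≤ Tgt := by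
    rintro Tgt hT _ ⟨⟨g, hg⟩, rfl⟩
    induction hg using Subgroup.closure_induction with
    | mem g hg => obtain ⟨t, ht, hgt⟩ := hg; exact hT g t ht hgt
    | one => exact (map_one (restrictHom (tvClosure C) (cenSp C) hinv)).symm ▸ one_mem _
    | mul a b ha hb iha ihb =>
      exact (map_mul (restrictHom (tvClosure C) (cenSp C) hinv) ⟨a, ha⟩ ⟨b, hb⟩).symm ▸
        mul_mem iha ihb
    | inv a ha ih =>
      exact (map_inv (restrictHom (tvClosure C) (cenSp C) hinv) ⟨a, ha⟩).symm ▸ inv_mem ih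
  rcases hcase with hall | ⟨f, hfT, hf⟩
  · left
    obtain ⟨L, hL⟩ : ∃ L : ↥(allAx C) →ₗ[ZMod p] Dual (ZMod p) ↥(cenSp C),
        L = (cenSp C).subtype.dualMap ∘ₗ (allAx C).subtype := ⟨_, rfl⟩
    obtain ⟨M, hM⟩ : ∃ M : ↥(cenSp C) →ₗ[ZMod p] Dual (ZMod p) ↥(allAx C),
        M = L.flip := ⟨_, rfl⟩
    have hLinj : Function.Injective L := by
      rw [← LinearMap.ker_eq_bot, Submodule.eq_bot_iff]
      exact fun φ hφ => Subtype.ext (hax φ φ.2 fun a ha => by
        simpa [hL] using LinearMap.congr_fun (LinearMap.mem_ker.1 hφ) ⟨a, ha⟩)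
    have hMinj : Function.Injective M := by
      rw [← LinearMap.ker_eq_bot, Submodule.eq_bot_iff]
      exact fun x hx => Subtype.ext (hnd x x.2 fun φ hφ => by
        simpa [hM, hL] using LinearMap.congr_fun (LinearMap.mem_ker.1 hx) ⟨φ, hφ⟩)
    have d1 := LinearMap.finrank_le_finrank_of_injective hLinj
    have d2 := LinearMap.finrank_le_finrank_of_injective hMinj
    rw [Subspace.dual_finrank_eq] at d1 d2
    have hLsurj : Function.Surjective L :=
      (LinearMap.injective_iff_surjective_of_finrank_eq_finrank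
        (by rw [Subspace.dual_finrank_eq]; omega)).1 hLinj
    obtain ⟨S, hS⟩ : ∃ S : Subgroup (↥(cenSp C) ≃ₗ[ZMod p] ↥(cenSp C)),
        S = (LinearEquiv.det : (↥(cenSp C) ≃ₗ[ZMod p] ↥(cenSp C)) →* (ZMod p)ˣ).ker := ⟨_, rfl⟩
    have hSmem : ∀ g, g ∈ S ↔
        LinearMap.det (g : ↥(cenSp C) →ₗ[ZMod p] ↥(cenSp C)) = 1 := fun g => by
      rw [hS, MonoidHom.mem_ker, Units.ext_iff, LinearEquiv.coe_det, Units.val_one]
    refine Set.ext fun g => ⟨fun hg => (hSmem g).1 (upper S ?_ hg),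
      det_one_mem _ ?_ g⟩
    · intro g' t ht hgt
      have ha : t.1 ∈ cenSp C := Submodule.subset_span ⟨t, ht, rfl⟩
      have h0 : (t.2 ∘ₗ (cenSp C).subtype) (⟨t.1, ha⟩ : ↥(cenSp C)) = 0 := h.orth ht
      rw [show restrictHom (tvClosure C) (cenSp C) hinv ⟨g', gen_mem ht hgt⟩ =
          LinearEquiv.transvection h0 from LinearEquiv.ext fun x => Subtype.ext (hgt x), hS,
        MonoidHom.mem_ker]
      exact LinearEquiv.transvection.det_eq_one h0
    · intro φ v hv
      by_cases hv0 : v = 0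
      · rw [show LinearEquiv.transvection hv = 1 from LinearEquiv.ext fun x => by
          simp [LinearEquiv.transvection.apply, LinearMap.transvection.apply, hv0]]
        exact one_mem _
      by_cases hφ0 : φ = 0
      · rw [show LinearEquiv.transvection hv = 1 from LinearEquiv.ext fun x => by
          simp [LinearEquiv.transvection.apply, LinearMap.transvection.apply, hφ0]]
        exact one_mem _
      obtain ⟨ω, rfl⟩ := hLsurj φ
      have hω : (ω : Dual (ZMod p) V) (v : V) = 0 := by simpa [hL] using hv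
      have hω0 : (ω : Dual (ZMod p) V) ≠ 0 := fun e => hφ0 (by
        rw [show ω = 0 from Subtype.ext e, map_zero])
      have ht := hall v ω v.2 (fun e => hv0 (Subtype.ext e)) ω.2 hω0 hω
      obtain ⟨g', -, hgt⟩ := (hC ht).2.2.2
      refine ⟨⟨g', gen_mem ht hgt⟩, LinearEquiv.ext fun x => Subtype.ext ?_⟩
      rw [restrictHom_apply]
      simp [hgt (x : V), LinearEquiv.transvection.apply, LinearMap.transvection.apply, hL]
  · right
    obtain ⟨B, hB⟩ : ∃ B : LinearMap.BilinForm (ZMod p) ↥(cenSp C),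
        B = ((cenSp C).subtype.dualMap ∘ₗ f).flip := ⟨_, rfl⟩
    have hBapply : ∀ x y : ↥(cenSp C), B x y = f y x := fun x y => by simp [hB]
    have hA : ∀ x : ↥(cenSp C), B x x = 0 := fun x => by
      rw [hBapply]
      by_cases hx : x = 0
      · simp [hx]
      · exact h.orth (hfT x hx)
    have hsep : ∀ x, (∀ y, B x y = 0) → x = 0 := fun x hx => Subtype.ext (hnd x x.2 fun φ hφ => by
      induction hφ using Submodule.span_induction with
      | mem ψ hψ =>
        obtain ⟨⟨a, χ⟩, ht, rfl⟩ := hψ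
        obtain ⟨c, hc⟩ := hf a χ (Cen.mem_cenSp ⟨χ, ht⟩) ht
        have e : f ⟨a, Cen.mem_cenSp ⟨χ, ht⟩⟩ x = 0 := hBapply x _ ▸ hx _
        simp [hc, e]
      | zero => rfl
      | add φ ψ _ _ h1 h2 => simp [h1, h2]
      | smul c φ _ h1 => simp [h1])
    refine ⟨B, hA, ⟨hsep, fun y hy => hsep y fun x => ?_⟩, ?_⟩
    · rw [CfsgLib.Geom.alt_swap B hA x y, hy x, neg_zero]
    refine Set.ext fun g => ⟨fun hg => upper (CfsgLib.Geom.formIsoms B) ?_ hg, fun hg => ?_⟩
    · intro g' t ht hgt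
      have ha : t.1 ∈ cenSp C := Submodule.subset_span ⟨t, ht, rfl⟩
      obtain ⟨c, hc⟩ := hf t.1 t.2 ha ht
      refine CfsgLib.Geom.altTransvectionSet_closure_le B hA
        (Subgroup.subset_closure ⟨⟨t.1, ha⟩, c, fun z => Subtype.ext ?_⟩)
      rw [restrictHom_apply]
      simp [hgt (z : V), hc, hBapply]
    · have hg' : g ∈ CfsgLib.Geom.formIsoms B := hg
      rw [CfsgLib.Geom.formIsoms_eq_closure_alt B hA hsep] at hg'
      refine (Subgroup.closure_le _).2 ?_ hg'
      rintro e ⟨q, c, he⟩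
      by_cases hq : q = 0
      · rw [show e = 1 from LinearEquiv.ext fun z => by rw [he, hq]; simp]
        exact one_mem _
      by_cases hc : c = 0
      · rw [show e = 1 from LinearEquiv.ext fun z => by rw [he, hc]; simp]
        exact one_mem _
      have ht := h.smul_right c hc (hfT q hq)
      obtain ⟨g', -, hgt⟩ := (hC ht).2.2.2
      refine ⟨⟨g', gen_mem ht hgt⟩, LinearEquiv.ext fun z => Subtype.ext ?_⟩
      rw [restrictHom_apply]
      simp [hgt (z : V), he, hBapply]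

theorem exists_decomposition (hp : Odd p) {H : Subgroup (V ≃ₗ[ZMod p] V)}
    (hO : Cfsg.pCore p ↥H = ⊥) (hgen : Gen H) (hne : (pairs H).Nonempty) :
    ∃ (n : ℕ) (C : Fin n → Set (V × Dual (ZMod p) V)) (W₀ : Submodule (ZMod p) V),
      1 ≤ n ∧ (∀ j, C j ⊆ pairs H ∧ IsTvSys (C j)) ∧
      (∀ t ∈ pairs H, ∃ j, t ∈ C j) ∧
      (∀ i j, i ≠ j → ∀ t ∈ C i, ∀ x ∈ cenSp (C j), t.2 x = 0) ∧
      (∀ t ∈ pairs H, ∀ x ∈ W₀, t.2 x = 0) ∧
      DirectSum.IsInternal (Fin.cons W₀ fun j => cenSp (C j) : Fin (n + 1) → Submodule (ZMod p) V) := by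
  have : FiniteDimensional (ZMod p) V := Module.Finite.of_finite
  have : Finite (Dual (ZMod p) V) := Finite.of_injective _ DFunLike.coe_injective
  obtain ⟨n, e⟩ := Finite.exists_equiv_fin ↥(compOf H '' pairs H)
  obtain ⟨e⟩ := e
  obtain ⟨C, hCdef⟩ : ∃ C : Fin n → Set (V × Dual (ZMod p) V), ∀ j, C j = (e.symm j).1 :=
    ⟨_, fun _ => rfl⟩
  have hC : ∀ j, ∃ t₀ ∈ pairs H, C j = compOf H t₀ := fun j => by
    obtain ⟨t₀, ht₀, h⟩ := (e.symm j).2
    exact ⟨t₀, ht₀, by rw [hCdef, h]⟩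
  have hsub : ∀ j, C j ⊆ pairs H ∧ IsTvSys (C j) := fun j => by
    obtain ⟨t₀, ht₀, h⟩ := hC j
    exact h ▸ ⟨fun t ht => ht.1, compOf_isTvSys hp hO hgen ht₀⟩
  have hcover : ∀ t ∈ pairs H, ∃ j, t ∈ C j := fun t ht => ⟨e ⟨_, t, ht, rfl⟩, by
    rw [hCdef, Equiv.symm_apply_apply]; exact ⟨ht, .refl _⟩⟩
  have huniq : ∀ i j t, t ∈ C i → t ∈ C j → i = j := fun i j t hi hj => by
    obtain ⟨a, -, ha⟩ := hC i
    obtain ⟨b, -, hb⟩ := hC j
    rw [ha] at hi; rw [hb] at hj
    apply e.symm.injective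
    apply Subtype.ext
    rw [← hCdef, ← hCdef, ha, hb, ← compOf_eq hi, ← compOf_eq hj]
  have hzero : ∀ i j, i ≠ j → ∀ t ∈ C i, ∀ x ∈ cenSp (C j), t.2 x = 0 := by
    intro i j hij t ht x hx
    suffices cenSp (C j) ≤ LinearMap.ker t.2 from this hx
    rw [cenSp, Submodule.span_le]
    rintro _ ⟨u, hu, rfl⟩
    obtain ⟨a, -, ha⟩ := hC i
    exact (compOf_zero (ha ▸ ht) ((hsub j).1 hu)
      (ha ▸ fun h => hij (huniq i j u h hu))).1
  obtain ⟨W₀, hW₀⟩ : ∃ W₀ : Submodule (ZMod p) V, W₀ = ⨅ t ∈ pairs H, LinearMap.ker t.2 :=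
    ⟨_, rfl⟩
  have hW₀z : ∀ t ∈ pairs H, ∀ x ∈ W₀, t.2 x = 0 := fun t ht x hx => by
    rw [hW₀] at hx
    simp only [Submodule.mem_iInf, LinearMap.mem_ker] at hx
    exact hx t ht
  refine ⟨n, C, W₀, ?_, hsub, hcover, hzero, hW₀z, ?_⟩
  · obtain ⟨t, ht⟩ := hne
    exact (hcover t ht).elim fun j _ => j.pos
  have hzero' : ∀ i j, i ≠ j → ∀ φ ∈ allAx (C i), ∀ x ∈ cenSp (C j), φ x = 0 := by
    intro i j hij φ hφ x hx
    suffices allAx (C i) ≤ LinearMap.ker (Dual.eval (ZMod p) V x) from LinearMap.mem_ker.1 (this hφ)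
    rw [allAx, Submodule.span_le]
    rintro _ ⟨t, ht, rfl⟩
    exact hzero i j hij t ht x hx
  have hW₀' : ∀ i, ∀ φ ∈ allAx (C i), ∀ x ∈ W₀, φ x = 0 := by
    intro i φ hφ x hx
    suffices allAx (C i) ≤ LinearMap.ker (Dual.eval (ZMod p) V x) from LinearMap.mem_ker.1 (this hφ)
    rw [allAx, Submodule.span_le]
    rintro _ ⟨t, ht, rfl⟩
    exact hW₀z t ((hsub i).1 ht) x hx
  have hnd : ∀ j, ∀ x ∈ cenSp (C j), (∀ φ ∈ allAx (C j), φ x = 0) → x = 0 := fun j x hx hz => by
    by_contra h0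
    obtain ⟨t, ht, hne'⟩ := ((classify (hsub j).2).1 x hx h0).not_rad (hsub j).2
    exact hne' (hz _ (Submodule.subset_span ⟨t, ht, rfl⟩))
  have hsurj : ∀ j v, ∃ u ∈ cenSp (C j), ∀ φ ∈ allAx (C j), φ u = φ v := by
    intro j v
    obtain ⟨L, hL⟩ : ∃ L : ↥(allAx (C j)) →ₗ[ZMod p] Dual (ZMod p) ↥(cenSp (C j)),
        L = (cenSp (C j)).subtype.dualMap ∘ₗ (allAx (C j)).subtype := ⟨_, rfl⟩
    have hLinj : Function.Injective L := by
      rw [← LinearMap.ker_eq_bot, Submodule.eq_bot_iff]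
      exact fun φ hφ => Subtype.ext ((classify (hsub j).2).2.1 φ φ.2 fun a ha => by
        simpa [hL] using LinearMap.congr_fun (LinearMap.mem_ker.1 hφ) ⟨a, ha⟩)
    have hMinj : Function.Injective L.flip := by
      rw [← LinearMap.ker_eq_bot, Submodule.eq_bot_iff]
      exact fun x hx => Subtype.ext (hnd j x x.2 fun φ hφ => by
        simpa [hL] using LinearMap.congr_fun (LinearMap.mem_ker.1 hx) ⟨φ, hφ⟩)
    have d1 := LinearMap.finrank_le_finrank_of_injective hLinj
    have d2 := LinearMap.finrank_le_finrank_of_injective hMinj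
    rw [Subspace.dual_finrank_eq] at d1 d2
    have hMsurj : Function.Surjective L.flip :=
      (LinearMap.injective_iff_surjective_of_finrank_eq_finrank
        (by rw [Subspace.dual_finrank_eq]; omega)).1 hMinj
    obtain ⟨u, hu⟩ := hMsurj (Dual.eval (ZMod p) V v ∘ₗ (allAx (C j)).subtype)
    exact ⟨u, u.2, fun φ hφ => by simpa [hL] using LinearMap.congr_fun hu ⟨φ, hφ⟩⟩
  rw [DirectSum.isInternal_submodule_iff_iSupIndep_and_iSup_eq_top]
  constructor
  · rw [iSupIndep_def]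
    intro i
    rw [disjoint_iff, Submodule.eq_bot_iff]
    rintro x ⟨hx, hx'⟩
    rcases Fin.eq_zero_or_eq_succ i with rfl | ⟨j, rfl⟩
    · simp only [Fin.cons_zero] at hx
      have hx2 : x ∈ ⨆ j, cenSp (C j) := by
        refine (iSup₂_le fun l hl => ?_ :
          (⨆ l, ⨆ _ : l ≠ 0, (Fin.cons W₀ fun j => cenSp (C j) :
            Fin (n + 1) → Submodule (ZMod p) V) l) ≤ ⨆ j, cenSp (C j)) hx'
        obtain ⟨j, rfl⟩ := Fin.exists_succ_eq.2 hl
        simp only [Fin.cons_succ]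
        exact le_iSup (fun j => cenSp (C j)) j
      obtain ⟨f, hf, hsum⟩ := (Submodule.mem_iSup_iff_exists_finsupp _ x).1 hx2
      rw [← hsum, Finsupp.sum]
      refine Finset.sum_eq_zero fun j hj => hnd j (f j) (hf j) fun φ hφ => ?_
      have e1 := hW₀' j φ hφ x hx
      rw [← hsum, Finsupp.sum, map_sum, Finset.sum_eq_single_of_mem j hj
        fun i _ hij => hzero' j i hij.symm φ hφ _ (hf i)] at e1
      exact e1
    · simp only [Fin.cons_succ] at hx
      refine hnd j x hx fun φ hφ => ?_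
      suffices (⨆ l, ⨆ _ : l ≠ j.succ, (Fin.cons W₀ fun j => cenSp (C j) :
          Fin (n + 1) → Submodule (ZMod p) V) l) ≤ LinearMap.ker φ from
        LinearMap.mem_ker.1 (this hx')
      refine iSup₂_le fun l hl y hy => LinearMap.mem_ker.2 ?_
      rcases Fin.eq_zero_or_eq_succ l with rfl | ⟨i, rfl⟩
      · simp only [Fin.cons_zero] at hy
        exact hW₀' j φ hφ y hy
      · simp only [Fin.cons_succ] at hy
        exact hzero' j i (fun h => hl (by rw [h])) φ hφ y hy
  · rw [eq_top_iff]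
    intro v _
    choose u hu hu' using fun j => hsurj j v
    have hv : v - ∑ j, u j ∈ W₀ := by
      rw [hW₀]
      simp only [Submodule.mem_iInf, LinearMap.mem_ker]
      intro t ht
      obtain ⟨j, hj⟩ := hcover t ht
      rw [map_sub, map_sum, Finset.sum_eq_single_of_mem j (Finset.mem_univ j)
        fun i _ hij => hzero j i hij.symm t hj _ (hu i),
        hu' j t.2 (Submodule.subset_span ⟨t, hj, rfl⟩), sub_self]
    rw [← sub_add_cancel v (∑ j, u j)]
    refine add_mem (Submodule.mem_iSup_of_mem 0 (by simpa using hv))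
      (Submodule.sum_mem _ fun j _ => Submodule.mem_iSup_of_mem j.succ (by simpa using hu j))

end CfsgLib.PLocal.TvSys
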