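import Cfsg.Agent.Lib.PLocal.TvSysPlane

/-!
Transvection systems in which every centre has one line of axes: the pairs are the pairs
`(x, c • Σ x)` for an alternating `Σ`.
-/

set_option autoImplicit false

namespace CfsgLib.PLocal.TvSys

open Module

variable {k V : Type*} [Field k] [AddCommGroup V] [Module k V] [FiniteDimensional k V]
  {T : Set (V × Dual k V)}

/-- The span of all centres. -/
def cenSp (T : Set (V × Dual k V)) : Submodule k V := Submodule.span k (Prod.fst '' T)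

omit [FiniteDimensional k V] in
theorem Cen.mem_cenSp {a : V} (ha : Cen T a) : a ∈ cenSp T :=
  ha.elim fun φ hφ => Submodule.subset_span ⟨(a, φ), hφ, rfl⟩

omit [FiniteDimensional k V] in
theorem cen_of_mem_cenSp (h : IsTvSys T)
    (hadd : ∀ a b, Cen T a → Cen T b → a + b ≠ 0 → Cen T (a + b)) {x : V} (hx : x ∈ cenSp T)
    (hx0 : x ≠ 0) : Cen T x := by
  refine (?_ : x = 0 ∨ Cen T x).resolve_left hx0
  clear hx0
  induction hx using Submodule.span_induction with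
  | mem y hy => obtain ⟨t, ht, rfl⟩ := hy; exact .inr ⟨t.2, ht⟩
  | zero => exact .inl rfl
  | add y z _ _ hy hz =>
    rcases hy with rfl | hy
    · simpa using hz
    rcases hz with rfl | hz
    · exact .inr (by simpa using hy)
    by_cases e : y + z = 0
    · exact .inl e
    · exact .inr (hadd y z hy hz e)
  | smul c y _ hy =>
    rcases hy with rfl | hy
    · exact .inl (smul_zero c)
    by_cases hc : c = 0
    · exact .inl (by simp [hc])
    · exact .inr (hy.smul h hc)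

section Line

variable (hl : ∀ a, Cen T a → finrank k (axSp T a) = 1)

include hl

theorem axis_unique (h : IsTvSys T) {a : V} {φ ψ : Dual k V} (h1 : (a, φ) ∈ T)
    (h2 : (a, ψ) ∈ T) : ∃ c : k, c ≠ 0 ∧ ψ = c • φ := by
  obtain ⟨c, hc⟩ := exists_smul_eq_of_finrank_eq_one (hl a ⟨φ, h1⟩)
    (x := ⟨φ, mem_axSp_of_mem h1⟩) (fun e => h.right_ne h1 (congrArg Subtype.val e))
    ⟨ψ, mem_axSp_of_mem h2⟩
  have e : c • φ = ψ := congrArg Subtype.val hc
  exact ⟨c, fun e' => h.right_ne h2 (by rw [← e, e', zero_smul]), e.symm⟩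

theorem adj_iff (h : IsTvSys T) {a b : V} {φ : Dual k V} (ha : (a, φ) ∈ T) :
    Adj T a b ↔ φ b ≠ 0 := by
  refine ⟨fun ⟨ψ, hψ, hne⟩ e => ?_, fun e => ⟨φ, ha, e⟩⟩
  obtain ⟨c, -, rfl⟩ := axis_unique hl h ha hψ
  exact hne (by simp [e])

theorem link_symm (h : IsTvSys T) {a b : V} {φ ψ : Dual k V} (ha : (a, φ) ∈ T)
    (hb : (b, ψ) ∈ T) : φ b ≠ 0 ↔ ψ a ≠ 0 := by
  rw [← adj_iff hl h ha, ← adj_iff hl h hb]
  exact ⟨fun e => e.symm h ⟨ψ, hb⟩, fun e => e.symm h ⟨φ, ha⟩⟩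

omit hl [FiniteDimensional k V] in
theorem pair_add (h : IsTvSys T) {a b : V} {φ ψ : Dual k V} (ha : (a, φ) ∈ T)
    (hb : (b, ψ) ∈ T) (h1 : φ b ≠ 0) (h2 : ψ a = -φ b) (t : k) :
    (a + t • b, φ + t • ψ) ∈ T := by
  by_cases ht : t = 0
  · simpa [ht] using ha
  have hψa : ψ a ≠ 0 := by simp [h2, h1]
  have := h.conj ha (h.smul_right (t / ψ a) (div_ne_zero ht hψa) hb)
  have e : φ b * (t / ψ a) = -t := by rw [h2]; field_simp
  simpa [smul_smul, div_mul_cancel₀ t hψa, e] using this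

theorem common_nbr (h : IsTvSys T) {a b : V} (ha : Cen T a) (hb : Cen T b) :
    Adj T a b ∨ ∃ c, Adj T a c ∧ Adj T c b := by
  refine cen_conn h (fun b => Adj T a b ∨ ∃ c, Adj T a c ∧ Adj T c b) ?_ ha ?_ hb
  · intro b e hb he hbe hS
    rcases hS with hab | ⟨c, hac, hcb⟩
    · exact .inr ⟨b, hab, hbe⟩
    by_cases hae : Adj T a e
    · exact .inl hae
    by_cases hab : Adj T a b
    · exact .inr ⟨b, hab, hbe⟩
    by_cases hce : Adj T c e
    · exact .inr ⟨c, hac, hce⟩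
    obtain ⟨φ, hφ⟩ := ha
    obtain ⟨χ, hχ, hχb⟩ := hcb
    obtain ⟨ψ, hψ⟩ := hb
    rw [adj_iff hl h hψ] at hbe
    rw [adj_iff hl h hφ] at hac hab
    rw [adj_iff hl h hχ] at hce
    have hnew := h.conj hχ hψ
    refine .inr ⟨_, (adj_iff hl h hφ).2 ?_, (adj_iff hl h hnew).2 ?_⟩
    · simp [not_ne_iff.1 hab, hac]
    · simp [not_ne_iff.1 hce, hχb, hbe]
  · obtain ⟨c, hc, hac⟩ := ha.exists_adj h
    exact .inr ⟨c, hac, hac.symm h hc⟩

theorem cen_add_of_nbr (h : IsTvSys T) {a b c : V} {φ ψ χ : Dual k V} (ha : (a, φ) ∈ T)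
    (hb : (b, ψ) ∈ T) (hc : (c, χ) ∈ T) (hab : φ b = 0) (h1 : χ a ≠ 0) (h2 : χ b ≠ 0)
    (h3 : χ a + χ b ≠ 0) : Cen T (a + b) := by
  have n1 := h.conj ha hc
  have n2 := h.conj hb (h.smul_right (-(χ a) / χ b) (div_ne_zero (neg_ne_zero.2 h1) h2) hc)
  have e : ((-(χ a) / χ b) • χ) b = -χ a := div_mul_cancel₀ _ h2
  rw [e] at n2
  have hφc : φ c ≠ 0 := (link_symm hl h hc ha).1 h1
  have hadj : Adj T (a + χ a • c) (b + (-χ a) • c) :=
    ⟨_, n1, by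
      have : (φ - φ c • χ) (b + (-χ a) • c) = -(φ c * (χ a + χ b)) := by
        simp only [LinearMap.sub_apply, LinearMap.smul_apply, map_add, map_smul, smul_eq_mul,
          hab, h.orth hc]
        ring
      rw [this, neg_ne_zero]
      exact mul_ne_zero hφc h3⟩
  have := hadj.cen_add h ⟨_, n2⟩
  rwa [show a + χ a • c + (b + (-χ a) • c) = a + b by module] at this

theorem cen_add_aux (h : IsTvSys T) {a b c e : V} {φ ψ χ ε : Dual k V} (ha : (a, φ) ∈ T)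
    (hb : (b, ψ) ∈ T) (hc : (c, χ) ∈ T) (he : (e, ε) ∈ T) (hab : φ b = 0) (h1 : χ a ≠ 0)
    (h2 : χ b ≠ 0) (h3 : χ a + χ b = 0) (h4 : ε a ≠ 0) (h5 : ε b = 0) (h6 : χ e ≠ 0) :
    Cen T (a + b) := by
  obtain ⟨s, hs⟩ : ∃ s, s = -χ a / (χ e * ε a) := ⟨_, rfl⟩
  have hs0 : s ≠ 0 := hs ▸ div_ne_zero (neg_ne_zero.2 h1) (mul_ne_zero h6 h4)
  have hnew := h.conj hc (h.smul_right s hs0 he)
  have e1 : (χ - χ e • s • ε) a = 2 * χ a := by
    simp only [LinearMap.sub_apply, LinearMap.smul_apply, smul_eq_mul, hs]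
    field_simp; ring
  have e2 : (χ - χ e • s • ε) b = χ b := by simp [h5]
  refine cen_add_of_nbr hl h ha hb hnew hab ?_ (by rwa [e2]) ?_
  · rw [e1]; exact mul_ne_zero h.two_ne h1
  · rw [e1, e2]
    intro hz
    apply h1
    linear_combination hz - h3

theorem cen_add_line (h : IsTvSys T) (a b : V) (ha : Cen T a) (hb : Cen T b) (h0 : a + b ≠ 0) :
    Cen T (a + b) := by
  by_cases hab : Adj T a b
  · exact hab.cen_add h hb
  obtain ⟨φ, hφ⟩ := ha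
  obtain ⟨ψ, hψ⟩ := hb
  obtain ⟨⟨e, ε⟩, ht, hne⟩ : ∃ t ∈ T, t.2 (a + b) ≠ 0 := by
    by_contra hn
    push Not at hn
    have := h.inj hφ (h.smul_left (-1 : k) (by simp) hψ) fun t ht => by
      rw [map_smul, smul_eq_mul, neg_one_mul, ← add_eq_zero_iff_eq_neg, ← map_add]
      exact hn t ht
    exact h0 (by rw [this]; module)
  replace hne : ε (a + b) ≠ 0 := hne
  rw [map_add] at hne
  rcases (common_nbr hl h ⟨φ, hφ⟩ ⟨ψ, hψ⟩).resolve_left hab with ⟨c, hac, hcb⟩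
  obtain ⟨χ, hχ, hχb⟩ := hcb
  rw [adj_iff hl h hφ] at hab hac
  have hφb : φ b = 0 := not_ne_iff.1 hab
  have hψa : ψ a = 0 := not_ne_iff.1 fun e' => hab ((link_symm hl h hψ hφ).1 e')
  have hχa : χ a ≠ 0 := (link_symm hl h hφ hχ).1 hac
  by_cases hs : χ a + χ b ≠ 0
  · exact cen_add_of_nbr hl h hφ hψ hχ hφb hχa hχb hs
  rw [not_ne_iff] at hs
  have main : ∀ {a b : V} {φ ψ : Dual k V}, (a, φ) ∈ T → (b, ψ) ∈ T → φ b = 0 → χ a ≠ 0 →
      χ b ≠ 0 → χ a + χ b = 0 → ε a + ε b ≠ 0 → ε a ≠ 0 → Cen T (a + b) := by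
    intro a b φ ψ hφ hψ hφb hχa hχb hs hne hεa
    by_cases hεb : ε b = 0
    · by_cases hχe : χ e = 0
      · have hεc : ε c = 0 := not_ne_iff.1 fun e' => (link_symm hl h ht hχ).1 e' hχe
        have hφc : φ c ≠ 0 := (link_symm hl h hχ hφ).1 hχa
        have hnew := h.conj ht hφ
        refine cen_add_aux hl h hφ hψ hχ hnew hφb hχa hχb hs ?_ ?_
          ((link_symm hl h hnew hχ).1 ?_)
        · simpa [h.orth hφ] using hεa
        · simp [hεb, hφb]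
        · simp [hεc, hεa, hφc]
      · exact cen_add_aux hl h hφ hψ hχ ht hφb hχa hχb hs hεa hεb hχe
    · exact cen_add_of_nbr hl h hφ hψ ht hφb hεa hεb hne
  by_cases hεa : ε a = 0
  · have hεb : ε b ≠ 0 := fun e' => hne (by rw [hεa, e', add_zero])
    rw [add_comm]
    exact main hψ hφ hψa hχb hχa (by rwa [add_comm]) (by rwa [add_comm]) hεb
  · exact main hφ hψ hφb hχa hχb hs hne hεa

end Line

/-- `χ` is the normalised axis of `v` with respect to the pair `(a₀, φ₀)`. -/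
def Nrm (T : Set (V × Dual k V)) (a₀ : V) (φ₀ : Dual k V) (v : V) (χ : Dual k V) : Prop :=
  (v, χ) ∈ T ∧ φ₀ v ≠ 0 ∧ χ a₀ = -φ₀ v

section Form

variable (hl : ∀ a, Cen T a → finrank k (axSp T a) = 1) {a₀ : V} {φ₀ : Dual k V}

omit [FiniteDimensional k V] in
theorem Nrm.smul (h : IsTvSys T) {v : V} {χ : Dual k V} (hv : Nrm T a₀ φ₀ v χ) {c : k}
    (hc : c ≠ 0) : Nrm T a₀ φ₀ (c • v) (c • χ) :=
  ⟨h.smul_left c hc (h.smul_right c hc hv.1), by simp [hc, hv.2.1], by simp [hv.2.2]⟩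

include hl

theorem Nrm.unique (h : IsTvSys T) {v : V} {χ χ' : Dual k V} (h1 : Nrm T a₀ φ₀ v χ)
    (h2 : Nrm T a₀ φ₀ v χ') : χ' = χ := by
  obtain ⟨c, -, rfl⟩ := axis_unique hl h h1.1 h2.1
  have := h2.2.2
  rw [LinearMap.smul_apply, smul_eq_mul, h1.2.2, mul_neg, neg_inj, mul_eq_right₀ h1.2.1] at this
  rw [this, one_smul]

theorem exists_nrm (h : IsTvSys T) (h₀ : (a₀, φ₀) ∈ T) {v : V} (hv : Cen T v)
    (hv0 : φ₀ v ≠ 0) : ∃ χ, Nrm T a₀ φ₀ v χ := by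
  obtain ⟨χ, hχ⟩ := hv
  have hχ0 : χ a₀ ≠ 0 := (link_symm hl h h₀ hχ).1 hv0
  exact ⟨(-φ₀ v / χ a₀) • χ, h.smul_right _ (div_ne_zero (neg_ne_zero.2 hv0) hχ0) hχ, hv0,
    div_mul_cancel₀ _ hχ0⟩

theorem Nrm.anti (h : IsTvSys T) (h₀ : (a₀, φ₀) ∈ T) {v w : V} {χ ω : Dual k V}
    (hv : Nrm T a₀ φ₀ v χ) (hw : Nrm T a₀ φ₀ w ω) : χ w + ω v = 0 := by
  by_cases hωv : ω v = 0
  · have : χ w = 0 := not_ne_iff.1 fun e => (link_symm hl h hv.1 hw.1).1 e hωv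
    rw [this, hωv, add_zero]
  obtain ⟨l, hl'⟩ : ∃ l, l = -ω v / (φ₀ w * φ₀ v) := ⟨_, rfl⟩
  have hl0 : l ≠ 0 := hl' ▸ div_ne_zero (neg_ne_zero.2 hωv) (mul_ne_zero hw.2.1 hv.2.1)
  have hnew := h.conj hw.1 (h.smul_right l hl0 h₀)
  have e : (ω - ω a₀ • l • φ₀) v = 0 := by
    simp only [LinearMap.sub_apply, LinearMap.smul_apply, smul_eq_mul, hw.2.2, hl']
    field_simp [hw.2.1, hv.2.1]
    ring
  have e2 : χ (w + (l • φ₀) w • a₀) = 0 :=
    not_ne_iff.1 fun e' => (link_symm hl h hv.1 hnew).1 e' e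
  simp only [map_add, map_smul, LinearMap.smul_apply, smul_eq_mul, hv.2.2, hl'] at e2
  field_simp [hw.2.1, hv.2.1] at e2
  linear_combination e2

theorem Nrm.add (h : IsTvSys T) (h₀ : (a₀, φ₀) ∈ T) {v w : V} {χ ω : Dual k V}
    (hv : Nrm T a₀ φ₀ v χ) (hw : Nrm T a₀ φ₀ w ω) (hs : φ₀ v + φ₀ w ≠ 0) :
    Nrm T a₀ φ₀ (v + w) (χ + ω) := by
  refine ⟨?_, by rwa [map_add], by rw [LinearMap.add_apply, hv.2.2, hw.2.2, map_add, neg_add]⟩
  have hanti := Nrm.anti hl h h₀ hv hw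
  by_cases hχw : χ w = 0
  · have hωv : ω v = 0 := by linear_combination hanti - hχw
    obtain ⟨α, hα⟩ : ∃ α, α = φ₀ v := ⟨_, rfl⟩
    obtain ⟨γ, hγ⟩ : ∃ γ, γ = φ₀ w := ⟨_, rfl⟩
    have hα0 : α ≠ 0 := hα ▸ hv.2.1
    have hγ0 : γ ≠ 0 := hγ ▸ hw.2.1
    have m1 : (v + α • a₀, χ + α • φ₀) ∈ T := by
      have := h.conj hv.1 h₀
      rw [hv.2.2, ← hα] at this
      rwa [show χ - -α • φ₀ = χ + α • φ₀ by module] at this
    have m2 : (w + (-α) • a₀, ω + (-α) • φ₀) ∈ T := by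
      have := h.conj hw.1 (h.smul_right (-α / γ) (div_ne_zero (neg_ne_zero.2 hα0) hγ0) h₀)
      have e1 : ((-α / γ) • φ₀) w = -α := by
        rw [LinearMap.smul_apply, smul_eq_mul, ← hγ, div_mul_cancel₀ _ hγ0]
      have e2 : ω - ω a₀ • (-α / γ) • φ₀ = ω + (-α) • φ₀ := by
        rw [hw.2.2, ← hγ, smul_smul, show -γ * (-α / γ) = α by field_simp]
        module
      rwa [e1, e2] at this
    have v1 : (χ + α • φ₀) (w + (-α) • a₀) = α * (α + γ) := by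
      simp only [LinearMap.add_apply, LinearMap.smul_apply, map_add, map_smul, smul_eq_mul,
        hχw, hv.2.2, h.orth h₀, ← hα, ← hγ]
      ring
    have v2 : (ω + (-α) • φ₀) (v + α • a₀) = -(α * (α + γ)) := by
      simp only [LinearMap.add_apply, LinearMap.smul_apply, map_add, map_smul, smul_eq_mul,
        hωv, hw.2.2, h.orth h₀, ← hα, ← hγ]
      ring
    have := pair_add h m1 m2 (by rw [v1]; exact mul_ne_zero hα0 (by rwa [hα, hγ]))
      (by rw [v1, v2]) 1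
    convert this using 2
    · module
    · module
  · simpa using pair_add h hv.1 hw.1 hχw (by linear_combination hanti) 1

/-- In the line case there is a linear map sending every centre to one of its axes. -/
theorem exists_axis_map (h : IsTvSys T) :
    ∃ f : ↥(cenSp T) →ₗ[k] Dual k V,
      (∀ x : ↥(cenSp T), x ≠ 0 → ((x : V), f x) ∈ T) ∧
      ∀ (a : V) (φ : Dual k V) (ha : a ∈ cenSp T), (a, φ) ∈ T → ∃ c : k, φ = c • f ⟨a, ha⟩ := by
  obtain ⟨⟨a₀, φ₀⟩, h₀⟩ := h.nonempty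
  have hadd := cen_add_line hl h
  obtain ⟨⟨e₁, ε₁⟩, he₁, hne₁⟩ := h.no_rad h₀
  obtain ⟨e, he, hαe⟩ : ∃ e, Cen T e ∧ φ₀ e = 1 :=
    ⟨(φ₀ e₁)⁻¹ • e₁, Cen.smul h ⟨ε₁, he₁⟩ (inv_ne_zero hne₁), by simp [inv_mul_cancel₀ hne₁]⟩
  have hex : ∀ x ∈ cenSp T, φ₀ x ≠ 0 → ∃ χ, Nrm T a₀ φ₀ x χ := fun x hx hα =>
    exists_nrm hl h h₀ (cen_of_mem_cenSp h hadd hx fun e => hα (by simp [e])) hα
  have : Nonempty (Dual k V) := ⟨0⟩
  choose! σ hσ using hex
  have hne1 : φ₀ e ≠ 0 := by simp [hαe]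
  have heU := he.mem_cenSp
  have hσadd : ∀ x ∈ cenSp T, ∀ y ∈ cenSp T, φ₀ x ≠ 0 → φ₀ y ≠ 0 → φ₀ x + φ₀ y ≠ 0 →
      σ (x + y) = σ x + σ y := fun x hx y hy h1 h2 h3 =>
    Nrm.unique hl h (Nrm.add hl h h₀ (hσ x hx h1) (hσ y hy h2) h3)
      (hσ _ (add_mem hx hy) (by rwa [map_add]))
  have hσsmul : ∀ x ∈ cenSp T, ∀ c : k, φ₀ x ≠ 0 → c ≠ 0 → σ (c • x) = c • σ x :=
    fun x hx c h1 hc => Nrm.unique hl h ((hσ x hx h1).smul h hc)
      (hσ _ (Submodule.smul_mem _ c hx) (by simp [hc, h1]))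
  obtain ⟨pr, hpr⟩ : ∃ pr : ↥(cenSp T) → V, ∀ x, pr x = (x : V) + (1 - φ₀ x) • e :=
    ⟨_, fun _ => rfl⟩
  have prU : ∀ x, pr x ∈ cenSp T := fun x => hpr x ▸ add_mem x.2 (Submodule.smul_mem _ _ heU)
  have prα : ∀ x, φ₀ (pr x) = 1 := fun x => by simp [hpr, hαe]
  have prne : ∀ x, φ₀ (pr x) ≠ 0 := fun x => by simp [prα]
  let f : ↥(cenSp T) →ₗ[k] Dual k V :=
    { toFun := fun x => σ (pr x) - (1 - φ₀ x) • σ e
      map_add' := fun x y => by
        have e1 := hσadd _ (prU x) _ (prU y) (prne x) (prne y)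
          (by rw [prα, prα, one_add_one_eq_two]; exact h.two_ne)
        have e2 := hσadd _ (prU (x + y)) e heU (prne _) hne1
          (by rw [prα, hαe, one_add_one_eq_two]; exact h.two_ne)
        have e3 : pr x + pr y = pr (x + y) + e := by
          simp only [hpr, Submodule.coe_add, map_add]; module
        rw [e3, e2] at e1
        simp only [Submodule.coe_add, map_add]
        linear_combination (norm := module) e1
      map_smul' := fun c x => by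
        simp only [RingHom.id_apply, Submodule.coe_smul, map_smul, smul_eq_mul]
        have e3 : pr (c • x) = c • pr x + (1 - c) • e := by
          simp only [hpr, Submodule.coe_smul, map_smul, smul_eq_mul]; module
        by_cases hc : c = 0
        · subst hc
          rw [e3]
          simp
        by_cases hc1 : 1 - c = 0
        · rw [← sub_eq_zero.1 hc1]
          simp
        rw [e3, hσadd _ (Submodule.smul_mem _ _ (prU x)) _ (Submodule.smul_mem _ _ heU)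
            (by simp [hc, prα]) (by simp [hc1, hαe]) (by simp [prα, hαe]),
          hσsmul _ (prU x) c (prne x) hc, hσsmul e heU _ hne1 hc1]
        module }
  have hfapply : ∀ x, f x = σ (pr x) - (1 - φ₀ x) • σ e := fun _ => rfl
  have hfO : ∀ x : ↥(cenSp T), φ₀ x ≠ 0 → f x = σ x := by
    intro x hx
    rw [hfapply, hpr]
    by_cases h1 : 1 - φ₀ x = 0
    · simp [h1]
    rw [hσadd x x.2 _ (Submodule.smul_mem _ _ heU) hx (by simp [h1, hαe]) (by simp [hαe]),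
      hσsmul e heU _ hne1 h1]
    module
  have hfT : ∀ x : ↥(cenSp T), x ≠ 0 → ((x : V), f x) ∈ T := by
    intro x hx
    by_cases hα : φ₀ x = 0
    swap
    · rw [hfO x hα]; exact (hσ x x.2 hα).1
    obtain ⟨φ, hφ⟩ := cen_of_mem_cenSp h hadd x.2 fun e => hx (Subtype.ext e)
    obtain ⟨y, hy, hyα, hyφ⟩ : ∃ y : V, ∃ hy : y ∈ cenSp T, φ₀ y ≠ 0 ∧ φ y ≠ 0 := by
      obtain ⟨⟨y₁, ε⟩, hy₁, hne⟩ := h.no_rad hφ
      replace hne : φ y₁ ≠ 0 := hne
      have hy₁U := Cen.mem_cenSp ⟨ε, hy₁⟩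
      by_cases hα₁ : φ₀ y₁ = 0
      swap; · exact ⟨y₁, hy₁U, hα₁, hne⟩
      by_cases hφe : φ e = 0
      swap; · exact ⟨e, heU, hne1, hφe⟩
      exact ⟨y₁ + e, add_mem hy₁U heU, by simp [hα₁, hαe], by simp [hφe, hne]⟩
    have ny := hσ y hy hyα
    have nxy := hσ _ (add_mem x.2 hy) (by simp [hα, hyα])
    have hσyx : σ y x ≠ 0 := (link_symm hl h hφ ny.1).1 hyφ
    have hanti := Nrm.anti hl h h₀ nxy ny
    rw [map_add, h.orth ny.1, add_zero] at hanti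
    have hne' : σ (x + y) y ≠ 0 := fun e' => hσyx (by linear_combination hanti - e')
    have := pair_add h nxy.1 ny.1 hne' (by
      rw [map_add, h.orth ny.1, add_zero]; linear_combination hanti) (-1)
    have efx : f x = σ (x + y) + (-1 : k) • σ y := by
      have e1 : f (x + ⟨y, hy⟩) = σ (x + y) := hfO (x + ⟨y, hy⟩) (by simp [hα, hyα])
      have e2 : f ⟨y, hy⟩ = σ y := hfO ⟨y, hy⟩ hyα
      rw [map_add, e2] at e1
      rw [← e1]; module
    rw [efx]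
    convert this using 2
    module
  refine ⟨f, hfT, fun a φ ha hφ => ?_⟩
  obtain ⟨c, -, hc⟩ := axis_unique hl h (hfT ⟨a, ha⟩ fun e' =>
    h.left_ne hφ (congrArg Subtype.val e')) hφ
  exact ⟨c, hc⟩

end Form

/-- The classification of transvection systems. -/
theorem classify (h : IsTvSys T) :
    (∀ x ∈ cenSp T, x ≠ 0 → Cen T x) ∧
    (∀ φ ∈ allAx T, (∀ a ∈ cenSp T, φ a = 0) → φ = 0) ∧
    ((∀ a φ, a ∈ cenSp T → a ≠ 0 → φ ∈ allAx T → φ ≠ 0 → φ a = 0 → (a, φ) ∈ T) ∨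
      ∃ f : ↥(cenSp T) →ₗ[k] Dual k V,
        (∀ x : ↥(cenSp T), x ≠ 0 → ((x : V), f x) ∈ T) ∧
        ∀ (a : V) (φ : Dual k V) (ha : a ∈ cenSp T), (a, φ) ∈ T →
          ∃ c : k, φ = c • f ⟨a, ha⟩) := by
  obtain ⟨⟨a₀, φ₀⟩, h₀⟩ := h.nonempty
  have hc := fun a (ha : Cen T a) => axDim_const h ha ⟨φ₀, h₀⟩
  have h1 : 1 ≤ finrank k (axSp T a₀) := by
    rw [Nat.one_le_iff_ne_zero, Ne, Submodule.finrank_eq_zero]
    intro e
    exact h.right_ne h₀ ((Submodule.mem_bot k).1 (e ▸ mem_axSp_of_mem h₀))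
  by_cases hd : 2 ≤ finrank k (axSp T a₀)
  · obtain ⟨hadd, hrad, hall⟩ := plane_result h fun a ha => hc a ha ▸ hd
    exact ⟨fun x => cen_of_mem_cenSp h hadd,
      fun φ hφ hz => hrad φ hφ fun a ha => hz a ha.mem_cenSp,
      .inl fun a φ ha h0 => hall a φ (cen_of_mem_cenSp h hadd ha h0)⟩
  have hl : ∀ a, Cen T a → finrank k (axSp T a) = 1 := fun a ha => by
    have := hc a ha; omega
  obtain ⟨f, hfT, hf⟩ := exists_axis_map hl h
  refine ⟨fun x => cen_of_mem_cenSp h (cen_add_line hl h), fun φ hφ hz => ?_, .inr ⟨f, hfT, hf⟩⟩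
  have hle : allAx T ≤ LinearMap.range f := by
    rw [allAx, Submodule.span_le]
    rintro _ ⟨⟨a, ψ⟩, ht, rfl⟩
    obtain ⟨c, e⟩ := hf a ψ (Cen.mem_cenSp ⟨ψ, ht⟩) ht
    exact ⟨c • ⟨a, Cen.mem_cenSp ⟨ψ, ht⟩⟩, by rw [map_smul]; exact e.symm⟩
  obtain ⟨x, rfl⟩ := hle hφ
  by_cases hx : x = 0
  · rw [hx, map_zero]
  obtain ⟨t, ht, hne⟩ := h.no_rad (hfT x hx)
  exact absurd (hz t.1 (Cen.mem_cenSp ⟨t.2, ht⟩)) hne

end CfsgLib.PLocal.TvSys
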