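import Cfsg.Prelude.Def_Solvable
import Cfsg.Agent.Lib.Invol.BaerSuzuki
import Cfsg.Agent.Lib.PLocal.TvSysLine

/-!
The transvection pairs of a linear group over the prime field with trivial `p`-core fall into
components, each satisfying the axioms of a transvection system.
-/

set_option autoImplicit false

namespace CfsgLib.PLocal.TvSys

open Module

variable {p : ℕ} [Fact p.Prime] {V : Type*} [AddCommGroup V] [Module (ZMod p) V]

/-- `g` is the map `x ↦ x + φ x • a`. -/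
def IsTv (g : V ≃ₗ[ZMod p] V) (t : V × Dual (ZMod p) V) : Prop :=
  ∀ x, g x = x + t.2 x • t.1

/-- The transvection pairs of `H`. -/
def pairs (H : Subgroup (V ≃ₗ[ZMod p] V)) : Set (V × Dual (ZMod p) V) :=
  {t | t.1 ≠ 0 ∧ t.2 ≠ 0 ∧ t.2 t.1 = 0 ∧ ∃ g ∈ H, IsTv g t}

theorem IsTv.ne_one {g : V ≃ₗ[ZMod p] V} {t : V × Dual (ZMod p) V} (h : IsTv g t) (h1 : t.1 ≠ 0)
    (h2 : t.2 ≠ 0) : g ≠ 1 := by
  rintro rfl
  apply h2
  ext x
  have := h x
  rw [LinearEquiv.coe_one, id_eq, left_eq_add, smul_eq_zero] at this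
  simpa [h1] using this

theorem IsTv.unique {g g' : V ≃ₗ[ZMod p] V} {t : V × Dual (ZMod p) V} (h : IsTv g t)
    (h' : IsTv g' t) : g = g' := LinearEquiv.ext fun x => by rw [h x, h' x]

variable {H : Subgroup (V ≃ₗ[ZMod p] V)}

theorem exists_tv_smul {a : V} {φ : Dual (ZMod p) V} (h : (a, φ) ∈ pairs H) (c : ZMod p) :
    ∃ g ∈ H, IsTv g (a, c • φ) := by
  obtain ⟨-, -, ho, g, hg, hgt⟩ := h
  obtain ⟨n, rfl⟩ : ∃ n : ℕ, (n : ZMod p) = c := ⟨c.val, ZMod.natCast_zmod_val c⟩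
  refine ⟨g ^ n, pow_mem hg n, fun x => ?_⟩
  dsimp only at ho ⊢
  induction n with
  | zero => simp
  | succ n ih =>
    rw [pow_succ', LinearEquiv.mul_apply, ih, hgt]
    simp [ho, add_mul, add_smul]
    module

theorem pairs_smul_right {a : V} {φ : Dual (ZMod p) V} (c : ZMod p) (hc : c ≠ 0)
    (h : (a, φ) ∈ pairs H) : (a, c • φ) ∈ pairs H := by
  obtain ⟨g, hg, hgt⟩ := exists_tv_smul h c
  exact ⟨h.1, smul_ne_zero hc h.2.1, by simp [show φ a = 0 from h.2.2.1], g, hg, hgt⟩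

theorem pairs_smul_left {a : V} {φ : Dual (ZMod p) V} (c : ZMod p) (hc : c ≠ 0)
    (h : (a, φ) ∈ pairs H) : (c • a, φ) ∈ pairs H := by
  obtain ⟨g, hg, hgt⟩ := exists_tv_smul h c
  refine ⟨smul_ne_zero hc h.1, h.2.1, by simp [show φ a = 0 from h.2.2.1], g, hg, fun x => ?_⟩
  rw [hgt x]
  simp [smul_smul, mul_comm]

theorem pairs_add_left {a b : V} {φ : Dual (ZMod p) V} (ha : (a, φ) ∈ pairs H)
    (hb : (b, φ) ∈ pairs H) (h0 : a + b ≠ 0) : (a + b, φ) ∈ pairs H := by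
  obtain ⟨-, hφ, hoa, g, hg, hgt⟩ := ha
  obtain ⟨-, -, hob, g', hg', hgt'⟩ := hb
  dsimp only at hoa hob
  refine ⟨h0, hφ, by simp [hoa, hob], g * g', mul_mem hg hg', fun x => ?_⟩
  rw [LinearEquiv.mul_apply, hgt, hgt']
  simp [hob]; module

theorem pairs_add_right {a : V} {φ ψ : Dual (ZMod p) V} (hφ : (a, φ) ∈ pairs H)
    (hψ : (a, ψ) ∈ pairs H) (h0 : φ + ψ ≠ 0) : (a, φ + ψ) ∈ pairs H := by
  obtain ⟨ha, -, hoa, g, hg, hgt⟩ := hφ
  obtain ⟨-, -, hob, g', hg', hgt'⟩ := hψ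
  dsimp only at hoa hob
  refine ⟨ha, h0, by simp [hoa, hob], g * g', mul_mem hg hg', fun x => ?_⟩
  rw [LinearEquiv.mul_apply, hgt, hgt']
  simp [hoa]; module

theorem isTv_conj {g g' : V ≃ₗ[ZMod p] V} {a b : V} {φ ψ : Dual (ZMod p) V}
    (hg : IsTv g (a, φ)) (hg' : IsTv g' (b, ψ)) (hψb : ψ b = 0) :
    IsTv (g' * g * g'⁻¹) (a + ψ a • b, φ - φ b • ψ) := by
  intro y
  obtain ⟨x, rfl⟩ : ∃ x, g' x = y := g'.surjective y
  rw [LinearEquiv.mul_apply, LinearEquiv.mul_apply, show g'⁻¹ (g' x) = x from g'.symm_apply_apply x,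
    hg, hg', hg']
  simp [hψb]
  module

theorem pairs_conj {a b : V} {φ ψ : Dual (ZMod p) V} (ha : (a, φ) ∈ pairs H)
    (hb : (b, ψ) ∈ pairs H) : (a + ψ a • b, φ - φ b • ψ) ∈ pairs H := by
  obtain ⟨ha0, hφ, hoa, g, hg, hgt⟩ := ha
  obtain ⟨-, -, hob, g', hg', hgt'⟩ := hb
  dsimp only at hoa hob ha0 hφ
  have hne : g' * g * g'⁻¹ ≠ 1 := fun e =>
    hgt.ne_one ha0 hφ (conj_eq_one_iff.1 e)
  have ht := isTv_conj hgt hgt' hob
  refine ⟨fun e => hne (LinearEquiv.ext fun x => ?_), fun e => hne (LinearEquiv.ext fun x => ?_),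
    ?_, _, mul_mem (mul_mem hg' hg) (inv_mem hg'), ht⟩
  · dsimp only at e; rw [ht x]; simp [e]
  · dsimp only at e; rw [ht x]; simp [e]
  · simp [hoa, hob]; ring

/-! ### Subgroups stabilising a short flag are `p`-groups -/

/-- The automorphisms acting trivially on the factors of `0 ≤ A₁ ≤ A₂ ≤ V`. -/
def flagFix (A₁ A₂ : Submodule (ZMod p) V) (hle : A₁ ≤ A₂) : Subgroup (V ≃ₗ[ZMod p] V) where
  carrier := {g | (∀ v, g v - v ∈ A₂) ∧ (∀ a ∈ A₂, g a - a ∈ A₁) ∧ ∀ a ∈ A₁, g a = a}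
  one_mem' := ⟨fun v => by simp, fun a _ => by simp, fun a _ => rfl⟩
  mul_mem' {g g'} hg hg' := by
    refine ⟨fun v => ?_, fun a ha => ?_, fun a ha => by
      rw [LinearEquiv.mul_apply, hg'.2.2 a ha, hg.2.2 a ha]⟩
    · simpa [LinearEquiv.mul_apply] using add_mem (hg.1 (g' v)) (hg'.1 v)
    · have h1 := hle (hg'.2.1 a ha)
      have h2 : g' a ∈ A₂ := by simpa using add_mem h1 ha
      simpa [LinearEquiv.mul_apply] using add_mem (hg.2.1 _ h2) (hg'.2.1 a ha)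
  inv_mem' {g} hg := by
    have e : ∀ v, g (g⁻¹ v) = v := g.apply_symm_apply
    refine ⟨fun v => ?_, fun a ha => ?_, fun a ha => g.injective (by rw [e, hg.2.2 a ha])⟩
    · simpa [e] using neg_mem (hg.1 (g⁻¹ v))
    · have h2 : g⁻¹ a ∈ A₂ := by
        have := sub_mem ha (hg.1 (g⁻¹ a))
        simpa [e] using this
      simpa [e] using neg_mem (hg.2.1 _ h2)

theorem flagFix_pow (hp : Odd p) {A₁ A₂ : Submodule (ZMod p) V} {hle : A₁ ≤ A₂}
    {g : V ≃ₗ[ZMod p] V} (hg : g ∈ flagFix A₁ A₂ hle) : g ^ p = 1 := by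
  have key : ∀ (n : ℕ) v, (g ^ n) v =
      v + (n : ZMod p) • (g v - v) + ((n.choose 2 : ℕ) : ZMod p) • (g (g v - v) - (g v - v)) := by
    intro n v
    have h2 : g (g (g v - v) - (g v - v)) = g (g v - v) - (g v - v) :=
      hg.2.2 _ (hg.2.1 _ (hg.1 v))
    induction n with
    | zero => simp
    | succ n ih =>
      rw [pow_succ', LinearEquiv.mul_apply, ih, Nat.choose_succ_succ', Nat.choose_one_right]
      simp only [map_add, map_smul, h2, Nat.cast_add, Nat.cast_one]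
      simp only [map_sub]
      module
  have hp2 : 2 < p := by
    have := (Fact.out : p.Prime).two_le
    obtain ⟨m, rfl⟩ := hp
    omega
  refine LinearEquiv.ext fun v => ?_
  rw [key, ZMod.natCast_self, (CharP.cast_eq_zero_iff (ZMod p) p _).2
    ((Fact.out : p.Prime).dvd_choose_self (by norm_num) hp2)]
  simp

theorem flagFix_isPGroup (hp : Odd p) (A₁ A₂ : Submodule (ZMod p) V) (hle : A₁ ≤ A₂) :
    IsPGroup p ↥(flagFix A₁ A₂ hle) := fun g =>
  ⟨1, Subtype.ext (by simpa using flagFix_pow hp g.2)⟩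

/-! ### Consequences of a trivial `p`-core -/

/-- An elation of an invariant subspace is trivial. -/
theorem elation_trivial (hp : Odd p) (hO : Cfsg.pCore p ↥H = ⊥) (A : Submodule (ZMod p) V)
    (hA : ∀ g ∈ H, ∀ a ∈ A, g a ∈ A) {h : V ≃ₗ[ZMod p] V} (hh : h ∈ H)
    (h1 : ∀ v, h v - v ∈ A) (h2 : ∀ a ∈ A, h a = a) : h = 1 := by
  obtain ⟨N, hN⟩ : ∃ N, N = (flagFix ⊥ A bot_le).subgroupOf H := ⟨_, rfl⟩
  have hnorm : N.Normal := by
    refine ⟨fun n hn g => ?_⟩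
    rw [hN, Subgroup.mem_subgroupOf] at hn ⊢
    obtain ⟨e1, e2, -⟩ := hn
    have ee : ∀ v, (g : V ≃ₗ[ZMod p] V) ((g : V ≃ₗ[ZMod p] V)⁻¹ v) = v :=
      (g : V ≃ₗ[ZMod p] V).apply_symm_apply
    refine ⟨fun v => ?_, fun a ha => ?_, fun a ha => by
      rw [(Submodule.mem_bot _).1 ha, map_zero]⟩
    · have := hA _ g.2 _ (e1 ((g : V ≃ₗ[ZMod p] V)⁻¹ v))
      simpa [LinearEquiv.mul_apply, map_sub, ee] using this
    · have := sub_eq_zero.1 ((Submodule.mem_bot _).1 (e2 _ (hA _ (inv_mem g.2) a ha)))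
      simp only [Subgroup.coe_mul, Subgroup.coe_inv, LinearEquiv.mul_apply, this, ee, sub_self,
        zero_mem]
  have hNp : IsPGroup p ↥N := hN ▸ fun g =>
    ⟨1, Subtype.ext (Subtype.ext (by
      simpa using flagFix_pow hp (Subgroup.mem_subgroupOf.1 g.2)))⟩
  have hle : N ≤ ⊥ := hO ▸ le_sSup ⟨hnorm, hNp⟩
  have : (⟨h, hh⟩ : ↥H) ∈ N := by
    rw [hN, Subgroup.mem_subgroupOf]
    exact ⟨h1, fun a ha => by simp [h2 a ha], fun a ha => by
      rw [(Submodule.mem_bot _).1 ha, map_zero]⟩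
  exact congrArg Subtype.val (Subgroup.mem_bot.1 (hle this))

/-- `H` is generated by its transvections. -/
def Gen (H : Subgroup (V ≃ₗ[ZMod p] V)) : Prop :=
  H ≤ Subgroup.closure {g | ∃ t ∈ pairs H, IsTv g t}

theorem invariant_of_pairs (hgen : Gen H) [Finite V] (A : Submodule (ZMod p) V)
    (hA : ∀ t ∈ pairs H, ∀ a ∈ A, t.2 a • t.1 ∈ A) : ∀ g ∈ H, ∀ a ∈ A, g a ∈ A := by
  intro g hg
  induction hgen hg using Subgroup.closure_induction with
  | mem x hx =>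
    obtain ⟨t, ht, hxt⟩ := hx
    exact fun a ha => hxt a ▸ add_mem ha (hA t ht a ha)
  | one => exact fun a ha => ha
  | mul x y hx hy ihx ihy => exact fun a ha => ihx ((Subgroup.closure_le _).2 (by
      rintro z ⟨t, ⟨-, -, -, g', hg', ht'⟩, hz⟩
      exact ht'.unique hz ▸ hg') hx) _ (ihy ((Subgroup.closure_le _).2 (by
      rintro z ⟨t, ⟨-, -, -, g', hg', ht'⟩, hz⟩
      exact ht'.unique hz ▸ hg') hy) a ha)
  | inv x hx ih =>
    have hxH : x ∈ H := (Subgroup.closure_le _).2 (by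
      rintro z ⟨t, ⟨-, -, -, g', hg', ht'⟩, hz⟩
      exact ht'.unique hz ▸ hg') hx
    intro a ha
    obtain ⟨⟨b, hb⟩, hab⟩ := Finite.surjective_of_injective
      (f := fun b : A => (⟨x b, ih hxH b b.2⟩ : A))
      (fun b c e => Subtype.ext (x.injective (congrArg Subtype.val e))) ⟨a, ha⟩
    have e : x b = a := congrArg Subtype.val hab
    rw [← e, show x⁻¹ (x b) = b from x.symm_apply_apply b]
    exact hb

/-- No centre is fixed by all transvections. -/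
theorem no_fixed_centre (hp : Odd p) (hO : Cfsg.pCore p ↥H = ⊥) (hgen : Gen H) [Finite V] {r : V}
    {χ : Dual (ZMod p) V} (hr : (r, χ) ∈ pairs H) : ∃ t ∈ pairs H, t.2 r ≠ 0 := by
  by_contra hn
  push Not at hn
  obtain ⟨hr0, hχ, ho, g, hg, hgt⟩ := hr
  refine hgt.ne_one hr0 hχ (elation_trivial hp hO (ZMod p ∙ r) (invariant_of_pairs hgen _ ?_) hg
    (fun v => Submodule.mem_span_singleton.2 ⟨χ v, by rw [hgt v]; simp⟩) ?_)
  · intro t ht a ha
    obtain ⟨c, rfl⟩ := Submodule.mem_span_singleton.1 ha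
    simp [hn t ht]
  · intro a ha
    obtain ⟨c, rfl⟩ := Submodule.mem_span_singleton.1 ha
    rw [hgt]
    simp [show χ r = 0 from ho]

/-- No axis vanishes at all centres. -/
theorem no_fixed_axis (hp : Odd p) (hO : Cfsg.pCore p ↥H = ⊥) (hgen : Gen H) [Finite V] {a : V}
    {χ : Dual (ZMod p) V} (ha : (a, χ) ∈ pairs H) : ∃ t ∈ pairs H, χ t.1 ≠ 0 := by
  by_contra hn
  push Not at hn
  obtain ⟨ha0, hχ, ho, g, hg, hgt⟩ := ha
  dsimp only at ho
  refine hgt.ne_one ha0 hχ (elation_trivial hp hO (LinearMap.ker χ)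
    (invariant_of_pairs hgen _ fun t ht x _ => ?_) hg (fun v => ?_) fun x hx => ?_)
  · simp [hn t ht]
  · rw [hgt v]; simp [ho]
  · rw [hgt x]; simp [LinearMap.mem_ker.1 hx]

theorem pairs_map {h : V ≃ₗ[ZMod p] V} (hh : h ∈ H) {a : V} {φ : Dual (ZMod p) V}
    (ha : (a, φ) ∈ pairs H) : (h a, φ ∘ₗ (h.symm : V →ₗ[ZMod p] V)) ∈ pairs H := by
  obtain ⟨ha0, hφ, ho, g, hg, hgt⟩ := ha
  dsimp only at ha0 hφ ho
  refine ⟨by simpa using ha0, fun e => hφ ?_, by simpa using ho, h * g * h⁻¹,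
    mul_mem (mul_mem hh hg) (inv_mem hh), fun x => ?_⟩
  · ext x
    simpa using LinearMap.congr_fun (show _ = (0 : Dual (ZMod p) V) from e) (h x)
  · rw [LinearEquiv.mul_apply, LinearEquiv.mul_apply, hgt]
    simp [show ∀ y, h⁻¹ y = h.symm y from fun _ => rfl]

/-- Every pair has a partner linked to it in both directions. -/
theorem exists_partner (hp : Odd p) (hO : Cfsg.pCore p ↥H = ⊥) [Finite V] {a : V}
    {φ : Dual (ZMod p) V} (ha : (a, φ) ∈ pairs H) :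
    ∃ b ψ, (b, ψ) ∈ pairs H ∧ φ b ≠ 0 ∧ ψ a ≠ 0 := by
  by_contra hn
  push Not at hn
  obtain ⟨ha0, hφ, ho, g, hg, hgt⟩ := id ha
  dsimp only at ha0 hφ ho
  have : Finite (V ≃ₗ[ZMod p] V) := Finite.of_injective _ DFunLike.coe_injective
  have : (⟨g, hg⟩ : ↥H) ∈ Cfsg.pCore p ↥H := by
    refine CfsgLib.Invol.baer_suzuki_mem_pCore fun h => ?_
    obtain ⟨-, -, hob, g', hg', hgt'⟩ := pairs_map h.2 ha
    have hval : ((h * ⟨g, hg⟩ * h⁻¹ : ↥H) : V ≃ₗ[ZMod p] V) = g' := by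
      refine (IsTv.unique (t := ((h : V ≃ₗ[ZMod p] V) a,
        φ ∘ₗ ((h : V ≃ₗ[ZMod p] V).symm : V →ₗ[ZMod p] V))) (fun x => ?_) hgt')
      simp only [Subgroup.coe_mul, Subgroup.coe_inv, LinearEquiv.mul_apply]
      rw [hgt]
      simp [show ∀ y, (h : V ≃ₗ[ZMod p] V)⁻¹ y = (h : V ≃ₗ[ZMod p] V).symm y from fun _ => rfl]
    obtain ⟨b, hbe⟩ : ∃ b, b = (h : V ≃ₗ[ZMod p] V) a := ⟨_, rfl⟩
    obtain ⟨ψ, hψe⟩ : ∃ ψ, ψ = φ ∘ₗ ((h : V ≃ₗ[ZMod p] V).symm : V →ₗ[ZMod p] V) := ⟨_, rfl⟩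
    rw [← hbe, ← hψe] at hgt'
    dsimp only at hob
    rw [← hbe, ← hψe] at hob
    have hpair : (b, ψ) ∈ pairs H := hbe ▸ hψe ▸ pairs_map h.2 ha
    have hzero := hn b ψ hpair
    obtain ⟨A₁, hle, m1, m2⟩ : ∃ A₁, ∃ hle : A₁ ≤ Submodule.span (ZMod p) {a, b},
        g ∈ flagFix A₁ _ hle ∧ g' ∈ flagFix A₁ _ hle := by
      have hin : ∀ x ∈ ({a, b} : Set V), x ∈ Submodule.span (ZMod p) {a, b} := fun x hx =>
        Submodule.subset_span hx
      by_cases h1 : φ b = 0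
      · refine ⟨ZMod p ∙ b, Submodule.span_mono (by simp), ⟨fun v => ?_, fun x hx => ?_,
          fun x hx => ?_⟩, fun v => ?_, fun x hx => ?_, fun x hx => ?_⟩
        · rw [hgt v]; simpa using Submodule.smul_mem _ (φ v) (hin a (by simp))
        · obtain ⟨c, d, rfl⟩ := Submodule.mem_span_pair.1 hx
          rw [hgt]; simp [ho, h1]
        · obtain ⟨c, rfl⟩ := Submodule.mem_span_singleton.1 hx
          rw [hgt]; simp [h1]
        · rw [hgt' v]; simpa using Submodule.smul_mem _ (ψ v) (hin b (by simp))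
        · rw [hgt']; simpa using Submodule.smul_mem _ _ (Submodule.mem_span_singleton_self b)
        · obtain ⟨c, rfl⟩ := Submodule.mem_span_singleton.1 hx
          rw [hgt']; simp [hob]
      · have h2 : ψ a = 0 := hzero h1
        refine ⟨ZMod p ∙ a, Submodule.span_mono (by simp), ⟨fun v => ?_, fun x hx => ?_,
          fun x hx => ?_⟩, fun v => ?_, fun x hx => ?_, fun x hx => ?_⟩
        · rw [hgt v]; simpa using Submodule.smul_mem _ (φ v) (hin a (by simp))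
        · rw [hgt]; simpa using Submodule.smul_mem _ _ (Submodule.mem_span_singleton_self a)
        · obtain ⟨c, rfl⟩ := Submodule.mem_span_singleton.1 hx
          rw [hgt]; simp [ho]
        · rw [hgt' v]; simpa using Submodule.smul_mem _ (ψ v) (hin b (by simp))
        · obtain ⟨c, d, rfl⟩ := Submodule.mem_span_pair.1 hx
          rw [hgt']; simp [hob, h2]
        · obtain ⟨c, rfl⟩ := Submodule.mem_span_singleton.1 hx
          rw [hgt']; simp [h2]
    refine IsPGroup.to_le (K := (flagFix A₁ _ hle).subgroupOf H) ?_ ((Subgroup.closure_le _).2 ?_)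
    · exact fun x => ⟨1, Subtype.ext (Subtype.ext (by
        simpa using flagFix_pow hp (Subgroup.mem_subgroupOf.1 x.2)))⟩
    · rintro x (rfl | rfl)
      · exact Subgroup.mem_subgroupOf.2 m1
      · rw [SetLike.mem_coe, Subgroup.mem_subgroupOf, hval]; exact m2
  rw [hO, Subgroup.mem_bot] at this
  exact hgt.ne_one ha0 hφ (congrArg Subtype.val this)

end CfsgLib.PLocal.TvSys
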