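import Cfsg.Agent.Lib.PLocal.TvSys

/-!
Transvection systems in which some centre has at least two independent axes: the pairs are all
orthogonal pairs of two spaces in duality.
-/

set_option autoImplicit false

namespace CfsgLib.PLocal.TvSys

open Module

variable {k V : Type*} [Field k] [AddCommGroup V] [Module k V] [FiniteDimensional k V]
  {T : Set (V × Dual k V)}

/-- The span of all axes. -/
def allAx (T : Set (V × Dual k V)) : Submodule k (Dual k V) :=
  Submodule.span k (Prod.snd '' T)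

omit [FiniteDimensional k V] in
theorem axSp_le_allAx (a : V) : axSp T a ≤ allAx T :=
  Submodule.span_mono fun φ hφ => ⟨(a, φ), hφ, rfl⟩

theorem Adj.inf_eq (h : IsTvSys T) {a b : V} (hab : Adj T a b) (hb : Cen T b) :
    axSp T a ⊓ axSp T b = axSp T a ⊓ LinearMap.ker (Dual.eval k V b) :=
  le_antisymm (inf_le_inf_left _ fun φ hφ => LinearMap.mem_ker.2 (axSp_apply_self h hφ))
    (le_inf inf_le_left fun _ hφ => hab.shared h hb hφ.1 (LinearMap.mem_ker.1 hφ.2))

theorem Adj.finrank_inf (h : IsTvSys T) {a b : V} (hab : Adj T a b) (hb : Cen T b) :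
    finrank k ↥(axSp T a ⊓ axSp T b) + 1 = finrank k (axSp T a) := by
  obtain ⟨φ, hφ, hφb⟩ := id hab
  have hφ0 := h.right_ne hφ
  have e1 : (axSp T a ⊓ axSp T b) ⊔ (k ∙ φ) = axSp T a := by
    refine le_antisymm (sup_le inf_le_left ((Submodule.span_singleton_le_iff_mem _ _).2
      (mem_axSp_of_mem hφ))) fun χ hχ => ?_
    refine Submodule.mem_sup.2 ⟨χ - (χ b / φ b) • φ, ?_, (χ b / φ b) • φ,
      Submodule.smul_mem _ _ (Submodule.mem_span_singleton_self _), sub_add_cancel _ _⟩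
    rw [hab.inf_eq h hb]
    refine ⟨sub_mem hχ (Submodule.smul_mem _ _ (mem_axSp_of_mem hφ)), ?_⟩
    simp [hφb]
  have e2 : (axSp T a ⊓ axSp T b) ⊓ (k ∙ φ) = ⊥ := by
    rw [Submodule.eq_bot_iff]
    rintro χ ⟨⟨-, hχb⟩, hχ⟩
    obtain ⟨c, rfl⟩ := Submodule.mem_span_singleton.1 hχ
    have := axSp_apply_self h hχb
    rw [LinearMap.smul_apply, smul_eq_mul, mul_eq_zero] at this
    rcases this with rfl | e
    · exact zero_smul _ _
    · exact absurd e hφb
  have := Submodule.finrank_sup_add_finrank_inf_eq (axSp T a ⊓ axSp T b) (k ∙ φ)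
  rw [e1, e2, finrank_bot, finrank_span_singleton hφ0] at this
  omega

theorem Adj.finrank_sup (h : IsTvSys T) {a b : V} (hab : Adj T a b) (hb : Cen T b) :
    finrank k ↥(axSp T a ⊔ axSp T b) = finrank k (axSp T a) + 1 := by
  have := Submodule.finrank_sup_add_finrank_inf_eq (axSp T a) (axSp T b)
  have := hab.finrank_inf h hb
  have := axDim_const h hab.cen hb
  omega

theorem inf_eq_of_le (h : IsTvSys T) {a b c : V} (hb : Cen T b) (hc : Cen T c)
    (hab : Adj T a b) (hac : Adj T a c) (hle : axSp T a ⊓ axSp T b ≤ axSp T a ⊓ axSp T c) :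
    axSp T a ⊓ axSp T c = axSp T a ⊓ axSp T b := by
  have := hab.finrank_inf h hb
  have := hac.finrank_inf h hc
  exact (Submodule.eq_of_le_of_finrank_le hle (by omega)).symm

theorem plane_claim (h : IsTvSys T) {a b c : V} (hb : Cen T b) (hc : Cen T c)
    (hab : Adj T a b) (hac : Adj T a c) :
    axSp T c ≤ axSp T a ⊔ axSp T b ∨ axSp T a ⊓ axSp T c = axSp T a ⊓ axSp T b := by
  by_cases hbc : Adj T b c
  · have hca := hac.symm h hc
    have hcb := hbc.symm h hc
    by_cases e : axSp T c ⊓ axSp T a = axSp T c ⊓ axSp T b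
    · refine .inr ?_
      refine (inf_eq_of_le h hc hb hac hab (le_inf inf_le_left ?_)).symm
      rw [inf_comm, e]
      exact inf_le_right
    · refine .inl ?_
      have d1 := hca.finrank_inf h hab.cen
      have d2 := hcb.finrank_inf h hb
      have hne : ¬ axSp T c ⊓ axSp T b ≤ axSp T c ⊓ axSp T a := fun hle =>
        e (Submodule.eq_of_le_of_finrank_le hle (by omega)).symm
      have hlt := Submodule.finrank_lt_finrank_of_lt (left_lt_sup.2 hne)
      have := Submodule.eq_of_le_of_finrank_le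
        (sup_le inf_le_left inf_le_left :
          (axSp T c ⊓ axSp T a) ⊔ (axSp T c ⊓ axSp T b) ≤ axSp T c) (by omega)
      calc axSp T c = _ := this.symm
        _ ≤ _ := sup_le_sup inf_le_right inf_le_right
  · refine .inr (inf_eq_of_le h hb hc hab hac (le_inf inf_le_left fun φ hφ => ?_))
    refine hac.shared h hc hφ.1 ?_
    rcases mem_axSp h hφ.2 with rfl | hφ'
    · rfl
    · by_contra e
      exact hbc ⟨φ, hφ', e⟩

theorem sup_eq_of_le (h : IsTvSys T) {a b c : V} (hb : Cen T b) (hc : Cen T c)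
    (hab : Adj T a b) (hac : Adj T a c) (hle : axSp T c ≤ axSp T a ⊔ axSp T b) :
    axSp T a ⊔ axSp T c = axSp T a ⊔ axSp T b := by
  have := hab.finrank_sup h hb
  have := hac.finrank_sup h hc
  exact Submodule.eq_of_le_of_finrank_le (sup_le le_sup_left hle) (by omega)

/-- If some centre near an edge has an axis outside it, all edges at `a` share their axes. -/
theorem inf_indep (h : IsTvSys T) {a b c : V} (hb : Cen T b) (hc : Cen T c) (hab : Adj T a b)
    (hlink : Adj T a c ∨ Adj T b c) (hbad : ¬ axSp T c ≤ axSp T a ⊔ axSp T b) {w : V}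
    (hw : Cen T w) (haw : Adj T a w) :
    axSp T a ⊓ axSp T w = axSp T a ⊓ axSp T b := by
  rcases plane_claim h hb hw hab haw with hwL | e
  swap; · exact e
  have hL := sup_eq_of_le h hb hw hab haw hwL
  by_cases hac : Adj T a c
  · have e1 := (plane_claim h hb hc hab hac).resolve_left hbad
    have e2 := (plane_claim h hw hc haw hac).resolve_left (hL ▸ hbad)
    rw [← e1, e2]
  have hbc := hlink.resolve_left hac
  have hba := hab.symm h hb
  have hA : ∀ φ ∈ axSp T a, φ c = 0 := fun φ hφ => by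
    rcases mem_axSp h hφ with rfl | hφ'
    · rfl
    · by_contra e
      exact hac ⟨φ, hφ', e⟩
  have e1 := (plane_claim h hab.cen hc hba hbc).resolve_left
    (by rw [sup_comm]; exact hbad)
  have hwc : Adj T w c := by
    by_contra hn
    obtain ⟨φ, hφ, hφc⟩ := id hbc
    have hle : axSp T a ⊔ axSp T w ≤ LinearMap.ker (Dual.eval k V c) := by
      refine sup_le hA fun χ hχ => ?_
      rcases mem_axSp h hχ with rfl | hχ'
      · exact zero_mem _
      · by_contra e
        exact hn ⟨χ, hχ', e⟩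
    rw [hL] at hle
    exact hφc (hle (Submodule.mem_sup_right (mem_axSp_of_mem hφ)))
  have hwa := haw.symm h hw
  have e2 := (plane_claim h hab.cen hc hwa hwc).resolve_left
    (by rw [sup_comm, hL]; exact hbad)
  have i1 : axSp T a ⊓ axSp T b ≤ axSp T c := by
    rw [inf_comm, ← e1]; exact inf_le_right
  have i2 : axSp T a ⊓ axSp T w ≤ axSp T c := by
    rw [inf_comm, ← e2]; exact inf_le_right
  by_contra hne
  have d1 := hab.finrank_inf h hb
  have d2 := haw.finrank_inf h hw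
  have hnle : ¬ axSp T a ⊓ axSp T b ≤ axSp T a ⊓ axSp T w := fun hle =>
    hne (Submodule.eq_of_le_of_finrank_le hle (by omega)).symm
  have hlt := Submodule.finrank_lt_finrank_of_lt (left_lt_sup.2 hnle)
  have hac' : axSp T a ≤ axSp T c := by
    have := Submodule.eq_of_le_of_finrank_le
      (sup_le inf_le_left inf_le_left :
        (axSp T a ⊓ axSp T w) ⊔ (axSp T a ⊓ axSp T b) ≤ axSp T a) (by omega)
    calc axSp T a = _ := this.symm
      _ ≤ _ := sup_le i2 i1
  have := Submodule.eq_of_le_of_finrank_eq hac' (axDim_const h hab.cen hc)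
  exact hbad (this ▸ le_sup_left)

/-- If some centre has two independent axes, some edge carries all axes. -/
theorem exists_edge_all (h : IsTvSys T) (hd : ∀ a, Cen T a → 2 ≤ finrank k (axSp T a)) :
    ∃ a b, Cen T b ∧ Adj T a b ∧ allAx T = axSp T a ⊔ axSp T b := by
  obtain ⟨⟨a₀, φ₀⟩, ht₀⟩ := h.nonempty
  have ha₀ : Cen T a₀ := ⟨φ₀, ht₀⟩
  suffices ∃ a b, Cen T b ∧ Adj T a b ∧
      ∀ c, Cen T c → Adj T a c ∨ Adj T b c → axSp T c ≤ axSp T a ⊔ axSp T b by
    obtain ⟨a, b, hb, hab, hgood⟩ := this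
    refine ⟨a, b, hb, hab, le_antisymm ?_ (sup_le (axSp_le_allAx a) (axSp_le_allAx b))⟩
    rw [allAx, Submodule.span_le]
    rintro _ ⟨⟨c, ω⟩, ht, rfl⟩
    refine hgood c ⟨ω, ht⟩ ?_ (mem_axSp_of_mem ht)
    refine cen_conn h (fun c => Adj T a c ∨ Adj T b c) ?_ hab.cen (.inr (hab.symm h hb)) ⟨ω, ht⟩
    intro c d hc _ hcd hS
    obtain ⟨χ, hχ, hχd⟩ := hcd
    obtain ⟨x, hx, y, hy, hxy⟩ := Submodule.mem_sup.1 (hgood c hc hS (mem_axSp_of_mem hχ))
    rcases mem_axSp h hx with rfl | hx'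
    · rcases mem_axSp h hy with rfl | hy'
      · exact absurd hxy.symm (by simpa using h.right_ne hχ)
      · exact .inr ⟨y, hy', by simpa [← hxy] using hχd⟩
    by_cases hxd : x d = 0
    · rcases mem_axSp h hy with rfl | hy'
      · simp [← hxy, hxd] at hχd
      · exact .inr ⟨y, hy', by simpa [← hxy, hxd] using hχd⟩
    · exact .inl ⟨x, hx', hxd⟩
  by_contra hn
  push Not at hn
  obtain ⟨b₀, hb₀, hab₀⟩ := ha₀.exists_adj h
  have all : ∀ c, Cen T c → ∀ w, Cen T w → Adj T c w →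
      axSp T c ⊓ axSp T w = axSp T a₀ ⊓ axSp T b₀ := by
    intro c hc
    refine cen_conn h (fun c => ∀ w, Cen T w → Adj T c w →
      axSp T c ⊓ axSp T w = axSp T a₀ ⊓ axSp T b₀) ?_ ha₀ ?_ hc
    · intro c d hc hd' hcd hS w hw hdw
      obtain ⟨e, he, hlink, hbad⟩ := hn d c hc (hcd.symm h hd')
      rw [inf_indep h hc he (hcd.symm h hd') hlink hbad hw hdw, inf_comm]
      exact hS d hd' hcd
    · intro w hw haw
      obtain ⟨e, he, hlink, hbad⟩ := hn a₀ b₀ hb₀ hab₀
      exact inf_indep h hb₀ he hab₀ hlink hbad hw haw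
  have hI := hab₀.finrank_inf h hb₀
  have hd₀ := hd a₀ ha₀
  obtain ⟨l, hl, hl0⟩ := Submodule.exists_mem_ne_zero_of_ne_bot
    (p := axSp T a₀ ⊓ axSp T b₀) (fun e => by rw [e, finrank_bot] at hI; omega)
  obtain ⟨⟨c, χ⟩, ht, hne⟩ := h.no_rad ((mem_axSp h hl.1).resolve_left hl0)
  have hc : Cen T c := ⟨χ, ht⟩
  obtain ⟨w, hw, hcw⟩ := hc.exists_adj h
  exact hne (axSp_apply_self h (all c hc w hw hcw ▸ hl : l ∈ axSp T c ⊓ axSp T w).1)

/-- Every centre has as axes all axes vanishing on it. -/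
theorem axSp_eq_all (h : IsTvSys T) (hd : ∀ a, Cen T a → 2 ≤ finrank k (axSp T a)) {c : V}
    (hc : Cen T c) : axSp T c = allAx T ⊓ LinearMap.ker (Dual.eval k V c) := by
  obtain ⟨a, b, hb, hab, hL⟩ := exists_edge_all h hd
  refine Submodule.eq_of_le_of_finrank_le (le_inf (axSp_le_allAx c)
    fun φ hφ => LinearMap.mem_ker.2 (axSp_apply_self h hφ)) ?_
  obtain ⟨t, ht, hne⟩ := hc.not_rad h
  have hlt : allAx T ⊓ LinearMap.ker (Dual.eval k V c) < allAx T :=
    inf_le_left.lt_of_ne fun e => by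
      have hm : t.2 ∈ allAx T := Submodule.subset_span ⟨t, ht, rfl⟩
      rw [← e] at hm
      exact hne hm.2
  have := Submodule.finrank_lt_finrank_of_lt hlt
  have e : finrank k (allAx T) = finrank k (axSp T a) + 1 := hL ▸ hab.finrank_sup h hb
  have := axDim_const h hab.cen hc
  omega

/-- The plane case: centres are closed under addition, and all orthogonal pairs occur. -/
theorem plane_result (h : IsTvSys T) (hd : ∀ a, Cen T a → 2 ≤ finrank k (axSp T a)) :
    (∀ a b, Cen T a → Cen T b → a + b ≠ 0 → Cen T (a + b)) ∧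
    (∀ φ ∈ allAx T, (∀ a, Cen T a → φ a = 0) → φ = 0) ∧
    (∀ a φ, Cen T a → φ ∈ allAx T → φ ≠ 0 → φ a = 0 → (a, φ) ∈ T) := by
  have hmem : ∀ a φ, Cen T a → φ ∈ allAx T → φ ≠ 0 → φ a = 0 → (a, φ) ∈ T := fun a φ ha hφ h0 e =>
    (mem_axSp h (show φ ∈ axSp T a by
      rw [axSp_eq_all h hd ha]; exact ⟨hφ, LinearMap.mem_ker.2 e⟩)).resolve_left h0
  refine ⟨fun a b ha hb hab0 => ?_, fun φ hφ hz => ?_, hmem⟩
  · by_cases hab : Adj T a b
    · exact hab.cen_add h hb
    obtain ⟨t₀, ht₀, hne⟩ := ha.not_rad h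
    obtain ⟨s, hs⟩ : ∃ s, s = t₀.2 b / t₀.2 a := ⟨_, rfl⟩
    have hprop : ∀ t ∈ T, t.2 b = s * t.2 a := fun t ht => by
      obtain ⟨χ, hχ⟩ : ∃ χ, χ = t.2 - (t.2 a / t₀.2 a) • t₀.2 := ⟨_, rfl⟩
      have hmem' : χ ∈ axSp T a := by
        rw [axSp_eq_all h hd ha, hχ]
        exact ⟨sub_mem (Submodule.subset_span ⟨t, ht, rfl⟩)
          (Submodule.smul_mem _ _ (Submodule.subset_span ⟨t₀, ht₀, rfl⟩)), by simp [hne]⟩
      have hz : χ b = 0 := by
        rcases mem_axSp h hmem' with e | e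
        · simp [e]
        · by_contra e'
          exact hab ⟨χ, e, e'⟩
      rw [hχ] at hz
      simp only [LinearMap.sub_apply, LinearMap.smul_apply, smul_eq_mul, sub_eq_zero] at hz
      rw [hz, hs]; ring
    have hs0 : s ≠ 0 := by
      rintro e
      obtain ⟨t, ht, hne'⟩ := hb.not_rad h
      exact hne' (by rw [hprop t ht, e, zero_mul])
    obtain ⟨φ, hφ⟩ := ha
    obtain ⟨ψ, hψ⟩ := hb
    have e : b = s • a := h.inj hψ (h.smul_left s hs0 hφ) fun t ht => by
      rw [map_smul, smul_eq_mul, hprop t ht]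
    have e' : a + b = (1 + s) • a := by rw [e]; module
    rw [e'] at hab0 ⊢
    exact Cen.smul h ⟨φ, hφ⟩ fun e'' => hab0 (by rw [e'', zero_smul])
  · by_contra h0
    obtain ⟨⟨a, χ⟩, ht⟩ := h.nonempty
    obtain ⟨t, ht', hne⟩ := h.no_rad (hmem a φ ⟨χ, ht⟩ hφ h0 (hz a ⟨χ, ht⟩))
    exact hne (hz t.1 ⟨t.2, ht'⟩)

end CfsgLib.PLocal.TvSys
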