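import Cfsg.Agent.Lib.PLocal.U6JUni

/-!
Subgroups of exponent two of the unitriangular subgroup have order at most `2⁹`.
-/

set_option autoImplicit false
set_option linter.unusedSectionVars false
set_option linter.unusedSimpArgs false

namespace CfsgLib.PLocal.U6J

open Matrix CfsgLib.MaxSub CfsgLib.Classical CfsgLib.Trans3.TvSU CfsgLib.Trans3.Fi

variable {F : Type*} [Field F] [Fintype F] (hF : Fintype.card F = 2 ^ 2) (R : Frame F)
include hF

/-- The conditions on a hermitian matrix for commuting with a unitriangular element. -/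
theorem comm_eq {g k : ↥(Cfsg.SU 6 F 2)} {a b c : F} (hg : Upred R g a b c) (hk : k ∈ WS R)
    (hgk : Commute g k) :
    (c * K R k 2 2 = 0) ∧
    (a ^ 2 * K R k 2 1 + (b ^ 2 + a ^ 2 * c ^ 2) * K R k 2 2 = 0) ∧
    (c ^ 2 * K R k 1 2 + c * (K R k 2 1 + c ^ 2 * K R k 2 2) = 0) ∧
    (a ^ 2 * K R k 1 1 + (b ^ 2 + a ^ 2 * c ^ 2) * K R k 1 2 +
      c * (K R k 2 0 + a ^ 2 * K R k 2 1 + (b ^ 2 + a ^ 2 * c ^ 2) * K R k 2 2) = 0) ∧
    (a ^ 2 * K R k 0 1 + (b ^ 2 + a ^ 2 * c ^ 2) * K R k 0 2 +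
      a * (K R k 1 0 + a ^ 2 * K R k 1 1 + (b ^ 2 + a ^ 2 * c ^ 2) * K R k 1 2) +
      (b + a * c) * (K R k 2 0 + a ^ 2 * K R k 2 1 + (b ^ 2 + a ^ 2 * c ^ 2) * K R k 2 2) = 0) := by
  obtain ⟨h0, h1, h2⟩ := hg
  have hv := (mem_WS R).1 hk
  have e0 : ∀ j, hh (act g (R.w j)) (R.v 0) = if j = 0 then 1 else 0 := fun j => by
    have h := hh_act g (R.w j) (R.v 0)
    rwa [h0, wv hF R] at h
  have e1 : ∀ j, hh (act g (R.w j)) (R.v 1) =
      (if j = 1 then 1 else 0) + a ^ 2 * if j = 0 then 1 else 0 := fun j => by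
    have h := hh_act g (R.w j) (R.v 1)
    rw [h1, hh_add_right hF, hh_smul_right hF, e0, wv hF R] at h
    linear_combination h - add_self hF (a ^ 2 * if j = 0 then (1 : F) else 0)
  have e2 : ∀ j, hh (act g (R.w j)) (R.v 2) = (if j = 2 then 1 else 0) +
      (b ^ 2 * (if j = 0 then 1 else 0) + c ^ 2 * hh (act g (R.w j)) (R.v 1)) := fun j => by
    have h := hh_act g (R.w j) (R.v 2)
    rw [h2, hh_add_right hF, hh_add_right hF, hh_smul_right hF, hh_smul_right hF, e0,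
      wv hF R] at h
    linear_combination h - add_self hF (b ^ 2 * (if j = 0 then (1 : F) else 0) +
      c ^ 2 * hh (act g (R.w j)) (R.v 1))
  -- the fundamental identity
  have key : ∀ i j, (∑ l, hh (act g (R.w j)) (R.v l) *
      ∑ m, K R k m l * hh (R.v m) (act g (R.w i))) = K R k i j := by
    intro i j
    have hS : ∀ x, x ∈ R.S → act k x = x := by
      intro x hx
      have hx' := expand hF R x
      simp only [(mem_S hF R).1 hx, zero_smul, Finset.sum_const_zero, add_zero] at hx'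
      rw [hx']
      simp only [Fin.sum_univ_three, act_add hF, act_smul hF, hv]
    obtain ⟨x, ex⟩ : ∃ x, act g (R.w j) = x := ⟨_, rfl⟩
    have hdiff : act k x + x = ∑ l, hh x (R.v l) • ∑ m, K R k m l • R.v m := by
      have hx := expand hF R x
      conv_lhs => rw [hx]
      simp only [Fin.sum_univ_three, act_add hF, act_smul hF, hv, act_w hF R hk, smul_add]
      match_scalars <;> first | ring1 | linear_combination add_self hF (hh x (R.w 0)) |
        linear_combination add_self hF (hh x (R.w 1)) | linear_combination add_self hF (hh x (R.w 2)) |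
        linear_combination add_self hF (hh x (R.v 0)) | linear_combination add_self hF (hh x (R.v 1)) |
        linear_combination add_self hF (hh x (R.v 2))
    have hcomm : act k x + x = act g (act k (R.w j) + R.w j) := by
      rw [← ex, ← act_mul, ← hgk.eq, act_mul, act_add hF]
    have h := hh_act g (act k (R.w j) + R.w j) (R.w i)
    rw [← hcomm, hdiff] at h
    rw [ex]
    refine Eq.trans ?_ h
    simp only [Fin.sum_univ_three, hh_add_left hF, hh_smul_left hF]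
  have m00 : hh (act g (R.w 0)) (R.v 1) = a ^ 2 := by rw [e1]; simp
  have m11 : hh (act g (R.w 1)) (R.v 1) = 1 := by rw [e1]; simp
  have m20 : hh (act g (R.w 0)) (R.v 2) = b ^ 2 + a ^ 2 * c ^ 2 := by
    rw [e2, m00]; simp; ring
  have m21 : hh (act g (R.w 1)) (R.v 2) = c ^ 2 := by rw [e2, m11]; simp
  have r0 : ∀ m, hh (R.v m) (act g (R.w 0)) = ![1, a, b + a * c] m := fun m => by
    rw [← hh_conj hF]
    fin_cases m
    · simp [e0]
    · simp [m00, pow_four hF]
    · simp [m20]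
      linear_combination pow_four hF b + c * pow_four hF a + a ^ 4 * pow_four hF c +
        add_self hF (b ^ 2 * a ^ 2 * c ^ 2)
  have r1 : ∀ m, hh (R.v m) (act g (R.w 1)) = ![0, 1, c] m := fun m => by
    rw [← hh_conj hF]
    fin_cases m
    · simp [e0]
    · simp [m11]
    · simp [m21, pow_four hF]
  have r2 : ∀ m, hh (R.v m) (act g (R.w 2)) = ![0, 0, 1] m := fun m => by
    rw [← hh_conj hF]
    fin_cases m <;> simp [e0, e1, e2]
  have k22 := key 2 1
  have k20 := key 2 0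
  have k11 := key 1 1
  have k10 := key 1 0
  have k00 := key 0 0
  simp [Fin.sum_univ_three, r0, r1, r2, e0, m00, m11, m20, m21] at k22 k20 k11 k10 k00
  refine ⟨?_, ?_, ?_, ?_, ?_⟩
  · by_cases hc : c = 0
    · rw [hc, zero_mul]
    · rw [(k22.resolve_left hc), mul_zero]
  · linear_combination k20
  · linear_combination k11
  · linear_combination k10
  · linear_combination k00

theorem sq_inj {x x' : F} (h : x ^ 2 = x' ^ 2) : x = x' := by
  rw [← pow_four hF x, ← pow_four hF x', h]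

/-- A set is bounded by its kernel and the image, for an additive map. -/
theorem card_le_ker_mul {A : Subgroup ↥(Cfsg.SU 6 F 2)} (hA : ∀ g ∈ A, g * g = 1) {β : Type*}
    [AddCommGroup β] [Finite β] (φ : ↥(Cfsg.SU 6 F 2) → β)
    (hφ : ∀ g ∈ A, ∀ k ∈ A, φ (g * k) = φ g + φ k)
    (hker : ∀ g ∈ A, φ g = 0 → g ∈ WS R) {n m : ℕ}
    (hn : Nat.card {k : ↥(Cfsg.SU 6 F 2) // k ∈ A ∧ k ∈ WS R} ≤ n) (hm : (φ '' A).ncard ≤ m) :
    Nat.card A ≤ n * m := by
  classical
  haveI : Fintype ↥A := Fintype.ofFinite _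
  have h := Finset.card_le_mul_card_image (s := (Finset.univ : Finset ↥A))
    (f := fun g : ↥A => φ g.1) n ?_
  · rw [Finset.card_univ] at h
    rw [Nat.card_eq_fintype_card]
    refine h.trans (Nat.mul_le_mul_left n (le_trans ?_ hm))
    rw [← Set.ncard_coe_finset]
    refine Set.ncard_le_ncard (fun b hb => ?_) (Set.toFinite _)
    obtain ⟨g, -, rfl⟩ := Finset.mem_image.1 (Finset.mem_coe.1 hb)
    exact ⟨g.1, g.2, rfl⟩
  · intro b hb
    obtain ⟨g0, -, e0⟩ := Finset.mem_image.1 hb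
    refine le_trans ?_ hn
    rw [← Nat.card_eq_finsetCard]
    refine Nat.card_le_card_of_injective (fun g => ⟨g.1.1 * g0.1, mul_mem g.1.2 g0.2,
      hker _ (mul_mem g.1.2 g0.2) ?_⟩) fun g g' e => ?_
    · have hg := (Finset.mem_filter.1 g.2).2
      have h0 := hφ _ g0.2 _ g0.2
      rw [hA _ g0.2] at h0
      have h1 := hφ 1 (one_mem A) 1 (one_mem A)
      rw [one_mul, left_eq_add] at h1
      rw [hφ _ g.1.2 _ g0.2, hg, ← e0, ← h0, h1]
    · exact Subtype.ext (Subtype.ext (mul_right_cancel (congrArg Subtype.val e)))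

theorem K_low {k : ↥(Cfsg.SU 6 F 2)} (hk : k ∈ WS R) :
    K R k 1 2 = K R k 2 1 ^ 2 ∧ K R k 0 2 = K R k 2 0 ^ 2 ∧ K R k 1 0 = K R k 0 1 ^ 2 ∧
      K R k 0 0 ^ 2 = K R k 0 0 ∧ K R k 1 1 ^ 2 = K R k 1 1 ∧ K R k 2 2 ^ 2 = K R k 2 2 :=
  ⟨K_herm hF R hk 2 1, K_herm hF R hk 2 0, K_herm hF R hk 0 1, (K_herm hF R hk 0 0).symm,
    (K_herm hF R hk 1 1).symm, (K_herm hF R hk 2 2).symm⟩

theorem K_ext' {k k' : ↥(Cfsg.SU 6 F 2)} (hk : k ∈ WS R) (hk' : k' ∈ WS R)
    (h00 : K R k 0 0 = K R k' 0 0) (h11 : K R k 1 1 = K R k' 1 1) (h22 : K R k 2 2 = K R k' 2 2)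
    (h01 : K R k 0 1 = K R k' 0 1) (h20 : K R k 2 0 = K R k' 2 0)
    (h21 : K R k 2 1 = K R k' 2 1) : k = k' := by
  obtain ⟨a1, a2, a3, -⟩ := K_low hF R hk
  obtain ⟨b1, b2, b3, -⟩ := K_low hF R hk'
  have h02 : K R k 0 2 = K R k' 0 2 := by rw [a2, b2, h20]
  have h10 : K R k 1 0 = K R k' 1 0 := by rw [a3, b3, h01]
  have h12 : K R k 1 2 = K R k' 1 2 := by rw [a1, b1, h21]
  refine K_ext hF R hk hk' fun i j => ?_
  fin_cases i <;> fin_cases j
  exacts [h00, h01, h02, h10, h11, h12, h20, h21, h22]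

/-- The row and the column of the last index, for an element of the column group. -/
theorem column_fix {k g : ↥(Cfsg.SU 6 F 2)} {b c : F} (hg : Upred R g 0 b c) (hk : k ∈ WS R)
    (hgk : Commute g k) (hne : b ≠ 0 ∨ c ≠ 0) :
    K R k 2 2 = 0 ∧ ((K R k 2 0 = 0 ∧ K R k 2 1 = 0) ∨
      (K R k 2 0 = b ^ 2 ∧ K R k 2 1 = c ^ 2)) := by
  obtain ⟨q1, q2, q3, q4, q5⟩ := comm_eq hF R hg hk hgk
  obtain ⟨s1, s2, -, -, -, -⟩ := K_low hF R hk
  have h22 : K R k 2 2 = 0 := by
    by_cases hc : c = 0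
    · have hb : b ≠ 0 := hne.resolve_right (not_not.2 hc)
      exact (mul_eq_zero.1 (show b ^ 2 * K R k 2 2 = 0 by linear_combination q2)).resolve_left
        (pow_ne_zero 2 hb)
    · exact (mul_eq_zero.1 q1).resolve_left hc
  refine ⟨h22, ?_⟩
  rw [h22] at q3 q4 q5
  rw [s1] at q3 q4
  rw [s2] at q5
  by_cases hc : c = 0
  · have hb : b ≠ 0 := hne.resolve_right (not_not.2 hc)
    have e21 : K R k 2 1 = 0 := by
      have : b ^ 2 * K R k 2 1 ^ 2 = 0 := by
        linear_combination q4 - (K R k 2 0) * hc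
      exact (pow_eq_zero_iff two_ne_zero).1 ((mul_eq_zero.1 this).resolve_left (pow_ne_zero 2 hb))
    rcases fixed hF (show (b * K R k 2 0) ^ 2 = b * K R k 2 0 by
      rw [hc] at q5
      linear_combination q5 - add_self hF (b * K R k 2 0)) with h | h
    · exact Or.inl ⟨(mul_eq_zero.1 h).resolve_left hb, e21⟩
    · refine Or.inr ⟨?_, by rw [e21, hc]; ring⟩
      linear_combination b ^ 2 * h - K R k 2 0 * cube_one hF hb
  · have hc3 := cube_one hF hc
    rcases fixed hF (show (c * K R k 2 1) ^ 2 = c * K R k 2 1 by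
      linear_combination q3 - add_self hF (c * K R k 2 1)) with h | h
    · have e21 : K R k 2 1 = 0 := (mul_eq_zero.1 h).resolve_left hc
      rw [e21] at q4
      exact Or.inl ⟨(mul_eq_zero.1 (show c * K R k 2 0 = 0 by linear_combination q4)).resolve_left hc,
        e21⟩
    · have e21 : K R k 2 1 = c ^ 2 := by linear_combination c ^ 2 * h - K R k 2 1 * hc3
      rw [e21] at q4
      refine Or.inr ⟨?_, e21⟩
      linear_combination c ^ 2 * q4 - (c ^ 3 * b ^ 2 + b ^ 2 + K R k 2 0) * hc3 -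
        add_self hF (b ^ 2)

theorem card_trace {a b : F} (ha : a ≠ 0) :
    Nat.card {p : F × F // a ^ 2 * p.1 + b ^ 2 * p.2 + a * p.1 ^ 2 + b * p.2 ^ 2 = 0} ≤ 8 := by
  classical
  obtain ⟨ω, hω⟩ := exists_omega hF
  have a3 := cube_one hF ha
  let T := {p : F × F // a ^ 2 * p.1 + b ^ 2 * p.2 + a * p.1 ^ 2 + b * p.2 ^ 2 = 0}
  let Φ : T ⊕ T → F × F := Sum.elim (fun p => p.1) fun p => (p.1.1 + a * ω, p.1.2)
  have bad : ∀ p q : T, p.1 ≠ (q.1.1 + a * ω, q.1.2) := by
    rintro ⟨p, hp⟩ ⟨q, hq⟩ e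
    simp only at e
    rw [e] at hp
    refine zero_ne_one (α := F) ?_
    linear_combination -hp + hq + hω + (ω + ω ^ 2) * a3 + add_self hF (a * q.1 * (a * ω))
  have hinj : Function.Injective Φ := by
    rintro (p | p) (q | q) e
    · exact congrArg Sum.inl (Subtype.ext e)
    · exact absurd e (bad p q)
    · exact absurd e.symm (bad q p)
    · simp only [Φ, Sum.elim_inr, Prod.mk.injEq, add_left_inj] at e
      exact congrArg Sum.inr (Subtype.ext (Prod.ext e.1 e.2))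
  have h := Nat.card_le_card_of_injective Φ hinj
  rw [Nat.card_sum, Nat.card_prod, Nat.card_eq_fintype_card (α := F), hF] at h
  change Nat.card T ≤ 8
  omega

/-- Subgroups of exponent two. -/
theorem UT_elem_bound {A : Subgroup ↥(Cfsg.SU 6 F 2)} (hA : A ≤ UT hF R)
    (hsq : ∀ g ∈ A, g * g = 1) : Nat.card A ≤ 512 ∧ (Nat.card A = 512 → A = WS R) := by
  classical
  suffices h : A ≤ WS R ∨ Nat.card A ≤ 256 by
    rcases h with h | h
    · refine ⟨card_WS hF R ▸ Subgroup.card_le_of_le h, fun e => ?_⟩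
      exact Subgroup.eq_of_le_of_card_ge h (by rw [card_WS hF, e])
    · exact ⟨h.trans (by norm_num), fun e => absurd h (by omega)⟩
  by_cases hW : A ≤ WS R
  · exact Or.inl hW
  refine Or.inr ?_
  have cm : ∀ g ∈ A, ∀ k ∈ A, Commute g k := fun g hg k hk => by
    have h := hsq _ (mul_mem hg hk)
    show g * k = k * g
    rw [eq_inv_of_mul_eq_one_left h, _root_.mul_inv_rev, inv_eq_of_mul_eq_one_right (hsq g hg),
      inv_eq_of_mul_eq_one_right (hsq k hk)]
  have hsc : ∀ g ∈ A, pa R g * pc R g = 0 := fun g hg => by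
    obtain ⟨-, h, -⟩ := coord_mul hF R (hA hg) (hA hg)
    have h1 : pb R (g * g) = 0 := by
      rw [hsq g hg]
      exact ((mem_WS_iff hF R (one_mem _)).1 (one_mem _)).2.1
    linear_combination h1 - h - add_self hF (pb R g)
  have hcr : ∀ g ∈ A, ∀ k ∈ A, pa R g * pc R k = pa R k * pc R g := fun g hg k hk => by
    obtain ⟨-, h, -⟩ := coord_mul hF R (hA hg) (hA hk)
    obtain ⟨-, h', -⟩ := coord_mul hF R (hA hk) (hA hg)
    rw [(cm g hg k hk).eq, h'] at h
    linear_combination -h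
  have h2 : Nat.card {x : F // x ^ 2 = x} = 2 := card_sqfix hF
  have hF4 : Nat.card F = 4 := by rw [Nat.card_eq_fintype_card, hF]; norm_num
  by_cases ha : ∀ g ∈ A, pa R g = 0
  · -- the column group
    obtain ⟨φ, eφ⟩ : ∃ φ : ↥(Cfsg.SU 6 F 2) → F × F, φ = fun g => (pb R g, pc R g) := ⟨_, rfl⟩
    have hφ : ∀ g ∈ A, ∀ k ∈ A, φ (g * k) = φ g + φ k := fun g hg k hk => by
      obtain ⟨-, h1, h2⟩ := coord_mul hF R (hA hg) (hA hk)
      rw [eφ]
      simp [h1, h2, ha g hg]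
    have hker : ∀ g ∈ A, φ g = 0 → g ∈ WS R := fun g hg h => by
      rw [eφ] at h
      simp only [Prod.mk_eq_zero] at h
      exact (mem_WS_iff hF R (hA hg)).2 ⟨ha g hg, h⟩
    obtain ⟨g₀, hg₀, hg₀W⟩ := SetLike.not_le_iff_exists.1 hW
    have hup : ∀ g ∈ A, Upred R g 0 (pb R g) (pc R g) := fun g hg => by
      have h := upred_of_mem hF R (hA hg)
      rwa [ha g hg] at h
    have hne : ∀ g ∈ A, φ g ≠ 0 → pb R g ≠ 0 ∨ pc R g ≠ 0 := fun g hg h => by
      by_contra! h'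
      exact h (by rw [eφ]; simp [h'.1, h'.2])
    have hg₀φ : φ g₀ ≠ 0 := fun h => hg₀W (hker g₀ hg₀ h)
    have col := fun (k : ↥(Cfsg.SU 6 F 2)) (hk : k ∈ A ∧ k ∈ WS R) (g : ↥(Cfsg.SU 6 F 2))
      (hg : g ∈ A) (h : φ g ≠ 0) =>
        column_fix hF R (hup g hg) hk.2 (cm g hg k hk.1) (hne g hg h)
    by_cases himg : ∀ g ∈ A, φ g = 0 ∨ φ g = φ g₀
    · have hm : (φ '' A).ncard ≤ 2 :=
        (Set.ncard_le_ncard (t := {0, φ g₀}) (by rintro _ ⟨g, hg, rfl⟩; simpa using himg g hg)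
          (Set.toFinite _)).trans ((Set.ncard_insert_le _ _).trans (by simp))
      refine (card_le_ker_mul hF R hsq φ hφ hker (n := 32) ?_ hm).trans (by norm_num)
      let Φ : {k : ↥(Cfsg.SU 6 F 2) // k ∈ A ∧ k ∈ WS R} →
          {x : F // x ^ 2 = x} × {x : F // x ^ 2 = x} × F × Bool := fun k =>
        (⟨K R k.1 0 0, (K_low hF R k.2.2).2.2.2.1⟩, ⟨K R k.1 1 1, (K_low hF R k.2.2).2.2.2.2.1⟩,
          K R k.1 0 1, decide (K R k.1 2 0 = 0 ∧ K R k.1 2 1 = 0))
      have hinj : Function.Injective Φ := by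
        intro k k' e
        simp only [Φ, Prod.mk.injEq, Subtype.mk.injEq, decide_eq_decide] at e
        obtain ⟨e00, e11, e01, e2⟩ := e
        obtain ⟨z, hz⟩ := col k.1 k.2 g₀ hg₀ hg₀φ
        obtain ⟨z', hz'⟩ := col k'.1 k'.2 g₀ hg₀ hg₀φ
        obtain ⟨e20, e21⟩ : K R k.1 2 0 = K R k'.1 2 0 ∧ K R k.1 2 1 = K R k'.1 2 1 := by
          rcases hz with hz | hz <;> rcases hz' with hz' | hz'
          · exact ⟨hz.1.trans hz'.1.symm, hz.2.trans hz'.2.symm⟩
          · obtain ⟨u, v⟩ := e2.1 hz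
            exact ⟨hz.1.trans u.symm, hz.2.trans v.symm⟩
          · obtain ⟨u, v⟩ := e2.2 hz'
            exact ⟨u.trans hz'.1.symm, v.trans hz'.2.symm⟩
          · exact ⟨hz.1.trans hz'.1.symm, hz.2.trans hz'.2.symm⟩
        exact Subtype.ext (K_ext' hF R k.2.2 k'.2.2 e00 e11 (z.trans z'.symm) e01 e20 e21)
      have h := Nat.card_le_card_of_injective Φ hinj
      rw [Nat.card_prod, Nat.card_prod, Nat.card_prod, h2, hF4, Nat.card_eq_fintype_card (α := Bool),
        Fintype.card_bool] at h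
      exact h
    · push Not at himg
      obtain ⟨g₁, hg₁, n1, n2⟩ := himg
      have hm : (φ '' A).ncard ≤ 16 := (Set.ncard_le_card _).trans (by rw [Nat.card_prod, hF4])
      refine (card_le_ker_mul hF R hsq φ hφ hker (n := 16) ?_ hm).trans (by norm_num)
      have hz : ∀ k : {k : ↥(Cfsg.SU 6 F 2) // k ∈ A ∧ k ∈ WS R},
          K R k.1 2 2 = 0 ∧ K R k.1 2 0 = 0 ∧ K R k.1 2 1 = 0 := by
        intro k
        obtain ⟨z, hz⟩ := col k.1 k.2 g₀ hg₀ hg₀φ
        refine ⟨z, ?_⟩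
        rcases hz with hz | hz
        · exact hz
        rcases (col k.1 k.2 g₁ hg₁ n1).2 with hz' | hz'
        · exact hz'
        refine absurd ?_ n2
        rw [eφ]
        exact Prod.ext (sq_inj hF (hz'.1.symm.trans hz.1)) (sq_inj hF (hz'.2.symm.trans hz.2))
      let Φ : {k : ↥(Cfsg.SU 6 F 2) // k ∈ A ∧ k ∈ WS R} →
          {x : F // x ^ 2 = x} × {x : F // x ^ 2 = x} × F := fun k =>
        (⟨K R k.1 0 0, (K_low hF R k.2.2).2.2.2.1⟩, ⟨K R k.1 1 1, (K_low hF R k.2.2).2.2.2.2.1⟩,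
          K R k.1 0 1)
      have hinj : Function.Injective Φ := by
        intro k k' e
        simp only [Φ, Prod.mk.injEq, Subtype.mk.injEq] at e
        obtain ⟨e00, e11, e01⟩ := e
        obtain ⟨z1, z2, z3⟩ := hz k
        obtain ⟨w1, w2, w3⟩ := hz k'
        exact Subtype.ext (K_ext' hF R k.2.2 k'.2.2 e00 e11 (z1.trans w1.symm) e01
          (z2.trans w2.symm) (z3.trans w3.symm))
      have h := Nat.card_le_card_of_injective Φ hinj
      rw [Nat.card_prod, Nat.card_prod, h2, hF4] at h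
      exact h
  · -- the row group
    push Not at ha
    obtain ⟨g₀, hg₀, ha₀⟩ := ha
    have hc₀ : pc R g₀ = 0 := (mul_eq_zero.1 (hsc g₀ hg₀)).resolve_left ha₀
    have hc : ∀ g ∈ A, pc R g = 0 := fun g hg => by
      have h := hcr g₀ hg₀ g hg
      rw [hc₀, mul_zero] at h
      exact (mul_eq_zero.1 h).resolve_left ha₀
    obtain ⟨a, ea⟩ : ∃ a, a = pa R g₀ := ⟨_, rfl⟩
    obtain ⟨b, eb⟩ : ∃ b, b = pb R g₀ := ⟨_, rfl⟩
    rw [← ea] at ha₀
    have a3 := cube_one hF ha₀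
    have row : ∀ g ∈ A, ∀ k ∈ WS R, Commute g k →
        pa R g ^ 2 * K R k 2 1 + pb R g ^ 2 * K R k 2 2 = 0 ∧
        pa R g ^ 2 * K R k 1 1 + pb R g ^ 2 * K R k 2 1 ^ 2 = 0 ∧
        pa R g ^ 2 * K R k 0 1 + pb R g ^ 2 * K R k 0 2 + pa R g * K R k 0 1 ^ 2 +
          pb R g * K R k 0 2 ^ 2 = 0 := by
      intro g hg k hk hgk
      have hu := upred_of_mem hF R (hA hg)
      rw [hc g hg] at hu
      obtain ⟨-, q2, -, q4, q5⟩ := comm_eq hF R hu hk hgk
      obtain ⟨s1, s2, s3, -, -, -⟩ := K_low hF R hk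
      rw [s1] at q4 q5
      rw [s3] at q5
      have e20 : K R k 2 0 = K R k 0 2 ^ 2 := K_herm hF R hk 0 2
      rw [e20] at q5
      exact ⟨by linear_combination q2, by linear_combination q4,
        by linear_combination q5 - pa R g * q4 - pb R g * q2⟩
    have det : ∀ k : {k : ↥(Cfsg.SU 6 F 2) // k ∈ A ∧ k ∈ WS R},
        K R k.1 2 1 = a * b ^ 2 * K R k.1 2 2 ∧
        K R k.1 1 1 = a * b ^ 2 * K R k.1 2 1 ^ 2 := fun k => by
      obtain ⟨r1, r2, -⟩ := row g₀ hg₀ k.1 k.2.2 (cm g₀ hg₀ k.1 k.2.1)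
      rw [← ea, ← eb] at r1 r2
      exact ⟨by linear_combination a * r1 - K R k.1 2 1 * a3 - add_self hF (a * b ^ 2 * K R k.1 2 2),
        by linear_combination a * r2 - K R k.1 1 1 * a3 -
          add_self hF (a * b ^ 2 * K R k.1 2 1 ^ 2)⟩
    have e20 : ∀ k : {k : ↥(Cfsg.SU 6 F 2) // k ∈ A ∧ k ∈ WS R},
        K R k.1 2 0 = K R k.1 0 2 ^ 2 := fun k => K_herm hF R k.2.2 0 2
    by_cases hp : ∀ g ∈ A, pb R g = pa R g * (a ^ 2 * b)
    · obtain ⟨φ, eφ⟩ : ∃ φ : ↥(Cfsg.SU 6 F 2) → F, φ = pa R := ⟨_, rfl⟩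
      have hm : (φ '' A).ncard ≤ 4 := (Set.ncard_le_card _).trans hF4.le
      refine (card_le_ker_mul hF R hsq φ (fun g hg k hk => ?_) (fun g hg h => ?_)
        (n := 64) ?_ hm).trans (by norm_num)
      · rw [eφ]; exact (coord_mul hF R (hA hg) (hA hk)).1
      · rw [eφ] at h
        exact (mem_WS_iff hF R (hA hg)).2 ⟨h, by rw [hp g hg, h, zero_mul], hc g hg⟩
      · let Φ : {k : ↥(Cfsg.SU 6 F 2) // k ∈ A ∧ k ∈ WS R} →
            {x : F // x ^ 2 = x} × {x : F // x ^ 2 = x} × F × F := fun k =>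
          (⟨K R k.1 0 0, (K_low hF R k.2.2).2.2.2.1⟩, ⟨K R k.1 2 2, (K_low hF R k.2.2).2.2.2.2.2⟩,
            K R k.1 0 1, K R k.1 0 2)
        have hinj : Function.Injective Φ := by
          intro k k' e
          simp only [Φ, Prod.mk.injEq, Subtype.mk.injEq] at e
          obtain ⟨e00, e22, e01, e02⟩ := e
          obtain ⟨d1, d2⟩ := det k
          obtain ⟨d1', d2'⟩ := det k'
          have e21 : K R k.1 2 1 = K R k'.1 2 1 := by rw [d1, d1', e22]
          exact Subtype.ext (K_ext' hF R k.2.2 k'.2.2 e00 (by rw [d2, d2', e21]) e22 e01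
            (by rw [e20, e20, e02]) e21)
        have h := Nat.card_le_card_of_injective Φ hinj
        rw [Nat.card_prod, Nat.card_prod, Nat.card_prod, h2, hF4] at h
        exact h
    · push Not at hp
      obtain ⟨g₁, hg₁, hne⟩ := hp
      obtain ⟨φ, eφ⟩ : ∃ φ : ↥(Cfsg.SU 6 F 2) → F × F, φ = fun g => (pa R g, pb R g) := ⟨_, rfl⟩
      have hm : (φ '' A).ncard ≤ 16 := (Set.ncard_le_card _).trans (by rw [Nat.card_prod, hF4])
      refine (card_le_ker_mul hF R hsq φ (fun g hg k hk => ?_) (fun g hg h => ?_)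
        (n := 16) ?_ hm).trans (by norm_num)
      · obtain ⟨h1, h2, -⟩ := coord_mul hF R (hA hg) (hA hk)
        rw [eφ]
        simp [h1, h2, hc k hk]
      · rw [eφ] at h
        simp only [Prod.mk_eq_zero] at h
        exact (mem_WS_iff hF R (hA hg)).2 ⟨h.1, h.2, hc g hg⟩
      · have hz : ∀ k : {k : ↥(Cfsg.SU 6 F 2) // k ∈ A ∧ k ∈ WS R},
            K R k.1 2 2 = 0 ∧ K R k.1 2 1 = 0 ∧ K R k.1 1 1 = 0 := by
          intro k
          obtain ⟨d1, d2⟩ := det k
          obtain ⟨r1, -, -⟩ := row g₁ hg₁ k.1 k.2.2 (cm g₁ hg₁ k.1 k.2.1)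
          rw [d1] at r1
          have hz : K R k.1 2 2 = 0 := by
            refine (mul_eq_zero.1 (show (pa R g₁ ^ 2 * (a * b ^ 2) + pb R g₁ ^ 2) * K R k.1 2 2 = 0
              by linear_combination r1)).resolve_left fun h0 => hne ?_
            refine sq_inj hF ?_
            linear_combination h0 - add_self hF (pa R g₁ ^ 2 * (a * b ^ 2)) -
              pa R g₁ ^ 2 * a * b ^ 2 * a3
          refine ⟨hz, by rw [d1, hz, mul_zero], ?_⟩
          rw [d2, d1, hz]; ring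
        let Φ : {k : ↥(Cfsg.SU 6 F 2) // k ∈ A ∧ k ∈ WS R} → {x : F // x ^ 2 = x} ×
            {p : F × F // a ^ 2 * p.1 + b ^ 2 * p.2 + a * p.1 ^ 2 + b * p.2 ^ 2 = 0} := fun k =>
          (⟨K R k.1 0 0, (K_low hF R k.2.2).2.2.2.1⟩, ⟨(K R k.1 0 1, K R k.1 0 2), by
            obtain ⟨-, -, r3⟩ := row g₀ hg₀ k.1 k.2.2 (cm g₀ hg₀ k.1 k.2.1)
            rw [← ea, ← eb] at r3
            exact r3⟩)
        have hinj : Function.Injective Φ := by
          intro k k' e
          simp only [Φ, Prod.mk.injEq, Subtype.mk.injEq] at e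
          obtain ⟨e00, e01, e02⟩ := e
          obtain ⟨z1, z2, z3⟩ := hz k
          obtain ⟨w1, w2, w3⟩ := hz k'
          exact Subtype.ext (K_ext' hF R k.2.2 k'.2.2 e00 (z3.trans w3.symm) (z1.trans w1.symm) e01
            (by rw [e20, e20, e02]) (z2.trans w2.symm))
        have h := Nat.card_le_card_of_injective Φ hinj
        rw [Nat.card_prod, h2] at h
        exact h.trans (Nat.mul_le_mul_left 2 (card_trace hF ha₀))

end CfsgLib.PLocal.U6J
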