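import Cfsg.Agent.Lib.Trans3.Fi.U6Count

/-!
A hyperbolic frame of the space of `SU₆(2)`, the pointwise stabiliser of its isotropic half as
hermitian matrices, and the unitriangular subgroup.
-/

set_option autoImplicit false
set_option linter.unusedSectionVars false
set_option linter.unusedSimpArgs false

namespace CfsgLib.PLocal.U6J

open Matrix CfsgLib.MaxSub CfsgLib.Classical CfsgLib.Trans3.TvSU CfsgLib.Trans3.Fi

variable {F : Type*} [Field F] [Fintype F]

/-- A hyperbolic frame. -/
structure Frame (F : Type*) [Field F] where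
  v : Fin 3 → (Fin 6 → F)
  w : Fin 3 → (Fin 6 → F)
  vv : ∀ i j, hh (v i) (v j) = 0
  ww : ∀ i j, hh (w i) (w j) = 0
  vw : ∀ i j, hh (v i) (w j) = if i = j then 1 else 0

namespace Frame

/-- Renumbering a frame. -/
def perm (R : Frame F) (σ : Equiv.Perm (Fin 3)) : Frame F where
  v := R.v ∘ σ
  w := R.w ∘ σ
  vv _ _ := R.vv _ _
  ww _ _ := R.ww _ _
  vw i j := by simp [R.vw]

/-- The isotropic half. -/
def S (R : Frame F) : Submodule F (Fin 6 → F) := Submodule.span F (Set.range R.v)

end Frame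

variable (hF : Fintype.card F = 2 ^ 2)
include hF

theorem exists_frame : Nonempty (Frame F) := by
  obtain ⟨ω, hω⟩ := exists_omega hF
  have w2 : ω ^ 2 = ω + 1 := by linear_combination hω - add_self hF ω
  have two : (2 : F) = 0 := by rw [← one_add_one_eq_two]; exact add_self hF 1
  refine ⟨⟨![![1, 1, 0, 0, 0, 0], ![0, 0, 1, 1, 0, 0], ![0, 0, 0, 0, 1, 1]],
    ![![ω, ω + 1, 0, 0, 0, 0], ![0, 0, ω, ω + 1, 0, 0], ![0, 0, 0, 0, ω, ω + 1]],
    fun i j => ?_, fun i j => ?_, fun i j => ?_⟩⟩ <;>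
  · show ∑ k, _ * _ ^ 2 = _
    fin_cases i <;> fin_cases j <;>
      simp [Fin.sum_univ_six, Matrix.cons_val] <;>
      first
        | linear_combination two
        | linear_combination w2 + (ω ^ 3 + ω ^ 2 + 2 * ω + 1) * two
        | linear_combination (ω ^ 2 + ω) * two

variable (R : Frame F)

theorem wv (i j : Fin 3) : hh (R.w i) (R.v j) = if i = j then 1 else 0 := by
  rw [← hh_conj hF, R.vw]
  by_cases h : j = i
  · rw [if_pos h, if_pos h.symm, one_pow]
  · rw [if_neg h, if_neg (Ne.symm h), zero_pow two_ne_zero]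

/-- The coordinates of a vector in a frame. -/
theorem expand (x : Fin 6 → F) :
    x = ∑ i, hh x (R.w i) • R.v i + ∑ i, hh x (R.v i) • R.w i := by
  obtain ⟨b, eb⟩ : ∃ b : Fin 3 ⊕ Fin 3 → (Fin 6 → F), b = Sum.elim R.v R.w := ⟨_, rfl⟩
  let pr : (Fin 6 → F) →ₗ[F] (Fin 6 → F) :=
    { toFun := fun z => ∑ i, hh z (R.w i) • R.v i + ∑ i, hh z (R.v i) • R.w i
      map_add' := fun z z' => by
        simp only [hh_add_left hF, add_smul, Finset.sum_add_distrib]
        abel
      map_smul' := fun c z => by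
        simp only [hh_smul_left hF, mul_smul, RingHom.id_apply, smul_add, Finset.smul_sum] }
  have hb : ∀ k, pr (b k) = b k := by
    rintro (k | k) <;> rw [eb] <;>
      simp [pr, R.vv, R.ww, R.vw, wv hF R, Finset.sum_ite_eq]
  have hli : LinearIndependent F b := by
    rw [Fintype.linearIndependent_iff]
    intro g hg
    rw [Fintype.sum_sum_type, eb] at hg
    simp only [Sum.elim_inl, Sum.elim_inr] at hg
    have key : ∀ (z : Fin 6 → F) (c : Fin 3 → F) (u : Fin 3 → (Fin 6 → F)),
        hh (∑ i, c i • u i) z = ∑ i, c i * hh (u i) z := by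
      intro z c u
      simp only [Fin.sum_univ_three, hh_add_left hF, hh_smul_left hF]
    rintro (k | k)
    · have h := congrArg (fun z => hh z (R.w k)) hg
      simpa [hh_add_left hF, key, R.vw, R.ww, hh_zero_left hF] using h
    · have h := congrArg (fun z => hh z (R.v k)) hg
      simpa [hh_add_left hF, key, R.vv, wv hF R, hh_zero_left hF] using h
  have htop := hli.span_eq_top_of_card_eq_finrank (by simp)
  have : pr = LinearMap.id := LinearMap.ext_on_range htop hb
  exact (congrArg (fun l : (Fin 6 → F) →ₗ[F] (Fin 6 → F) => l x) this).symm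

theorem mem_S {x : Fin 6 → F} : x ∈ R.S ↔ ∀ i, hh x (R.v i) = 0 := by
  constructor
  · intro hx i
    induction hx using Submodule.span_induction with
    | mem u hu => obtain ⟨j, rfl⟩ := hu; exact R.vv j i
    | zero => exact hh_zero_left hF _
    | add u v _ _ h1 h2 => rw [hh_add_left hF, h1, h2, add_zero]
    | smul c u _ h1 => rw [hh_smul_left hF, h1, mul_zero]
  · intro h
    rw [expand hF R x]
    refine add_mem (Submodule.sum_mem _ fun i _ =>
      Submodule.smul_mem _ _ (Submodule.subset_span (Set.mem_range_self i))) ?_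
    simp [h]

theorem S_iso {x y : Fin 6 → F} (hx : x ∈ R.S) (hy : y ∈ R.S) : hh x y = 0 := by
  induction hy using Submodule.span_induction with
  | mem u hu => obtain ⟨j, rfl⟩ := hu; exact (mem_S hF R).1 hx j
  | zero => exact hh_zero_right hF _
  | add u v _ _ h1 h2 => rw [hh_add_right hF, h1, h2, add_zero]
  | smul c u _ h1 => rw [hh_smul_right hF, h1, mul_zero]

/-- An element is known from the frame. -/
theorem ext6 {g k : ↥(Cfsg.SU 6 F 2)} (hv : ∀ i, act g (R.v i) = act k (R.v i))
    (hw : ∀ i, act g (R.w i) = act k (R.w i)) : g = k := by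
  refine act_ext fun x => ?_
  rw [expand hF R x]
  simp only [act_add hF, act_smul hF, Fin.sum_univ_three, hv, hw]

omit [Fintype F] hF in
/-- The pointwise stabiliser of the isotropic half. -/
def WS (R : Frame F) : Subgroup ↥(Cfsg.SU 6 F 2) where
  carrier := {g | ∀ i, act g (R.v i) = R.v i}
  one_mem' i := act_one _
  mul_mem' {g k} hg hk i := by rw [act_mul, hk, hg]
  inv_mem' {g} hg i := by
    conv_lhs => rw [← hg i]
    rw [act_inv]

omit [Fintype F] hF in
theorem mem_WS {g : ↥(Cfsg.SU 6 F 2)} : g ∈ WS R ↔ ∀ i, act g (R.v i) = R.v i := Iff.rfl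

omit hF in
/-- The matrix of an element. -/
def K (R : Frame F) (g : ↥(Cfsg.SU 6 F 2)) (i j : Fin 3) : F :=
  hh (act g (R.w j) + R.w j) (R.w i)

variable {g k : ↥(Cfsg.SU 6 F 2)}

theorem act_w (hg : g ∈ WS R) (j : Fin 3) :
    act g (R.w j) = R.w j + ∑ i, K R g i j • R.v i := by
  have h1 : ∀ i, hh (act g (R.w j) + R.w j) (R.v i) = 0 := by
    intro i
    have h := hh_act g (R.w j) (R.v i)
    rw [(mem_WS R).1 hg i] at h
    rw [hh_add_left hF, h, add_self hF]
  have h2 := expand hF R (act g (R.w j) + R.w j)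
  simp only [h1, zero_smul, Finset.sum_const_zero, add_zero] at h2
  calc act g (R.w j) = act g (R.w j) + (R.w j + R.w j) := by rw [vec_add_self hF, add_zero]
    _ = R.w j + (act g (R.w j) + R.w j) := by abel
    _ = _ := congrArg (R.w j + ·) h2

theorem hh_comb (c : Fin 3 → F) (i : Fin 3) :
    hh (∑ l, c l • R.v l) (R.w i) = c i ∧ hh (R.w i) (∑ l, c l • R.v l) = c i ^ 2 := by
  have h : hh (∑ l, c l • R.v l) (R.w i) = c i := by
    simp only [Fin.sum_univ_three, hh_add_left hF, hh_smul_left hF, R.vw]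
    fin_cases i <;> simp
  exact ⟨h, by rw [← hh_conj hF, h]⟩

theorem K_herm (hg : g ∈ WS R) (i j : Fin 3) : K R g j i = K R g i j ^ 2 := by
  have h := hh_act g (R.w i) (R.w j)
  have hS : ∀ c : Fin 3 → F, ∑ l, c l • R.v l ∈ R.S := fun c =>
    Submodule.sum_mem _ fun l _ => Submodule.smul_mem _ _ (Submodule.subset_span (Set.mem_range_self l))
  rw [act_w hF R hg, act_w hF R hg, R.ww, hh_add_left hF, hh_add_right hF, hh_add_right hF,
    (hh_comb hF R _ j).1, (hh_comb hF R _ i).2, R.ww, S_iso hF R (hS _) (hS _), zero_add,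
    add_zero] at h
  linear_combination h - add_self hF (K R g i j ^ 2)

theorem K_mul (hg : g ∈ WS R) (hk : k ∈ WS R) (i j : Fin 3) :
    K R (g * k) i j = K R g i j + K R k i j := by
  have hv := (mem_WS R).1 hg
  have e : act (g * k) (R.w j) + R.w j =
      (act g (R.w j) + R.w j) + (∑ l, K R k l j • R.v l) := by
    rw [act_mul, act_w hF R hk j, act_add hF]
    simp only [Fin.sum_univ_three, act_add hF, act_smul hF, hv]
    abel
  rw [K, e, hh_add_left hF]
  congr 1
  exact (hh_comb hF R _ i).1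

theorem K_one (i j : Fin 3) : K R (1 : ↥(Cfsg.SU 6 F 2)) i j = 0 := by
  rw [K, act_one, vec_add_self hF, hh_zero_left hF]

theorem K_ext (hg : g ∈ WS R) (hk : k ∈ WS R) (h : ∀ i j, K R g i j = K R k i j) : g = k :=
  ext6 hF R (fun i => by rw [(mem_WS R).1 hg, (mem_WS R).1 hk])
    fun i => by rw [act_w hF R hg, act_w hF R hk]; simp only [h]

theorem WS_sq (hg : g ∈ WS R) : g * g = 1 :=
  K_ext hF R (mul_mem hg hg) (one_mem _) fun i j => by
    rw [K_mul hF R hg hg, K_one hF, add_self hF]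

theorem WS_comm (hg : g ∈ WS R) (hk : k ∈ WS R) : Commute g k :=
  K_ext hF R (mul_mem hg hk) (mul_mem hk hg) fun i j => by
    rw [K_mul hF R hg hk, K_mul hF R hk hg, add_comm]

theorem tv_mem {p : Fin 6 → F} (hp : p ∈ R.S) : tv hF p ∈ WS R := fun i => by
  rw [tv_act hF (S_iso hF R hp hp), hh_symm_zero hF ((mem_S hF R).1 hp i), zero_smul, add_zero]

theorem K_tv {p : Fin 6 → F} (hp : p ∈ R.S) (i j : Fin 3) :
    K R (tv hF p) i j = hh p (R.w j) ^ 2 * hh p (R.w i) := by
  rw [K, tv_act hF (S_iso hF R hp hp), add_comm (R.w j), add_assoc, vec_add_self hF, add_zero,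
    hh_smul_left hF, hh_conj hF]

theorem v_mem (i : Fin 3) : R.v i ∈ R.S := Submodule.subset_span (Set.mem_range_self i)

/-- Every hermitian matrix comes from a product of transvections at points of the half. -/
theorem exists_kk (M : Fin 3 → Fin 3 → F) (hM : ∀ i j, M j i = M i j ^ 2) :
    ∃ g ∈ WS R, g ∈ Subgroup.closure (tv hF '' {p | p ∈ R.S ∧ p ≠ 0}) ∧
      ∀ i j, K R g i j = M i j := by
  classical
  have hne : ∀ i, R.v i ≠ 0 := fun i e => by
    have := R.vw i i
    rw [e, hh_zero_left hF, if_pos rfl] at this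
    exact zero_ne_one this
  obtain ⟨T, eT⟩ : ∃ T, T = Subgroup.closure (tv hF '' {p | p ∈ R.S ∧ p ≠ 0}) := ⟨_, rfl⟩
  rw [← eT]
  have htv : ∀ {p}, p ∈ R.S → p ≠ 0 → tv hF p ∈ WS R ⊓ T := fun hp h0 =>
    ⟨tv_mem hF R hp, eT ▸ Subgroup.subset_closure ⟨_, ⟨hp, h0⟩, rfl⟩⟩
  -- diagonal entries
  have dg : ∀ (m : Fin 3) (x : F), x ^ 2 = x → ∃ g ∈ WS R ⊓ T,
      ∀ i j, K R g i j = if i = m ∧ j = m then x else 0 := by
    intro m x hx
    rcases fixed hF hx with rfl | rfl
    · exact ⟨1, one_mem _, fun i j => by rw [K_one hF]; simp⟩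
    · refine ⟨tv hF (R.v m), htv (v_mem hF R m) (hne m), fun i j => ?_⟩
      rw [K_tv hF R (v_mem hF R m), R.vw, R.vw]
      by_cases hi : i = m <;> by_cases hj : j = m
      · subst hi; subst hj; simp
      · subst hi; simp [hj, Ne.symm hj]
      · subst hj; simp [hi, Ne.symm hi]
      · simp [hi, hj, Ne.symm hi, Ne.symm hj]
  -- entries off the diagonal
  have od : ∀ (m n : Fin 3), m ≠ n → ∀ x : F, ∃ g ∈ WS R ⊓ T,
      ∀ i j, K R g i j = if i = m ∧ j = n then x else if i = n ∧ j = m then x ^ 2 else 0 := by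
    intro m n hmn x
    by_cases hx : x = 0
    · subst hx
      exact ⟨1, one_mem _, fun i j => by rw [K_one hF]; simp⟩
    have hp : R.v m + x ^ 2 • R.v n ∈ R.S :=
      add_mem (v_mem hF R m) (Submodule.smul_mem _ _ (v_mem hF R n))
    have hp0 : R.v m + x ^ 2 • R.v n ≠ 0 := fun e => by
      have := congrArg (fun z => hh z (R.w m)) e
      simp [hh_add_left hF, hh_smul_left hF, R.vw, hh_zero_left hF, Ne.symm hmn] at this
    refine ⟨tv hF (R.v m + x ^ 2 • R.v n) * tv hF (R.v m) * tv hF (R.v n),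
      mul_mem (mul_mem (htv hp hp0) (htv (v_mem hF R m) (hne m))) (htv (v_mem hF R n) (hne n)),
      fun i j => ?_⟩
    have a1 := tv_mem hF R hp
    have a2 := tv_mem hF R (v_mem hF R m)
    have a3 := tv_mem hF R (v_mem hF R n)
    rw [K_mul hF R (mul_mem a1 a2) a3, K_mul hF R a1 a2, K_tv hF R hp,
      K_tv hF R (v_mem hF R m), K_tv hF R (v_mem hF R n)]
    have c3 : x ^ 3 = 1 := cube_one hF hx
    have hc : ∀ l, hh (R.v m + x ^ 2 • R.v n) (R.w l) =
        if l = m then 1 else if l = n then x ^ 2 else 0 := by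
      intro l
      rw [hh_add_left hF, hh_smul_left hF, R.vw, R.vw]
      by_cases h1 : l = m
      · subst h1; simp [Ne.symm hmn]
      · by_cases h2 : l = n
        · subst h2; simp [h1, Ne.symm h1]
        · simp [h1, h2, Ne.symm h1, Ne.symm h2]
    rw [hc, hc, R.vw, R.vw, R.vw, R.vw]
    by_cases him : i = m
    · subst him
      by_cases hji : j = i
      · subst hji; simp [hmn, Ne.symm hmn, add_self hF]
      · by_cases hjn : j = n
        · subst hjn
          simp [hmn, Ne.symm hmn]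
          linear_combination x * c3
        · simp [hmn, Ne.symm hmn, hji, Ne.symm hji, hjn, Ne.symm hjn]
    · by_cases hin : i = n
      · subst hin
        by_cases hjm : j = m
        · subst hjm; simp [hmn, Ne.symm hmn]
        · by_cases hji : j = i
          · subst hji
            simp [hmn, Ne.symm hmn]
            linear_combination (x ^ 3 + 1) * c3 + add_self hF (1 : F)
          · simp [hmn, Ne.symm hmn, hjm, Ne.symm hjm, hji, Ne.symm hji]
      · simp [him, Ne.symm him, hin, Ne.symm hin]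
  obtain ⟨g0, h0, k0⟩ := dg 0 (M 0 0) (hM 0 0).symm
  obtain ⟨g1, h1, k1⟩ := dg 1 (M 1 1) (hM 1 1).symm
  obtain ⟨g2, h2, k2⟩ := dg 2 (M 2 2) (hM 2 2).symm
  obtain ⟨g3, h3, k3⟩ := od 0 1 (by decide) (M 0 1)
  obtain ⟨g4, h4, k4⟩ := od 0 2 (by decide) (M 0 2)
  obtain ⟨g5, h5, k5⟩ := od 1 2 (by decide) (M 1 2)
  have h01 := mul_mem h0 h1
  have h012 := mul_mem h01 h2
  have h0123 := mul_mem h012 h3
  have h01234 := mul_mem h0123 h4
  have hall := mul_mem h01234 h5
  refine ⟨_, hall.1, hall.2, fun i j => ?_⟩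
  rw [K_mul hF R h01234.1 h5.1, K_mul hF R h0123.1 h4.1, K_mul hF R h012.1 h3.1,
    K_mul hF R h01.1 h2.1, K_mul hF R h0.1 h1.1, k0, k1, k2, k3, k4, k5]
  fin_cases i <;> fin_cases j <;> simp <;> first | rfl | exact (hM _ _).symm

/-- The pointwise stabiliser is generated by its transvections. -/
theorem WS_eq : WS R = Subgroup.closure (tv hF '' {p | p ∈ R.S ∧ p ≠ 0}) := by
  refine le_antisymm (fun g hg => ?_) ((Subgroup.closure_le _).2 ?_)
  · obtain ⟨k, hk, hkc, hK⟩ := exists_kk hF R (K R g) (K_herm hF R hg)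
    rwa [K_ext hF R hg hk fun i j => (hK i j).symm]
  · rintro _ ⟨p, ⟨hp, -⟩, rfl⟩
    exact tv_mem hF R hp

theorem card_sqfix : Nat.card {x : F // x ^ 2 = x} = 2 := by
  classical
  have e : {x : F // x ^ 2 = x} ≃ Bool :=
    { toFun := fun x => decide (x.1 = 0)
      invFun := fun b => if b then ⟨0, zero_pow two_ne_zero⟩ else ⟨1, one_pow 2⟩
      left_inv := fun ⟨x, hx⟩ => by rcases fixed hF hx with rfl | rfl <;> simp
      right_inv := fun b => by cases b <;> simp }
  rw [Nat.card_congr e, Nat.card_eq_fintype_card, Fintype.card_bool]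

/-- There are `2⁹` of them. -/
theorem card_WS : Nat.card (WS R) = 512 := by
  have hd : ∀ g : WS R, ∀ i, K R g.1 i i ^ 2 = K R g.1 i i := fun g i => (K_herm hF R g.2 i i).symm
  let Φ : WS R → (Fin 3 → {x : F // x ^ 2 = x}) × F × F × F := fun g =>
    (fun i => ⟨K R g.1 i i, hd g i⟩, K R g.1 0 1, K R g.1 0 2, K R g.1 1 2)
  have hbij : Function.Bijective Φ := by
    constructor
    · intro g k e
      simp only [Φ, Prod.mk.injEq] at e
      obtain ⟨ed, e01, e02, e12⟩ := e
      have low : ∀ i j, K R g.1 i j = K R k.1 i j → K R g.1 j i = K R k.1 j i := fun i j h => by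
        rw [K_herm hF R g.2 i j, K_herm hF R k.2 i j, h]
      have di : ∀ i, K R g.1 i i = K R k.1 i i := fun i => congrArg Subtype.val (congrFun ed i)
      refine Subtype.ext (K_ext hF R g.2 k.2 fun i j => ?_)
      fin_cases i <;> fin_cases j
      exacts [di 0, e01, e02, low 0 1 e01, di 1, e12, low 0 2 e02, low 1 2 e12, di 2]
    · rintro ⟨d, a, b, c⟩
      obtain ⟨g, hg, -, hK⟩ := exists_kk hF R
        ![![(d 0).1, a, b], ![a ^ 2, (d 1).1, c], ![b ^ 2, c ^ 2, (d 2).1]] (fun i j => by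
          fin_cases i <;> fin_cases j <;> simp [(d _).2, pow_four hF])
      refine ⟨⟨g, hg⟩, Prod.ext (funext fun i => Subtype.ext ?_) ?_⟩
      · show K R g i i = _
        rw [hK]; fin_cases i <;> rfl
      · show (K R g 0 1, K R g 0 2, K R g 1 2) = _
        rw [hK, hK, hK]; rfl
  rw [Nat.card_congr (Equiv.ofBijective Φ hbij), Nat.card_prod, Nat.card_prod, Nat.card_prod,
    Nat.card_fun, card_sqfix hF, Nat.card_eq_fintype_card (α := F), hF,
    Nat.card_eq_fintype_card (α := Fin 3), Fintype.card_fin]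
  norm_num

end CfsgLib.PLocal.U6J
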