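import Cfsg.Agent.Lib.PLocal.U6JElem
import Cfsg.Agent.Lib.Trans3.Fi.U6Invol

/-!
The clique of a frame in a quotient of `SU₆(2)`: its span, a Sylow 2-subgroup above it and the
elementary abelian 2-subgroups.
-/

set_option autoImplicit false
set_option linter.unusedSectionVars false
set_option linter.unusedSimpArgs false

namespace CfsgLib.PLocal.U6J

open Matrix CfsgLib.MaxSub CfsgLib.Classical CfsgLib.Trans3.TvSU CfsgLib.Trans3.Fi

variable {F : Type*} [Field F] [Fintype F] (hF : Fintype.card F = 2 ^ 2) (R : Frame F)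
variable {Y : Type*} [Group Y] [Finite Y] {D : Set Y} (f : ↥(Cfsg.SU 6 F 2) →* Y)
  (hf : Function.Surjective f) (hk : f.ker = Subgroup.center ↥(Cfsg.SU 6 F 2))
  (hD : Cfsg.IsThreeTranspositionGroup D)
include hF hf hk hD

/-- The members at the points of the isotropic half. -/
def Ec : Set Y := pt hF f '' {p | p ∈ R.S ∧ p ≠ 0}

theorem Ec_sub : Ec hF R f ⊆ D := by
  rintro _ ⟨p, ⟨hp, h0⟩, rfl⟩
  exact pt_mem hF f hf hk hD h0 (S_iso hF R hp hp)

theorem Ec_comm : ∀ a ∈ Ec hF R f, ∀ b ∈ Ec hF R f, Commute a b := by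
  rintro _ ⟨p, ⟨hp, h0⟩, rfl⟩ _ ⟨q, ⟨hq, h0'⟩, rfl⟩
  exact (pt_commute hF f hk h0 h0' (S_iso hF R hp hp) (S_iso hF R hq hq)).2 (S_iso hF R hp hq)

theorem Ec_ncard : (Ec hF R f).ncard = 21 := by
  classical
  have hED := Ec_sub hF R f hf hk hD
  have hle := width_le hF f hf hk hD hED (Ec_comm hF R f hf hk hD)
  have h1 := card_vectors hF f hf hk hD hED
  obtain ⟨cf, ecf⟩ : ∃ cf : (Fin 3 → F) → (Fin 6 → F), cf = fun t => ∑ i, t i • R.v i := ⟨_, rfl⟩
  have hcf : ∀ t, cf t ∈ R.S := fun t => ecf ▸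
    Submodule.sum_mem _ fun i _ => Submodule.smul_mem _ _ (v_mem hF R i)
  have hinj : Function.Injective cf := fun t s e => funext fun i => by
    rw [ecf] at e
    rw [← (hh_comb hF R t i).1, ← (hh_comb hF R s i).1]
    exact congrArg (fun z => hh z (R.w i)) e
  have h0 : cf 0 = 0 := by simp [ecf]
  have h2 : Nat.card {t : Fin 3 → F // t ≠ 0 ∧ True} ≤
      Nat.card {v : Fin 6 → F // (v ≠ 0 ∧ hh v v = 0) ∧ pt hF f v ∈ Ec hF R f} := by
    refine Nat.card_le_card_of_injective (fun t => ⟨cf t.1, ⟨fun e => t.2.1 (hinj (e.trans h0.symm)),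
      S_iso hF R (hcf _) (hcf _)⟩, ⟨cf t.1, ⟨hcf _, fun e => t.2.1 (hinj (e.trans h0.symm))⟩, rfl⟩⟩)
      fun t s e => Subtype.ext (hinj (congrArg Subtype.val e))
  have h3 := card_ne (fun _ : Fin 3 → F => True) 0 trivial
  have h4 : Nat.card {t : Fin 3 → F // True} = 64 := by
    rw [Nat.card_congr (Equiv.subtypeUnivEquiv fun _ => trivial), Nat.card_fun,
      Nat.card_eq_fintype_card (α := F), hF, Nat.card_eq_fintype_card, Fintype.card_fin]
    norm_num
  rw [← Nat.card_coe_set_eq]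
  omega

theorem closure_Ec : Subgroup.closure (Ec hF R f) = (WS R).map f := by
  rw [WS_eq hF R, MonoidHom.map_closure, Set.image_image]
  rfl

theorem ut_kernel {g : ↥(Cfsg.SU 6 F 2)} (hg : g ∈ UT hF R) (h : f g = 1) : g = 1 := by
  obtain ⟨c, -, hc⟩ := center_act hF ((map_eq_one_iff' hF f hk).1 h)
  obtain ⟨a, b, c', h0, -, -⟩ := hg
  rw [hc] at h0
  have hv : R.v 0 ≠ 0 := fun e => by
    have := R.vw 0 0
    rw [e, hh_zero_left hF, if_pos rfl] at this
    exact zero_ne_one this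
  have hc1 : c = 1 := smul_vec_cancel hF hv (by rw [h0, one_smul])
  exact act_ext fun x => by rw [hc, hc1, one_smul, act_one]

theorem ut_injOn : Set.InjOn f (UT hF R : Set ↥(Cfsg.SU 6 F 2)) := fun g hg k hk' e => by
  have := ut_kernel hF R f hf hk hD (mul_mem hg (inv_mem hk')) (by rw [map_mul, map_inv, e,
    mul_inv_cancel])
  exact mul_inv_eq_one.1 this

theorem card_map {H : Subgroup ↥(Cfsg.SU 6 F 2)} (hH : H ≤ UT hF R) :
    Nat.card (H.map f) = Nat.card H := by
  show Nat.card ↥((H.map f : Subgroup Y) : Set Y) = _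
  rw [Subgroup.coe_map]
  exact Nat.card_image_of_injOn ((ut_injOn hF R f hf hk hD).mono hH)

theorem card_W : Nat.card (Subgroup.closure (Ec hF R f)) = 512 := by
  rw [closure_Ec hF R f hf hk hD, card_map hF R f hf hk hD (WS_le_UT hF R), card_WS hF]

theorem card_Y : Nat.card Y = 9196830720 := by
  rw [← card_psu_six hF]
  refine (Nat.card_congr ?_).symm
  exact ((QuotientGroup.quotientMulEquivOfEq hk.symm).trans
    (QuotientGroup.quotientKerEquivOfSurjective f hf)).toEquiv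

theorem ut_index : ¬ 2 ∣ ((UT hF R).map f).index := by
  have h := ((UT hF R).map f).card_mul_index
  rw [card_map hF R f hf hk hD le_rfl, card_UT hF, card_Y hF f hf hk hD] at h
  intro h2
  obtain ⟨m, hm⟩ := h2
  rw [hm] at h
  omega

theorem ut_pgroup : IsPGroup 2 ↥((UT hF R).map f) :=
  IsPGroup.of_card (by rw [card_map hF R f hf hk hD le_rfl, card_UT hF])

/-- The Sylow subgroup. -/
theorem exists_sylow : ∃ P : Sylow 2 Y, (P : Subgroup Y) = (UT hF R).map f := by
  haveI : Fact (Nat.Prime 2) := ⟨Nat.prime_two⟩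
  exact ⟨(ut_pgroup hF R f hf hk hD).toSylow (ut_index hF R f hf hk hD),
    IsPGroup.toSylow_coe _ _⟩

/-- An elementary abelian subgroup is conjugate into the unitriangular group. -/
theorem conj_into {A : Subgroup Y} (hA : IsPGroup 2 A) :
    ∃ g : Y, ∀ a ∈ A, g * a * g⁻¹ ∈ (UT hF R).map f := by
  haveI : Fact (Nat.Prime 2) := ⟨Nat.prime_two⟩
  obtain ⟨P, hP⟩ := exists_sylow hF R f hf hk hD
  obtain ⟨Q, hQ⟩ := hA.exists_le_sylow
  obtain ⟨g, hg⟩ := MulAction.exists_smul_eq Y Q P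
  refine ⟨g, fun a ha => ?_⟩
  rw [← hP, ← hg]
  exact ⟨a, hQ ha, rfl⟩

/-- The members in a conjugate of the unitriangular group are those of the clique. -/
theorem mem_Ec_of_mem {e : Y} (he : e ∈ D) (h : e ∈ (UT hF R).map f) : e ∈ Ec hF R f := by
  by_contra hne
  have hsub : insert e (Ec hF R f) ⊆ D := Set.insert_subset he (Ec_sub hF R f hf hk hD)
  have hP : Ec hF R f ⊆ ((UT hF R).map f : Set Y) := fun a ha =>
    Subgroup.map_mono (WS_le_UT hF R) (closure_Ec hF R f hf hk hD ▸ Subgroup.subset_closure ha)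
  have hmem : ∀ a ∈ insert e (Ec hF R f), a ∈ (UT hF R).map f := by
    rintro a (rfl | ha)
    exacts [h, hP ha]
  have hle := width_le hF f hf hk hD hsub fun a ha b hb =>
    Trans3.commute_of_mem_two_group hD.1 (ut_pgroup hF R f hf hk hD) (hsub ha) (hsub hb) (hmem a ha) (hmem b hb)
  rw [Nat.card_coe_set_eq, Set.ncard_insert_of_notMem hne (Set.toFinite _),
    Ec_ncard hF R f hf hk hD] at hle
  omega

/-- Every maximal commuting set is conjugate to that of the frame. -/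
theorem clique_conj {E : Set Y} (hE : E ⊆ D) (hc : ∀ a ∈ E, ∀ b ∈ E, Commute a b)
    (h21 : E.ncard = 21) : ∃ g : Y, (fun a => g * a * g⁻¹) '' E = Ec hF R f := by
  obtain ⟨g, hg⟩ := conj_into hF R f hf hk hD
    (Trans3.isPGroup_two_closure_of_commute hc fun u hu => Trans3.sq_one hD.1 (hE hu))
  refine ⟨g, Set.eq_of_subset_of_ncard_le ?_ ?_ (Set.toFinite _)⟩
  · rintro _ ⟨a, ha, rfl⟩
    exact mem_Ec_of_mem hF R f hf hk hD (hD.2.1 g a (hE ha)) (hg a (Subgroup.subset_closure ha))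
  · rw [Ec_ncard hF R f hf hk hD,
      Set.ncard_image_of_injective _ fun a b e => mul_left_cancel (mul_right_cancel e), h21]

/-- Subgroups of exponent two. -/
theorem elem_bound {A : Subgroup Y} (hsq : ∀ a ∈ A, a * a = 1) : Nat.card A ≤ 512 ∧
    (Nat.card A = 512 → ∃ g : Y, A.map (MulAut.conj g).toMonoidHom =
      Subgroup.closure (Ec hF R f)) := by
  have hA2 : IsPGroup 2 A := fun a => ⟨1, Subtype.ext (by rw [pow_one, pow_two]; exact hsq a a.2)⟩
  obtain ⟨g, hg⟩ := conj_into hF R f hf hk hD hA2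
  obtain ⟨B, eB⟩ : ∃ B, B = UT hF R ⊓ (A.map (MulAut.conj g).toMonoidHom).comap f := ⟨_, rfl⟩
  have hBU : B ≤ UT hF R := eB ▸ inf_le_left
  have hmap : B.map f = A.map (MulAut.conj g).toMonoidHom := by
    refine le_antisymm ?_ ?_
    · rintro _ ⟨b, hb, rfl⟩
      rw [eB] at hb
      exact hb.2
    · rintro _ ⟨a, ha, rfl⟩
      obtain ⟨u, hu, e⟩ := hg a ha
      refine ⟨u, ?_, e⟩
      rw [eB]
      refine ⟨hu, ?_⟩
      show f u ∈ A.map (MulAut.conj g).toMonoidHom
      rw [e]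
      exact ⟨a, ha, rfl⟩
  have hBsq : ∀ b ∈ B, b * b = 1 := by
    intro b hb
    refine ut_kernel hF R f hf hk hD (mul_mem (hBU hb) (hBU hb)) ?_
    obtain ⟨a, ha, e⟩ : f b ∈ A.map (MulAut.conj g).toMonoidHom := hmap ▸ ⟨b, hb, rfl⟩
    rw [map_mul, ← e, ← map_mul, hsq a ha, map_one]
  have hcard : Nat.card B = Nat.card A := by
    rw [← card_map hF R f hf hk hD hBU, hmap]
    exact (Nat.card_congr (A.equivMapOfInjective _ (MulAut.conj g).injective).toEquiv).symm
  obtain ⟨h1, h2⟩ := UT_elem_bound hF R hBU hBsq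
  rw [hcard] at h1 h2
  exact ⟨h1, fun e => ⟨g, by rw [← hmap, h2 e, closure_Ec hF R f hf hk hD]⟩⟩

end CfsgLib.PLocal.U6J
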