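import Cfsg.Agent.Lib.PLocal.U6JModel

/-!
The stabiliser of a clique of `PSU₆(2)` is transitive on the elements of each kind in its span.
-/

set_option autoImplicit false
set_option linter.unusedSectionVars false
set_option linter.unusedSimpArgs false

namespace CfsgLib.PLocal.U6J

open Matrix CfsgLib.MaxSub CfsgLib.Classical CfsgLib.Trans3.TvSU CfsgLib.Trans3.Fi

/-- The products of two distinct elements of a set. -/
def pairSet {X : Type*} [Mul X] (E : Set X) : Set X :=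
  {w | ∃ a ∈ E, ∃ b ∈ E, a ≠ b ∧ w = a * b}

/-- The elements carrying a set into itself. -/
def setFix {X : Type*} [Group X] (E : Set X) : Set X := {g | ∀ e ∈ E, g * e * g⁻¹ ∈ E}

variable {F : Type*} [Field F] [Fintype F] (hF : Fintype.card F = 2 ^ 2) (R : Frame F)
include hF

omit hF in
/-- The elements preserving the isotropic half. -/
def Good (g : ↥(Cfsg.SU 6 F 2)) : Prop := ∀ x ∈ R.S, act g x ∈ R.S ∧ act g⁻¹ x ∈ R.S

theorem good_mul {g k : ↥(Cfsg.SU 6 F 2)} (hg : Good R g) (hk : Good R k) : Good R (g * k) :=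
  fun x hx => ⟨by rw [act_mul]; exact (hg _ (hk x hx).1).1,
    by rw [_root_.mul_inv_rev, act_mul]; exact (hk _ (hg x hx).2).2⟩

theorem good_inv {g : ↥(Cfsg.SU 6 F 2)} (hg : Good R g) : Good R g⁻¹ := fun x hx =>
  ⟨(hg x hx).2, by rw [inv_inv]; exact (hg x hx).1⟩

theorem expand_S {x : Fin 6 → F} (hx : x ∈ R.S) : x = ∑ i, hh x (R.w i) • R.v i := by
  have h := expand hF R x
  simpa [(mem_S hF R).1 hx] using h

/-- An elation of the isotropic half. -/
theorem exists_move (i : Fin 3) {u : Fin 6 → F} (hu : u ∈ R.S) (hui : hh u (R.w i) = 0) :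
    ∃ g : ↥(Cfsg.SU 6 F 2), Good R g ∧ ∀ x ∈ R.S, act g x = x + hh x (R.w i) • u := by
  obtain ⟨σ, eσ⟩ : ∃ σ : Equiv.Perm (Fin 3), σ = Equiv.swap i 2 := ⟨_, rfl⟩
  have σ2 : σ 2 = i := by rw [eσ, Equiv.swap_apply_right]
  let R' := R.perm σ
  obtain ⟨g, eg⟩ : ∃ g, g = z hF R' (hh u (R.w (σ 0))) (hh u (R.w (σ 1))) := ⟨_, rfl⟩
  have hu' : u = hh u (R.w (σ 0)) • R.v (σ 0) + hh u (R.w (σ 1)) • R.v (σ 1) := by
    have h := expand_S hF R hu
    rw [← Equiv.sum_comp σ, Fin.sum_univ_three, σ2, hui, zero_smul, add_zero] at h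
    exact h
  have hv : ∀ j, act g (R.v j) = R.v j + hh (R.v j) (R.w i) • u := by
    intro j
    obtain ⟨l, rfl⟩ := σ.surjective j
    have hne : ∀ m, m ≠ 2 → σ m ≠ i := fun m hm e => hm (σ.injective (e.trans σ2.symm))
    fin_cases l
    · have h0 : hh (R.v (σ 0)) (R.w i) = 0 := by rw [R.vw, if_neg (hne 0 (by decide))]
      simpa [R', Frame.perm, h0, eg] using z_v0 hF R' (hh u (R.w (σ 0))) (hh u (R.w (σ 1)))
    · have h0 : hh (R.v (σ 1)) (R.w i) = 0 := by rw [R.vw, if_neg (hne 1 (by decide))]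
      simpa [R', Frame.perm, h0, eg] using z_v1 hF R' (hh u (R.w (σ 0))) (hh u (R.w (σ 1)))
    · have h1 : hh (R.v (σ 2)) (R.w i) = 1 := by rw [R.vw, if_pos σ2]
      show act g (R.v (σ 2)) = R.v (σ 2) + hh (R.v (σ 2)) (R.w i) • u
      rw [h1, one_smul]
      conv_rhs => rw [hu']
      rw [eg]
      exact z_v2 hF R' (hh u (R.w (σ 0))) (hh u (R.w (σ 1)))
  have hS : ∀ x ∈ R.S, act g x = x + hh x (R.w i) • u := by
    intro x hx
    conv_lhs => rw [expand_S hF R hx]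
    simp only [Fin.sum_univ_three, act_add hF, act_smul hF, hv, smul_add, smul_smul]
    conv_rhs => rw [expand_S hF R hx]
    simp only [Fin.sum_univ_three, hh_add_left hF, hh_smul_left hF, add_smul]
    abel
  have hinv : g⁻¹ = g := inv_eq_of_mul_eq_one_right (by rw [eg]; exact z_sq hF R' _ _)
  exact ⟨g, fun x hx => by
    rw [hinv, hS x hx]
    exact ⟨add_mem hx (Submodule.smul_mem _ _ hu), add_mem hx (Submodule.smul_mem _ _ hu)⟩, hS⟩

/-- An elation sending a base vector to a multiple of a given one. -/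
theorem exists_onto (i : Fin 3) {p : Fin 6 → F} (hp : p ∈ R.S) (hpi : hh p (R.w i) ≠ 0) :
    ∃ g : ↥(Cfsg.SU 6 F 2), Good R g ∧ (∀ j, j ≠ i → act g (R.v j) = R.v j) ∧
      act g (R.v i) = (hh p (R.w i))⁻¹ • p := by
  obtain ⟨g, hg, hS⟩ := exists_move hF R i (u := (hh p (R.w i))⁻¹ • p + R.v i)
    (add_mem (Submodule.smul_mem _ _ hp) (v_mem hF R i))
    (by rw [hh_add_left hF, hh_smul_left hF, inv_mul_cancel₀ hpi, R.vw, if_pos rfl, add_self hF])
  refine ⟨g, hg, fun j hj => by rw [hS _ (v_mem hF R j), R.vw, if_neg hj, zero_smul, add_zero], ?_⟩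
  rw [hS _ (v_mem hF R i), R.vw, if_pos rfl, one_smul, add_comm (R.v i), add_assoc,
    vec_add_self hF, add_zero]

theorem exists_coord {p : Fin 6 → F} (hp : p ∈ R.S) (h0 : p ≠ 0) : ∃ i, hh p (R.w i) ≠ 0 := by
  by_contra! h
  exact h0 (by rw [expand_S hF R hp]; simp [h])

/-- The first stage. -/
theorem stage_one {p : Fin 6 → F} (hp : p ∈ R.S) (h0 : p ≠ 0) :
    ∃ g : ↥(Cfsg.SU 6 F 2), Good R g ∧ ∃ a : F, a ≠ 0 ∧ act g (R.v 0) = a • p := by
  by_cases h : hh p (R.w 0) = 0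
  · obtain ⟨k, hk⟩ := exists_coord hF R hp h0
    have hk0 : k ≠ 0 := fun e => hk (e ▸ h)
    obtain ⟨m, hm, hmS⟩ := exists_move hF R k (v_mem hF R 0) (by rw [R.vw, if_neg (Ne.symm hk0)])
    have hc : hh (act m p) (R.w 0) = hh p (R.w k) := by
      rw [hmS p hp, hh_add_left hF, hh_smul_left hF, h, R.vw, if_pos rfl, zero_add, mul_one]
    obtain ⟨g, hg, -, hg0⟩ := exists_onto hF R 0 (hm p hp).1 (hc ▸ hk)
    refine ⟨m⁻¹ * g, good_mul hF R (good_inv hF R hm) hg, _, inv_ne_zero (hc ▸ hk), ?_⟩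
    rw [act_mul, hg0, act_smul hF, act_inv]
  · obtain ⟨g, hg, -, hg0⟩ := exists_onto hF R 0 hp h
    exact ⟨g, hg, _, inv_ne_zero h, hg0⟩

/-- The second stage. -/
theorem stage_two {p q : Fin 6 → F} (hp : p ∈ R.S) (hp0 : p ≠ 0) (hq : q ∈ R.S)
    (hli : ∀ a : F, q ≠ a • p) :
    ∃ g : ↥(Cfsg.SU 6 F 2), Good R g ∧ (∃ a : F, a ≠ 0 ∧ act g (R.v 0) = a • p) ∧
      ∃ b : F, b ≠ 0 ∧ act g (R.v 1) = b • q := by
  obtain ⟨g₁, h₁, a, ha, e₁⟩ := stage_one hF R hp hp0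
  obtain ⟨q', eq'⟩ : ∃ q', q' = act g₁⁻¹ q := ⟨_, rfl⟩
  have hq' : q' ∈ R.S := eq' ▸ (h₁ q hq).2
  have hqq : act g₁ q' = q := by rw [eq', ← act_mul, mul_inv_cancel, act_one]
  have h12 : hh q' (R.w 1) ≠ 0 ∨ hh q' (R.w 2) ≠ 0 := by
    by_contra! h
    refine hli (hh q' (R.w 0) * a) ?_
    rw [← hqq, expand_S hF R hq']
    simp [Fin.sum_univ_three, h.1, h.2, act_smul hF, e₁, smul_smul, hh_add_left hF,
      hh_smul_left hF, R.vw]
  suffices ∃ m : ↥(Cfsg.SU 6 F 2), Good R m ∧ act m (R.v 0) = R.v 0 ∧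
      ∃ b : F, b ≠ 0 ∧ act m (R.v 1) = b • q' by
    obtain ⟨m, hm, m0, b, hb, m1⟩ := this
    refine ⟨g₁ * m, good_mul hF R h₁ hm, ⟨a, ha, by rw [act_mul, m0, e₁]⟩, b, hb, ?_⟩
    rw [act_mul, m1, act_smul hF, hqq]
  by_cases h : hh q' (R.w 1) = 0
  · have h2 := h12.resolve_left (not_not.2 h)
    obtain ⟨m, hm, hmS⟩ := exists_move hF R 2 (v_mem hF R 1) (by rw [R.vw, if_neg (by decide)])
    have hc : hh (act m q') (R.w 1) = hh q' (R.w 2) := by
      rw [hmS q' hq', hh_add_left hF, hh_smul_left hF, h, R.vw, if_pos rfl, zero_add, mul_one]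
    obtain ⟨g, hg, hgj, hg1⟩ := exists_onto hF R 1 (hm q' hq').1 (hc ▸ h2)
    refine ⟨m⁻¹ * g, good_mul hF R (good_inv hF R hm) hg, ?_, _, inv_ne_zero (hc ▸ h2), ?_⟩
    · rw [act_mul, hgj 0 (by decide)]
      have := hmS _ (v_mem hF R 0)
      rw [R.vw, if_neg (by decide), zero_smul, add_zero] at this
      conv_lhs => rw [← this]
      rw [act_inv]
    · rw [act_mul, hg1, act_smul hF, act_inv]
  · obtain ⟨g, hg, hgj, hg1⟩ := exists_onto hF R 1 hq' h
    exact ⟨g, hg, hgj 0 (by decide), _, inv_ne_zero h, hg1⟩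

/-- The third stage. -/
theorem stage_three {p q r : Fin 6 → F} (hp : p ∈ R.S) (hp0 : p ≠ 0) (hq : q ∈ R.S)
    (hr : r ∈ R.S) (hli : ∀ a : F, q ≠ a • p) (hli' : ∀ a b : F, r ≠ a • p + b • q) :
    ∃ g : ↥(Cfsg.SU 6 F 2), Good R g ∧ (∃ a : F, a ≠ 0 ∧ act g (R.v 0) = a • p) ∧
      (∃ b : F, b ≠ 0 ∧ act g (R.v 1) = b • q) ∧ ∃ c : F, c ≠ 0 ∧ act g (R.v 2) = c • r := by
  obtain ⟨g₁, h₁, ⟨a, ha, e₀⟩, b, hb, e₁⟩ := stage_two hF R hp hp0 hq hli
  obtain ⟨r', er'⟩ : ∃ r', r' = act g₁⁻¹ r := ⟨_, rfl⟩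
  have hr' : r' ∈ R.S := er' ▸ (h₁ r hr).2
  have hrr : act g₁ r' = r := by rw [er', ← act_mul, mul_inv_cancel, act_one]
  have h2 : hh r' (R.w 2) ≠ 0 := by
    intro h
    refine hli' (hh r' (R.w 0) * a) (hh r' (R.w 1) * b) ?_
    rw [← hrr, expand_S hF R hr']
    simp [Fin.sum_univ_three, h, act_smul hF, act_add hF, e₀, e₁, smul_smul, hh_add_left hF,
      hh_smul_left hF, R.vw]
  obtain ⟨g, hg, hgj, hg2⟩ := exists_onto hF R 2 hr' h2
  refine ⟨g₁ * g, good_mul hF R h₁ hg, ⟨a, ha, by rw [act_mul, hgj 0 (by decide), e₀]⟩,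
    ⟨b, hb, by rw [act_mul, hgj 1 (by decide), e₁]⟩, _, inv_ne_zero h2, ?_⟩
  rw [act_mul, hg2, act_smul hF, hrr]

variable {Y : Type*} [Group Y] [Finite Y] {D : Set Y} (f : ↥(Cfsg.SU 6 F 2) →* Y)
  (hf : Function.Surjective f) (hk : f.ker = Subgroup.center ↥(Cfsg.SU 6 F 2))
  (hD : Cfsg.IsThreeTranspositionGroup D)
include hf hk hD

theorem good_fix {g : ↥(Cfsg.SU 6 F 2)} (hg : Good R g) : f g ∈ setFix (Ec hF R f) := by
  rintro _ ⟨p, ⟨hp, h0⟩, rfl⟩
  exact ⟨act g p, ⟨(hg p hp).1, act_ne_zero hF g h0⟩, (conj_pt hF f g (S_iso hF R hp hp)).symm⟩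

theorem setFix_mul {E : Set Y} {g k : Y} (hg : g ∈ setFix E) (hk' : k ∈ setFix E) :
    g * k ∈ setFix E := fun e he => by
  have := hg _ (hk' e he)
  simpa [mul_assoc] using this

theorem conj_pt_smul {g : ↥(Cfsg.SU 6 F 2)} {v p : Fin 6 → F} (hv : v ∈ R.S) (hp : p ∈ R.S)
    {a : F} (ha : a ≠ 0) (e : act g v = a • p) :
    f g * pt hF f v * (f g)⁻¹ = pt hF f p := by
  rw [conj_pt hF f g (S_iso hF R hv hv), e, pt_smul hF f (S_iso hF R hp hp) ha]

/-- The elements of the span. -/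
theorem kinds {w : Y} (hw : w ∈ Subgroup.closure (Ec hF R f)) (hne : w ≠ 1) :
    w ∈ Ec hF R f ∨ w ∈ pairSet (Ec hF R f) ∨ ∃ p q r : Fin 6 → F, p ∈ R.S ∧ p ≠ 0 ∧ q ∈ R.S ∧
      r ∈ R.S ∧ (∀ a : F, q ≠ a • p) ∧ (∀ a b : F, r ≠ a • p + b • q) ∧
      w = pt hF f p * pt hF f q * pt hF f r := by
  rw [closure_Ec hF R f hf hk hD] at hw
  obtain ⟨k, hkW, rfl⟩ := hw
  have hk1 : k ≠ 1 := fun e => hne (by rw [e, map_one])
  have hran : ∀ x, act k x + x ∈ R.S := fun x => (mem_S hF R).2 fun i => by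
    have h := hh_act k x (R.v i)
    rw [(mem_WS R).1 hkW i] at h
    rw [hh_add_left hF, h, add_self hF]
  rcases invol_split hF (WS_sq hF R hkW) hk1 with ⟨p, hp, hpp, e⟩ |
      ⟨p, q, hpp, hqq, hpq, li, e⟩ | ⟨p, q, r, hpp, hqq, hrr, hpq, hpr, hqr, li, e⟩
  · left
    obtain ⟨x, -, hx⟩ := exists_hh hF (S := ⊥) (r := p) (by simpa using hp)
    have h := hran x
    rw [e, tv_act hF hpp, hx, one_smul, add_comm x, add_assoc, vec_add_self hF, add_zero] at h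
    exact ⟨p, ⟨h, hp⟩, by rw [e]; rfl⟩
  · right; left
    have hp : p ≠ 0 := fun h => one_ne_zero (α := F) (li 1 0 (by simp [h])).1
    have hq : q ≠ 0 := fun h => one_ne_zero (α := F) (li 0 1 (by simp [h])).2
    have act2 : ∀ x, act k x + x = hh x p • p + hh x q • q := fun x => by
      rw [e, act_mul, tv_act hF hpp, tv_act hF hqq, hh_add_left hF, hh_smul_left hF, hpq, mul_zero,
        add_zero]
      rw [show x + hh x p • p + hh x q • q + x = hh x p • p + hh x q • q + (x + x) by abel,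
        vec_add_self hF, add_zero]
    have hpS : p ∈ R.S := by
      obtain ⟨x, h0, hx⟩ := exists_hh hF (S := Submodule.span F {q}) (r := p) (fun h => by
        obtain ⟨a, ha⟩ := Submodule.mem_span_singleton.1 h
        exact one_ne_zero (α := F) (li 1 (-a) (by rw [one_smul, neg_smul, ha, add_neg_cancel])).1)
      have h := hran x
      rwa [act2, hx, h0 q (Submodule.subset_span rfl), one_smul, zero_smul, add_zero] at h
    have hqS : q ∈ R.S := by
      obtain ⟨x, h0, hx⟩ := exists_hh hF (S := Submodule.span F {p}) (r := q) (fun h => by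
        obtain ⟨a, ha⟩ := Submodule.mem_span_singleton.1 h
        exact one_ne_zero (α := F) (li (-a) 1 (by rw [one_smul, neg_smul, ha, neg_add_cancel])).2)
      have h := hran x
      rwa [act2, hx, h0 p (Submodule.subset_span rfl), one_smul, zero_smul, zero_add] at h
    refine ⟨pt hF f q, ⟨q, ⟨hqS, hq⟩, rfl⟩, pt hF f p, ⟨p, ⟨hpS, hp⟩, rfl⟩, fun h => ?_, ?_⟩
    · obtain ⟨a, -, ha⟩ := pt_eq hF f hk hq hqq hpp h
      exact one_ne_zero (α := F) (li (-a) 1 (by rw [one_smul, neg_smul, ha, neg_add_cancel])).2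
    · rw [e, map_mul]; rfl
  · right; right
    have hpr' := hh_symm_zero hF hpr
    have hrq := hh_symm_zero hF hqr
    have hqp := hh_symm_zero hF hpq
    have act3 : ∀ x, act k x + x = hh x p • p + hh x q • q + hh x r • r := fun x => by
      rw [e, act_mul, act_mul, tv_act hF hpp, tv_act hF hqq, tv_act hF hrr]
      simp only [hh_add_left hF, hh_smul_left hF, hpq, hpr, hqr, mul_zero, add_zero]
      rw [show x + hh x p • p + hh x q • q + hh x r • r + x =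
        hh x p • p + hh x q • q + hh x r • r + (x + x) by abel, vec_add_self hF, add_zero]
    have inS : ∀ (s t u : Fin 6 → F),
        (∀ x, act k x + x = hh x s • s + hh x t • t + hh x u • u) →
        (∀ a b : F, s ≠ a • t + b • u) → s ∈ R.S := by
      intro s t u hact hs
      obtain ⟨x, h0, hx⟩ := exists_hh hF (S := Submodule.span F {t, u}) (r := s) (fun h => by
        obtain ⟨a, b, hab⟩ := Submodule.mem_span_pair.1 h
        exact hs a b hab.symm)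
      have h := hran x
      rwa [hact, hx, h0 t (Submodule.subset_span (by simp)), h0 u (Submodule.subset_span (by simp)),
        one_smul, zero_smul, zero_smul, add_zero, add_zero] at h
    have n1 : ∀ a b : F, p ≠ a • q + b • r := fun a b h => one_ne_zero (α := F)
      (li 1 (-a) (-b) (by rw [h]; module)).1
    have n2 : ∀ a b : F, q ≠ a • p + b • r := fun a b h => one_ne_zero (α := F)
      (li (-a) 1 (-b) (by rw [h]; module)).2.1
    have n3 : ∀ a b : F, r ≠ a • p + b • q := fun a b h => one_ne_zero (α := F)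
      (li (-a) (-b) 1 (by rw [h]; module)).2.2
    have hpS := inS p q r act3 n1
    have hqS := inS q p r (fun x => by rw [act3]; abel) n2
    have hrS := inS r p q (fun x => by rw [act3]; abel) n3
    refine ⟨r, q, p, hrS, fun h => n3 0 0 (by simp [h]), hqS, hpS, fun a h => n2 0 a (by simp [h]),
      fun a b h => n1 b a (by rw [h, add_comm]), by rw [e, map_mul, map_mul]; rfl⟩

/-- Transitivity on the members. -/
theorem trans_one {a b : Y} (ha : a ∈ Ec hF R f) (hb : b ∈ Ec hF R f) :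
    ∃ g ∈ setFix (Ec hF R f), g * a * g⁻¹ = b := by
  obtain ⟨p, ⟨hp, hp0⟩, rfl⟩ := ha
  obtain ⟨q, ⟨hq, hq0⟩, rfl⟩ := hb
  obtain ⟨g, hg, x, hx, eg⟩ := stage_one hF R hp hp0
  obtain ⟨g', hg', x', hx', eg'⟩ := stage_one hF R hq hq0
  refine ⟨f (g' * g⁻¹), good_fix hF R f hf hk hD (good_mul hF R hg' (good_inv hF R hg)), ?_⟩
  have h1 := conj_pt_smul hF R f hf hk hD (v_mem hF R 0) hp hx eg
  have h2 := conj_pt_smul hF R f hf hk hD (v_mem hF R 0) hq hx' eg'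
  rw [← h1, ← h2, map_mul, map_inv]
  group

/-- Transitivity on the products of two members. -/
theorem trans_two {u v : Y} (hu : u ∈ pairSet (Ec hF R f)) (hv : v ∈ pairSet (Ec hF R f)) :
    ∃ g ∈ setFix (Ec hF R f), g * u * g⁻¹ = v := by
  have nf : ∀ w ∈ pairSet (Ec hF R f), ∃ g : ↥(Cfsg.SU 6 F 2), Good R g ∧
      f g * (pt hF f (R.v 0) * pt hF f (R.v 1)) * (f g)⁻¹ = w := by
    rintro _ ⟨_, ⟨p, ⟨hp, hp0⟩, rfl⟩, _, ⟨q, ⟨hq, hq0⟩, rfl⟩, hne, rfl⟩
    have hli : ∀ a : F, q ≠ a • p := fun a e => hne (by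
      rw [e, pt_smul hF f (S_iso hF R hp hp) (fun h => hq0 (by rw [e, h, zero_smul]))])
    obtain ⟨g, hg, ⟨x, hx, eg⟩, y, hy, eg'⟩ := stage_two hF R hp hp0 hq hli
    refine ⟨g, hg, ?_⟩
    rw [← conj_pt_smul hF R f hf hk hD (v_mem hF R 0) hp hx eg,
      ← conj_pt_smul hF R f hf hk hD (v_mem hF R 1) hq hy eg']
    group
  obtain ⟨g, hg, e⟩ := nf u hu
  obtain ⟨g', hg', e'⟩ := nf v hv
  refine ⟨f (g' * g⁻¹), good_fix hF R f hf hk hD (good_mul hF R hg' (good_inv hF R hg)), ?_⟩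
  rw [← e, ← e', map_mul, map_inv]
  group

/-- Transitivity on the other elements. -/
theorem trans_three {u v : Y} (hu : u ∈ Subgroup.closure (Ec hF R f))
    (hv : v ∈ Subgroup.closure (Ec hF R f)) (hu' : u ≠ 1 ∧ u ∉ Ec hF R f ∧ u ∉ pairSet (Ec hF R f))
    (hv' : v ≠ 1 ∧ v ∉ Ec hF R f ∧ v ∉ pairSet (Ec hF R f)) :
    ∃ g ∈ setFix (Ec hF R f), g * u * g⁻¹ = v := by
  have nf : ∀ w ∈ Subgroup.closure (Ec hF R f),
      (w ≠ 1 ∧ w ∉ Ec hF R f ∧ w ∉ pairSet (Ec hF R f)) → ∃ g : ↥(Cfsg.SU 6 F 2), Good R g ∧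
        f g * (pt hF f (R.v 0) * pt hF f (R.v 1) * pt hF f (R.v 2)) * (f g)⁻¹ = w := by
    rintro w hw ⟨h1, h2, h3⟩
    obtain ⟨p, q, r, hp, hp0, hq, hr, hli, hli', rfl⟩ :=
      ((kinds hF R f hf hk hD hw h1).resolve_left h2).resolve_left h3
    obtain ⟨g, hg, ⟨x, hx, eg⟩, ⟨y, hy, eg'⟩, z, hz, eg''⟩ :=
      stage_three hF R hp hp0 hq hr hli hli'
    refine ⟨g, hg, ?_⟩
    rw [← conj_pt_smul hF R f hf hk hD (v_mem hF R 0) hp hx eg,
      ← conj_pt_smul hF R f hf hk hD (v_mem hF R 1) hq hy eg',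
      ← conj_pt_smul hF R f hf hk hD (v_mem hF R 2) hr hz eg'']
    group
  obtain ⟨g, hg, e⟩ := nf u hu hu'
  obtain ⟨g', hg', e'⟩ := nf v hv hv'
  refine ⟨f (g' * g⁻¹), good_fix hF R f hf hk hD (good_mul hF R hg' (good_inv hF R hg)), ?_⟩
  rw [← e, ← e', map_mul, map_inv]
  group

end CfsgLib.PLocal.U6J
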