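import Cfsg.Agent.Lib.PLocal.U6JSplit
import Cfsg.Agent.Lib.Trans3.Fi.U6Clique

/-!
Maximal commuting sets of transvections of `PSU₆(2)`: their spans, the three kinds of elements in
a span, and the maximal elementary abelian 2-subgroups.
-/

set_option autoImplicit false
set_option linter.unusedSectionVars false
set_option linter.unusedSimpArgs false

namespace CfsgLib.PLocal.U6J

open CfsgLib.Trans3 CfsgLib.Trans3.Fi

variable {X : Type*} [Group X] [Finite X] {D : Set X}

/-- 21 pairwise commuting members. -/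
structure Clique (D E : Set X) : Prop where
  sub : E ⊆ D
  comm : ∀ a ∈ E, ∀ b ∈ E, Commute a b
  card : E.ncard = 21

theorem Clique.conj (hD : Cfsg.IsThreeTranspositionGroup D) {E : Set X} (hE : Clique D E) (g : X) :
    Clique D ((fun a => g * a * g⁻¹) '' E) := by
  refine ⟨?_, ?_, ?_⟩
  · rintro _ ⟨a, ha, rfl⟩
    exact hD.2.1 g a (hE.sub ha)
  · rintro _ ⟨a, ha, rfl⟩ _ ⟨b, hb, rfl⟩
    exact (commute_conj_iff g a b).2 (hE.comm a ha b hb)
  · rw [Set.ncard_image_of_injective _ fun a b e => mul_left_cancel (mul_right_cancel e), hE.card]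

variable (hU : IsU6 X) (hD : Cfsg.IsThreeTranspositionGroup D)
include hU hD

theorem u6j_frame : ∃ (F : Type) (_ : Field F) (_ : Fintype F) (hF : Fintype.card F = 2 ^ 2)
    (f : ↥(Cfsg.SU 6 F 2) →* X) (_ : Function.Surjective f)
    (_ : f.ker = Subgroup.center ↥(Cfsg.SU 6 F 2)) (R : Frame F), Clique D (Ec hF R f) := by
  obtain ⟨F, _, _, f, hF, hf, hk⟩ := exists_model hU hD
  obtain ⟨R⟩ := exists_frame hF
  exact ⟨F, _, _, hF, f, hf, hk, R, Ec_sub hF R f hf hk hD, Ec_comm hF R f hf hk hD,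
    Ec_ncard hF R f hf hk hD⟩

theorem u6j_clique_exists : ∃ E, Clique D E := by
  obtain ⟨F, _, _, hF, f, -, -, R, h⟩ := u6j_frame hU hD
  exact ⟨_, h⟩

theorem u6j_conj {E E' : Set X} (hE : Clique D E) (hE' : Clique D E') :
    ∃ g : X, (fun a => g * a * g⁻¹) '' E = E' := by
  obtain ⟨F, _, _, hF, f, hf, hk, R, -⟩ := u6j_frame hU hD
  obtain ⟨g, hg⟩ := clique_conj hF R f hf hk hD hE.sub hE.comm hE.card
  obtain ⟨g', hg'⟩ := clique_conj hF R f hf hk hD hE'.sub hE'.comm hE'.card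
  refine ⟨g'⁻¹ * g, ?_⟩
  have : (fun a => g'⁻¹ * g * a * (g'⁻¹ * g)⁻¹) '' E =
      (fun a => g'⁻¹ * a * g'⁻¹⁻¹) '' ((fun a => g * a * g⁻¹) '' E) := by
    rw [Set.image_image]
    exact Set.image_congr fun a _ => by group
  rw [this, hg, ← hg', Set.image_image]
  simp [mul_assoc]

theorem closure_conj (E : Set X) (g : X) :
    Subgroup.closure ((fun a => g * a * g⁻¹) '' E) =
      (Subgroup.closure E).map (MulAut.conj g).toMonoidHom := by
  rw [MonoidHom.map_closure]
  rfl

theorem u6j_span_card {E : Set X} (hE : Clique D E) : Nat.card (Subgroup.closure E) = 512 := by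
  obtain ⟨F, _, _, hF, f, hf, hk, R, hR⟩ := u6j_frame hU hD
  obtain ⟨g, hg⟩ := u6j_conj hU hD hR hE
  rw [← hg, closure_conj hU hD, Subgroup.card_map_of_injective (MulAut.conj g).injective,
    card_W hF R f hf hk hD]

theorem u6j_span_comm {E : Set X} (hE : Clique D E) {a : X} (ha : a ∈ Subgroup.closure E) :
    a * a = 1 ∧ ∀ b ∈ Subgroup.closure E, Commute a b := by
  have hab : Subgroup.closure E ≤ Subgroup.centralizer (Subgroup.closure E : Set X) := by
    rw [Subgroup.centralizer_closure]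
    exact (Subgroup.closure_le _).2 fun x hx => Subgroup.mem_centralizer_iff.2 fun y hy =>
      hE.comm y hy x hx
  refine ⟨?_, fun b hb => (Subgroup.mem_centralizer_iff.1 (hab hb) a ha)⟩
  induction ha using Subgroup.closure_induction with
  | mem u hu => exact Trans3.sq_one hD.1 (hE.sub hu)
  | one => exact one_mul 1
  | mul u v hu hv h1 h2 =>
    have hc : Commute v u := Subgroup.mem_centralizer_iff.1 (hab hu) v hv
    rw [hc.mul_mul_mul_comm, h1, h2, one_mul]
  | inv u _ h1 => rw [← _root_.mul_inv_rev, h1, inv_one]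

/-- The span is its own centraliser. -/
theorem u6j_centralizer {E : Set X} (hE : Clique D E) :
    Subgroup.centralizer E = Subgroup.closure E := by
  refine (Subgroup.eq_of_le_of_card_ge ?_ ?_).symm
  · exact fun a ha => Subgroup.mem_centralizer_iff.2 fun b hb =>
      ((u6j_span_comm hU hD hE ha).2 b (Subgroup.subset_closure hb)).symm.eq
  · rw [u6j_span_card hU hD hE]
    exact u6_clique_centralizer hU hD hE.sub hE.comm hE.card

theorem u6j_mem {E : Set X} (hE : Clique D E) {e : X} (he : e ∈ D) (hc : ∀ a ∈ E, Commute a e) :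
    e ∈ E := by
  by_contra hne
  have hsub : insert e E ⊆ D := Set.insert_subset he hE.sub
  have h := u6_width_le hU hD hsub (by
    rintro a (rfl | ha) b (rfl | hb)
    exacts [Commute.refl _, (hc b hb).symm, hc a ha, hE.comm a ha b hb])
  rw [Set.ncard_insert_of_notMem hne (Set.toFinite _), hE.card] at h
  omega

theorem u6j_fix_iff {E : Set X} (hE : Clique D E) {g : X} :
    g ∈ setFix E ↔ g ∈ Subgroup.normalizer (Subgroup.closure E : Set X) := by
  constructor
  · intro hg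
    have he : (fun a => g * a * g⁻¹) '' E = E :=
      Set.eq_of_subset_of_ncard_le (by rintro _ ⟨a, ha, rfl⟩; exact hg a ha)
        (by rw [(hE.conj hD g).card, hE.card]) (Set.toFinite _)
    refine Subgroup.mem_normalizer_iff.2 fun n => ?_
    conv_rhs => rw [show Subgroup.closure E =
      (Subgroup.closure E).map (MulAut.conj g).toMonoidHom by rw [← closure_conj hU hD, he]]
    exact (Subgroup.mem_map_iff_mem (f := (MulAut.conj g).toMonoidHom) (MulAut.conj g).injective).symm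
  · intro hg e he
    refine u6j_mem hU hD hE (hD.2.1 g e (hE.sub he)) fun a ha => ?_
    exact (u6j_span_comm hU hD hE (Subgroup.subset_closure ha)).2 _
      ((Subgroup.mem_normalizer_iff.1 hg e).1 (Subgroup.subset_closure he))

/-- Transitivity on each kind. -/
theorem u6j_trans {E : Set X} (hE : Clique D E) :
    (∀ a ∈ E, ∀ b ∈ E, ∃ g ∈ setFix E, g * a * g⁻¹ = b) ∧
    (∀ a ∈ pairSet E, ∀ b ∈ pairSet E, ∃ g ∈ setFix E, g * a * g⁻¹ = b) ∧
    (∀ a ∈ Subgroup.closure E, ∀ b ∈ Subgroup.closure E,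
      (a ≠ 1 ∧ a ∉ E ∧ a ∉ pairSet E) → (b ≠ 1 ∧ b ∉ E ∧ b ∉ pairSet E) →
      ∃ g ∈ setFix E, g * a * g⁻¹ = b) := by
  obtain ⟨F, _, _, hF, f, hf, hk, R, hR⟩ := u6j_frame hU hD
  obtain ⟨g, hg⟩ := u6j_conj hU hD hE hR
  have mE : ∀ {a : X}, a ∈ E ↔ g * a * g⁻¹ ∈ Ec hF R f := fun {a} =>
    ⟨fun ha => hg ▸ ⟨a, ha, rfl⟩, fun ha => by
      obtain ⟨b, hb, e⟩ := (hg.symm ▸ ha : g * a * g⁻¹ ∈ (fun a => g * a * g⁻¹) '' E)
      exact mul_left_cancel (mul_right_cancel e) ▸ hb⟩
  have mP : ∀ {a : X}, a ∈ pairSet E ↔ g * a * g⁻¹ ∈ pairSet (Ec hF R f) := fun {a} => by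
    constructor
    · rintro ⟨u, hu, v, hv, hne, rfl⟩
      exact ⟨_, mE.1 hu, _, mE.1 hv, fun e => hne (mul_left_cancel (mul_right_cancel e)), by group⟩
    · rintro ⟨u, hu, v, hv, hne, e⟩
      refine ⟨g⁻¹ * u * g, mE.2 (by simpa [mul_assoc] using hu), g⁻¹ * v * g,
        mE.2 (by simpa [mul_assoc] using hv),
        fun h => hne (mul_left_cancel (mul_right_cancel h)), ?_⟩
      rw [show a = g⁻¹ * (g * a * g⁻¹) * g by group, e]
      group
  have mW : ∀ {a : X}, a ∈ Subgroup.closure E → g * a * g⁻¹ ∈ Subgroup.closure (Ec hF R f) :=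
    fun ha => hg ▸ (closure_conj hU hD E g).symm ▸ ⟨_, ha, rfl⟩
  have mne : ∀ {a : X}, (a ≠ 1 ∧ a ∉ E ∧ a ∉ pairSet E) →
      (g * a * g⁻¹ ≠ 1 ∧ g * a * g⁻¹ ∉ Ec hF R f ∧ g * a * g⁻¹ ∉ pairSet (Ec hF R f)) :=
    fun h => ⟨fun e => h.1 (conj_eq_one_iff.1 e), fun e => h.2.1 (mE.2 e), fun e => h.2.2 (mP.2 e)⟩
  have back : ∀ {a b : X}, (∃ k ∈ setFix (Ec hF R f), k * (g * a * g⁻¹) * k⁻¹ = g * b * g⁻¹) →
      ∃ k ∈ setFix E, k * a * k⁻¹ = b := by
    rintro a b ⟨k, hk', e⟩
    refine ⟨g⁻¹ * k * g, fun u hu => mE.2 ?_, ?_⟩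
    · have := hk' _ (mE.1 hu)
      simpa [mul_assoc] using this
    · rw [show b = g⁻¹ * (g * b * g⁻¹) * g by group, ← e]
      group
  exact ⟨fun a ha b hb => back (trans_one hF R f hf hk hD (mE.1 ha) (mE.1 hb)),
    fun a ha b hb => back (trans_two hF R f hf hk hD (mP.1 ha) (mP.1 hb)),
    fun a ha b hb ha' hb' =>
      back (trans_three hF R f hf hk hD (mW ha) (mW hb) (mne ha') (mne hb'))⟩

/-- The products of two members: `210` of them, none a member. -/
theorem u6j_pairs {E : Set X} (hE : Clique D E) :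
    (pairSet E).ncard = 210 ∧ (∀ w ∈ pairSet E, w ∉ E ∧ w ≠ 1 ∧ w ∈ Subgroup.closure E) := by
  classical
  have h3 := (u6Facts hU hD).three
  have h4 := (u6Facts hU hD).four
  have sq : ∀ a ∈ E, a * a = 1 := fun a ha => Trans3.sq_one hD.1 (hE.sub ha)
  refine ⟨?_, ?_⟩
  · obtain ⟨s, hs⟩ : ∃ s : Finset X, (s : Set X) = E :=
      ⟨(Set.toFinite E).toFinset, Set.Finite.coe_toFinset _⟩
    have hs' : ∀ {a : X}, a ∈ s ↔ a ∈ E := fun {a} => by rw [← hs, Finset.mem_coe]
    have hsc : s.card = 21 := by rw [← Set.ncard_coe_finset, hs, hE.card]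
    obtain ⟨P, eP⟩ : ∃ P : Finset X, P = s.offDiag.image fun p => p.1 * p.2 := ⟨_, rfl⟩
    have hP : pairSet E = (P : Set X) := by
      ext w
      simp only [eP, pairSet, Set.mem_setOf_eq, Finset.coe_image, Set.mem_image, Finset.mem_coe,
        Finset.mem_offDiag, hs', Prod.exists]
      constructor
      · rintro ⟨a, ha, b, hb, hne, rfl⟩
        exact ⟨a, b, ⟨ha, hb, hne⟩, rfl⟩
      · rintro ⟨a, b, ⟨ha, hb, hne⟩, rfl⟩
        exact ⟨a, ha, b, hb, hne, rfl⟩
    have hfib : ∀ w ∈ P, (s.offDiag.filter fun p => p.1 * p.2 = w).card = 2 := by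
      intro w hw
      rw [eP, Finset.mem_image] at hw
      obtain ⟨⟨a, b⟩, hab, rfl⟩ := hw
      rw [Finset.mem_offDiag, hs', hs'] at hab
      obtain ⟨ha, hb, hne⟩ := hab
      rw [show (s.offDiag.filter fun p => p.1 * p.2 = a * b) = {(a, b), (b, a)} from ?_,
        Finset.card_pair (fun e => hne (congrArg Prod.fst e))]
      ext ⟨c, d⟩
      simp only [Finset.mem_filter, Finset.mem_offDiag, hs', Finset.mem_insert,
        Finset.mem_singleton, Prod.mk.injEq]
      constructor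
      · rintro ⟨⟨hc, hd, hcd⟩, e⟩
        by_cases h1 : c = a
        · exact Or.inl ⟨h1, mul_left_cancel (h1 ▸ e)⟩
        by_cases h2 : c = b
        · subst h2
          rw [(hE.comm a ha c hb).eq] at e
          exact Or.inr ⟨rfl, mul_left_cancel e⟩
        exfalso
        by_cases h5 : d = a
        · subst h5
          rw [(hE.comm d ha b hb).eq] at e
          exact h2 (mul_right_cancel e)
        by_cases h6 : d = b
        · subst h6
          exact h1 (mul_right_cancel e)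
        refine h4 [a, b, c, d] (by simp [hne, Ne.symm h1, Ne.symm h2, Ne.symm h5, Ne.symm h6, hcd]) rfl
          (fun u hu => hE.sub (by simp at hu; rcases hu with rfl | rfl | rfl | rfl <;> assumption))
          (fun u hu v hv => hE.comm u (by simp at hu; rcases hu with rfl | rfl | rfl | rfl <;> assumption)
            v (by simp at hv; rcases hv with rfl | rfl | rfl | rfl <;> assumption)) ?_
        have e2 := sq d hd
        simp only [List.prod_cons, List.prod_nil, mul_one]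
        rw [e, ← mul_assoc, (hE.comm b hb a ha).mul_mul_mul_comm, sq a ha, sq b hb, one_mul]
      · rintro (⟨rfl, rfl⟩ | ⟨rfl, rfl⟩)
        · exact ⟨⟨ha, hb, hne⟩, rfl⟩
        · exact ⟨⟨hb, ha, Ne.symm hne⟩, (hE.comm c hb d ha).eq⟩
    have h := Finset.card_eq_sum_card_image (fun p : X × X => p.1 * p.2) s.offDiag
    rw [← eP, Finset.sum_congr rfl hfib, Finset.sum_const, smul_eq_mul, Finset.offDiag_card, hsc] at h
    rw [hP, Set.ncard_coe_finset]
    omega
  · rintro _ ⟨a, ha, b, hb, hne, rfl⟩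
    refine ⟨fun hc => ?_, fun e => hne ?_, mul_mem (Subgroup.subset_closure ha) (Subgroup.subset_closure hb)⟩
    · have n1 : a ≠ a * b := fun e => invol_ne_one (hD.1.1 b (hE.sub hb)) (mul_eq_left.1 e.symm)
      have n2 : b ≠ a * b := fun e => invol_ne_one (hD.1.1 a (hE.sub ha)) (mul_eq_right.1 e.symm)
      refine h3 [a, b, a * b] (by simp [hne, n1, n2]) rfl
        (fun u hu => hE.sub (by simp at hu; rcases hu with rfl | rfl | rfl <;> assumption))
        (fun u hu v hv => hE.comm u (by simp at hu; rcases hu with rfl | rfl | rfl <;> assumption)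
          v (by simp at hv; rcases hv with rfl | rfl | rfl <;> assumption)) ?_
      simp only [List.prod_cons, List.prod_nil, mul_one]
      rw [← mul_assoc, (hE.comm b hb a ha).mul_mul_mul_comm, sq a ha, sq b hb, one_mul]
    · rw [← inv_eq_of_mul_eq_one_right (sq a ha), inv_eq_of_mul_eq_one_right e]

/-- Every involution is conjugate into a span. -/
theorem u6j_invol_mem {E : Set X} (hE : Clique D E) {x : X} (hx : x * x = 1) :
    ∃ g : X, g * x * g⁻¹ ∈ Subgroup.closure E := by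
  classical
  obtain ⟨F, _, _, hF, f, hf, hk, R, hR⟩ := u6j_frame hU hD
  obtain ⟨g, hg⟩ := u6j_conj hU hD hR hE
  suffices ∃ k : X, k * x * k⁻¹ ∈ Subgroup.closure (Ec hF R f) by
    obtain ⟨k, hk'⟩ := this
    refine ⟨g * k, ?_⟩
    rw [← hg, closure_conj hU hD]
    exact ⟨_, hk', by simp [mul_assoc]⟩
  -- a span through commuting members
  have fin : ∀ T : Set X, T ⊆ D → (∀ a ∈ T, ∀ b ∈ T, Commute a b) → x ∈ Subgroup.closure T →
      ∃ k : X, k * x * k⁻¹ ∈ Subgroup.closure (Ec hF R f) := by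
    intro T hT hTc hxT
    obtain ⟨k, hk'⟩ := conj_into hF R f hf hk hD
      (Trans3.isPGroup_two_closure_of_commute hTc fun u hu => Trans3.sq_one hD.1 (hT hu))
    refine ⟨k, ?_⟩
    have : (Subgroup.closure T).map (MulAut.conj k).toMonoidHom ≤ Subgroup.closure (Ec hF R f) := by
      rw [← closure_conj hU hD, Subgroup.closure_le]
      rintro _ ⟨a, ha, rfl⟩
      exact Subgroup.subset_closure
        (mem_Ec_of_mem hF R f hf hk hD (hD.2.1 k a (hT ha)) (hk' a (Subgroup.subset_closure ha)))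
    exact this ⟨x, hxT, rfl⟩
  by_cases h1 : x = 1
  · exact ⟨1, by simp [h1]⟩
  rcases u6_invol hU hD h1 hx with h | ⟨p, hp, q, hq, -, hpq, rfl⟩ |
      ⟨p, q, r, t₁, t₂, t₃, _, _, _, rfl, ⟨-, hm, hc, -⟩, -, -⟩
  · exact fin {x} (by simpa using h) (by simp) (Subgroup.subset_closure rfl)
  · exact fin {p, q} (by simp [Set.insert_subset_iff, hp, hq]) (by simp [hpq, hpq.symm])
      (mul_mem (Subgroup.subset_closure (by simp)) (Subgroup.subset_closure (by simp)))
  · refine fin {p, q, r} (fun u hu => hm u (by simp at hu ⊢; tauto))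
      (fun u hu v hv => hc u (by simp at hu ⊢; tauto) v (by simp at hv ⊢; tauto))
      (mul_mem (mul_mem (Subgroup.subset_closure (by simp)) (Subgroup.subset_closure (by simp)))
        (Subgroup.subset_closure (by simp)))

/-- Subgroups of exponent two. -/
theorem u6j_elem_bound {A : Subgroup X} (hA : ∀ a ∈ A, a * a = 1) : Nat.card A ≤ 512 ∧
    (Nat.card A = 512 → ∃ E, Clique D E ∧ A = Subgroup.closure E) := by
  obtain ⟨F, _, _, hF, f, hf, hk, R, hR⟩ := u6j_frame hU hD
  obtain ⟨h1, h2⟩ := elem_bound hF R f hf hk hD hA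
  refine ⟨h1, fun e => ?_⟩
  obtain ⟨g, hg⟩ := h2 e
  refine ⟨_, hR.conj hD g⁻¹, ?_⟩
  rw [closure_conj hU hD, ← hg, Subgroup.map_map,
    show ((MulAut.conj g⁻¹).toMonoidHom.comp (MulAut.conj g).toMonoidHom) = MonoidHom.id X from
      MonoidHom.ext fun a => by simp [mul_assoc], Subgroup.map_id]

/-- A 2-group holds at most one span. -/
theorem u6j_unique {E E' : Set X} (hE : Clique D E) (hE' : Clique D E') {P : Subgroup X}
    (hP : IsPGroup 2 P) (h : Subgroup.closure E ≤ P) (h' : Subgroup.closure E' ≤ P) : E = E' := by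
  refine (Set.eq_of_subset_of_ncard_le (fun e he => ?_) (by rw [hE.card, hE'.card]) (Set.toFinite _)).symm
  exact u6j_mem hU hD hE (hE'.sub he) fun a ha => Trans3.commute_of_mem_two_group hD.1 hP
    (hE.sub ha) (hE'.sub he) (h (Subgroup.subset_closure ha)) (h' (Subgroup.subset_closure he))

/-- The span does not lift compatibly with its normaliser. -/
theorem u6j_nonsplit {C : Type*} [Group C] [Finite C] {π : C →* X} {z : C} (hC : DCov π z)
    (hperf : _root_.commutator C = ⊤) {E : Set X} (hE : Clique D E)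
    (φ : ↥((Subgroup.closure E).comap π) →* ℤˣ)
    (hz : ∀ h : z ∈ (Subgroup.closure E).comap π, φ ⟨z, h⟩ = -1)
    (hinv : ∀ u (hu : u ∈ (Subgroup.closure E).comap π) (c : C), π c ∈ setFix E →
      ∀ h : c * u * c⁻¹ ∈ (Subgroup.closure E).comap π, φ ⟨_, h⟩ = φ ⟨u, hu⟩) : False := by
  obtain ⟨F, _, _, hF, f, hf, hk, R, hR⟩ := u6j_frame hU hD
  obtain ⟨g, hg⟩ := u6j_conj hU hD hR hE
  obtain ⟨c₀, hc₀⟩ := hC.surj g
  obtain ⟨W, Z₁, Z₂, t, s, eW, a1, a2, a3, a4, a5, a6, a7, a8, a9⟩ :=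
    split_data hF R f hf hk hD
  have hW : ∀ u, u ∈ W.comap π → c₀ * u * c₀⁻¹ ∈ (Subgroup.closure E).comap π := fun u hu => by
    rw [Subgroup.mem_comap, ← hg, closure_conj hU hD, map_mul, map_mul, map_inv, hc₀]
    exact ⟨π u, eW ▸ hu, rfl⟩
  let φ' : ↥(W.comap π) →* ℤˣ := MonoidHom.mk' (fun u => φ ⟨_, hW u.1 u.2⟩) fun u v => by
    rw [← map_mul]; exact congrArg φ (Subtype.ext (by simp [mul_assoc]))
  refine split_contra hC hperf a1 a2 a3 a4 a5 a6 a7 a8 a9 φ' (fun h => ?_) fun u hu c hc h => ?_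
  · have e : c₀ * z * c₀⁻¹ = z := by rw [(hC.central c₀).eq, mul_inv_cancel_right]
    have hm := hW z h
    show φ ⟨_, hm⟩ = -1
    rw [show (⟨c₀ * z * c₀⁻¹, hm⟩ : ↥((Subgroup.closure E).comap π)) = ⟨z, e ▸ hm⟩ from Subtype.ext e]
    exact hz _
  · have hn : π (c₀ * c * c₀⁻¹) ∈ setFix E := by
      intro e he
      rw [← hg] at he ⊢
      obtain ⟨a, ha, rfl⟩ := he
      refine ⟨π c * a * (π c)⁻¹, (u6j_fix_iff hU hD hR).2 (eW ▸ hc) a ha, ?_⟩
      simp only [map_mul, map_inv, hc₀]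
      group
    have he : c₀ * (c * u * c⁻¹) * c₀⁻¹ =
        c₀ * c * c₀⁻¹ * (c₀ * u * c₀⁻¹) * (c₀ * c * c₀⁻¹)⁻¹ := by group
    show φ ⟨_, hW _ h⟩ = φ ⟨_, hW u hu⟩
    rw [← hinv _ (hW u hu) _ hn (he ▸ hW _ h)]
    exact congrArg φ (Subtype.ext he)

end CfsgLib.PLocal.U6J
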