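import Cfsg.Agent.Lib.PLocal.U6JOrbit
import Cfsg.Agent.Lib.Trans3.Fi.M24Sign
import Cfsg.Agent.Lib.Trans3.Fi.DoubleCover

/-!
A perfect double cover of `PSU₆(2)` does not split over the span of a clique, compatibly with the
normaliser of the latter: otherwise a sign extends to a Sylow 2-subgroup and transfer kills
perfectness.
-/

set_option autoImplicit false
set_option linter.unusedSectionVars false
set_option linter.unusedSimpArgs false

namespace CfsgLib.PLocal.U6J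

open Matrix CfsgLib.MaxSub CfsgLib.Classical CfsgLib.Trans3.TvSU CfsgLib.Trans3.Fi

section Sign

variable {C X : Type*} [Group C] [Group X] [Finite C] {π : C →* X} {z : C}

/-- Transfer of a sign glued along two conjugates. -/
theorem split_contra (hC : DCov π z) (hperf : _root_.commutator C = ⊤) {W Z₁ Z₂ : Subgroup X}
    {t s : X} (h1 : Z₁ ≤ W.map (MulAut.conj t).toMonoidHom)
    (h1n : Z₁ ≤ Subgroup.normalizer (W : Set X)) (h1i : W ⊓ Z₁ = ⊥)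
    (h2 : Z₂ ≤ W.map (MulAut.conj s).toMonoidHom)
    (h2n : Z₂ ≤ Subgroup.normalizer (W : Set X))
    (h2t : Z₂ ≤ Subgroup.normalizer (W.map (MulAut.conj t).toMonoidHom : Set X))
    (h2z : Z₂ ≤ Subgroup.normalizer (Z₁ : Set X)) (h2i : (W ⊔ Z₁) ⊓ Z₂ = ⊥)
    (hodd : ¬ 2 ∣ (W ⊔ Z₁ ⊔ Z₂).index)
    (φ : ↥(W.comap π) →* ℤˣ) (hz : ∀ h : z ∈ W.comap π, φ ⟨z, h⟩ = -1)
    (hinv : ∀ u (hu : u ∈ W.comap π) (c : C), π c ∈ Subgroup.normalizer (W : Set X) →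
      ∀ h : c * u * c⁻¹ ∈ W.comap π, φ ⟨_, h⟩ = φ ⟨u, hu⟩) : False := by
  have kerle : ∀ H : Subgroup X, z ∈ H.comap π := fun H => by
    rw [Subgroup.mem_comap, dcov_map_z hC]; exact one_mem H
  -- the sign on a preimage of a subgroup of a conjugate of `W`
  have pull : ∀ (Z : Subgroup X) (r : X), Z ≤ W.map (MulAut.conj r).toMonoidHom →
      ∀ R : C, π R = r → ∀ b ∈ Z.comap π, R⁻¹ * b * R ∈ W.comap π := by
    intro Z r hZ R hR b hb
    obtain ⟨w, hw, e⟩ := hZ hb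
    rw [Subgroup.mem_comap, map_mul, map_mul, map_inv, hR, ← e]
    simp [mul_assoc]
    exact hw
  obtain ⟨T, hT⟩ := hC.surj t
  obtain ⟨S, hS⟩ := hC.surj s
  obtain ⟨φ₁, e₁⟩ : ∃ φ₁ : ↥(Z₁.comap π) →* ℤˣ, ∀ b (hb : b ∈ Z₁.comap π),
      φ₁ ⟨b, hb⟩ = φ ⟨_, pull Z₁ t h1 T hT b hb⟩ :=
    ⟨MonoidHom.mk' (fun b => φ ⟨_, pull Z₁ t h1 T hT b.1 b.2⟩) fun a b => by
      rw [← map_mul]; exact congrArg φ (Subtype.ext (by simp [mul_assoc])), fun b hb => rfl⟩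
  obtain ⟨φ₂, e₂⟩ : ∃ φ₂ : ↥(Z₂.comap π) →* ℤˣ, ∀ b (hb : b ∈ Z₂.comap π),
      φ₂ ⟨b, hb⟩ = φ ⟨_, pull Z₂ s h2 S hS b hb⟩ :=
    ⟨MonoidHom.mk' (fun b => φ ⟨_, pull Z₂ s h2 S hS b.1 b.2⟩) fun a b => by
      rw [← map_mul]; exact congrArg φ (Subtype.ext (by simp [mul_assoc])), fun b hb => rfl⟩
  -- on the kernel all three agree
  have onker : ∀ {H : Subgroup C} (χ : ↥H →* ℤˣ), (∀ h : z ∈ H, χ ⟨z, h⟩ = -1) →
      ∀ u (hu : u ∈ H), π u = 1 → (u = 1 ∧ χ ⟨u, hu⟩ = 1) ∨ (u = z ∧ χ ⟨u, hu⟩ = -1) := by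
    intro H χ hχ u hu h
    rcases (hC.ker u).1 h with rfl | rfl
    · exact Or.inl ⟨rfl, map_one χ⟩
    · exact Or.inr ⟨rfl, hχ hu⟩
  have zfix : ∀ R : C, R⁻¹ * z * R = z := fun R => by
    rw [mul_assoc, ← (hC.central R).eq, inv_mul_cancel_left]
  have hz1 : ∀ h : z ∈ Z₁.comap π, φ₁ ⟨z, h⟩ = -1 := fun h => by
    rw [e₁]
    have := hz (kerle W)
    convert this using 3
    exact zfix T
  have hz2 : ∀ h : z ∈ Z₂.comap π, φ₂ ⟨z, h⟩ = -1 := fun h => by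
    rw [e₂]
    have := hz (kerle W)
    convert this using 3
    exact zfix S
  have agree : ∀ {H H' : Subgroup C} (χ : ↥H →* ℤˣ) (χ' : ↥H' →* ℤˣ), (∀ h : z ∈ H, χ ⟨z, h⟩ = -1) →
      (∀ h : z ∈ H', χ' ⟨z, h⟩ = -1) → ∀ u (hu : u ∈ H) (hu' : u ∈ H'), π u = 1 →
      χ ⟨u, hu⟩ = χ' ⟨u, hu'⟩ := by
    intro H H' χ χ' hχ hχ' u hu hu' h
    rcases (hC.ker u).1 h with rfl | rfl
    · exact (map_one χ).trans (map_one χ').symm
    · rw [hχ, hχ']
  have nmem : ∀ {Z : Subgroup X} {u c : C}, π c ∈ Subgroup.normalizer (Z : Set X) →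
      u ∈ Z.comap π → c * u * c⁻¹ ∈ Z.comap π := fun hc hu => by
    rw [Subgroup.mem_comap, map_mul, map_mul, map_inv]
    exact (Subgroup.mem_normalizer_iff.1 hc _).1 hu
  have nle : ∀ {Z H : Subgroup X}, H ≤ Subgroup.normalizer (Z : Set X) →
      H.comap π ≤ Subgroup.normalizer (Z.comap π : Set C) := fun hH c hc =>
    Subgroup.mem_normalizer_iff.2 fun u =>
      ⟨fun hu => nmem (hH hc) hu, fun hu => by
        have := nmem (hH (inv_mem hc)) hu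
        simpa [mul_assoc] using this⟩
  obtain ⟨ψ, hψA, hψB⟩ := exists_glue (nle h1n) φ φ₁
    (fun u hu hb => agree φ φ₁ hz hz1 u hu hb (by
      have : π u ∈ W ⊓ Z₁ := ⟨hu, hb⟩
      rwa [h1i, Subgroup.mem_bot] at this))
    fun u hu b hb h => hinv u hu b (h1n hb) h
  have hmap : ∀ {u : C}, u ∈ W.comap π ⊔ Z₁.comap π → π u ∈ W ⊔ Z₁ := fun hu =>
    (sup_le (Subgroup.comap_mono le_sup_left) (Subgroup.comap_mono le_sup_right) :
      W.comap π ⊔ Z₁.comap π ≤ (W ⊔ Z₁).comap π) hu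
  have h2nc : Z₂.comap π ≤ Subgroup.normalizer ((W.comap π ⊔ Z₁.comap π : Subgroup C) : Set C) := by
    intro c hc
    exact Subgroup.normalizer_inf_normalizer_le_normalizer_sup _ _ (Subgroup.mem_inf.2 ⟨nle h2n hc, nle h2z hc⟩)
  have hinv2 : ∀ u (hu : u ∈ W.comap π ⊔ Z₁.comap π) b, b ∈ Z₂.comap π →
      ∀ h : b * u * b⁻¹ ∈ W.comap π ⊔ Z₁.comap π, ψ ⟨_, h⟩ = ψ ⟨u, hu⟩ := by
    intro u hu b hb h
    have hb1 : π b ∈ Subgroup.normalizer (W : Set X) := h2n hb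
    have hn : ∀ x ∈ W.comap π ⊔ Z₁.comap π, b * x * b⁻¹ ∈ W.comap π ⊔ Z₁.comap π := fun x hx =>
      (Subgroup.mem_normalizer_iff.1 (h2nc hb) x).1 hx
    let conjb : ↥(W.comap π ⊔ Z₁.comap π) →* ↥(W.comap π ⊔ Z₁.comap π) :=
      MonoidHom.mk' (fun x => ⟨b * x.1 * b⁻¹, hn x.1 x.2⟩) fun x y => Subtype.ext (by simp [mul_assoc])
    have hA : ∀ x (hx : x ∈ W.comap π), (ψ.comp conjb) ⟨x, Subgroup.mem_sup_left hx⟩ =
        ψ ⟨x, Subgroup.mem_sup_left hx⟩ := fun x hx => by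
      show ψ ⟨b * x * b⁻¹, _⟩ = _
      rw [hψA _ (nmem hb1 hx), hψA x hx, hinv x hx b hb1]
    have hB : ∀ x (hx : x ∈ Z₁.comap π), (ψ.comp conjb) ⟨x, Subgroup.mem_sup_right hx⟩ =
        ψ ⟨x, Subgroup.mem_sup_right hx⟩ := fun x hx => by
      show ψ ⟨b * x * b⁻¹, _⟩ = _
      rw [hψB _ (nmem (h2z hb) hx), hψB x hx, e₁, e₁]
      have hc : π (T⁻¹ * b * T) ∈ Subgroup.normalizer (W : Set X) := by
        rw [map_mul, map_mul, map_inv, hT]
        refine Subgroup.mem_normalizer_iff.2 fun w => ?_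
        have := Subgroup.mem_normalizer_iff.1 (h2t hb) (t * w * t⁻¹)
        have hm : ∀ v, t * v * t⁻¹ ∈ W.map (MulAut.conj t).toMonoidHom ↔ v ∈ W := fun v =>
          Subgroup.mem_map_iff_mem (f := (MulAut.conj t).toMonoidHom) (MulAut.conj t).injective
        rw [hm, show π b * (t * w * t⁻¹) * (π b)⁻¹ =
          t * (t⁻¹ * π b * t * w * (t⁻¹ * π b * t)⁻¹) * t⁻¹ by group, hm] at this
        exact this
      have h' := hinv _ (pull Z₁ t h1 T hT x hx) _ hc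
      refine Eq.trans ?_ (h' ?_)
      · exact congrArg φ (Subtype.ext (by group))
      · exact nmem hc (pull Z₁ t h1 T hT x hx)
    have key : ∀ x : ↥(W.comap π ⊔ Z₁.comap π), (ψ.comp conjb) x = ψ x := by
      intro x
      have hle : W.comap π ⊔ Z₁.comap π ≤
          ((ψ.comp conjb).eqLocus ψ).map (W.comap π ⊔ Z₁.comap π).subtype :=
        sup_le (fun y hy => Subgroup.mem_map.2 ⟨⟨y, Subgroup.mem_sup_left hy⟩, hA y hy, rfl⟩)
          fun y hy => Subgroup.mem_map.2 ⟨⟨y, Subgroup.mem_sup_right hy⟩, hB y hy, rfl⟩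
      have hx := hle x.2
      obtain ⟨y, hy, e⟩ := hx
      obtain rfl : y = x := Subtype.ext e
      exact hy
    exact key ⟨u, hu⟩
  obtain ⟨ψ', hψ', -⟩ := exists_glue h2nc ψ φ₂
    (fun u hu hb => agree ψ φ₂ (fun h => (hψA z (kerle W)).trans (hz _)) hz2 u hu hb (by
      have : π u ∈ (W ⊔ Z₁) ⊓ Z₂ := ⟨hmap hu, hb⟩
      rwa [h2i, Subgroup.mem_bot] at this))
    hinv2
  -- transfer
  obtain ⟨H, eH⟩ : ∃ H, H = W.comap π ⊔ Z₁.comap π ⊔ Z₂.comap π := ⟨_, rfl⟩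
  have hzH : z ∈ H := eH ▸ Subgroup.mem_sup_left (Subgroup.mem_sup_left (kerle W))
  obtain ⟨ξ, hξ⟩ : ∃ ξ : ↥H →* ℤˣ, ξ ⟨z, hzH⟩ = -1 := by
    subst eH
    exact ⟨ψ', (hψ' z (Subgroup.mem_sup_left (kerle W))).trans ((hψA z (kerle W)).trans (hz _))⟩
  have hidx : Odd H.index := by
    have hle : (W ⊔ Z₁ ⊔ Z₂).comap π ≤ H := by
      intro u hu
      have hm : W ⊔ Z₁ ⊔ Z₂ ≤ H.map π := by
        refine sup_le (sup_le ?_ ?_) ?_ <;> intro x hx <;> obtain ⟨c, rfl⟩ := hC.surj x <;>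
          refine ⟨c, ?_, rfl⟩ <;> rw [eH]
        exacts [Subgroup.mem_sup_left (Subgroup.mem_sup_left hx),
          Subgroup.mem_sup_left (Subgroup.mem_sup_right hx), Subgroup.mem_sup_right hx]
      obtain ⟨c, hc, e⟩ := hm hu
      rcases dcov_eq hC e.symm with e' | e' <;> rw [e']
      exacts [hc, mul_mem hc hzH]
    rw [← Nat.not_even_iff_odd, even_iff_two_dvd]
    intro h
    apply hodd
    rw [← Subgroup.index_comap_of_surjective _ hC.surj]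
    exact h.trans (Subgroup.index_dvd_of_le hle)
  haveI : H.FiniteIndex := inferInstance
  have h0 : MonoidHom.transfer ξ z = 1 :=
    Abelianization.commutator_subset_ker (MonoidHom.transfer ξ) (hperf ▸ Subgroup.mem_top z)
  rw [MonoidHom.transfer_eq_pow ξ z fun k g₀ _ => by
    rw [mul_assoc, ← ((hC.central g₀).pow_right k).eq, inv_mul_cancel_left]] at h0
  have he : ξ ⟨z ^ H.index, pow_mem hzH _⟩ = 1 := h0
  rw [show (⟨z ^ H.index, pow_mem hzH _⟩ : ↥H) = ⟨z, hzH⟩ ^ H.index from rfl, map_pow, hξ,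
    hidx.neg_one_pow] at he
  exact absurd he (by decide)

end Sign

section Model

variable {F : Type*} [Field F] [Fintype F] (hF : Fintype.card F = 2 ^ 2) (R : Frame F)
variable {Y : Type*} [Group Y] [Finite Y] {D : Set Y} (f : ↥(Cfsg.SU 6 F 2) →* Y)
  (hf : Function.Surjective f) (hk : f.ker = Subgroup.center ↥(Cfsg.SU 6 F 2))
  (hD : Cfsg.IsThreeTranspositionGroup D)
include hF hf hk hD

/-- The data for the sign. -/
theorem split_data : ∃ (W Z₁ Z₂ : Subgroup Y) (t s : Y), W = Subgroup.closure (Ec hF R f) ∧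
    Z₁ ≤ W.map (MulAut.conj t).toMonoidHom ∧ Z₁ ≤ Subgroup.normalizer (W : Set Y) ∧ W ⊓ Z₁ = ⊥ ∧
    Z₂ ≤ W.map (MulAut.conj s).toMonoidHom ∧ Z₂ ≤ Subgroup.normalizer (W : Set Y) ∧
    Z₂ ≤ Subgroup.normalizer (W.map (MulAut.conj t).toMonoidHom : Set Y) ∧
    Z₂ ≤ Subgroup.normalizer (Z₁ : Set Y) ∧ (W ⊔ Z₁) ⊓ Z₂ = ⊥ ∧ ¬ 2 ∣ (W ⊔ Z₁ ⊔ Z₂).index := by
  classical
  obtain ⟨U, eU⟩ : ∃ U, U = UT hF R := ⟨_, rfl⟩
  let zh : Multiplicative (F × F) →* ↥(Cfsg.SU 6 F 2) :=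
    MonoidHom.mk' (fun x => z hF R x.toAdd.1 x.toAdd.2) fun x y => (z_mul hF R _ _ _ _).symm
  let yh : Multiplicative F →* ↥(Cfsg.SU 6 F 2) :=
    MonoidHom.mk' (fun x => y hF R x.toAdd) fun x x' => (y_mul hF R _ _).symm
  have zval : ∀ b c, z hF R b c ∈ zh.range := fun b c => ⟨Multiplicative.ofAdd (b, c), rfl⟩
  have yval : ∀ a, y hF R a ∈ yh.range := fun a => ⟨Multiplicative.ofAdd a, rfl⟩
  have zU : zh.range ≤ U := by rintro _ ⟨x, rfl⟩; exact eU ▸ z_mem_UT hF R _ _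
  have yU : yh.range ≤ U := by rintro _ ⟨x, rfl⟩; exact eU ▸ y_mem_UT hF R _
  have wU : WS R ≤ U := eU ▸ WS_le_UT hF R
  -- the unitriangular group normalises the stabiliser
  have nWS : ∀ g ∈ U, ∀ k ∈ WS R, g * k * g⁻¹ ∈ WS R := by
    intro g hg k hk'
    rw [eU] at hg
    have hm : g * k * g⁻¹ ∈ UT hF R := mul_mem (mul_mem hg (WS_le_UT hF R hk')) (inv_mem hg)
    obtain ⟨a, b, c, h0, h1, h2⟩ := hg
    have hv := (mem_WS R).1 hk'
    have hg0 : act g⁻¹ (R.v 0) = R.v 0 := by conv_lhs => rw [← h0]; rw [act_inv]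
    intro i
    have hin : act g⁻¹ (R.v i) ∈ R.S := by
      obtain ⟨a', b', c', q0, q1, q2⟩ : g⁻¹ ∈ UT hF R := inv_mem ⟨a, b, c, h0, h1, h2⟩
      fin_cases i
      · simp only [Fin.reduceFinMk, q0]; exact v_mem hF R 0
      · simp only [Fin.reduceFinMk, q1]
        exact add_mem (v_mem hF R 1) (Submodule.smul_mem _ _ (v_mem hF R 0))
      · simp only [Fin.reduceFinMk, q2]
        exact add_mem (v_mem hF R 2) (add_mem (Submodule.smul_mem _ _ (v_mem hF R 0))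
          (Submodule.smul_mem _ _ (v_mem hF R 1)))
    have hfix : act k (act g⁻¹ (R.v i)) = act g⁻¹ (R.v i) := by
      rw [expand_S hF R hin]
      simp only [Fin.sum_univ_three, act_add hF, act_smul hF, hv]
    rw [act_mul, act_mul, hfix, ← act_mul, mul_inv_cancel, act_one]
  have toN : ∀ {H K : Subgroup ↥(Cfsg.SU 6 F 2)}, (∀ g ∈ H, ∀ k ∈ K, g * k * g⁻¹ ∈ K) →
      H.map f ≤ Subgroup.normalizer ((K.map f : Subgroup Y) : Set Y) := by
    rintro H K h _ ⟨g, hg, rfl⟩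
    refine Subgroup.mem_normalizer_iff.2 fun v => ⟨?_, fun hv => ?_⟩
    · rintro ⟨k, hk', rfl⟩
      exact ⟨_, h g hg k hk', by rw [map_mul, map_mul, map_inv]⟩
    · obtain ⟨k, hk', e⟩ := hv
      refine ⟨g⁻¹ * k * g, by simpa using h g⁻¹ (inv_mem hg) k hk', ?_⟩
      rw [map_mul, map_mul, map_inv, e]
      group
  have inter : ∀ {H K : Subgroup ↥(Cfsg.SU 6 F 2)}, H ≤ U → K ≤ U → H ⊓ K = ⊥ →
      H.map f ⊓ K.map f = ⊥ := by
    intro H K hH hK h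
    rw [eq_bot_iff]
    rintro _ ⟨⟨a, ha, rfl⟩, b, hb, e⟩
    have hba : b = a := ut_injOn hF R f hf hk hD (eU ▸ hK hb) (eU ▸ hH ha) e
    have : a ∈ H ⊓ K := ⟨ha, hba ▸ hb⟩
    rw [h, Subgroup.mem_bot] at this
    rw [Subgroup.mem_bot, this, map_one]
  -- the flips
  have flipinv : ∀ l, (flip hF R l)⁻¹ = flip hF R l := fun l =>
    inv_eq_of_mul_eq_one_right (tv_sq hF (flip_iso hF R l))
  have conjle : ∀ (g : ↥(Cfsg.SU 6 F 2)) (k : ↥(Cfsg.SU 6 F 2)), k ∈ WS R →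
      f (g * k * g⁻¹) ∈ ((WS R).map f).map (MulAut.conj (f g)).toMonoidHom := fun g k hk' =>
    ⟨f k, ⟨k, hk', rfl⟩, by simp⟩
  have yconj : ∀ a, ∃ k ∈ WS R, y hF R a = flip hF R 1 * k * (flip hF R 1)⁻¹ := fun a => by
    obtain ⟨k, hk', e⟩ := z_conj hF (R.perm (Equiv.swap 1 2)) a 0
    refine ⟨k, fun i => ?_, ?_⟩
    · have := (mem_WS (R.perm (Equiv.swap 1 2))).1 hk' (Equiv.swap 1 2 i)
      simpa [Frame.perm] using this
    · rw [flipinv, y, e]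
      simp [flip, Frame.perm]
  rw [closure_Ec hF R f hf hk hD]
  refine ⟨(WS R).map f, zh.range.map f, yh.range.map f, f (flip hF R 2), f (flip hF R 1), rfl,
    ?_, toN fun g hg k hk' => nWS g (zU hg) k hk', ?_, ?_, toN fun g hg k hk' => nWS g (yU hg) k hk',
    ?_, toN ?_, ?_, ?_⟩
  · rintro _ ⟨_, ⟨x, rfl⟩, rfl⟩
    obtain ⟨k, hk', e⟩ := z_conj hF R x.toAdd.1 x.toAdd.2
    show f (z hF R _ _) ∈ _
    rw [e]
    have h := conjle (flip hF R 2) k hk'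
    rwa [flipinv] at h
  · refine inter wU zU (eq_bot_iff.2 ?_)
    rintro _ ⟨hw, x, rfl⟩
    obtain ⟨-, hb, hc⟩ := (mem_WS_iff hF R (z_mem_UT hF R _ _)).1 hw
    obtain ⟨-, hb', hc'⟩ := upred_coord hF R (g := z hF R x.toAdd.1 x.toAdd.2) (a := 0)
      ⟨z_v0 hF R _ _, by rw [z_v1, zero_smul, add_zero], z_v2 hF R _ _⟩
    rw [Subgroup.mem_bot]
    show z hF R _ _ = 1
    rw [← hb', hb, ← hc', hc, z_zero]
  · rintro _ ⟨_, ⟨x, rfl⟩, rfl⟩
    obtain ⟨k, hk', e⟩ := yconj x.toAdd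
    show f (y hF R _) ∈ _
    rw [e]
    exact conjle _ k hk'
  · rintro _ ⟨g, ⟨x, rfl⟩, rfl⟩
    obtain ⟨a, ea⟩ : ∃ a, a = x.toAdd := ⟨_, rfl⟩
    show f (y hF R x.toAdd) ∈ _
    rw [← ea]
    obtain ⟨t, et⟩ : ∃ t, t = flip hF R 2 := ⟨_, rfl⟩
    rw [← et]
    have hs : t⁻¹ * y hF R a * t ∈ U := by
      rw [eU, et, flipinv]
      refine ⟨a, 0, 0, ?_, ?_, ?_⟩ <;>
        simp [act_mul, flip_v hF R, flip_w hF R, y_v0, y_v1, y_v2, y_w2, act_add hF, act_smul hF]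
    have hsq : y hF R a * y hF R a = 1 := y_sq hF R a
    refine Subgroup.mem_normalizer_iff.2 fun v => ⟨?_, fun hv => ?_⟩
    · rintro ⟨_, ⟨k, hk', rfl⟩, rfl⟩
      refine ⟨f (t⁻¹ * y hF R a * t * k * (t⁻¹ * y hF R a * t)⁻¹), ⟨_, nWS _ hs k hk', rfl⟩, ?_⟩
      simp only [MulEquiv.coe_toMonoidHom, MulAut.conj_apply, map_mul, map_inv]
      group
    · obtain ⟨_, ⟨k, hk', rfl⟩, e⟩ := hv
      refine ⟨f ((t⁻¹ * y hF R a * t)⁻¹ * k * (t⁻¹ * y hF R a * t)),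
        ⟨_, by simpa using nWS _ (inv_mem hs) k hk', rfl⟩, ?_⟩
      simp only [MulEquiv.coe_toMonoidHom, MulAut.conj_apply, map_mul, map_inv] at e ⊢
      rw [show v = (f (y hF R a))⁻¹ * (f (y hF R a) * v * (f (y hF R a))⁻¹) * f (y hF R a) by group,
        ← e]
      group
  · rintro _ ⟨x, rfl⟩ _ ⟨x', rfl⟩
    show y hF R x.toAdd * z hF R x'.toAdd.1 x'.toAdd.2 * (y hF R x.toAdd)⁻¹ ∈ _
    rw [inv_eq_of_mul_eq_one_right (y_sq hF R x.toAdd), y_z]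
    exact zval _ _
  · rw [← Subgroup.map_sup]
    refine inter (sup_le wU zU) yU (eq_bot_iff.2 ?_)
    rintro _ ⟨hwz, x, rfl⟩
    obtain ⟨V, eV⟩ : ∃ V : Subgroup ↥(Cfsg.SU 6 F 2),
        ∀ g, g ∈ V ↔ g ∈ UT hF R ∧ pa R g = 0 :=
      ⟨{ carrier := {g | g ∈ UT hF R ∧ pa R g = 0}
         one_mem' := ⟨one_mem _, ((mem_WS_iff hF R (one_mem _)).1 (one_mem _)).1⟩
         mul_mem' := fun {g k} hg hk' => ⟨mul_mem hg.1 hk'.1, by
           rw [(coord_mul hF R hg.1 hk'.1).1, hg.2, hk'.2, add_zero]⟩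
         inv_mem' := fun {g} hg => ⟨inv_mem hg.1, by
           have h := (coord_mul hF R hg.1 (inv_mem hg.1)).1
           rw [mul_inv_cancel, ((mem_WS_iff hF R (one_mem _)).1 (one_mem _)).1, hg.2, zero_add] at h
           exact h.symm⟩ }, fun g => Iff.rfl⟩
    have hle : WS R ⊔ zh.range ≤ V := by
      refine sup_le (fun g hg => (eV g).2 ⟨WS_le_UT hF R hg,
        ((mem_WS_iff hF R (WS_le_UT hF R hg)).1 hg).1⟩) ?_
      rintro _ ⟨x', rfl⟩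
      exact (eV _).2 ⟨z_mem_UT hF R _ _, (upred_coord hF R (g := z hF R x'.toAdd.1 x'.toAdd.2)
        ⟨z_v0 hF R _ _, by rw [z_v1, zero_smul, add_zero], z_v2 hF R _ _⟩).1⟩
    have h := ((eV _).1 (hle hwz)).2
    have h' := (upred_coord hF R (g := y hF R x.toAdd) (b := 0) (c := 0)
      ⟨y_v0 hF R _, y_v1 hF R _, by rw [y_v2]; simp⟩).1
    rw [Subgroup.mem_bot]
    show y hF R _ = 1
    rw [show x.toAdd = 0 from h'.symm.trans h, y_zero]
  · rw [← Subgroup.map_sup, ← Subgroup.map_sup]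
    have e : WS R ⊔ zh.range ⊔ yh.range = UT hF R := by
      refine le_antisymm (eU ▸ sup_le (sup_le wU zU) yU) fun g hg => ?_
      have h := decomp hF R hg
      have e : g = g * y hF R (pa R g) * z hF R (pb R g) (pc R g) * z hF R (pb R g) (pc R g) *
          y hF R (pa R g) := by
        rw [mul_assoc _ (z hF R _ _) (z hF R _ _), z_sq, mul_one, mul_assoc, y_sq, mul_one]
      rw [e]
      exact mul_mem (mul_mem (Subgroup.mem_sup_left (Subgroup.mem_sup_left h))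
        (Subgroup.mem_sup_left (Subgroup.mem_sup_right (zval _ _)))) (Subgroup.mem_sup_right (yval _))
    rw [e]
    exact ut_index hF R f hf hk hD

end Model

end CfsgLib.PLocal.U6J
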