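import Cfsg.Agent.Lib.PLocal.U6JFrame

/-!
The unitriangular subgroup of a frame of `SU₆(2)` and its root elements.
-/

set_option autoImplicit false
set_option linter.unusedSectionVars false
set_option linter.unusedSimpArgs false

namespace CfsgLib.PLocal.U6J

open Matrix CfsgLib.MaxSub CfsgLib.Classical CfsgLib.Trans3.TvSU CfsgLib.Trans3.Fi

variable {F : Type*} [Field F] [Fintype F] (hF : Fintype.card F = 2 ^ 2) (R : Frame F)
include hF

theorem flip_iso (l : Fin 3) : hh (R.v l + R.w l) (R.v l + R.w l) = 0 := by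
  simp [hh_add_left hF, hh_add_right hF, R.vv, R.ww, R.vw, wv hF R, add_self hF]

/-- The transvection exchanging `v l` and `w l`. -/
noncomputable def flip (l : Fin 3) : ↥(Cfsg.SU 6 F 2) := tv hF (R.v l + R.w l)

theorem flip_v (l i : Fin 3) : act (flip hF R l) (R.v i) = if i = l then R.w l else R.v i := by
  rw [flip, tv_act hF (flip_iso hF R l), hh_add_right hF, R.vv, R.vw, zero_add]
  by_cases h : i = l
  · subst h
    rw [if_pos rfl, if_pos rfl, one_smul, ← add_assoc, vec_add_self hF, zero_add]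
  · rw [if_neg h, if_neg h, zero_smul, add_zero]

theorem flip_w (l i : Fin 3) : act (flip hF R l) (R.w i) = if i = l then R.v l else R.w i := by
  rw [flip, tv_act hF (flip_iso hF R l), hh_add_right hF, R.ww, wv hF R, add_zero]
  by_cases h : i = l
  · subst h
    rw [if_pos rfl, if_pos rfl, one_smul, add_comm (R.v i), ← add_assoc, vec_add_self hF, zero_add]
  · rw [if_neg h, if_neg h, zero_smul, add_zero]

theorem exists_z (b c : F) : ∃ g : ↥(Cfsg.SU 6 F 2),
    (∃ k ∈ WS R, g = flip hF R 2 * k * flip hF R 2) ∧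
    act g (R.v 0) = R.v 0 ∧ act g (R.v 1) = R.v 1 ∧
    act g (R.v 2) = R.v 2 + (b • R.v 0 + c • R.v 1) ∧
    act g (R.w 0) = R.w 0 + b ^ 2 • R.w 2 ∧ act g (R.w 1) = R.w 1 + c ^ 2 • R.w 2 ∧
    act g (R.w 2) = R.w 2 := by
  obtain ⟨k, hk, -, hK⟩ := exists_kk hF R ![![0, 0, b], ![0, 0, c], ![b ^ 2, c ^ 2, 0]] (fun i j => by
    fin_cases i <;> fin_cases j <;> simp [pow_four hF])
  have h20 : ¬ ((0 : Fin 3) = 2) := by decide
  have h21 : ¬ ((1 : Fin 3) = 2) := by decide
  have hv := (mem_WS R).1 hk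
  refine ⟨_, ⟨k, hk, rfl⟩, ?_⟩
  simp only [act_mul, flip_v hF R, flip_w hF R, if_neg h20, if_neg h21, if_true, hv,
    act_w hF R hk, Fin.sum_univ_three, hK, act_add hF, act_smul hF]
  simp

/-- The root elements fixing `v 0`, `v 1`. -/
noncomputable def z (b c : F) : ↥(Cfsg.SU 6 F 2) := (exists_z hF R b c).choose

theorem z_conj (b c : F) : ∃ k ∈ WS R, z hF R b c = flip hF R 2 * k * flip hF R 2 :=
  (exists_z hF R b c).choose_spec.1

theorem z_v0 (b c : F) : act (z hF R b c) (R.v 0) = R.v 0 := (exists_z hF R b c).choose_spec.2.1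

theorem z_v1 (b c : F) : act (z hF R b c) (R.v 1) = R.v 1 := (exists_z hF R b c).choose_spec.2.2.1

theorem z_v2 (b c : F) : act (z hF R b c) (R.v 2) = R.v 2 + (b • R.v 0 + c • R.v 1) :=
  (exists_z hF R b c).choose_spec.2.2.2.1

theorem z_w0 (b c : F) : act (z hF R b c) (R.w 0) = R.w 0 + b ^ 2 • R.w 2 :=
  (exists_z hF R b c).choose_spec.2.2.2.2.1

theorem z_w1 (b c : F) : act (z hF R b c) (R.w 1) = R.w 1 + c ^ 2 • R.w 2 :=
  (exists_z hF R b c).choose_spec.2.2.2.2.2.1

theorem z_w2 (b c : F) : act (z hF R b c) (R.w 2) = R.w 2 :=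
  (exists_z hF R b c).choose_spec.2.2.2.2.2.2

theorem sq_add (b b' : F) : (b + b') ^ 2 = b ^ 2 + b' ^ 2 := by
  linear_combination add_self hF (b * b')

theorem z_mul (b c b' c' : F) : z hF R b c * z hF R b' c' = z hF R (b + b') (c + c') := by
  refine ext6 hF R (fun i => ?_) (fun i => ?_) <;> fin_cases i <;>
    simp [act_mul, act_add hF, act_smul hF, z_v0, z_v1, z_v2, z_w0, z_w1, z_w2, sq_add hF,
      add_smul] <;>
    abel

theorem z_zero : z hF R 0 0 = 1 := by
  refine ext6 hF R (fun i => ?_) (fun i => ?_) <;> fin_cases i <;>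
    simp [act_one, z_v0, z_v1, z_v2, z_w0, z_w1, z_w2]

theorem z_sq (b c : F) : z hF R b c * z hF R b c = 1 := by
  rw [z_mul, add_self hF, add_self hF, z_zero]

/-- The root elements fixing `v 0`, `v 2`. -/
noncomputable def y (a : F) : ↥(Cfsg.SU 6 F 2) := z hF (R.perm (Equiv.swap 1 2)) a 0

theorem y_v0 (a : F) : act (y hF R a) (R.v 0) = R.v 0 := by
  simpa [Frame.perm, y, show Equiv.swap (1 : Fin 3) 2 0 = 0 by decide] using
    z_v0 hF (R.perm (Equiv.swap 1 2)) a 0

theorem y_v1 (a : F) : act (y hF R a) (R.v 1) = R.v 1 + a • R.v 0 := by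
  simpa [Frame.perm, y, show Equiv.swap (1 : Fin 3) 2 0 = 0 by decide] using
    z_v2 hF (R.perm (Equiv.swap 1 2)) a 0

theorem y_v2 (a : F) : act (y hF R a) (R.v 2) = R.v 2 := by
  simpa [Frame.perm, y] using z_v1 hF (R.perm (Equiv.swap 1 2)) a 0

theorem y_w0 (a : F) : act (y hF R a) (R.w 0) = R.w 0 + a ^ 2 • R.w 1 := by
  simpa [Frame.perm, y, show Equiv.swap (1 : Fin 3) 2 0 = 0 by decide] using
    z_w0 hF (R.perm (Equiv.swap 1 2)) a 0

theorem y_w1 (a : F) : act (y hF R a) (R.w 1) = R.w 1 := by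
  simpa [Frame.perm, y] using z_w2 hF (R.perm (Equiv.swap 1 2)) a 0

theorem y_w2 (a : F) : act (y hF R a) (R.w 2) = R.w 2 := by
  simpa [Frame.perm, y] using z_w1 hF (R.perm (Equiv.swap 1 2)) a 0

theorem y_mul (a a' : F) : y hF R a * y hF R a' = y hF R (a + a') := by
  rw [y, y, y, z_mul, add_zero]

theorem y_zero : y hF R 0 = 1 := z_zero hF _

theorem y_sq (a : F) : y hF R a * y hF R a = 1 := z_sq hF _ _ _

theorem y_z (a b c : F) : y hF R a * z hF R b c * y hF R a = z hF R (b + a * c) c := by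
  refine ext6 hF R (fun i => ?_) (fun i => ?_) <;> fin_cases i <;>
    simp [act_mul, act_add hF, act_smul hF, z_v0, z_v1, z_v2, z_w0, z_w1, z_w2,
      y_v0, y_v1, y_v2, y_w0, y_w1, y_w2, sq_add hF, add_smul, mul_pow, smul_smul] <;>
    first
      | done
      | (match_scalars <;>
          first
            | ring1
            | linear_combination add_self hF a
            | linear_combination add_self hF (a ^ 2))

/-- The parameters of an element fixing the flag. -/
def Upred (g : ↥(Cfsg.SU 6 F 2)) (a b c : F) : Prop :=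
  act g (R.v 0) = R.v 0 ∧ act g (R.v 1) = R.v 1 + a • R.v 0 ∧
    act g (R.v 2) = R.v 2 + (b • R.v 0 + c • R.v 1)

theorem upred_mul {g k : ↥(Cfsg.SU 6 F 2)} {a b c a' b' c' : F} (hg : Upred R g a b c)
    (hk : Upred R k a' b' c') : Upred R (g * k) (a + a') (b + b' + a * c') (c + c') := by
  obtain ⟨g0, g1, g2⟩ := hg
  obtain ⟨k0, k1, k2⟩ := hk
  refine ⟨by rw [act_mul, k0, g0], ?_, ?_⟩
  · rw [act_mul, k1, act_add hF, act_smul hF, g0, g1, add_smul]; abel
  · rw [act_mul, k2]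
    simp only [act_add hF, act_smul hF, g0, g1, g2, smul_add, smul_smul, add_smul]
    rw [show c' * a = a * c' from mul_comm _ _]
    abel

/-- The unitriangular subgroup. -/
def UT : Subgroup ↥(Cfsg.SU 6 F 2) where
  carrier := {g | ∃ a b c, Upred R g a b c}
  one_mem' := ⟨0, 0, 0, by simp [Upred, act_one]⟩
  mul_mem' {g k} hg hk := by
    obtain ⟨a, b, c, h⟩ := hg
    obtain ⟨a', b', c', h'⟩ := hk
    exact ⟨_, _, _, upred_mul hF R h h'⟩
  inv_mem' {g} hg := by
    obtain ⟨a, b, c, h0, h1, h2⟩ := hg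
    refine ⟨a, b + a * c, c, ?_, ?_, ?_⟩
    · conv_lhs => rw [← h0]
      rw [act_inv]
    · conv_lhs => rw [show R.v 1 = act g (R.v 1 + a • R.v 0) by
        rw [act_add hF, act_smul hF, h0, h1, add_assoc, vec_add_self hF, add_zero]]
      rw [act_inv]
    · conv_lhs => rw [show R.v 2 = act g (R.v 2 + ((b + a * c) • R.v 0 + c • R.v 1)) by
        simp only [act_add hF, act_smul hF, h0, h1, h2]
        match_scalars
        · ring
        · linear_combination -add_self hF b - add_self hF (a * c)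
        · linear_combination -add_self hF c]
      rw [act_inv]

theorem WS_le_UT : WS R ≤ UT hF R := fun g hg =>
  ⟨0, 0, 0, by simp [Upred, (mem_WS R).1 hg]⟩

theorem z_mem_UT (b c : F) : z hF R b c ∈ UT hF R :=
  ⟨0, b, c, z_v0 hF R b c, by rw [z_v1, zero_smul, add_zero], z_v2 hF R b c⟩

theorem y_mem_UT (a : F) : y hF R a ∈ UT hF R :=
  ⟨a, 0, 0, y_v0 hF R a, y_v1 hF R a, by rw [y_v2]; simp⟩

/-- The coordinates. -/
def pa (g : ↥(Cfsg.SU 6 F 2)) : F := hh (act g (R.v 1)) (R.w 0)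

/-- The coordinates. -/
def pb (g : ↥(Cfsg.SU 6 F 2)) : F := hh (act g (R.v 2)) (R.w 0)

/-- The coordinates. -/
def pc (g : ↥(Cfsg.SU 6 F 2)) : F := hh (act g (R.v 2)) (R.w 1)

theorem upred_coord {g : ↥(Cfsg.SU 6 F 2)} {a b c : F} (h : Upred R g a b c) :
    pa R g = a ∧ pb R g = b ∧ pc R g = c := by
  obtain ⟨h0, h1, h2⟩ := h
  simp [pa, pb, pc, h1, h2, hh_add_left hF, hh_smul_left hF, R.vw]

theorem upred_of_mem {g : ↥(Cfsg.SU 6 F 2)} (hg : g ∈ UT hF R) :
    Upred R g (pa R g) (pb R g) (pc R g) := by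
  obtain ⟨a, b, c, h⟩ := hg
  obtain ⟨rfl, rfl, rfl⟩ := upred_coord hF R h
  exact h

theorem coord_mul {g k : ↥(Cfsg.SU 6 F 2)} (hg : g ∈ UT hF R) (hk : k ∈ UT hF R) :
    pa R (g * k) = pa R g + pa R k ∧ pb R (g * k) = pb R g + pb R k + pa R g * pc R k ∧
      pc R (g * k) = pc R g + pc R k :=
  upred_coord hF R (upred_mul hF R (upred_of_mem hF R hg) (upred_of_mem hF R hk))

theorem mem_WS_iff {g : ↥(Cfsg.SU 6 F 2)} (hg : g ∈ UT hF R) :
    g ∈ WS R ↔ pa R g = 0 ∧ pb R g = 0 ∧ pc R g = 0 := by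
  constructor
  · intro h
    exact upred_coord hF R (by simp [Upred, (mem_WS R).1 h])
  · rintro ⟨ha, hb, hc⟩
    obtain ⟨h0, h1, h2⟩ := upred_of_mem hF R hg
    intro i
    fin_cases i
    · exact h0
    · simpa [ha] using h1
    · simpa [hb, hc] using h2

/-- An element is a product along the root elements. -/
theorem decomp {g : ↥(Cfsg.SU 6 F 2)} (hg : g ∈ UT hF R) :
    g * y hF R (pa R g) * z hF R (pb R g) (pc R g) ∈ WS R := by
  obtain ⟨a, ea⟩ : ∃ a, pa R g = a := ⟨_, rfl⟩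
  obtain ⟨h0, h1, h2⟩ := upred_of_mem hF R hg
  intro i
  fin_cases i
  · simp [act_mul, z_v0, y_v0, h0]
  · simp [act_mul, z_v1, y_v1, act_add hF, act_smul hF, h0, h1, add_assoc, vec_add_self hF]
  · simp only [Fin.reduceFinMk, act_mul, z_v2, act_add hF, act_smul hF, y_v0, y_v1, y_v2, h0, h1, h2]
    match_scalars
    · ring
    · linear_combination add_self hF (pb R g) + add_self hF (pc R g * pa R g)
    · linear_combination add_self hF (pc R g)

theorem prod_coord {k : ↥(Cfsg.SU 6 F 2)} (hk : k ∈ WS R) (a b c : F) :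
    Upred R (k * z hF R b c * y hF R a) a b c := by
  have hv := (mem_WS R).1 hk
  refine ⟨?_, ?_, ?_⟩ <;>
    simp [act_mul, y_v0, y_v1, y_v2, z_v0, z_v1, z_v2, act_add hF, act_smul hF, hv]

/-- The order of the unitriangular subgroup. -/
theorem card_UT : Nat.card (UT hF R) = 2 ^ 15 := by
  let Φ : WS R × F × F × F → UT hF R := fun p =>
    ⟨p.1.1 * z hF R p.2.2.1 p.2.2.2 * y hF R p.2.1,
      ⟨_, _, _, prod_coord hF R p.1.2 p.2.1 p.2.2.1 p.2.2.2⟩⟩
  have hbij : Function.Bijective Φ := by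
    constructor
    · rintro ⟨k, a, b, c⟩ ⟨k', a', b', c'⟩ e
      have e' : k.1 * z hF R b c * y hF R a = k'.1 * z hF R b' c' * y hF R a' :=
        congrArg Subtype.val e
      obtain ⟨ha, hb, hc⟩ := upred_coord hF R (prod_coord hF R k.2 a b c)
      obtain ⟨ha', hb', hc'⟩ := upred_coord hF R (prod_coord hF R k'.2 a' b' c')
      rw [e'] at ha hb hc
      obtain rfl : a' = a := ha'.symm.trans ha
      obtain rfl : b' = b := hb'.symm.trans hb
      obtain rfl : c' = c := hc'.symm.trans hc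
      obtain rfl : k = k' := Subtype.ext (mul_right_cancel (mul_right_cancel e'))
      rfl
    · intro g
      refine ⟨(⟨_, decomp hF R g.2⟩, pa R g.1, pb R g.1, pc R g.1), Subtype.ext ?_⟩
      show g.1 * y hF R (pa R g.1) * z hF R (pb R g.1) (pc R g.1) *
        z hF R (pb R g.1) (pc R g.1) * y hF R (pa R g.1) = g.1
      rw [mul_assoc _ (z hF R _ _) (z hF R _ _), z_sq, mul_one, mul_assoc, y_sq, mul_one]
  rw [← Nat.card_congr (Equiv.ofBijective Φ hbij), Nat.card_prod, Nat.card_prod, Nat.card_prod,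
    card_WS hF, Nat.card_eq_fintype_card (α := F), hF]
  norm_num

end CfsgLib.PLocal.U6J
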