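import Cfsg.Agent.Lib.PLocal.StrongReduce

/-!
# The normal closure of `Ω₁Z(S)` in the normalizers of two functor values
-/

namespace CfsgLib.PLocal

open Subgroup

universe u

variable {G : Type u} [Group G]

/-- The normal closure of `Z` in `N`, inside `G`. -/
abbrev nclIn (Z N : Subgroup G) : Subgroup G :=
  (normalClosure ((Z.subgroupOf N : Subgroup N) : Set N)).map N.subtype

theorem conj_mem_nclIn {Z N : Subgroup G} (hZN : Z ≤ N) {n z : G} (hn : n ∈ N) (hz : z ∈ Z) :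
    n * z * n⁻¹ ∈ nclIn Z N := by
  refine ⟨(⟨n, hn⟩ : N) * ⟨z, hZN hz⟩ * (⟨n, hn⟩ : N)⁻¹, ?_, rfl⟩
  exact normalClosure_normal.conj_mem _
    (subset_normalClosure (show (⟨z, hZN hz⟩ : N) ∈ (Z.subgroupOf N : Set N) from hz)) _

theorem le_normalizer_nclIn {Z N : Subgroup G} : N ≤ normalizer (nclIn Z N : Set G) := by
  refine (Subgroup.normal_subgroupOf_iff_le_normalizer (map_subtype_le _)).1 ?_
  show ((nclIn Z N).subgroupOf N).Normal
  rw [nclIn, subgroupOf, comap_map_eq_self_of_injective N.subtype_injective]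
  exact normalClosure_normal

theorem nclIn_le {Z N B : Subgroup G} (h : ∀ n ∈ N, ∀ z ∈ Z, n * z * n⁻¹ ∈ B) :
    nclIn Z N ≤ B := by
  rw [map_le_iff_le_comap, normalClosure, closure_le]
  rintro x hx
  obtain ⟨z, hz, hzx⟩ := Group.mem_conjugatesOfSet_iff.1 hx
  obtain ⟨c, rfl⟩ := isConj_iff.1 hzx
  exact h c c.2 z hz

variable [Finite G] {p : ℕ} [Fact p.Prime]

theorem nclIn_le_nclIn (S : Sylow p G) {W₁ W₂ : ∀ (Q : Type u) [Group Q], Subgroup Q}
    (hW₁ : Cfsg.IsCharPFunctor.{u} p W₁) (hW₂ : Cfsg.IsCharPFunctor.{u} p W₂)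
    (hfac : ∀ (X : Type u) [Group X] [Finite X], IsSec X G → Constrained p X → ∀ T : Sylow p X,
      ∀ x : X, ∃ a ∈ centralizer ((Cfsg.omegaOne p ((T : Subgroup X) ⊓
          centralizer ((T : Subgroup X) : Set X)) : Subgroup X) : Set X),
        ∃ b ∈ normalizer ((Cfsg.inducedFunctor (G := X) W₁ (T : Subgroup X) : Subgroup X) : Set X),
          x = a * b)
    {Z : Subgroup G} (hZ : Z = Cfsg.omegaOne p ((S : Subgroup G) ⊓ centralizer ((S : Subgroup G) : Set G)))
    (hZ₂ : Z ≤ Cfsg.inducedFunctor (G := G) W₂ (S : Subgroup G)) :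
    nclIn Z (normalizer (Cfsg.inducedFunctor (G := G) W₂ (S : Subgroup G) : Set G)) ≤
      nclIn Z (normalizer (Cfsg.inducedFunctor (G := G) W₁ (S : Subgroup G) : Set G)) := by
  set S' : Subgroup G := (S : Subgroup G) with hS'
  have hW₁f := induced_isConjugacyFunctor (G := G) hW₁
  have hW₂f := induced_isConjugacyFunctor (G := G) hW₂
  set N₁ := normalizer (Cfsg.inducedFunctor (G := G) W₁ S' : Set G) with hN₁
  set V := Cfsg.inducedFunctor (G := G) W₂ S' with hV
  set K := normalizer (V : Set G) with hK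
  have hVS : V ≤ S' := functor_le hW₂f S.2
  have hZS : Z ≤ S' := hZ₂.trans hVS
  have hSK : S' ≤ K := le_normalizer_functor hW₂f S.2
  have hSN₁ : S' ≤ N₁ := le_normalizer_functor hW₁f S.2
  have hZcen : ∀ z ∈ Z, ∀ s ∈ S', s * z = z * s := fun z hz s hs => by
    rw [hZ] at hz
    exact mem_centralizer_iff.1 ((omegaOne_le p _).trans inf_le_right hz) s hs
  set A₂ := nclIn Z K with hA₂
  have hA₂V : A₂ ≤ V := nclIn_le fun n hn z hz => (mem_normalizer_iff.1 hn z).1 (hZ₂ hz)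
  have hA₂ab : A₂ ≤ centralizer (A₂ : Set G) := by
    refine nclIn_le fun n hn z hz => mem_centralizer_iff.2 fun a ha => ?_
    have h1 : n⁻¹ * a * n ∈ S' := hVS ((mem_normalizer_iff''.1 hn a).1 (hA₂V ha))
    calc a * (n * z * n⁻¹) = n * (n⁻¹ * a * n * z) * n⁻¹ := by group
      _ = n * (z * (n⁻¹ * a * n)) * n⁻¹ := by rw [hZcen z hz _ h1]
      _ = _ := by group
  set C₂ := centralizer (A₂ : Set G) ⊓ K with hC₂
  have hZA₂ : Z ≤ A₂ := fun z hz => by
    have h := conj_mem_nclIn (Z := Z) (N := K) (hZS.trans hSK) K.one_mem hz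
    rwa [one_mul, inv_one, mul_one] at h
  have hC₂Z : C₂ ≤ centralizer (Z : Set G) := inf_le_left.trans (centralizer_le hZA₂)
  haveI hC₂n : (C₂.subgroupOf K).Normal := by
    rw [Subgroup.normal_subgroupOf_iff_le_normalizer inf_le_right]
    intro k hk
    refine inf_normalizer_le_normalizer_inf ⟨?_, le_normalizer hk⟩
    have hkA : k ∈ normalizer (A₂ : Set G) := le_normalizer_nclIn hk
    show k ∈ normalizer ((centralizer (A₂ : Set G) : Subgroup G) : Set G)
    rw [mem_normalizer_iff]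
    intro x
    constructor
    · intro hx
      refine mem_centralizer_iff.2 fun a ha => ?_
      have h1 := mem_centralizer_iff.1 hx _ ((mem_normalizer_iff''.1 hkA a).1 ha)
      calc a * (k * x * k⁻¹) = k * (k⁻¹ * a * k * x) * k⁻¹ := by group
        _ = k * (x * (k⁻¹ * a * k)) * k⁻¹ := by rw [h1]
        _ = _ := by group
    · intro hx
      refine mem_centralizer_iff.2 fun a ha => ?_
      have h1 := mem_centralizer_iff.1 hx _ ((mem_normalizer_iff.1 hkA a).1 ha)
      calc a * x = k⁻¹ * (k * a * k⁻¹ * (k * x * k⁻¹)) * k := by group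
        _ = k⁻¹ * (k * x * k⁻¹ * (k * a * k⁻¹)) * k := by rw [h1]
        _ = _ := by group
  set D := S' ⊓ C₂ with hD
  set Y := K ⊓ normalizer (D : Set G) with hY
  have hSY : S' ≤ Y := by
    refine le_inf hSK (fun s hs => ?_)
    refine inf_normalizer_le_normalizer_inf ⟨le_normalizer hs, ?_⟩
    exact (Subgroup.normal_subgroupOf_iff_le_normalizer inf_le_right).1 hC₂n (hSK hs)
  have hA₂D : A₂ ≤ D := le_inf (hA₂V.trans hVS) (le_inf hA₂ab (hA₂V.trans le_normalizer))
  have hDY : D ≤ Y := inf_le_left.trans hSY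
  haveI hDn : (D.subgroupOf Y).Normal :=
    normal_subgroupOf_of_le_normalizer inf_le_right
  -- the section `Y / O_{p'}(Y)`
  haveI := Cfsg.pPrimeCore_normal p ↥Y
  set O := Cfsg.pPrimeCore p ↥Y with hO
  have hOcop := CfsgLib.Comp.coprime_card_pPrimeCore p ↥Y
  set π := QuotientGroup.mk' O with hπ
  have hπs : Function.Surjective π := QuotientGroup.mk'_surjective O
  let SY : Sylow p ↥Y := S.subtype hSY
  have hSYc : (SY : Subgroup ↥Y) = S'.subgroupOf Y := rfl
  have hDp : IsPGroup p (D.subgroupOf Y) := (S.2.to_le (inf_le_left : D ≤ S')).comap_subtype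
  have hconstr : Constrained p (↥Y ⧸ O) := by
    set D' := (D.subgroupOf Y).map π with hD'
    have hD'n : D'.Normal := hDn.map π hπs
    have hD'O : D' ≤ Cfsg.pCore p (↥Y ⧸ O) := CfsgLib.Solvable.le_pCore hD'n (hDp.map π)
    unfold Constrained
    refine (centralizer_le (SetLike.coe_subset_coe.2 hD'O)).trans (le_trans ?_ hD'O)
    rw [hD', ← CfsgLib.Comp.map_centralizer_eq hOcop hDp]
    set CD := centralizer ((D.subgroupOf Y : Subgroup ↥Y) : Set ↥Y) with hCD
    obtain ⟨SC, hSC⟩ := CfsgLib.Transfer.exists_sylow_eq_subgroupOf SY CD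
    have hin : ∀ x : ↥Y, x ∈ CD → (x : G) ∈ C₂ := by
      intro x hx
      refine ⟨mem_centralizer_iff.2 fun a ha => ?_, (mem_inf.1 x.2).1⟩
      exact congrArg Subtype.val (mem_centralizer_iff.1 hx ⟨a, hDY (hA₂D ha)⟩ (hA₂D ha))
    have hSCD : ∀ x ∈ (SC : Subgroup CD), (x : ↥Y) ∈ D.subgroupOf Y := fun x hx => by
      rw [hSC] at hx
      exact ⟨hx, hin x x.2⟩
    have hB : Cfsg.HasNormalPComplement p CD :=
      CfsgLib.Transfer.hasNormalPComplement_of_normalizer_le_centralizer SC fun y _ =>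
        mem_centralizer_iff.2 fun x hx => Subtype.ext (mem_centralizer_iff.1 y.2 _ (hSCD x hx))
    rw [CfsgLib.Transfer.hasNormalPComplement_iff_coprime_pResidual] at hB
    have hRn : ((Cfsg.pResidual p CD).map CD.subtype).Normal := by
      haveI := CfsgLib.Transfer.pResidual_characteristic (p := p) (G := CD)
      infer_instance
    have hRO : (Cfsg.pResidual p CD).map CD.subtype ≤ O :=
      le_sSup ⟨hRn, by rwa [card_map_of_injective CD.subtype_injective]⟩
    rintro _ ⟨x, hx, rfl⟩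
    haveI := CfsgLib.Transfer.pResidual_normal (p := p) (G := CD)
    obtain ⟨u, hu, c, hc, e⟩ := CfsgLib.Transfer.exists_mem_sylow_mul SC
      (C := Cfsg.pResidual p CD) (hC := fun _ h => CfsgLib.Transfer.mem_pResidual_of_coprime h)
      (g := ⟨x, hx⟩)
    refine ⟨u, hSCD u hu, ?_⟩
    have e' : x = (u : ↥Y) * c := congrArg Subtype.val e
    rw [e', map_mul, hπ, QuotientGroup.mk'_apply O c,
      (QuotientGroup.eq_one_iff (c : ↥Y)).2 (hRO ⟨c, hc, rfl⟩), mul_one]
  have hsec : IsSec (↥Y ⧸ O) G := ⟨Y, π, hπs⟩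
  have hinj : Set.InjOn π ((SY : Subgroup ↥Y) : Set ↥Y) := injOn_mk'_of_isPGroup hOcop SY.2
  set Wy := Cfsg.inducedFunctor (G := ↥Y) W₁ (SY : Subgroup ↥Y) with hWy
  set Zy := Cfsg.omegaOne p ((SY : Subgroup ↥Y) ⊓ centralizer ((SY : Subgroup ↥Y) : Set ↥Y)) with hZy
  have hZy' : Zy.map Y.subtype = Z := by
    rw [hZy, omegaOne_map_injective Y.subtype_injective,
      center_map_of_injOn Y.subtype Y.subtype_injective.injOn, hSYc, map_subgroupOf_eq_of_le hSY, hZ]
  have hWy' : Wy.map Y.subtype = Cfsg.inducedFunctor (G := G) W₁ S' := by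
    rw [hWy, induced_map_of_injOn hW₁ Y.subtype SY.2 Y.subtype_injective.injOn, hSYc,
      map_subgroupOf_eq_of_le hSY]
  have hWyp : IsPGroup p Wy := SY.2.to_le (functor_le (induced_isConjugacyFunctor hW₁) SY.2)
  have hfacY : ∀ y ∈ Y, ∃ c ∈ centralizer (Z : Set G), ∃ b ∈ N₁, y = c * b := by
    intro y hy
    obtain ⟨a', ha', b', hb', he⟩ := hfac _ hsec hconstr (SY.mapSurjective hπs) (π ⟨y, hy⟩)
    rw [Sylow.coe_mapSurjective, ← center_map_of_injOn π hinj,
      ← omegaOne_map_of_injOn π hinj inf_le_left,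
      ← CfsgLib.Comp.map_centralizer_eq hOcop (SY.2.to_le ((omegaOne_le p _).trans inf_le_left))] at ha'
    rw [Sylow.coe_mapSurjective, ← induced_map_of_injOn hW₁ π SY.2 hinj,
      ← CfsgLib.Comp.map_normalizer_eq hOcop hWyp] at hb'
    obtain ⟨a, ha, rfl⟩ := ha'
    obtain ⟨b, hb, rfl⟩ := hb'
    have ho : (⟨y, hy⟩ : ↥Y) * b⁻¹ * a⁻¹ ∈ O := by
      have h1 : π ((⟨y, hy⟩ : ↥Y) * b⁻¹ * a⁻¹) = 1 := by
        simp only [map_mul, map_inv]
        rw [he]
        show π a * π b * (π b)⁻¹ * (π a)⁻¹ = 1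
        group
      exact (QuotientGroup.eq_one_iff _).1 h1
    have hOZ : O ≤ centralizer ((Zy : Subgroup ↥Y) : Set ↥Y) := by
      refine ((?_ : O ≤ centralizer ((D.subgroupOf Y : Subgroup ↥Y) : Set ↥Y))).trans
        (centralizer_le (SetLike.coe_subset_coe.2 ?_))
      · rw [← commutator_eq_bot_iff_le_centralizer, eq_bot_iff,
          ← CfsgLib.Comp.inf_eq_bot_of_isPGroup hDp hOcop]
        exact le_inf (commutator_le_right O (D.subgroupOf Y)) (commutator_le_left O (D.subgroupOf Y))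
      · intro z hz
        have : (z : G) ∈ Z := hZy' ▸ mem_map_of_mem Y.subtype hz
        exact hA₂D (hZA₂ this)
    set c := (⟨y, hy⟩ : ↥Y) * b⁻¹ with hc
    have hcc : c ∈ centralizer ((Zy : Subgroup ↥Y) : Set ↥Y) := by
      have := mul_mem (hOZ ho) ha
      rwa [inv_mul_cancel_right] at this
    refine ⟨c, ?_, b, ?_, ?_⟩
    · rw [← hZy']
      exact mem_centralizer_iff.2 fun w ⟨v, hv, hw⟩ => hw ▸ congrArg Subtype.val
        (mem_centralizer_iff.1 hcc v hv)
    · rw [hN₁, ← hWy']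
      exact le_normalizer_map _ ⟨b, hb, rfl⟩
    · rw [hc]; simp
  let SK : Sylow p ↥K := S.subtype hSK
  refine nclIn_le fun k hk z hz => ?_
  obtain ⟨c, hc, n, hn, e⟩ := frattini_mul SK (C₂.subgroupOf K) (⟨k, hk⟩⁻¹ : ↥K)
  have hnY : (n : G) ∈ Y := by
    refine ⟨n.2, ?_⟩
    have h1 : ((SK : Subgroup ↥K) ⊓ C₂.subgroupOf K).map K.subtype = D := by
      rw [Subgroup.map_inf _ _ _ K.subtype_injective]
      show (S'.subgroupOf K).map K.subtype ⊓ _ = D
      rw [map_subgroupOf_eq_of_le hSK, map_subgroupOf_eq_of_le inf_le_right]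
    rw [← h1]
    exact le_normalizer_map _ ⟨n, hn, rfl⟩
  obtain ⟨a, ha, b, hb, e2⟩ := hfacY _ hnY
  have e1 : k⁻¹ = (c : G) * n := congrArg Subtype.val e
  have hfix : ((c : G) * a)⁻¹ * z * ((c : G) * a) = z := by
    have h : z * ((c : G) * a) = (c : G) * a * z := mem_centralizer_iff.1 (mul_mem (hC₂Z hc) ha) z hz
    rw [mul_assoc, h]; group
  have : k * z * k⁻¹ = b⁻¹ * z * b⁻¹⁻¹ := by
    have hk' : k = (((c : G) * a) * b)⁻¹ := by rw [mul_assoc, ← e2, ← e1, inv_inv]
    calc k * z * k⁻¹ = b⁻¹ * (((c : G) * a)⁻¹ * z * ((c : G) * a)) * b := by rw [hk']; group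
      _ = _ := by rw [hfix]; group
  rw [this]
  exact conj_mem_nclIn (hZS.trans hSN₁) (inv_mem hb) hz

end CfsgLib.PLocal
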