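import Mathlib
import Cfsg.Agent.Lib.Complement.Functors
import Cfsg.Agent.Lib.PLocal.ClosedControl

/-!
# The elementary `Z(J)` as a functor controlling fusion
-/

set_option autoImplicit false

namespace CfsgLib.PLocal

open Subgroup

universe u

variable {p : ℕ} [hp : Fact p.Prime]

/-- `Z(J_e(Q))` as a functor on groups. -/
def zjElemFunctor (p : ℕ) (Q : Type u) [Group Q] : Subgroup Q :=
  Cfsg.centerThompsonOf p (⊤ : Subgroup Q)

omit hp in
theorem inducedFunctor_zjElem {G : Type u} [Group G] (P : Subgroup G) :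
    Cfsg.inducedFunctor (G := G) (fun Q _ => zjElemFunctor p Q) P = Cfsg.centerThompsonOf p P := by
  show (Cfsg.centerThompsonOf p (⊤ : Subgroup P)).map P.subtype = _
  rw [OddLocal.centerThompsonOf_map _ (fun x _ hx => P.subtype_injective (hx.trans (map_one _).symm)),
    ← MonoidHom.range_eq_map, range_subtype]

theorem zjElemFunctor_isCharPFunctor :
    Cfsg.IsCharPFunctor.{u} p (fun (Q : Type u) [Group Q] => zjElemFunctor p Q) := by
  refine ⟨fun Q _ _ hQ hne => ?_, fun Q R _ _ _ _ φ => ?_⟩
  · have htop : (⊤ : Subgroup Q) ≠ ⊥ := fun h => by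
      haveI := hne
      exact bot_ne_top h.symm
    exact (CfsgLib.Complement.centerThompsonFunctor.{u} p).core_ne_bot (⊤ : Subgroup Q)
      (hQ.to_subgroup ⊤) htop
  · show (Cfsg.centerThompsonOf p (⊤ : Subgroup Q)).map φ.toMonoidHom = _
    rw [OddLocal.centerThompsonOf_map φ.toMonoidHom
      (fun x _ hx => φ.injective (hx.trans (map_one _).symm)), map_top_of_surjective _ φ.surjective]
    rfl

/-- In a `Qd(p)`-free group the elementary `Z(J(P))` controls strong fusion. -/
theorem controls_centerThompsonOf {G : Type u} [Group G] [Finite G] (h2 : p ≠ 2)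
    (hno : ∀ (K : Subgroup G) (f : K →* ↥(Cfsg.qd p)), ¬ Function.Surjective f) (P : Sylow p G) :
    ∀ A : Set G, A ⊆ (P : Subgroup G) → Cfsg.ControlsStrongFusionOf
      (normalizer (Cfsg.centerThompsonOf p (P : Subgroup G) : Set G)) (P : Subgroup G) A := by
  have h := controls_closed h2 hno zjElemFunctor_isCharPFunctor
    (fun H _ _ R E hE hno' hc => by
      rw [inducedFunctor_zjElem]
      exact centerThompsonOf_closed_normal h2 hc
        (fun B _ hB => isPStableOn_of_no_qd h2 hno' B hB) R hE) P (stronglyClosed_self _)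
  rwa [inducedFunctor_zjElem] at h

end CfsgLib.PLocal
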