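import Mathlib
import Cfsg.Prelude.Def_EvenType
import Cfsg.Agent.Lib.PLocal.ControlAbove

/-!
# A minimal local subgroup in which a subgroup fails to control strong fusion

For subgroups `T` of a Sylow subgroup `S` we compare the pairs `(|N_S(T)|, |T|)` lexicographically.
A failing subgroup `U` maximal for this order is fully normalized and contains `C_S(U)`.
-/

set_option autoImplicit false

namespace CfsgLib.PLocal.ZJFail

open Subgroup

universe u

variable {G : Type u} [Group G]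

theorem normalizer_le_normalizer_centralizer (U : Subgroup G) :
    normalizer (U : Set G) ≤ normalizer ((centralizer (U : Set G) : Subgroup G) : Set G) := by
  have key : ∀ y ∈ normalizer (U : Set G), ∀ z ∈ centralizer (U : Set G),
      y * z * y⁻¹ ∈ centralizer (U : Set G) := fun y hy z hz => mem_centralizer_iff.2 fun u hu => by
    have h1 := mem_centralizer_iff.1 hz _ ((mem_normalizer_iff''.1 hy u).1 hu)
    calc u * (y * z * y⁻¹) = y * (y⁻¹ * u * y * z) * y⁻¹ := by group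
      _ = y * (z * (y⁻¹ * u * y)) * y⁻¹ := by rw [h1]
      _ = _ := by group
  intro y hy
  refine mem_normalizer_iff.2 fun z => ⟨key y hy z, fun h => ?_⟩
  have := key y⁻¹ (inv_mem hy) _ h
  simpa [mul_assoc] using this

/-- Some element of `H` induces on `U` the same map as `x`. -/
def AgreesOn (H U : Subgroup G) (x : G) : Prop :=
  ∃ h ∈ H, ∀ u ∈ U, h * u * h⁻¹ = x * u * x⁻¹

theorem AgreesOn.mono {H U T : Subgroup G} {x : G} (h : AgreesOn H U x) (hT : T ≤ U) :
    AgreesOn H T x := by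
  obtain ⟨k, hk, he⟩ := h
  exact ⟨k, hk, fun t ht => he t (hT ht)⟩

theorem agreesOn_of_mem {H : Subgroup G} (U : Subgroup G) {x : G} (hx : x ∈ H) : AgreesOn H U x :=
  ⟨x, hx, fun _ _ => rfl⟩

/-- The elements of `N(U)` agreeing on `U` with an element of `H`. -/
def agreeGroup (H U : Subgroup G) : Subgroup G where
  carrier := {x | x ∈ normalizer (U : Set G) ∧ AgreesOn H U x}
  one_mem' := ⟨one_mem _, agreesOn_of_mem U H.one_mem⟩
  mul_mem' := by
    rintro x y ⟨hx, h, hh, he⟩ ⟨hy, k, hk, hf⟩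
    refine ⟨mul_mem hx hy, h * k, H.mul_mem hh hk, fun u hu => ?_⟩
    rw [show h * k * u * (h * k)⁻¹ = h * (k * u * k⁻¹) * h⁻¹ by group, hf u hu,
      he _ ((mem_normalizer_iff.1 hy u).1 hu)]
    group
  inv_mem' := by
    rintro x ⟨hx, h, hh, he⟩
    refine ⟨inv_mem hx, h⁻¹, H.inv_mem hh, fun u hu => ?_⟩
    have h1 := he _ ((mem_normalizer_iff.1 (inv_mem hx) u).1 hu)
    have h2 : h * (x⁻¹ * u * x⁻¹⁻¹) * h⁻¹ = u := by rw [h1]; group
    calc h⁻¹ * u * h⁻¹⁻¹ = h⁻¹ * (h * (x⁻¹ * u * x⁻¹⁻¹) * h⁻¹) * h := by rw [h2, inv_inv]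
      _ = _ := by group

theorem centralizer_le_agreeGroup (H U : Subgroup G) :
    centralizer (U : Set G) ≤ agreeGroup H U := fun x hx =>
  ⟨centralizer_le_normalizer _ hx, 1, H.one_mem, fun u hu => by
    rw [← mem_centralizer_iff.1 hx u hu]; group⟩

/-- `T` is above `U` in the lexicographic order of `(|N_S(T)|, |T|)`. -/
def Above (S U T : Subgroup G) : Prop :=
  Nat.card ↥(S ⊓ normalizer (U : Set G)) < Nat.card ↥(S ⊓ normalizer (T : Set G)) ∨
    (Nat.card ↥(S ⊓ normalizer (U : Set G)) ≤ Nat.card ↥(S ⊓ normalizer (T : Set G)) ∧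
      Nat.card U < Nat.card T)

/-- The failing configuration. -/
structure Setting (p : ℕ) (S H U L : Subgroup G) : Prop where
  le : U ≤ S
  sylowH : S ≤ H
  pgroup : IsPGroup p S
  norm : L ≤ normalizer (U : Set G)
  cent : centralizer (U : Set G) ≤ L
  sylow_le : S ⊓ normalizer (U : Set G) ≤ L
  sylow : SylowIn p (S ⊓ normalizer (U : Set G)) (normalizer (U : Set G))
  scent : S ⊓ centralizer (U : Set G) ≤ U
  not_agree : ∃ x ∈ L, ¬ AgreesOn H U x
  minimal : ∀ L' : Subgroup G, L' ≤ L → S ⊓ normalizer (U : Set G) ≤ L' →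
    centralizer (U : Set G) ≤ L' → (∃ x ∈ L, x ∉ L') → ∀ x ∈ L', AgreesOn H U x
  good : ∀ T : Subgroup G, T ≤ S → Above S U T → ∀ x ∈ normalizer (T : Set G), AgreesOn H T x

/-- A chain through good subgroups is realised in `H`. -/
theorem exists_agree_of_chain [Finite G] {H : Subgroup G} {𝓕 : Set (Subgroup G)} {A : Set G}
    {g : G} (hc : RChain 𝓕 A g)
    (hgood : ∀ T ∈ 𝓕, A.ncard ≤ Nat.card T → ∀ x ∈ normalizer (T : Set G), AgreesOn H T x) :
    ∃ h ∈ H, ∀ a ∈ A, h⁻¹ * a * h = g⁻¹ * a * g := by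
  induction hc with
  | nil A => exact ⟨1, H.one_mem, fun a _ => by simp⟩
  | @step A T x g hT hx hA _ ih =>
    have hcard : (rconj x A).ncard = A.ncard := Set.ncard_image_of_injective A fun a b hab =>
      mul_left_cancel (mul_right_cancel hab)
    have hAT : A.ncard ≤ Nat.card T := by
      rw [← Nat.card_coe_set_eq]
      exact Nat.card_le_card_of_injective (fun a => (⟨a, hA a.2⟩ : T)) fun a b hab =>
        Subtype.ext (congrArg Subtype.val hab :)
    obtain ⟨k, hk, hke⟩ := ih fun T' hT' hle => hgood T' hT' (hcard ▸ hle)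
    obtain ⟨h, hh, he⟩ := hgood T hT hAT x⁻¹ (inv_mem hx)
    refine ⟨h⁻¹ * k, H.mul_mem (H.inv_mem hh) hk, fun a ha => ?_⟩
    have h1 := he a (hA ha)
    have h2 := hke (x⁻¹ * a * x) ⟨a, ha, rfl⟩
    rw [inv_inv] at h1
    calc (h⁻¹ * k)⁻¹ * a * (h⁻¹ * k) = k⁻¹ * (h * a * h⁻¹) * k := by group
      _ = g⁻¹ * (x⁻¹ * a * x) * g := by rw [h1, h2]
      _ = _ := by group

variable {p : ℕ} [hp : Fact p.Prime]

/-- A failure of control of strong fusion gives the configuration. -/
theorem exists_setting [Finite G] (S : Sylow p G) {H : Subgroup G}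
    (hH : normalizer ((S : Subgroup G) : Set G) ≤ H) {A : Set G}
    (hA : A ⊆ (S : Subgroup G))
    (hfail : ¬ Cfsg.ControlsStrongFusionOf H (S : Subgroup G) A) :
    ∃ U L : Subgroup G, Setting p (S : Subgroup G) H U L := by
  classical
  set P : Subgroup G := (S : Subgroup G) with hP
  have hPp : IsPGroup p P := S.2
  let 𝓑 : Set (Subgroup G) :=
    {T | T ≤ P ∧ ∃ x ∈ normalizer (T : Set G), ¬ AgreesOn H T x}
  have hne : 𝓑.Nonempty := by
    by_contra hemp
    refine hfail ⟨hA, fun g hg => ?_⟩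
    have hc := rchain_of_exists_good S (𝓕 := fullNormSet p P) (fun U hU => hU.1)
      (fun T hT => exists_fullNormalized S hT) A g⁻¹ hA (by
        rintro _ ⟨a, ha, rfl⟩
        exact hg ⟨a, ha, by simp⟩)
    obtain ⟨h, hh, he⟩ := exists_agree_of_chain (H := H) hc fun T hT _ x hx =>
      by_contra fun hn => hemp ⟨T, hT.1, x, hx, hn⟩
    exact ⟨h⁻¹, H.inv_mem hh, fun a ha => by have := he a ha; simpa using this.symm⟩
  let key : Subgroup G → ℕ := fun T =>
    Nat.card ↥(P ⊓ normalizer (T : Set G)) * (Nat.card G + 1) + Nat.card T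
  obtain ⟨U, ⟨hUP, x₀, hx₀, hx₀n⟩, hmax⟩ := Set.exists_max_image 𝓑 key (Set.toFinite _) hne
  have hgood : ∀ T : Subgroup G, T ≤ P → Above P U T →
      ∀ x ∈ normalizer (T : Set G), AgreesOn H T x := by
    intro T hT hab x hx
    by_contra hn
    have h1 := hmax T ⟨hT, x, hx, hn⟩
    have h2 := U.card_le_card_group
    simp only [key] at h1
    rcases hab with h | ⟨h, h'⟩
    · have := Nat.mul_le_mul_right (Nat.card G + 1) (Nat.succ_le_of_lt h)
      rw [Nat.succ_mul] at this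
      omega
    · have := Nat.mul_le_mul_right (Nat.card G + 1) h
      omega
  -- `U` is fully normalized
  have hfull : U ∈ fullNormSet p P := by
    refine ⟨hUP, fun hdvd => ?_⟩
    obtain ⟨U', hU', ⟨a, ha⟩, hidx⟩ := exists_fullNormalized S hUP
    obtain ⟨b, hb, hle⟩ := exists_conj_carry hPp ha hidx
    set N₀ := P ⊓ normalizer (U : Set G) with hN₀
    have hlt : Nat.card N₀ < Nat.card ↥(P ⊓ normalizer (U' : Set G)) := by
      refine lt_of_not_ge fun hge => ?_
      have h1 : conjMap b N₀ = P ⊓ normalizer (U' : Set G) :=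
        eq_of_le_of_card_ge hle (by rw [card_conjMap]; exact hge)
      have h2 := ((sylowIn_inf_normalizer_iff hPp).2 hidx).conj b⁻¹
      rw [← h1, conjMap_inv_conjMap, ← hb, ← conjMap_normalizer, conjMap_inv_conjMap] at h2
      exact h2.2.2 hdvd
    have hgU' := hgood U' hU'.1 (Or.inl hlt)
    have hU0 : U ≤ N₀ := le_inf hUP le_normalizer
    have hc := rchain_of_exists_good S (𝓕 := fullNormSet p P) (fun U hU => hU.1)
      (fun T hT => exists_fullNormalized S hT) (N₀ : Set G) b⁻¹ (fun y hy => hy.1) (by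
        rintro _ ⟨y, hy, rfl⟩
        exact (hle ⟨y, hy, by simp⟩).1)
    obtain ⟨h, hh, he⟩ := exists_agree_of_chain (H := H) hc fun T hT hTc x hx => by
      rw [← Nat.card_coe_set_eq] at hTc
      rcases eq_or_lt_of_le hT.1 with hTP | hTP
      · exact agreesOn_of_mem T (hH (hTP ▸ hx))
      · exact hgood T hT.1 (Or.inl (lt_of_le_of_lt hTc (card_lt_card_inf_normalizer hPp hTP))) x hx
    have hbU : ∀ u ∈ U, h⁻¹ * u * h = b * u * b⁻¹ := fun u hu => by
      simpa using he u (hU0 hu)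
    have hk : b * x₀ * b⁻¹ ∈ normalizer (U' : Set G) := by
      rw [← hb, ← conjMap_normalizer]; exact conj_mem_conjMap hx₀
    obtain ⟨k, hkH, hke⟩ := hgU' _ hk
    refine hx₀n ⟨h * k * h⁻¹, H.mul_mem (H.mul_mem hh hkH) (H.inv_mem hh), fun u hu => ?_⟩
    have h1 := hke _ (hb ▸ conj_mem_conjMap hu)
    have h2 := hbU _ ((mem_normalizer_iff.1 hx₀ u).1 hu)
    calc h * k * h⁻¹ * u * (h * k * h⁻¹)⁻¹ = h * (k * (h⁻¹ * u * h) * k⁻¹) * h⁻¹ := by group
      _ = h * (b * x₀ * b⁻¹ * (b * u * b⁻¹) * (b * x₀ * b⁻¹)⁻¹) * h⁻¹ := by rw [hbU u hu, h1]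
      _ = h * (h⁻¹ * (x₀ * u * x₀⁻¹) * h) * h⁻¹ := by rw [h2]; group
      _ = _ := by group
  have hsyl : SylowIn p (P ⊓ normalizer (U : Set G)) (normalizer (U : Set G)) :=
    (sylowIn_inf_normalizer_iff hPp).2 hfull.2
  have hscent : P ⊓ centralizer (U : Set G) ≤ U := by
    by_contra hn
    set T := U ⊔ P ⊓ centralizer (U : Set G) with hT
    have hTP : T ≤ P := sup_le hUP inf_le_left
    have hlt : Nat.card U < Nat.card T :=
      lt_of_le_of_ne (card_le_of_le le_sup_left) fun he =>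
        hn ((le_sup_right : P ⊓ centralizer (U : Set G) ≤ T).trans
          (eq_of_le_of_card_ge le_sup_left he.ge).ge)
    have hN : P ⊓ normalizer (U : Set G) ≤ P ⊓ normalizer (T : Set G) := by
      refine le_inf inf_le_left fun y hy => ?_
      rw [← conjMap_eq_self_iff]
      show Subgroup.map _ (U ⊔ P ⊓ centralizer (U : Set G)) = U ⊔ P ⊓ centralizer (U : Set G)
      rw [Subgroup.map_sup, Subgroup.map_inf _ _ _ (MulAut.conj y).injective]
      rw [show U.map (MulAut.conj y).toMonoidHom = U from conjMap_eq_self_iff.2 hy.2,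
        show P.map (MulAut.conj y).toMonoidHom = P from conjMap_eq_self_iff.2 (le_normalizer hy.1)]
      congr 2
      exact conjMap_eq_self_iff.2 (normalizer_le_normalizer_centralizer U hy.2)
    obtain ⟨n, hn', hne⟩ := exists_normalizer_join_centralizer S hfull hx₀
    obtain ⟨h, hh, he⟩ := hgood T hTP (Or.inr ⟨card_le_of_le hN, hlt⟩) n hn'
    exact hx₀n ⟨h, hh, fun u hu => (he u (le_sup_left (α := Subgroup G) hu)).trans (hne u hu)⟩
  let 𝓛 : Set (Subgroup G) := {L | L ≤ normalizer (U : Set G) ∧ centralizer (U : Set G) ≤ L ∧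
    P ⊓ normalizer (U : Set G) ≤ L ∧ ∃ x ∈ L, ¬ AgreesOn H U x}
  obtain ⟨L, ⟨hL1, hL2, hL3, hL4⟩, hLmin⟩ := Set.exists_min_image 𝓛 (fun L => Nat.card L)
    (Set.toFinite _) ⟨normalizer (U : Set G), le_rfl, centralizer_le_normalizer _, inf_le_right,
      x₀, hx₀, hx₀n⟩
  refine ⟨U, L, hUP, le_normalizer.trans hH, hPp, hL1, hL2, hL3, hsyl, hscent, hL4, fun L' hle hR hC hne x hx => ?_, hgood⟩
  by_contra hn
  have := hLmin L' ⟨hle.trans hL1, hC, hR, x, hx, hn⟩
  obtain ⟨y, hy, hyn⟩ := hne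
  exact hyn (eq_of_le_of_card_ge hle this ▸ hy)

end CfsgLib.PLocal.ZJFail
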