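import Mathlib
import Cfsg.Agent.Lib.PLocal.ZJFailLocal
import Cfsg.Agent.Lib.PLocal.Section
import Cfsg.Agent.Lib.OddLocal.Stab
import Cfsg.Agent.Lib.ClassK.PushCL

/-!
# Layers of a failing configuration, and the case of a subgroup not contained in `U`
-/

set_option autoImplicit false

namespace CfsgLib.PLocal.ZJFail

open Subgroup
open scoped commutatorElement Pointwise

universe u

variable {G : Type u} [Group G]

/-- The elements of `L` acting trivially on `X` modulo `X₁`. -/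
def modKer (L X X₁ : Subgroup G) : Subgroup G where
  carrier := {x | x ∈ L ∧ x ∈ normalizer (X₁ : Set G) ∧ ∀ v ∈ X, x * v * x⁻¹ * v⁻¹ ∈ X₁}
  one_mem' := ⟨one_mem _, one_mem _, fun v _ => by simp⟩
  mul_mem' := by
    rintro x y ⟨hx, hxn, hxt⟩ ⟨hy, hyn, hyt⟩
    refine ⟨mul_mem hx hy, mul_mem hxn hyn, fun v hv => ?_⟩
    rw [show x * y * v * (x * y)⁻¹ * v⁻¹ =
      (x * (y * v * y⁻¹ * v⁻¹) * x⁻¹) * (x * v * x⁻¹ * v⁻¹) by group]
    exact mul_mem ((mem_normalizer_iff.1 hxn _).1 (hyt v hv)) (hxt v hv)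
  inv_mem' := by
    rintro x ⟨hx, hxn, hxt⟩
    refine ⟨inv_mem hx, inv_mem hxn, fun v hv => ?_⟩
    rw [show x⁻¹ * v * x⁻¹⁻¹ * v⁻¹ = x⁻¹ * (x * v * x⁻¹ * v⁻¹)⁻¹ * x⁻¹⁻¹ by group]
    exact (mem_normalizer_iff.1 (inv_mem hxn) _).1 (inv_mem (hxt v hv))

theorem modKer_le (L X X₁ : Subgroup G) : modKer L X X₁ ≤ L := fun _ h => h.1

theorem modKer_normalized {L X X₁ : Subgroup G} (hX : L ≤ normalizer (X : Set G))
    (hX₁ : L ≤ normalizer (X₁ : Set G)) {g x : G} (hg : g ∈ L) (hx : x ∈ modKer L X X₁) :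
    g * x * g⁻¹ ∈ modKer L X X₁ := by
  refine ⟨L.mul_mem (L.mul_mem hg hx.1) (L.inv_mem hg),
    mul_mem (mul_mem (hX₁ hg) hx.2.1) (inv_mem (hX₁ hg)), fun v hv => ?_⟩
  rw [show g * x * g⁻¹ * v * (g * x * g⁻¹)⁻¹ * v⁻¹ =
    g * (x * (g⁻¹ * v * g) * x⁻¹ * (g⁻¹ * v * g)⁻¹) * g⁻¹ by group]
  exact (mem_normalizer_iff.1 (hX₁ hg) _).1
    (hx.2.2 _ ((mem_normalizer_iff''.1 (hX hg) v).1 hv))

theorem le_normalizer_of_conj [Finite G] {L N : Subgroup G}
    (h : ∀ g ∈ L, ∀ x ∈ N, g * x * g⁻¹ ∈ N) : L ≤ normalizer (N : Set G) := fun g hg => by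
  refine mem_normalizer_iff.2 fun x => ⟨h g hg x, fun hx => ?_⟩
  have := h g⁻¹ (L.inv_mem hg) _ hx
  simpa [mul_assoc] using this

theorem centralizer_le_modKer {L U X X₁ : Subgroup G} (hC : centralizer (U : Set G) ≤ L)
    (hXU : X ≤ U) (hX₁ : L ≤ normalizer (X₁ : Set G)) :
    centralizer (U : Set G) ≤ modKer L X X₁ := fun x hx =>
  ⟨hC hx, hX₁ (hC hx), fun v hv => by
    rw [← mem_centralizer_iff.1 hx v (hXU hv)]; simp⟩

variable [Finite G] {p : ℕ} [hp : Fact p.Prime]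

/-- An element of order prime to `p` of a group `N R`, `N` normal and `R` a `p`-group, lies in `N`. -/
theorem mem_of_coprime_of_sup {L N R : Subgroup G} (hR : IsPGroup p R)
    (hRN : R ≤ normalizer (N : Set G)) (hcov : L ≤ N ⊔ R) {x : G} (hx : x ∈ L)
    (hcop : (orderOf x).Coprime p) : x ∈ N := by
  obtain ⟨n, hn, r, hr, hnr⟩ : x ∈ (N : Set G) * (R : Set G) := by
    rw [← coe_mul_of_right_le_normalizer_left N R hRN]; exact hcov hx
  obtain ⟨k, hk⟩ := hR ⟨r, hr⟩
  have hk' : r ^ p ^ k = 1 := by simpa using congrArg Subtype.val hk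
  -- powers of `n r` are `r`-powers modulo `N`
  have key : ∀ i : ℕ, (n * r) ^ i * (r ^ i)⁻¹ ∈ N := by
    intro i
    induction i with
    | zero => simp
    | succ i ih =>
      have e : (n * r) ^ (i + 1) * (r ^ (i + 1))⁻¹ =
          ((n * r) ^ i * (r ^ i)⁻¹) * (r ^ i * n * (r ^ i)⁻¹) := by
        rw [pow_succ, pow_succ]; group
      rw [e]
      exact N.mul_mem ih ((mem_normalizer_iff.1 (hRN (R.pow_mem hr i)) n).1 hn)
  have h1 : x ^ p ^ k ∈ N := by
    have := key (p ^ k)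
    simp only at hnr
    rwa [hk', inv_one, mul_one, hnr] at this
  obtain ⟨m, hm⟩ := exists_pow_eq_self_of_coprime (x := x) (hcop.pow_right k).symm
  exact hm ▸ pow_mem h1 m

/-- A subgroup containing a Sylow `p`-subgroup and every element of order prime to `p` is
everything. -/
theorem le_of_coprime_mem {L K R : Subgroup G} (hR : SylowIn p R L) (hRK : R ≤ K)
    (hcop : ∀ x ∈ L, (orderOf x).Coprime p → x ∈ K) : L ≤ K := by
  have hdvd : Nat.card L ∣ Nat.card ↥(K ⊓ L) := by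
    refine (Nat.dvd_iff_prime_pow_dvd_dvd _ _).2 fun q k hq hqk => ?_
    rcases Nat.eq_zero_or_pos k with rfl | hk
    · simp
    haveI : Fact q.Prime := ⟨hq⟩
    obtain ⟨T, hT⟩ := Sylow.exists_subgroup_card_pow_prime q hqk
    by_cases hqp : q = p
    · subst hqp
      refine dvd_trans ?_ (card_dvd_of_le (le_inf hRK hR.1))
      have h1 : Nat.card L = Nat.card R * R.relIndex L := by
        rw [← relIndex_bot_left, ← relIndex_bot_left R, relIndex_mul_relIndex _ _ _ bot_le hR.1]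
      rw [h1] at hqk
      exact ((Nat.Prime.coprime_iff_not_dvd hq).2 hR.2.2 |>.pow_left k).dvd_of_dvd_mul_right hqk
    · have hle : T.map L.subtype ≤ K ⊓ L := by
        rintro _ ⟨t, ht, rfl⟩
        refine ⟨hcop _ t.2 ?_, t.2⟩
        have h2 : orderOf (t : G) ∣ q ^ k := by
          rw [Subgroup.orderOf_coe, ← hT]; exact T.orderOf_dvd_natCard ht
        exact (((Nat.coprime_primes hq hp.out).2 hqp).pow_left k).coprime_dvd_left h2
      have h3 := card_dvd_of_le hle
      rwa [card_map_of_injective L.subtype_injective, hT] at h3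
  have heq : K ⊓ L = L := eq_of_le_of_card_ge inf_le_right (Nat.le_of_dvd Nat.card_pos hdvd)
  exact heq ▸ inf_le_left

variable {S H U L : Subgroup G} (hS : Setting p S H U L)
include hS

theorem Setting.le_R : U ≤ S ⊓ normalizer (U : Set G) := le_inf hS.le le_normalizer

theorem Setting.le_L : U ≤ L := hS.le_R.trans hS.sylow_le

theorem Setting.sylowL : SylowIn p (S ⊓ normalizer (U : Set G)) L :=
  ⟨hS.sylow_le, hS.sylow.2.1, fun h =>
    hS.sylow.2.2 (h.trans (Dvd.intro _ (relIndex_mul_relIndex _ _ _ hS.sylow_le hS.norm)))⟩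

/-- The elements of order prime to `p` of `L` do not all centralize `U`. -/
theorem Setting.exists_coprime_moved :
    ∃ x ∈ L, (orderOf x).Coprime p ∧ x ∉ centralizer (U : Set G) := by
  by_contra hcon
  push Not at hcon
  obtain ⟨x, hx, hxn⟩ := hS.not_agree
  -- `L` is `C(U) R`, and `R` agrees
  have hLK : L ≤ centralizer (U : Set G) ⊔ S ⊓ normalizer (U : Set G) :=
    le_of_coprime_mem hS.sylowL le_sup_right fun y hy hc => mem_sup_left (hcon y hy hc)
  refine hxn ((show centralizer (U : Set G) ⊔ S ⊓ normalizer (U : Set G) ≤ agreeGroup H U from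
    sup_le (centralizer_le_agreeGroup H U) ?_) (hLK hx)).2
  exact fun r hr => ⟨hr.2, agreesOn_of_mem U (hS.sylowH hr.1)⟩

/-- Proper subgroups of `L` above `R` and `C(U)` agree on `U`. -/
theorem Setting.agree_of_proper {K : Subgroup G} (hKL : K ≤ L)
    (hR : S ⊓ normalizer (U : Set G) ≤ K) (hC : centralizer (U : Set G) ≤ K)
    (hne : ∃ x ∈ L, x ∉ K) : K ≤ agreeGroup H U := fun x hx =>
  ⟨hS.norm (hKL hx), hS.minimal K hKL hR hC hne x hx⟩

/-- A normal subgroup over `U` and `C(U)` missing an element of order prime to `p` meets `R` in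
`U`. -/
theorem Setting.inf_le_of_not_cover {N : Subgroup G} (hNL : N ≤ L)
    (hNn : L ≤ normalizer (N : Set G)) (hUN : U ≤ N) (hCN : centralizer (U : Set G) ≤ N)
    (hx : ∃ x ∈ L, (orderOf x).Coprime p ∧ x ∉ N) :
    S ⊓ normalizer (U : Set G) ⊓ N ≤ U := by
  set R := S ⊓ normalizer (U : Set G) with hR
  by_contra hn
  set T := R ⊓ N with hT
  have hUT : U ≤ T := le_inf hS.le_R hUN
  have hlt : Nat.card U < Nat.card T := lt_of_le_of_ne (card_le_of_le hUT) fun he =>
    hn (eq_of_le_of_card_ge hUT he.ge).ge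
  have hRT : R ≤ normalizer (T : Set G) := fun r hr => by
    rw [← conjMap_eq_self_iff, hT, conjMap_inf, conjMap_eq_self_iff.2 (le_normalizer hr),
      conjMap_eq_self_iff.2 (hNn (hS.sylow_le hr))]
  have hgood := hS.good T (inf_le_left.trans inf_le_left)
    (Or.inr ⟨card_le_of_le (le_inf inf_le_left hRT), hlt⟩)
  have hTs : SylowIn p T N := by
    refine ⟨inf_le_right, hS.sylow.2.1.to_le inf_le_left, ?_⟩
    exact CfsgLib.Fusion.not_dvd_relIndex_inf hS.sylow.2.1 hS.sylow_le hS.sylowL.2.2 hNL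
      fun g hg n hn' => (mem_normalizer_iff.1 (hNn hg) n).1 hn'
  obtain ⟨x, hxL, hxc, hxN⟩ := hx
  obtain ⟨z, hzL, hzn⟩ := hS.not_agree
  have hNR : N ⊔ R ≤ agreeGroup H U :=
    hS.agree_of_proper (sup_le hNL hS.sylow_le) le_sup_right (hCN.trans le_sup_left)
      ⟨x, hxL, fun hc => hxN (mem_of_coprime_of_sup hS.sylow.2.1
        (hS.sylow_le.trans hNn) le_rfl hc hxc)⟩
  -- Frattini argument
  have h1 : SylowIn p (conjMap z T) N := by
    have := hTs.conj z
    rwa [conjMap_eq_self_iff.2 (hNn hzL)] at this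
  obtain ⟨c, hcN, hc⟩ := hTs.exists_conj_eq h1
  rw [conjMap_conjMap, conjMap_eq_self_iff] at hc
  have h2 : c * z ∈ agreeGroup H U :=
    ⟨hS.norm (L.mul_mem (hNL hcN) hzL), (hgood _ hc).mono hUT⟩
  have h3 := (agreeGroup H U).mul_mem ((agreeGroup H U).inv_mem (hNR (mem_sup_left hcN))) h2
  rw [inv_mul_cancel_left] at h3
  exact hzn h3.2

/-- If some element of order prime to `p` moves `X` modulo `X₁`, the elements of `R` trivial on
`X / X₁` lie in `U`. -/
theorem Setting.mem_of_mem_modKer {X X₁ : Subgroup G} (hX : L ≤ normalizer (X : Set G))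
    (hX₁ : L ≤ normalizer (X₁ : Set G)) (hXU : X ≤ U)
    (hmov : ∃ x ∈ L, (orderOf x).Coprime p ∧ x ∉ modKer L X X₁) {r : G}
    (hr : r ∈ S ⊓ normalizer (U : Set G)) (hk : r ∈ modKer L X X₁) : r ∈ U := by
  have hn : L ≤ normalizer ((modKer L X X₁ ⊔ U : Subgroup G) : Set G) := fun g hg => by
    rw [← conjMap_eq_self_iff]
    show Subgroup.map _ (modKer L X X₁ ⊔ U) = _
    rw [Subgroup.map_sup]
    exact congrArg₂ (· ⊔ ·) (conjMap_eq_self_iff.2
      (le_normalizer_of_conj (fun g hg x hx => modKer_normalized hX hX₁ hg hx) hg))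
      (conjMap_eq_self_iff.2 (hS.norm hg))
  obtain ⟨x, hx, hxc, hxk⟩ := hmov
  refine hS.inf_le_of_not_cover (sup_le (modKer_le L X X₁) hS.le_L) hn le_sup_right
    ((centralizer_le_modKer hS.cent hXU hX₁).trans le_sup_left)
    ⟨x, hx, hxc, fun hc => hxk (mem_of_coprime_of_sup (hS.sylow.2.1.to_le hS.le_R)
      (hS.le_L.trans (le_normalizer_of_conj fun g hg x hx => modKer_normalized hX hX₁ hg hx))
      le_rfl hc hxc)⟩
    ⟨hr, mem_sup_left hk⟩

end CfsgLib.PLocal.ZJFail
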