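import Mathlib
import Cfsg.Agent.Lib.PLocal.ZJFailLayer
import Cfsg.Agent.Lib.Amalgam.InvariantSubgroups

/-!
# Quadratic layers; the case of an abelian normal subgroup not contained in `U`
-/

set_option autoImplicit false

namespace CfsgLib.PLocal.ZJFail

open Subgroup
open scoped commutatorElement Pointwise

universe u

variable {G : Type u} [Group G]

/-- The Frattini subgroup of `X` inside the ambient group. -/
def phi (X : Subgroup G) : Subgroup G := (frattini X).map X.subtype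

theorem phi_le (X : Subgroup G) : phi X ≤ X := map_subtype_le _

/-- A section `X / X₁` of `U`, elementary abelian, with a quadratic element `y ∈ R \ U`, such that
the stabilizer of the image of `W ⊓ X` is small. -/
structure QuadData (p : ℕ) (S U L W X X₁ : Subgroup G) (y : G) : Prop where
  XU : X ≤ U
  X₁X : X₁ ≤ X
  normX : L ≤ normalizer (X : Set G)
  normX₁ : L ≤ normalizer (X₁ : Set G)
  comm : ⁅X, X⁆ ≤ X₁
  powMem : ∀ v ∈ X, v ^ p ∈ X₁
  yR : y ∈ S ⊓ normalizer (U : Set G)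
  yU : y ∉ U
  quad : ∀ v ∈ X, ⁅⁅v, y⁆, y⁆ ∈ X₁
  moved : ∃ K ≤ L, S ⊓ normalizer (U : Set G) ≤ K ∧ modKer L (W ⊓ X) X₁ ≤ K ∧ ∃ x ∈ L, x ∉ K

variable [Finite G] {p : ℕ} [hp : Fact p.Prime]

/-- A subgroup covering `X` modulo `Φ(X)` is `X`. -/
theorem le_of_le_sup_phi {X T : Subgroup G} (hT : T ≤ X) (h : X ≤ T ⊔ phi X) : X ≤ T := by
  have h1 : T.subgroupOf X ⊔ frattini X = ⊤ := by
    refine Subgroup.map_injective X.subtype_injective ?_
    rw [Subgroup.map_sup, map_subgroupOf_eq_of_le hT, ← MonoidHom.range_eq_map, range_subtype]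
    exact le_antisymm (sup_le hT (phi_le X)) h
  exact fun x hx => (show (⟨x, hx⟩ : X) ∈ T.subgroupOf X from frattini_nongenerating h1 ▸ mem_top _)

/-- A coprime element trivial on `X / X₁`, with `X₁ ≤ C_X(g) Φ(X)`, centralizes `X`. -/
theorem centralizes_of_trivial_mod {X X₁ : Subgroup G} (hX : IsPGroup p X) (hX₁X : X₁ ≤ X) {g : G}
    (hg : g ∈ normalizer (X : Set G)) (hg₁ : g ∈ normalizer (X₁ : Set G))
    (hcop : (orderOf g).Coprime p)
    (h1 : X₁ ≤ (X ⊓ centralizer (zpowers g : Set G)) ⊔ phi X)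
    (ht : ∀ v ∈ X, g * v * g⁻¹ * v⁻¹ ∈ X₁) : g ∈ centralizer (X : Set G) := by
  obtain ⟨n, hn⟩ := hX.exists_card_eq
  have hco : (Nat.card (zpowers g)).Coprime (Nat.card X) := by
    rw [Nat.card_zpowers, hn]; exact hcop.pow_right _
  have hsol : Group.IsSolvable (zpowers g) ∨ Group.IsSolvable X₁ :=
    Or.inl (Group.isSolvable_of_comm fun a b => mul_comm' a b)
  have key : ∀ v ∈ X, ∃ z ∈ X₁, v * z ∈ centralizer (zpowers g : Set G) := by
    intro v hv
    refine Coprime.exists_mem_centralizer_of_coset (zpowers_le.2 hg) (zpowers_le.2 hg₁) hX₁X hco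
      hsol hv fun a ha => ?_
    let M : Subgroup G :=
      { carrier := {y | y ∈ normalizer (X₁ : Set G) ∧ v⁻¹ * y * v * y⁻¹ ∈ X₁}
        one_mem' := ⟨one_mem _, by simp⟩
        mul_mem' := fun {a b} ha hb => ⟨mul_mem ha.1 hb.1, by
          have h1 := mul_mem ha.2 ((mem_normalizer_iff.1 ha.1 _).1 hb.2)
          convert h1 using 1; group⟩
        inv_mem' := fun {a} ha => ⟨inv_mem ha.1, by
          have h1 := inv_mem ((mem_normalizer_iff.1 (inv_mem ha.1) _).1 ha.2)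
          convert h1 using 1; group⟩ }
    have hgM : g ∈ M := ⟨hg₁, by
      have h2 := inv_mem (ht v⁻¹ (inv_mem hv))
      convert h2 using 1; group⟩
    exact (zpowers_le.2 hgM ha).2
  set T := X ⊓ centralizer (zpowers g : Set G) with hT
  have hcov : X ≤ T ⊔ phi X := fun v hv => by
    obtain ⟨z, hz, hvz⟩ := key v hv
    have h2 : v * z ∈ T ⊔ phi X := mem_sup_left ⟨X.mul_mem hv (hX₁X hz), hvz⟩
    simpa using mul_mem h2 (inv_mem (h1 hz))
  intro v hv
  exact ((le_of_le_sup_phi inf_le_left hcov hv).2 g (mem_zpowers g)).symm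

omit [Finite G] in
theorem phi_comm {X : Subgroup G} [Finite G] (hX : IsPGroup p X) :
    ⁅X, X⁆ ≤ phi X ∧ ∀ v ∈ X, v ^ p ∈ phi X :=
  ClassK.Push.le_frattini_map hX

variable {S H U L W : Subgroup G} (hS : Setting p S H U L)
include hS

theorem Setting.isPGroup_U : IsPGroup p U := hS.sylow.2.1.to_le hS.le_R

theorem Setting.le_normalizer_phi {X : Subgroup G} (hX : L ≤ normalizer (X : Set G)) :
    L ≤ normalizer (phi X : Set G) :=
  hX.trans (Amalgam.normalizer_le_normalizer_frattini X)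

/-- The stabilizer of the image of `W ⊓ X` is small. -/
theorem Setting.exists_moved (hW : S ≤ normalizer (W : Set G)) {X X₁ : Subgroup G}
    (hnX : L ≤ normalizer (X : Set G)) (hnX₁ : L ≤ normalizer (X₁ : Set G)) (hXU : X ≤ U)
    (h : ¬ L ≤ normalizer (((W ⊓ X) ⊔ X₁ : Subgroup G) : Set G) ∨
      (X ≤ W ∧ ∃ x ∈ L, (orderOf x).Coprime p ∧ x ∉ modKer L X X₁)) :
    ∃ K ≤ L, S ⊓ normalizer (U : Set G) ≤ K ∧ modKer L (W ⊓ X) X₁ ≤ K ∧ ∃ x ∈ L, x ∉ K := by
  set R := S ⊓ normalizer (U : Set G)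
  refine ⟨R ⊔ modKer L (W ⊓ X) X₁, sup_le hS.sylow_le (modKer_le _ _ _), le_sup_left,
    le_sup_right, ?_⟩
  by_contra hcon
  push Not at hcon
  rcases h with h | ⟨hXW, x, hxL, hxc, hxk⟩
  · refine h ((show L ≤ R ⊔ modKer L (W ⊓ X) X₁ from hcon).trans (sup_le ?_ ?_))
    · intro r hr
      rw [← conjMap_eq_self_iff]
      show Subgroup.map _ ((W ⊓ X) ⊔ X₁) = _
      rw [Subgroup.map_sup]
      refine congrArg₂ (· ⊔ ·) ?_ (conjMap_eq_self_iff.2 (hnX₁ (hS.sylow_le hr)))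
      show conjMap r (W ⊓ X) = _
      rw [conjMap_inf, conjMap_eq_self_iff.2 (hW hr.1),
        conjMap_eq_self_iff.2 (hnX (hS.sylow_le hr))]
    · have key : ∀ k ∈ modKer L (W ⊓ X) X₁, ∀ z ∈ (W ⊓ X) ⊔ X₁,
          k * z * k⁻¹ ∈ (W ⊓ X) ⊔ X₁ := by
        intro k hk
        suffices h : (W ⊓ X) ⊔ X₁ ≤ ((W ⊓ X) ⊔ X₁).comap (MulAut.conj k).toMonoidHom from
          fun z hz => h hz
        refine sup_le ?_ ?_
        · intro z hz
          rw [mem_comap]; show k * z * k⁻¹ ∈ (W ⊓ X) ⊔ X₁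
          rw [show k * z * k⁻¹ = (k * z * k⁻¹ * z⁻¹) * z by group]
          exact mul_mem (mem_sup_right (hk.2.2 z hz)) (mem_sup_left hz)
        · intro z hz
          exact mem_sup_right ((mem_normalizer_iff.1 hk.2.1 z).1 hz)
      exact le_normalizer_of_conj key
  · refine hxk ?_
    rw [inf_eq_right.2 hXW] at hcon
    refine mem_of_coprime_of_sup hS.sylow.2.1 ?_ (fun y hy => by
      have := hcon y hy; rwa [sup_comm] at this) hxL hxc
    exact hS.sylow_le.trans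
      (le_normalizer_of_conj fun g hg x hx => modKer_normalized hnX hnX₁ hg hx)

/-- The first case: an abelian normal subgroup of `S` not contained in `U`. -/
theorem Setting.exists_quad_of_not_le (hWS : W ≤ S) (hW : S ≤ normalizer (W : Set G))
    (hWc : IsMulCommutative W) (hWU : ¬ W ≤ U) :
    ∃ X X₁ y, QuadData p S U L W X X₁ y := by
  set R := S ⊓ normalizer (U : Set G) with hR
  obtain ⟨y, hyW, hyR, hyU⟩ : ∃ y ∈ W, y ∈ R ∧ y ∉ U := by
    have hlt : U < U ⊔ W := lt_of_le_of_ne le_sup_left fun he =>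
      hWU (le_sup_right.trans he.ge)
    obtain ⟨z, hz, hzN, hzU⟩ := CfsgLib.Transfer.exists_mem_normalizer_not_mem
      (hS.pgroup.to_le (sup_le hS.le hWS)) hlt
    have hz' : z ∈ (U : Set G) * (W : Set G) := by
      rw [← coe_mul_of_left_le_normalizer_right U W (hS.le.trans hW)]; exact hz
    obtain ⟨u, hu, w, hw, rfl⟩ := hz'
    refine ⟨w, hw, ⟨hWS hw, ?_⟩, fun hwU => hzU (U.mul_mem hu hwU)⟩
    have := mul_mem (inv_mem (le_normalizer (H := U) hu)) hzN
    rwa [inv_mul_cancel_left] at this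
  let 𝒯 : Set (Subgroup G) := {T | T ≤ U ∧ L ≤ normalizer (T : Set G) ∧
    ∃ x ∈ L, (orderOf x).Coprime p ∧ x ∉ centralizer (T : Set G)}
  obtain ⟨X, ⟨hXU, hXn, x₀, hx₀, hx₀c, hx₀n⟩, hXmin⟩ := Set.exists_min_image 𝒯
    (fun T => Nat.card T) (Set.toFinite _) ⟨U, le_rfl, hS.norm, hS.exists_coprime_moved⟩
  have hXp : IsPGroup p X := hS.isPGroup_U.to_le hXU
  have hn₁ := hS.le_normalizer_phi hXn
  have hmov : x₀ ∉ modKer L X (phi X) := fun hk => hx₀n
    (centralizes_of_trivial_mod hXp (phi_le X) (hXn hx₀) (hn₁ hx₀) hx₀c le_sup_right hk.2.2)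
  refine ⟨X, phi X, y, hXU, phi_le X, hXn, hn₁, (phi_comm hXp).1, (phi_comm hXp).2, hyR, hyU,
    fun v hv => ?_, hS.exists_moved hW hXn hn₁ hXU (Or.inl fun hN => ?_)⟩
  · have h1 : ⁅v, y⁆ ∈ W := by
      rw [commutatorElement_def]
      exact W.mul_mem ((mem_normalizer_iff.1 (hW (hS.le (hXU hv))) y).1 hyW) (W.inv_mem hyW)
    rw [commutatorElement_eq_one_iff_mul_comm.2 (comm_of_isMulCommutative hWc h1 hyW)]
    exact one_mem _
  · set X₂ := (W ⊓ X) ⊔ phi X with hX₂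
    have hX₂X : X₂ ≤ X := sup_le inf_le_right (phi_le X)
    have hyv : ∀ v ∈ X, y * v * y⁻¹ * v⁻¹ ∈ W ⊓ X := fun v hv => ⟨by
        rw [show y * v * y⁻¹ * v⁻¹ = y * (v * y⁻¹ * v⁻¹) by group]
        exact W.mul_mem hyW ((mem_normalizer_iff.1 (hW (hS.le (hXU hv))) _).1 (W.inv_mem hyW)),
      X.mul_mem ((mem_normalizer_iff.1 (hXn (hS.sylow_le hyR)) v).1 hv) (X.inv_mem hv)⟩
    by_cases hXW : X ≤ W
    · refine hyU (hS.mem_of_mem_modKer hXn hn₁ hXU ⟨x₀, hx₀, hx₀c, hmov⟩ hyR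
        ⟨hS.sylow_le hyR, hn₁ (hS.sylow_le hyR), fun v hv => ?_⟩)
      rw [show y * v = v * y from comm_of_isMulCommutative hWc hyW (hXW hv)]
      simp
    have hlt : Nat.card X₂ < Nat.card X := lt_of_le_of_ne (card_le_of_le hX₂X) fun he =>
      hXW ((le_of_le_sup_phi inf_le_right (eq_of_le_of_card_ge hX₂X he.ge).ge).trans inf_le_left)
    have hx₂ : x₀ ∈ centralizer (X₂ : Set G) := by
      by_contra hc
      exact absurd (hXmin X₂ ⟨hX₂X.trans hXU, hN, x₀, hx₀, hx₀c, hc⟩) (not_le.2 hlt)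
    have hk : x₀ ∉ modKer L X X₂ := fun hk => hx₀n (by
      refine centralizes_of_trivial_mod hXp hX₂X (hXn hx₀) (hN hx₀) hx₀c ?_ hk.2.2
      refine le_sup_of_le_left (le_inf hX₂X ?_)
      rw [le_centralizer_iff]
      exact zpowers_le.2 hx₂)
    exact hyU (hS.mem_of_mem_modKer hXn hN hXU ⟨x₀, hx₀, hx₀c, hk⟩ hyR
      ⟨hS.sylow_le hyR, hN (hS.sylow_le hyR), fun v hv => mem_sup_left (hyv v hv)⟩)

end CfsgLib.PLocal.ZJFail
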