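import Mathlib
import Cfsg.Agent.Lib.PLocal.ZJFailQuad
import Cfsg.Agent.Lib.Solvable.Nilpotent

/-!
# The case `W ≤ U` with `N_S(U) < S`

`Γ` is generated by `L` and `S₂ = N_S(R)`; an element escaping from `U` along a shortest word in
`Γ` gives the quadratic element.
-/

set_option autoImplicit false

namespace CfsgLib.PLocal.ZJFail

open Subgroup
open scoped commutatorElement Pointwise

universe u

variable {G : Type u} [Group G]

/-- Products of `L (S₂ L)^n`. -/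
def words (L S₂ : Subgroup G) (n : ℕ) : Set G := (L : Set G) * ((S₂ : Set G) * (L : Set G)) ^ n

theorem words_zero (L S₂ : Subgroup G) : words L S₂ 0 = L := by simp [words]

theorem words_succ (L S₂ : Subgroup G) (n : ℕ) :
    words L S₂ (n + 1) = (L : Set G) * (S₂ : Set G) * words L S₂ n := by
  simp only [words, pow_succ', mul_assoc]

theorem words_succ' (L S₂ : Subgroup G) (n : ℕ) :
    words L S₂ (n + 1) = words L S₂ n * ((S₂ : Set G) * (L : Set G)) := by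
  simp only [words, pow_succ, mul_assoc]

theorem words_inv (L S₂ : Subgroup G) (n : ℕ) : (words L S₂ n)⁻¹ = words L S₂ n := by
  induction n with
  | zero => rw [words_zero]; exact inv_coe_set
  | succ n ih =>
    conv_lhs => rw [words_succ, mul_inv_rev, mul_inv_rev, ih, inv_coe_set, inv_coe_set]
    rw [words_succ']

theorem words_mul (L S₂ : Subgroup G) (m n : ℕ) :
    words L S₂ m * words L S₂ n ⊆ words L S₂ (m + n) := by
  induction m with
  | zero =>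
    rw [words_zero, Nat.zero_add]
    rintro _ ⟨a, ha, _, ⟨b, hb, c, hc, rfl⟩, rfl⟩
    exact ⟨a * b, L.mul_mem ha hb, c, hc, by simp [mul_assoc]⟩
  | succ m ih =>
    rw [show m + 1 + n = m + n + 1 by omega, words_succ, words_succ, mul_assoc _ (words L S₂ m)]
    exact Set.mul_subset_mul_left ih

theorem exists_words {L S₂ : Subgroup G} {g : G} (hg : g ∈ L ⊔ S₂) : ∃ n, g ∈ words L S₂ n := by
  let Γ : Subgroup G :=
    { carrier := {g | ∃ n, g ∈ words L S₂ n}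
      one_mem' := ⟨0, by rw [words_zero]; exact L.one_mem⟩
      mul_mem' := fun {a b} ⟨m, hm⟩ ⟨n, hn⟩ => ⟨m + n, words_mul L S₂ m n (Set.mul_mem_mul hm hn)⟩
      inv_mem' := fun {a} ⟨n, hn⟩ => ⟨n, by rw [← words_inv]; exact Set.inv_mem_inv.2 hn⟩ }
  refine (sup_le (fun x hx => ⟨0, by rw [words_zero]; exact hx⟩) (fun x hx => ⟨1, ?_⟩) :
    L ⊔ S₂ ≤ Γ) hg
  rw [words_succ, words_zero]
  exact ⟨1 * x, Set.mul_mem_mul L.one_mem hx, 1, L.one_mem, by simp⟩

theorem words_subset (L S₂ : Subgroup G) (n : ℕ) : words L S₂ n ⊆ (L ⊔ S₂ : Subgroup G) := by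
  induction n with
  | zero => rw [words_zero]; exact fun x hx => mem_sup_left hx
  | succ n ih =>
    rw [words_succ]
    rintro _ ⟨_, ⟨a, ha, b, hb, rfl⟩, c, hc, rfl⟩
    exact mul_mem (mul_mem (mem_sup_left ha) (mem_sup_right hb)) (ih hc)

/-- The largest subgroup of `U` normalized by `Γ`. -/
def gcore (Γ U : Subgroup G) : Subgroup G where
  carrier := {u | ∀ g ∈ Γ, g * u * g⁻¹ ∈ U}
  one_mem' := fun g _ => by simp
  mul_mem' := fun {a b} ha hb g hg => by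
    rw [show g * (a * b) * g⁻¹ = (g * a * g⁻¹) * (g * b * g⁻¹) by group]
    exact U.mul_mem (ha g hg) (hb g hg)
  inv_mem' := fun {a} ha g hg => by
    rw [show g * a⁻¹ * g⁻¹ = (g * a * g⁻¹)⁻¹ by group]; exact U.inv_mem (ha g hg)

theorem gcore_le (Γ U : Subgroup G) : gcore Γ U ≤ U := fun u hu => by simpa using hu 1 Γ.one_mem

theorem gcore_conj {Γ U : Subgroup G} {g u : G} (hg : g ∈ Γ) (hu : u ∈ gcore Γ U) :
    g * u * g⁻¹ ∈ gcore Γ U := fun h hh => by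
  have := hu (h * g) (Γ.mul_mem hh hg)
  rwa [show h * g * u * (h * g)⁻¹ = h * (g * u * g⁻¹) * h⁻¹ by group] at this

theorem le_normalizer_gcore [Finite G] (Γ U : Subgroup G) :
    Γ ≤ normalizer (gcore Γ U : Set G) :=
  le_normalizer_of_conj fun _ hg _ hu => gcore_conj hg hu

variable [Finite G] {p : ℕ} [hp : Fact p.Prime]

/-- An escaping subgroup gives an element of `R \ U` in a conjugate by a word. -/
theorem exists_escape {S H U L X : Subgroup G} (hS : Setting p S H U L)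
    {S₂ : Subgroup G} (hS₂ : S₂ = S ⊓ normalizer ((S ⊓ normalizer (U : Set G) : Subgroup G) : Set G))
    (hXU : ∀ l ∈ L, conjMap l X ≤ U) (hne : ¬ X ≤ gcore (L ⊔ S₂) U) :
    ∃ g₁ ∈ L ⊔ S₂, conjMap g₁⁻¹ X ≤ L ∧ ∃ x ∈ X, g₁ * x * g₁⁻¹ ∈ S ⊓ normalizer (U : Set G) ∧
      g₁ * x * g₁⁻¹ ∉ U := by
  classical
  set R := S ⊓ normalizer (U : Set G) with hR
  have hex : ∃ n, ∃ g ∈ words L S₂ n, ¬ conjMap g X ≤ U := by
    by_contra hcon
    push Not at hcon
    refine hne fun x hx g hg => ?_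
    obtain ⟨n, hn⟩ := exists_words hg
    exact hcon n g hn (conj_mem_conjMap hx)
  have hS₂R : ∀ s ∈ S₂, conjMap s R = R := fun s hs =>
    conjMap_eq_self_iff.2 (by rw [hS₂] at hs; exact hs.2)
  obtain ⟨g, hg, hgU⟩ := Nat.find_spec hex
  have hn0 : Nat.find hex ≠ 0 := fun h0 => by
    rw [h0, words_zero] at hg
    exact hgU (hXU g hg)
  obtain ⟨m, hm⟩ : ∃ m, Nat.find hex = m + 1 := ⟨Nat.find hex - 1, by omega⟩
  have hlow : ∀ h ∈ words L S₂ m, conjMap h X ≤ U := fun h hh => by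
    by_contra hc
    exact Nat.find_min hex (by omega : m < Nat.find hex) ⟨h, hh, hc⟩
  have hL : ∀ h ∈ words L S₂ (m + 1), conjMap h X ≤ L := by
    intro h hh
    rw [words_succ] at hh
    obtain ⟨_, ⟨l, hl, s, hs, rfl⟩, h', hh', rfl⟩ := hh
    rw [← conjMap_conjMap (l * s), ← conjMap_conjMap l]
    have h1 : conjMap s (conjMap h' X) ≤ R :=
      (conjMap_mono ((hlow h' hh').trans hS.le_R)).trans (hS₂R s hs).le
    refine (conjMap_mono (h1.trans hS.sylow_le)).trans ?_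
    exact (conjMap_eq_self_iff.2 (le_normalizer hl)).le
  rw [hm, words_succ] at hg
  obtain ⟨_, ⟨l, hl, s, hs, rfl⟩, g', hg', rfl⟩ := hg
  have hw : s * g' ∈ words L S₂ (m + 1) := by
    rw [words_succ]
    exact ⟨1 * s, Set.mul_mem_mul L.one_mem hs, g', hg', by simp⟩
  have hw' : (s * g')⁻¹ ∈ words L S₂ (m + 1) := by
    rw [← words_inv]; exact Set.inv_mem_inv.2 hw
  refine ⟨s * g', words_subset L S₂ _ hw, hL _ hw', ?_⟩
  have hle : conjMap (s * g') X ≤ R := by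
    rw [← conjMap_conjMap]
    exact (conjMap_mono ((hlow g' hg').trans hS.le_R)).trans (hS₂R s hs).le
  by_contra hcon
  push Not at hcon
  refine hgU ?_
  have h1 : conjMap (s * g') X ≤ U := by
    rintro _ ⟨x, hx, rfl⟩
    exact hcon x hx (hle (conj_mem_conjMap hx))
  show conjMap (l * s * g') X ≤ U
  rw [mul_assoc, ← conjMap_conjMap]
  exact (conjMap_mono h1).trans (conjMap_eq_self_iff.2 (hS.norm hl)).le

variable {S H U L W : Subgroup G} (hS : Setting p S H U L)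
include hS

/-- The second case. -/
theorem Setting.exists_quad_of_lt (hW : S ≤ normalizer (W : Set G))
    (hWc : IsMulCommutative W) (hWH : H ≤ normalizer (W : Set G)) (hWL : ¬ L ≤ normalizer (W : Set G))
    (hWU : W ≤ U) (hlt : S ⊓ normalizer (U : Set G) < S) :
    ∃ X X₁ y, QuadData p S U L W X X₁ y := by
  set R := S ⊓ normalizer (U : Set G) with hR
  set S₂ := S ⊓ normalizer (R : Set G) with hS₂
  have hRS₂ : R ≤ S₂ := le_inf inf_le_left le_normalizer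
  have hUS₂ : U ≤ S₂ := hS.le_R.trans hRS₂
  set Γ := L ⊔ S₂ with hΓ
  have hLΓ : L ≤ Γ := le_sup_left
  have hS₂Γ : S₂ ≤ Γ := le_sup_right
  set K := gcore Γ U with hK
  -- `L` normalizes `W ⊓ K`
  have hWK : ∀ g ∈ L, ∀ w ∈ W ⊓ K, g * w * g⁻¹ ∈ W ⊓ K := by
    intro g hg w hw
    have hab : Above S U K := Or.inl (lt_of_lt_of_le (card_lt_card_inf_normalizer hS.pgroup hlt)
      (card_le_of_le (le_inf inf_le_left (hS₂Γ.trans (le_normalizer_gcore Γ U)))))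
    obtain ⟨h, hh, he⟩ := hS.good K ((gcore_le Γ U).trans hS.le) hab g
      (le_normalizer_gcore Γ U (hLΓ hg))
    refine ⟨?_, gcore_conj (hLΓ hg) hw.2⟩
    rw [← he w hw.2]
    exact (mem_normalizer_iff.1 (hWH hh) w).1 hw.1
  set O : Set G := {x | x ∈ L ∧ (orderOf x).Coprime p} with hO
  set D := gcore Γ (W ⊓ centralizer O) with hD
  have hDW : D ≤ W := (gcore_le _ _).trans inf_le_left
  have hDn : Γ ≤ normalizer (D : Set G) := le_normalizer_gcore _ _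
  let I : Subgroup G :=
    { carrier := {w | w ∈ W ∧ ∀ s ∈ S₂, s * w * s⁻¹ * w⁻¹ ∈ D}
      one_mem' := ⟨W.one_mem, fun s _ => by simp⟩
      mul_mem' := fun {a b} ha hb => ⟨W.mul_mem ha.1 hb.1, fun s hs => by
        have hx : s * b * s⁻¹ * b⁻¹ ∈ W := hDW (hb.2 s hs)
        rw [show s * (a * b) * s⁻¹ * (a * b)⁻¹ = (s * a * s⁻¹) * ((s * b * s⁻¹ * b⁻¹) * a⁻¹) by group,
          comm_of_isMulCommutative hWc hx (W.inv_mem ha.1), ← mul_assoc]
        exact D.mul_mem (ha.2 s hs) (hb.2 s hs)⟩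
      inv_mem' := fun {a} ha => ⟨W.inv_mem ha.1, fun s hs => by
        have h1 := ha.2 s hs
        have hx : (s * a * s⁻¹ * a⁻¹)⁻¹ ∈ W := W.inv_mem (hDW h1)
        have e : s * a⁻¹ * s⁻¹ * a⁻¹⁻¹ = a⁻¹ * (s * a * s⁻¹ * a⁻¹)⁻¹ * a := by group
        rw [e, comm_of_isMulCommutative hWc (W.inv_mem ha.1) hx, inv_mul_cancel_right]
        exact D.inv_mem h1⟩ }
  have hIW : I ≤ W := fun w hw => hw.1
  have hDI : D ≤ I := fun d hd => ⟨hDW hd, fun s hs =>
    D.mul_mem ((mem_normalizer_iff.1 (hDn (hS₂Γ hs)) d).1 hd) (D.inv_mem hd)⟩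
  -- fixed points of `S₂` on `W / D`
  have hInot : ¬ I ≤ D := by
    intro hle
    have hWne : ¬ W ≤ D := fun h => hWL (by
      rw [show W = D from le_antisymm h hDW]; exact hLΓ.trans hDn)
    haveI hNn : (D.subgroupOf S₂).Normal :=
      normal_subgroupOf_of_le_normalizer (hS₂Γ.trans hDn)
    set q := QuotientGroup.mk' (D.subgroupOf S₂) with hq
    haveI : Group.IsNilpotent (↥S₂ ⧸ D.subgroupOf S₂) :=
      ((hS.pgroup.to_le (inf_le_left : S₂ ≤ S)).to_quotient _).isNilpotent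
    haveI : (W.subgroupOf S₂).Normal :=
      normal_subgroupOf_of_le_normalizer ((inf_le_left : S₂ ≤ S).trans hW)
    haveI : ((W.subgroupOf S₂).map q).Normal :=
      Normal.map inferInstance q (QuotientGroup.mk'_surjective _)
    have hne : (W.subgroupOf S₂).map q ≠ ⊥ := by
      rw [Ne, Subgroup.map_eq_bot_iff, QuotientGroup.ker_mk']
      exact fun h => hWne fun w hw =>
        h (x := ⟨w, hUS₂ (hWU hw)⟩) hw
    obtain ⟨⟨z, hz⟩, hz1⟩ := Subgroup.ne_bot_iff_exists_ne_one.mp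
      (CfsgLib.Solvable.normal_inf_center_ne_bot _ hne)
    obtain ⟨⟨w, hwS⟩, hw, rfl⟩ := hz.1
    refine hz1 (Subtype.ext ((QuotientGroup.eq_one_iff _).2 (hle (x := w) ⟨hw, fun s hs => ?_⟩)))
    have h1 : q ⟨s, hs⟩ * q ⟨w, hwS⟩ = q ⟨w, hwS⟩ * q ⟨s, hs⟩ := mem_center_iff.1 hz.2 (q ⟨s, hs⟩)
    have h2 : q (⟨s, hs⟩ * ⟨w, hwS⟩ * (⟨s, hs⟩)⁻¹ * (⟨w, hwS⟩)⁻¹) = 1 := by
      rw [map_mul, map_mul, map_mul, map_inv, map_inv, h1]; group
    have h3 : _ ∈ D.subgroupOf S₂ := (QuotientGroup.eq_one_iff _).1 h2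
    simpa [mem_subgroupOf] using h3
  set X := closure {z | ∃ g ∈ L, ∃ w ∈ I, g * w * g⁻¹ = z} with hX
  have hXn : L ≤ normalizer (X : Set G) := le_normalizer_of_conj fun g hg x hx => by
    refine ((closure_le _).2 ?_ : X ≤ X.comap (MulAut.conj g).toMonoidHom) hx
    rintro _ ⟨g', hg', w, hw, rfl⟩
    exact subset_closure ⟨g * g', L.mul_mem hg hg', w, hw, by simp [mul_assoc]⟩
  have hIX : I ≤ X := fun w hw => subset_closure ⟨1, L.one_mem, w, hw, by simp⟩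
  have hXU : X ≤ U := (closure_le _).2 (by
    rintro _ ⟨g, hg, w, hw, rfl⟩
    exact (mem_normalizer_iff.1 (hS.norm hg) w).1 (hWU (hIW hw)))
  have hDX : D ≤ X := hDI.trans hIX
  have hXcent : X ≤ modKer U U D := (closure_le _).2 (by
    rintro _ ⟨g, hg, w, hw, rfl⟩
    refine ⟨(mem_normalizer_iff.1 (hS.norm hg) w).1 (hWU (hIW hw)),
      hDn (hLΓ (L.mul_mem (L.mul_mem hg (hS.le_L (hWU (hIW hw)))) (L.inv_mem hg))), fun v hv => ?_⟩
    have hv' : g⁻¹ * v * g ∈ U := (mem_normalizer_iff''.1 (hS.norm hg) v).1 hv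
    rw [show g * w * g⁻¹ * v * (g * w * g⁻¹)⁻¹ * v⁻¹ =
      g * ((g⁻¹ * v * g) * w * (g⁻¹ * v * g)⁻¹ * w⁻¹)⁻¹ * g⁻¹ by group]
    exact (mem_normalizer_iff.1 (hDn (hLΓ hg)) _).1 (D.inv_mem (hw.2 _ (hUS₂ hv'))))
  have hXX : ⁅X, X⁆ ≤ D := commutator_le.2 fun a ha b hb => by
    rw [commutatorElement_def]; exact (hXcent ha).2.2 b (hXU hb)
  have hXp : IsPGroup p X := hS.isPGroup_U.to_le hXU
  set X₁ := D ⊔ phi X with hX₁
  have hX₁X : X₁ ≤ X := sup_le hDX (phi_le X)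
  have hX₁n : L ≤ normalizer (X₁ : Set G) := fun g hg => by
    rw [← conjMap_eq_self_iff]
    show Subgroup.map _ (D ⊔ phi X) = _
    rw [Subgroup.map_sup]
    exact congrArg₂ (· ⊔ ·) (conjMap_eq_self_iff.2 (hDn (hLΓ hg)))
      (conjMap_eq_self_iff.2 (hS.le_normalizer_phi hXn hg))
  -- some element of order prime to `p` moves `X / X₁`
  have hmov : ∃ x ∈ L, (orderOf x).Coprime p ∧ x ∉ modKer L X X₁ := by
    by_contra hcon
    push Not at hcon
    have hXc : ∀ x ∈ L, (orderOf x).Coprime p → x ∈ centralizer (X : Set G) := fun x hx hc =>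
      centralizes_of_trivial_mod hXp hX₁X (hXn hx) (hX₁n hx) hc
        (sup_le (le_sup_of_le_left (le_inf hDX (by
          rw [le_centralizer_iff]
          exact zpowers_le.2 (mem_centralizer_iff.2 fun d hd =>
            ((gcore_le _ _ hd).2 x ⟨hx, hc⟩).symm)))) le_sup_right) (hcon x hx hc).2.2
    have hIn : S₂ ≤ normalizer (I : Set G) := le_normalizer_of_conj fun s hs w hw => by
      have := I.mul_mem (hDI (hw.2 s hs)) hw
      rwa [inv_mul_cancel_right] at this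
    have hLn : L ≤ normalizer (I : Set G) := le_of_coprime_mem hS.sylowL (hRS₂.trans hIn)
      fun x hx hc => centralizer_le_normalizer _ (centralizer_le (SetLike.coe_subset_coe.2 hIX)
        (hXc x hx hc))
    refine hInot fun w hw g hg => ?_
    have hgw : g * w * g⁻¹ ∈ I := (mem_normalizer_iff.1 ((sup_le hLn hIn : Γ ≤ _) hg) w).1 hw
    exact ⟨hIW hgw, mem_centralizer_iff.2 fun x hx =>
      (mem_centralizer_iff.1 (hXc x hx.1 hx.2) _ (hIX hgw)).symm⟩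
  have hmoved := hS.exists_moved hW hXn hX₁n hXU (W := W) (by
    by_contra hcon
    push Not at hcon
    obtain ⟨hN, hXW⟩ := hcon
    refine absurd hmov ?_
    by_contra hm
    obtain ⟨x, hx, hc, hk⟩ := hm
    refine hk (hXW ?_ x hx hc)
    have hX₂ : X ≤ (W ⊓ X) ⊔ X₁ := (closure_le _).2 (by
      rintro _ ⟨g, hg, w, hw, rfl⟩
      exact (mem_normalizer_iff.1 (hN hg) w).1 (mem_sup_left ⟨hIW hw, hIX hw⟩))
    rw [hX₁, ← sup_assoc, sup_eq_left.2 (le_inf hDW hDX)] at hX₂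
    exact (le_of_le_sup_phi inf_le_right hX₂).trans inf_le_left)
  refine ⟨X, X₁, ?_⟩
  have hcomm : ⁅X, X⁆ ≤ X₁ := hXX.trans le_sup_left
  have hpow : ∀ v ∈ X, v ^ p ∈ X₁ := fun v hv => mem_sup_right ((phi_comm hXp).2 v hv)
  by_cases hXK : X ≤ K
  · have hXW : X ≤ W := by
      have hn : L ≤ normalizer ((W ⊓ K : Subgroup G) : Set G) :=
        le_normalizer_of_conj hWK
      refine le_trans ((closure_le _).2 ?_) (inf_le_left : W ⊓ K ≤ W)
      rintro _ ⟨g, hg, w, hw, rfl⟩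
      exact hWK g hg w ⟨hIW hw, hXK (hIX hw)⟩
    obtain ⟨g₁, hg₁, -, w, hw, hyR, hyU⟩ := exists_escape hS hS₂ (X := W) (fun l hl => by
      rintro _ ⟨w, hw, rfl⟩
      exact (mem_normalizer_iff.1 (hS.norm hl) w).1 (hWU hw)) (fun h => hWL
        (le_normalizer_of_conj fun g hg x hx => (hWK g hg x ⟨hx, h hx⟩).1))
    refine ⟨g₁ * w * g₁⁻¹, hXU, hX₁X, hXn, hX₁n, hcomm, hpow, hyR, hyU, fun v hv => ?_, hmoved⟩
    have hv' : g₁⁻¹ * v * g₁ ∈ U := by simpa using hXK hv g₁⁻¹ (inv_mem hg₁)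
    have hc : ⁅v, g₁ * w * g₁⁻¹⁆ = g₁ * ((g₁⁻¹ * v * g₁) * w * (g₁⁻¹ * v * g₁)⁻¹ * w⁻¹) * g₁⁻¹ := by
      rw [commutatorElement_def]; group
    have hcW : (g₁⁻¹ * v * g₁) * w * (g₁⁻¹ * v * g₁)⁻¹ * w⁻¹ ∈ W :=
      W.mul_mem ((mem_normalizer_iff.1 (hW (hS.le hv')) w).1 hw) (W.inv_mem hw)
    have h1 : ⁅⁅v, g₁ * w * g₁⁻¹⁆, g₁ * w * g₁⁻¹⁆ = 1 := by
      rw [hc, commutatorElement_eq_one_iff_mul_comm]
      calc _ = g₁ * (((g₁⁻¹ * v * g₁) * w * (g₁⁻¹ * v * g₁)⁻¹ * w⁻¹) * w) * g₁⁻¹ := by group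
        _ = g₁ * (w * ((g₁⁻¹ * v * g₁) * w * (g₁⁻¹ * v * g₁)⁻¹ * w⁻¹)) * g₁⁻¹ := by
          rw [comm_of_isMulCommutative hWc hcW hw]
        _ = _ := by group
    rw [h1]; exact one_mem _
  · obtain ⟨g₁, hg₁, hle, x, hx, hyR, hyU⟩ := exists_escape hS hS₂ (X := X) (fun l hl => by
      rw [conjMap_eq_self_iff.2 (hXn hl)]; exact hXU) hXK
    refine ⟨g₁ * x * g₁⁻¹, hXU, hX₁X, hXn, hX₁n, hcomm, hpow, hyR, hyU, fun v hv => ?_, hmoved⟩
    have hv' : g₁⁻¹ * v * g₁ ∈ normalizer (X : Set G) := by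
      have := hle (conj_mem_conjMap (g := g₁⁻¹) hv)
      rw [inv_inv] at this
      exact hXn this
    have hc : ⁅v, g₁ * x * g₁⁻¹⁆ = g₁ * ((g₁⁻¹ * v * g₁) * x * (g₁⁻¹ * v * g₁)⁻¹ * x⁻¹) * g₁⁻¹ := by
      rw [commutatorElement_def]; group
    have hcX : (g₁⁻¹ * v * g₁) * x * (g₁⁻¹ * v * g₁)⁻¹ * x⁻¹ ∈ X :=
      X.mul_mem ((mem_normalizer_iff.1 hv' x).1 hx) (X.inv_mem hx)
    refine mem_sup_left ?_
    rw [hc, show ∀ c : G, ⁅g₁ * c * g₁⁻¹, g₁ * x * g₁⁻¹⁆ = g₁ * ⁅c, x⁆ * g₁⁻¹ from fun c => by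
      simp [commutatorElement_def, mul_assoc]]
    exact (mem_normalizer_iff.1 (hDn hg₁) _).1 (hXX (commutator_mem_commutator hcX hx))

end CfsgLib.PLocal.ZJFail
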