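import Mathlib
import Cfsg.Agent.Lib.PLocal.QdPair

/-!
# Natural pairs with a diagonal element; extension of scalars
-/

set_option autoImplicit false

namespace CfsgLib.PLocal.ZJFail

open Subgroup
open scoped MatrixGroups

universe u v

variable {p : ℕ} [hp : Fact p.Prime]

/-- A natural pair together with an operator acting as `diag(l, l')`. -/
def IsBorelPair {M : Type*} [AddCommGroup M] [Module (ZMod p) M] (A B T : Module.End (ZMod p) M)
    (l l' : ZMod p) (U : Submodule (ZMod p) M) (v w : M) : Prop :=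
  IsNaturalPair A B U v w ∧ (∀ z ∈ U, T z ∈ U) ∧ T v - l • v ∈ U ∧ T w - l' • w ∈ U

/-- Such a configuration descends along a jointly injective family of equivariant maps. -/
theorem borelPair_descend {M : Type*} [AddCommGroup M] [Module (ZMod p) M] {V : Type*}
    [AddCommGroup V] [Module (ZMod p) V] {ι : Type*} [Fintype ι] (π : ι → M →ₗ[ZMod p] V)
    (hinj : ∀ x, (∀ j, π j x = 0) → x = 0) {A B T : Module.End (ZMod p) M}
    {A' B' T' : Module.End (ZMod p) V} (hA : ∀ j x, π j (A x) = A' (π j x))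
    (hB : ∀ j x, π j (B x) = B' (π j x)) (hT : ∀ j x, π j (T x) = T' (π j x)) {l l' : ZMod p}
    {U : Submodule (ZMod p) M} {v w : M} (h : IsBorelPair A B T l l' U v w) :
    ∃ U' v' w', IsBorelPair A' B' T' l l' U' v' w' := by
  classical
  let Ker : Finset ι → Submodule (ZMod p) M := fun s => ⨅ j ∈ sᶜ, LinearMap.ker (π j)
  have hK : ∀ s x, x ∈ Ker s ↔ ∀ j, j ∉ s → π j x = 0 := fun s x => by simp [Ker]
  suffices ∀ (s : Finset ι) (U : Submodule (ZMod p) M) (v w : M), IsBorelPair A B T l l' U v w →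
      U ≤ Ker s → v ∈ Ker s → w ∈ Ker s → ∃ U' v' w', IsBorelPair A' B' T' l l' U' v' w' from
    this Finset.univ U v w h (fun x _ => (hK _ x).2 fun j hj => absurd (Finset.mem_univ j) hj)
      ((hK _ v).2 fun j hj => absurd (Finset.mem_univ j) hj)
      ((hK _ w).2 fun j hj => absurd (Finset.mem_univ j) hj)
  intro s
  induction s using Finset.induction with
  | empty =>
    intro U v w h _ hv _
    exact absurd (hinj v fun j => (hK _ v).1 hv j (Finset.notMem_empty j) ▸ rfl)
      fun h0 => h.1.1 (h0 ▸ U.zero_mem)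
  | @insert j s hjs ih =>
    intro U v w h hU hv hw
    obtain ⟨⟨hvU, hinv, hAv, hAw, hBv, hBw⟩, hTinv, hTv, hTw⟩ := h
    set P := π j with hP
    have hKins : ∀ x, x ∈ Ker (insert j s) → P x = 0 → x ∈ Ker s := fun x hx hx0 =>
      (hK s x).2 fun i hi => by
        by_cases hij : i = j
        · exact hij ▸ hx0
        · exact (hK _ x).1 hx i (by simp [hij, hi])
    have hKinv : ∀ (t : Finset ι) x, x ∈ Ker t → A x ∈ Ker t ∧ B x ∈ Ker t ∧ T x ∈ Ker t :=
      fun t x hx =>
      ⟨(hK t _).2 fun i hi => by rw [hA, (hK t x).1 hx i hi, map_zero],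
        (hK t _).2 fun i hi => by rw [hB, (hK t x).1 hx i hi, map_zero],
        (hK t _).2 fun i hi => by rw [hT, (hK t x).1 hx i hi, map_zero]⟩
    by_cases hc : v ∈ U ⊔ Ker s
    · obtain ⟨u₀, hu₀, k, hk, hvk⟩ := Submodule.mem_sup.1 hc
      have hkey : v - k ∈ U := by rw [← hvk]; simpa using hu₀
      set k' := B k - k with hk'
      have hk's : k' ∈ Ker s := (Ker s).sub_mem (hKinv s k hk).2.1 hk
      have hwk : w - k' ∈ U := by
        have h1 : B (v - k) ∈ U := (hinv _ hkey).2
        have e : w - k' = B (v - k) - (v - k) - (B v - (v + w)) := by rw [hk', map_sub]; abel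
        rw [e]; exact U.sub_mem (U.sub_mem h1 hkey) hBv
      refine ih (U ⊓ Ker s) k k' ⟨⟨fun h' => hvU ?_, fun z hz =>
          ⟨⟨(hinv z hz.1).1, (hKinv s z hz.2).1⟩, ⟨(hinv z hz.1).2, (hKinv s z hz.2).2.1⟩⟩,
          ?_, ?_, ?_, ?_⟩, fun z hz => ⟨hTinv z hz.1, (hKinv s z hz.2).2.2⟩, ?_, ?_⟩
        inf_le_right hk hk's
      · simpa using U.add_mem hkey h'.1
      · refine ⟨?_, (Ker s).sub_mem (hKinv s k hk).1 hk⟩
        have e : A k - k = (A v - v) - (A (v - k) - (v - k)) := by rw [map_sub]; abel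
        rw [e]; exact U.sub_mem hAv (U.sub_mem (hinv _ hkey).1 hkey)
      · refine ⟨?_, (Ker s).sub_mem (hKinv s k' hk's).1 ((Ker s).add_mem hk hk's)⟩
        have e : A k' - (k + k') =
            (A w - (v + w)) - A (w - k') + ((v - k) + (w - k')) := by simp only [map_sub]; abel
        rw [e]; exact U.add_mem (U.sub_mem hAw (hinv _ hwk).1) (U.add_mem hkey hwk)
      · refine ⟨?_, (Ker s).sub_mem (hKinv s k hk).2.1 ((Ker s).add_mem hk hk's)⟩
        rw [hk']; simp
      · refine ⟨?_, (Ker s).sub_mem (hKinv s k' hk's).2.1 hk's⟩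
        have e : B k' - k' = (B w - w) - (B (w - k') - (w - k')) := by simp only [map_sub]; abel
        rw [e]; exact U.sub_mem hBw (U.sub_mem (hinv _ hwk).2 hwk)
      · refine ⟨?_, (Ker s).sub_mem (hKinv s k hk).2.2 ((Ker s).smul_mem l hk)⟩
        have e : T k - l • k = (T v - l • v) - (T (v - k) - l • (v - k)) := by
          rw [map_sub, smul_sub]; abel
        rw [e]; exact U.sub_mem hTv (U.sub_mem (hTinv _ hkey) (U.smul_mem l hkey))
      · refine ⟨?_, (Ker s).sub_mem (hKinv s k' hk's).2.2 ((Ker s).smul_mem l' hk's)⟩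
        have e : T k' - l' • k' = (T w - l' • w) - (T (w - k') - l' • (w - k')) := by
          rw [map_sub T w k', smul_sub l' w k']; abel
        rw [e]; exact U.sub_mem hTw (U.sub_mem (hTinv _ hwk) (U.smul_mem l' hwk))
    · refine ⟨U.map P, P v, P w, ⟨?_, ?_, ⟨_, hAv, ?_⟩, ⟨_, hAw, ?_⟩, ⟨_, hBv, ?_⟩, ⟨_, hBw, ?_⟩⟩,
        ?_, ⟨_, hTv, ?_⟩, ⟨_, hTw, ?_⟩⟩
      · rintro ⟨u₀, hu₀, he⟩
        refine hc (Submodule.mem_sup.2 ⟨u₀, hu₀, v - u₀, ?_, by abel⟩)
        exact hKins _ ((Ker _).sub_mem hv (hU hu₀)) (by rw [map_sub, he, sub_self])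
      · rintro _ ⟨z, hz, rfl⟩
        exact ⟨⟨A z, (hinv z hz).1, hA j z⟩, ⟨B z, (hinv z hz).2, hB j z⟩⟩
      rotate_left 4
      · rintro _ ⟨z, hz, rfl⟩
        exact ⟨T z, hTinv z hz, hT j z⟩
      all_goals simp [hP, hA, hB, hT]

/-- Extension of scalars of endomorphisms, with coordinate maps back and the inclusion. -/
theorem exists_extension {V : Type v} [AddCommGroup V] [Module (ZMod p) V] [Finite V] (K : Type)
    [Field K] [Finite K] [Algebra (ZMod p) K] :
    ∃ (n d : ℕ) (Φ : Module.End (ZMod p) V →+* Module.End K (Fin n → K))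
      (ι : V →ₗ[ZMod p] (Fin n → K)) (π : Fin d → (Fin n → K) →ₗ[ZMod p] V),
      Function.Injective Φ ∧ Function.Injective ι ∧ (∀ f x, Φ f (ι x) = ι (f x)) ∧
      (∀ f j z, π j (Φ f z) = f (π j z)) ∧ (∀ z, (∀ j, π j z = 0) → z = 0) ∧
      ∀ j (c : K) x, ∃ a : ZMod p, π j (c • ι x) = a • x := by
  classical
  haveI : Module.Finite (ZMod p) V := Module.Finite.of_finite
  haveI : Module.Finite (ZMod p) K := Module.Finite.of_finite
  let bas := Module.finBasis (ZMod p) V
  let bF := Module.finBasis (ZMod p) K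
  let Φ : Module.End (ZMod p) V →+* Module.End K (Fin (Module.finrank (ZMod p) V) → K) :=
    ((Matrix.toLinAlgEquiv' (R := K)).toRingEquiv.toRingHom.comp
      (algebraMap (ZMod p) K).mapMatrix).comp (LinearMap.toMatrixAlgEquiv bas).toRingEquiv.toRingHom
  have hΦ : Function.Injective Φ :=
    ((Matrix.toLinAlgEquiv' (R := K)).injective.comp
      (Matrix.map_injective (algebraMap (ZMod p) K).injective)).comp
      (LinearMap.toMatrixAlgEquiv bas).injective
  let ι : V →ₗ[ZMod p] (Fin (Module.finrank (ZMod p) V) → K) :=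
    LinearMap.pi fun i => (Algebra.linearMap (ZMod p) K).comp (bas.coord i)
  let π : Fin (Module.finrank (ZMod p) K) →
      (Fin (Module.finrank (ZMod p) V) → K) →ₗ[ZMod p] V := fun j =>
    ∑ i, ((bF.coord j).comp (LinearMap.proj i)).smulRight (bas i)
  have hπ : ∀ j z, π j z = ∑ i, bF.coord j (z i) • bas i := fun j z => by simp [π]
  have hz : ∀ (f : Module.End (ZMod p) V) z i,
      Φ f z i = ∑ k, (LinearMap.toMatrix bas bas f i k) • z k := fun f z i => by
    show ((LinearMap.toMatrixAlgEquiv bas f).map (algebraMap (ZMod p) K)).mulVec z i = _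
    simp [Matrix.mulVec, dotProduct, Algebra.smul_def]
    rfl
  have hι : ∀ x i, ι x i = algebraMap (ZMod p) K (bas.repr x i) := fun x i => by simp [ι]
  refine ⟨_, _, Φ, ι, π, hΦ, fun x y h => bas.repr.injective (Finsupp.ext fun i =>
    (algebraMap (ZMod p) K).injective (by simpa [hι] using congrFun h i)), fun f x => ?_,
    fun f j z => ?_, fun z hz' => ?_, fun j c x => ⟨bF.coord j c, ?_⟩⟩
  · funext i
    rw [hz, hι, ← LinearMap.toMatrix_mulVec_repr bas bas f x]
    simp [Matrix.mulVec, dotProduct, hι, Algebra.smul_def]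
  · rw [hπ, hπ, map_sum]
    simp only [hz, map_sum, map_smul, Finset.sum_smul]
    rw [Finset.sum_comm]
    refine Finset.sum_congr rfl fun k _ => ?_
    conv_rhs => rw [← bas.sum_repr (f (bas k)), Finset.smul_sum]
    refine Finset.sum_congr rfl fun i _ => ?_
    rw [LinearMap.toMatrix_apply, smul_smul, smul_eq_mul, mul_comm]
  · exact funext fun i => bF.ext_elem fun j => by
      have := congrArg (fun y => bas.repr y i) (hz' j)
      simpa [hπ, Finsupp.single_apply] using this
  · rw [hπ]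
    conv_rhs => rw [← bas.sum_repr x, Finset.smul_sum]
    refine Finset.sum_congr rfl fun i _ => ?_
    rw [smul_smul]
    congr 1
    rw [Pi.smul_apply, hι, smul_eq_mul, mul_comm, ← Algebra.smul_def, map_smul, smul_eq_mul,
      mul_comm]

end CfsgLib.PLocal.ZJFail
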