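import Mathlib
import Cfsg.Agent.Lib.PLocal.QdPair
import Cfsg.Agent.Lib.PLocal.SylowIn

/-!
# A Borel subgroup of `SL₂(p)` over a given Sylow subgroup
-/

set_option autoImplicit false

namespace CfsgLib.PLocal.ZJFail

open Subgroup
open scoped MatrixGroups

universe u

variable {p : ℕ} [hp : Fact p.Prime] {F : Type} [Field F] [CharP F p]

/-- The vector `c₀ v + c₁ w` for a prime field pair `c`. -/
def lin (v w : Fin 2 → F) (c : Fin 2 → ZMod p) : Fin 2 → F :=
  (ZMod.castHom (dvd_refl p) F (c 0)) • v + (ZMod.castHom (dvd_refl p) F (c 1)) • w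

/-- A homomorphism from `SL₂(p)` natural on two vectors for the generators is natural for every
element. -/
theorem natural_on_vectors (ψ : SL(2, ZMod p) →* SL(2, F)) {v w : Fin 2 → F}
    (r1 : (ψ (upU 1) : Matrix (Fin 2) (Fin 2) F).mulVec v = v)
    (r2 : (ψ (upU 1) : Matrix (Fin 2) (Fin 2) F).mulVec w = v + w)
    (r3 : (ψ (loL 1) : Matrix (Fin 2) (Fin 2) F).mulVec v = v + w)
    (r4 : (ψ (loL 1) : Matrix (Fin 2) (Fin 2) F).mulVec w = w) (M : SL(2, ZMod p)) :
    ∀ c, (ψ M : Matrix (Fin 2) (Fin 2) F).mulVec (lin v w c) =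
      lin v w ((M : Matrix (Fin 2) (Fin 2) (ZMod p)).mulVec c) := by
  have key : ∀ M ∈ (⊤ : Subgroup SL(2, ZMod p)), ∀ c,
      (ψ M : Matrix (Fin 2) (Fin 2) F).mulVec (lin v w c) =
        lin v w ((M : Matrix (Fin 2) (Fin 2) (ZMod p)).mulVec c) := by
    rw [← closure_upU_loL]
    intro M hM
    induction hM using Subgroup.closure_induction with
    | mem y hy =>
      intro c
      rcases hy with rfl | rfl
      · simp only [lin, Matrix.mulVec_add, Matrix.mulVec_smul, r1, r2, upU_coe]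
        simp [Matrix.mulVec, dotProduct, Fin.sum_univ_two]
        module
      · simp only [lin, Matrix.mulVec_add, Matrix.mulVec_smul, r3, r4, loL_coe]
        simp [Matrix.mulVec, dotProduct, Fin.sum_univ_two]
        module
    | one => intro c; simp
    | mul a b _ _ iha ihb =>
      intro c
      rw [map_mul, Matrix.SpecialLinearGroup.coe_mul, Matrix.SpecialLinearGroup.coe_mul,
        ← Matrix.mulVec_mulVec, ihb, iha, Matrix.mulVec_mulVec]
    | inv a _ iha =>
      intro c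
      have h := iha ((↑(a⁻¹) : Matrix (Fin 2) (Fin 2) (ZMod p)).mulVec c)
      rw [Matrix.mulVec_mulVec c, ← Matrix.SpecialLinearGroup.coe_mul, mul_inv_cancel,
        Matrix.SpecialLinearGroup.coe_one, Matrix.one_mulVec] at h
      rw [← h, Matrix.mulVec_mulVec, ← Matrix.SpecialLinearGroup.coe_mul, ← map_mul, inv_mul_cancel,
        map_one, Matrix.SpecialLinearGroup.coe_one, Matrix.one_mulVec]
  exact key M (mem_top M)

theorem natural_pair_indep {A B : Matrix (Fin 2) (Fin 2) F} {v w : Fin 2 → F} (hv : v ≠ 0)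
    (r1 : A.mulVec v = v) (r2 : A.mulVec w = v + w) : LinearIndependent F ![v, w] := by
  rw [LinearIndependent.pair_iff' hv]
  intro c hc
  have h := r2
  rw [← hc, Matrix.mulVec_smul, r1] at h
  exact hv (by simpa using h.symm)

variable [Fintype F]

/-- Over any Sylow `p`-subgroup of a group mapping onto a subgroup of `SL₂(F)` with opposite
unipotents: preimages of natural Borel generators. -/
theorem exists_borel_preimages (h2 : p ≠ 2) {X : Type u} [Group X] [Finite X]
    (φ : X →* SL(2, F)) {a b : X} {x : F} (hx : x ≠ 0) (ha : φ a = upU x) (hb : φ b = loL 1)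
    (P : Sylow p X) {c : ZMod p} (hc : c ≠ 0) :
    ∃ t ∈ normalizer ((P : Subgroup X) : Set X), ∃ u ∈ (P : Subgroup X), ∃ (l : X) (v w : Fin 2 → F),
      v ≠ 0 ∧ LinearIndependent F ![v, w] ∧
      (φ u : Matrix (Fin 2) (Fin 2) F).mulVec v = v ∧
      (φ u : Matrix (Fin 2) (Fin 2) F).mulVec w = v + w ∧
      (φ l : Matrix (Fin 2) (Fin 2) F).mulVec v = v + w ∧
      (φ l : Matrix (Fin 2) (Fin 2) F).mulVec w = w ∧
      (φ t : Matrix (Fin 2) (Fin 2) F).mulVec v = (ZMod.castHom (dvd_refl p) F c) • v ∧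
      (φ t : Matrix (Fin 2) (Fin 2) F).mulVec w = (ZMod.castHom (dvd_refl p) F c⁻¹) • w := by
  classical
  obtain ⟨ψ, hψ, hle⟩ := exists_slTwo_le_of_two_sylow h2 φ.range
    (one_lt_card_sylow_of_opposite φ.range hx ⟨a, ha⟩ ⟨b, hb⟩)
  obtain ⟨v, w, hv, r1, r2, r3, r4⟩ := exists_natural_vectors h2 ψ hψ
  have hnat := natural_on_vectors ψ r1 r2 r3 r4
  let δ : SL(2, ZMod p) := ⟨!![c, 0; 0, c⁻¹], by simp [Matrix.det_fin_two_of, hc]⟩
  have hτv : (ψ δ : Matrix (Fin 2) (Fin 2) F).mulVec v = (ZMod.castHom (dvd_refl p) F c) • v := by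
    have := hnat δ ![1, 0]
    simpa [lin, δ, Matrix.mulVec, dotProduct, Fin.sum_univ_two] using this
  have hτw : (ψ δ : Matrix (Fin 2) (Fin 2) F).mulVec w = (ZMod.castHom (dvd_refl p) F c⁻¹) • w := by
    have := hnat δ ![0, 1]
    simpa [lin, δ, Matrix.mulVec, dotProduct, Fin.sum_univ_two] using this
  have hli := natural_pair_indep (B := 1) hv r1 r2
  have hspan : ∀ z : Fin 2 → F, ∃ s r : F, s • v + r • w = z := fun z => by
    have hsp := hli.span_eq_top_of_card_eq_finrank (by simp)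
    rw [Matrix.range_cons_cons_empty] at hsp
    exact Submodule.mem_span_pair.1 (hsp ▸ Submodule.mem_top : z ∈ _)
  -- the stabilizer of `v` in the image is a Sylow subgroup
  let P₁ : Subgroup SL(2, F) :=
    { carrier := {r | r ∈ φ.range ∧ (r : Matrix (Fin 2) (Fin 2) F).mulVec v = v}
      one_mem' := ⟨one_mem _, by simp⟩
      mul_mem' := fun {r s} hr hs => ⟨mul_mem hr.1 hs.1, by
        rw [Matrix.SpecialLinearGroup.coe_mul, ← Matrix.mulVec_mulVec, hs.2, hr.2]⟩
      inv_mem' := fun {r} hr => ⟨inv_mem hr.1, by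
        conv_lhs => rw [← hr.2, Matrix.mulVec_mulVec, ← Matrix.SpecialLinearGroup.coe_mul,
          inv_mul_cancel, Matrix.SpecialLinearGroup.coe_one, Matrix.one_mulVec]⟩ }
  have hA₁ : ψ (upU 1) ∈ P₁ := ⟨hle ⟨_, rfl⟩, r1⟩
  have hP₁p : IsPGroup p P₁ := by
    rintro ⟨r, hr, hrv⟩
    refine ⟨1, Subtype.ext ?_⟩
    show r ^ p ^ 1 = 1
    rw [pow_one]
    obtain ⟨s, q, hsq⟩ := hspan ((r : Matrix (Fin 2) (Fin 2) F).mulVec w)
    have hq : q = 1 := by
      set Bm : Matrix (Fin 2) (Fin 2) F := Matrix.of ![![v 0, w 0], ![v 1, w 1]] with hBm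
      have hdB : Bm.det ≠ 0 := by
        intro h0
        obtain ⟨e, he0, he⟩ := Matrix.exists_mulVec_eq_zero_iff.2 h0
        refine he0 ?_
        have h' : e 0 • v + e 1 • w = 0 := funext fun i => by
          have := congrFun he i
          fin_cases i <;>
            (simp [hBm, Matrix.mulVec, dotProduct, Fin.sum_univ_two] at this ⊢
             linear_combination this)
        have := LinearIndependent.pair_iff.1 hli _ _ h'
        funext i; fin_cases i <;> simp [this.1, this.2]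
      have e : (r : Matrix (Fin 2) (Fin 2) F) * Bm = Bm * !![1, s; 0, q] := by
        ext i j
        fin_cases j
        · have := congrFun hrv i
          fin_cases i <;>
            simpa [hBm, Matrix.mul_apply, Matrix.mulVec, dotProduct, Fin.sum_univ_two] using this
        · have := congrFun hsq i
          fin_cases i <;>
            (simp [hBm, Matrix.mul_apply, Matrix.mulVec, dotProduct, Fin.sum_univ_two] at this ⊢
             linear_combination -this)
      have := congrArg Matrix.det e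
      rw [Matrix.det_mul, Matrix.det_mul, r.2, Matrix.det_fin_two_of 1 s 0 q, one_mul] at this
      have h3 : Bm.det * (q - 1) = 0 := by linear_combination -this
      exact sub_eq_zero.1 ((mul_eq_zero.1 h3).resolve_left hdB)
    subst hq
    rw [one_smul] at hsq
    have hpow : ∀ n : ℕ, ((r ^ n : SL(2, F)) : Matrix (Fin 2) (Fin 2) F).mulVec w =
        ((n : F) * s) • v + w := by
      intro n
      induction n with
      | zero => simp
      | succ n ih =>
        rw [pow_succ', Matrix.SpecialLinearGroup.coe_mul, ← Matrix.mulVec_mulVec, ih,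
          Matrix.mulVec_add, Matrix.mulVec_smul, hrv, ← hsq]
        push_cast
        module
    have hpv : ∀ n : ℕ, ((r ^ n : SL(2, F)) : Matrix (Fin 2) (Fin 2) F).mulVec v = v := by
      intro n
      induction n with
      | zero => simp
      | succ n ih =>
        rw [pow_succ', Matrix.SpecialLinearGroup.coe_mul, ← Matrix.mulVec_mulVec, ih, hrv]
    refine Subtype.ext (Matrix.ext_of_mulVec_single fun i => ?_)
    obtain ⟨s', q', h'⟩ := hspan (Pi.single i 1)
    rw [← h', Matrix.SpecialLinearGroup.coe_one, Matrix.one_mulVec, Matrix.mulVec_add,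
      Matrix.mulVec_smul, Matrix.mulVec_smul, hpv, hpow, CharP.cast_eq_zero F p, zero_mul, zero_smul,
      zero_add]
  -- fixed vectors of `ψ (upU 1)`
  have hfix : ∀ z, (ψ (upU 1) : Matrix (Fin 2) (Fin 2) F).mulVec z = z → ∃ s : F, s • v = z := by
    intro z hz
    obtain ⟨s, q, rfl⟩ := hspan z
    rw [Matrix.mulVec_add, Matrix.mulVec_smul, Matrix.mulVec_smul, r1, r2, smul_add] at hz
    have hq : q • v = 0 := by
      have h1 : (s • v + (q • v + q • w)) - (s • v + q • w) = 0 := by rw [hz, sub_self]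
      rw [← h1]; abel
    refine ⟨s, ?_⟩
    rcases smul_eq_zero.1 hq with h | h
    · rw [h, zero_smul, add_zero]
    · exact absurd h hv
  -- `P₁` is a Sylow subgroup of the image
  have hP₁ : SylowIn p P₁ φ.range := by
    have hle₁ : P₁ ≤ φ.range := fun r hr => hr.1
    obtain ⟨T, hT, hP₁T⟩ := exists_sylowIn_le (p := p) hP₁p hle₁
    have hTP : T ≤ P₁ := by
      haveI : Nontrivial T := ⟨⟨⟨ψ (upU 1), hP₁T hA₁⟩, 1, fun h =>
        one_ne_zero (upU_injective ((hψ ((congrArg Subtype.val h).trans (map_one ψ).symm)).trans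
          upU_zero.symm))⟩⟩
      haveI := hT.2.1.center_nontrivial
      obtain ⟨⟨⟨z, hzT⟩, hzc⟩, hz1⟩ := exists_ne (1 : center T)
      have hcomm : ∀ y ∈ T, y * z = z * y := fun y hy =>
        congrArg Subtype.val (mem_center_iff.1 hzc ⟨y, hy⟩)
      -- an element of `T` mapping `v` to a multiple fixes it
      have hunip : ∀ r ∈ T, ∀ s : F, (r : Matrix (Fin 2) (Fin 2) F).mulVec v = s • v →
          (r : Matrix (Fin 2) (Fin 2) F).mulVec v = v := by
        intro r hr s hs
        obtain ⟨k, hk⟩ := hT.2.1 ⟨r, hr⟩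
        have hk' : r ^ p ^ k = 1 := by simpa using congrArg Subtype.val hk
        have hpow : ∀ n : ℕ, ((r ^ n : SL(2, F)) : Matrix (Fin 2) (Fin 2) F).mulVec v = s ^ n • v := by
          intro n
          induction n with
          | zero => simp
          | succ n ih =>
            rw [pow_succ', Matrix.SpecialLinearGroup.coe_mul, ← Matrix.mulVec_mulVec, ih,
              Matrix.mulVec_smul, hs, smul_smul, pow_succ]
        have h1 := hpow (p ^ k)
        rw [hk', Matrix.SpecialLinearGroup.coe_one, Matrix.one_mulVec] at h1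
        have h2' : (s ^ p ^ k - 1) • v = 0 := by rw [sub_smul, one_smul, ← h1, sub_self]
        have hs1 : s ^ p ^ k = 1 := sub_eq_zero.1 ((smul_eq_zero.1 h2').resolve_right hv)
        have hs' : (s - 1) ^ p ^ k = 0 := by rw [sub_pow_char_pow, hs1, one_pow, sub_self]
        rw [hs, sub_eq_zero.1 (pow_eq_zero_iff (pow_ne_zero k hp.out.ne_zero) |>.1 hs'), one_smul]
      obtain ⟨s₀, hs₀⟩ := hfix ((z : Matrix (Fin 2) (Fin 2) F).mulVec v) (by
        rw [Matrix.mulVec_mulVec, ← Matrix.SpecialLinearGroup.coe_mul, hcomm _ (hP₁T hA₁),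
          Matrix.SpecialLinearGroup.coe_mul, ← Matrix.mulVec_mulVec, r1])
      have hzv := hunip z hzT s₀ hs₀.symm
      intro r hr
      obtain ⟨s, q, hsq⟩ := hspan ((r : Matrix (Fin 2) (Fin 2) F).mulVec v)
      refine ⟨hT.1 hr, hunip r hr s ?_⟩
      have h1 : (z : Matrix (Fin 2) (Fin 2) F).mulVec (s • v + q • w) = s • v + q • w := by
        rw [hsq, Matrix.mulVec_mulVec, ← Matrix.SpecialLinearGroup.coe_mul, ← hcomm r hr,
          Matrix.SpecialLinearGroup.coe_mul, ← Matrix.mulVec_mulVec, hzv]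
      rw [Matrix.mulVec_add, Matrix.mulVec_smul, Matrix.mulVec_smul, hzv, add_right_inj] at h1
      by_cases hq : q = 0
      · rw [← hsq, hq, zero_smul, add_zero]
      · refine absurd (Subtype.ext (Subtype.ext (Subtype.ext
          (Matrix.ext_of_mulVec_single fun i => ?_)))) hz1
        obtain ⟨s', q', h'⟩ := hspan (Pi.single i 1)
        show (z : Matrix (Fin 2) (Fin 2) F).mulVec _ =
          ((1 : SL(2, F)) : Matrix (Fin 2) (Fin 2) F).mulVec _
        rw [← h', Matrix.SpecialLinearGroup.coe_one, Matrix.one_mulVec, Matrix.mulVec_add,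
          Matrix.mulVec_smul, Matrix.mulVec_smul, hzv, smul_right_injective _ hq h1]
    rwa [le_antisymm hP₁T hTP]
  -- move to the given Sylow subgroup
  set P' : Subgroup SL(2, F) := (P : Subgroup X).map φ with hP'
  have hP's : SylowIn p P' φ.range := by
    refine ⟨?_, P.2.map φ, fun h => P.not_dvd_index ?_⟩
    · rw [hP', MonoidHom.range_eq_map]; exact map_mono le_top
    · refine h.trans ?_
      rw [relIndex, show P'.subgroupOf φ.range = (P : Subgroup X).map φ.rangeRestrict from ?_]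
      · exact index_map_dvd _ φ.rangeRestrict_surjective
      refine Subgroup.ext fun y => ⟨fun ⟨z, hz, he⟩ => ⟨z, hz, Subtype.ext he⟩, ?_⟩
      rintro ⟨z, hz, rfl⟩
      exact ⟨z, hz, rfl⟩
  obtain ⟨k, hk, hkP⟩ := hP's.exists_conj_eq hP₁
  obtain ⟨k₀, rfl⟩ := hk
  obtain ⟨u₁, hu₁⟩ := hle ⟨upU 1, rfl⟩
  obtain ⟨l₁, hl₁⟩ := hle ⟨loL 1, rfl⟩
  obtain ⟨t₁, ht₁⟩ := hle ⟨δ, rfl⟩
  have hP₁norm : ψ δ ∈ normalizer (P₁ : Set SL(2, F)) := by
    refine conjMap_eq_self_iff.1 (eq_of_le_of_card_ge ?_ (card_conjMap _ P₁).ge)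
    rintro _ ⟨r, hr, rfl⟩
    show ψ δ * r * (ψ δ)⁻¹ ∈ P₁
    have hcv : ZMod.castHom (dvd_refl p) F c ≠ 0 :=
      (map_ne_zero _).2 hc
    refine ⟨mul_mem (mul_mem (hle ⟨δ, rfl⟩) hr.1) (inv_mem (hle ⟨δ, rfl⟩)), ?_⟩
    have hi : ((ψ δ)⁻¹ : SL(2, F)).1.mulVec v = (ZMod.castHom (dvd_refl p) F c)⁻¹ • v := by
      have h1 := congrArg ((ψ δ)⁻¹ : SL(2, F)).1.mulVec hτv
      rw [Matrix.mulVec_mulVec, ← Matrix.SpecialLinearGroup.coe_mul, inv_mul_cancel,
        Matrix.SpecialLinearGroup.coe_one, Matrix.one_mulVec, Matrix.mulVec_smul] at h1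
      rw [eq_inv_smul_iff₀ hcv]
      exact h1.symm
    rw [Matrix.SpecialLinearGroup.coe_mul, Matrix.SpecialLinearGroup.coe_mul, ← Matrix.mulVec_mulVec,
      ← Matrix.mulVec_mulVec, hi, Matrix.mulVec_smul, hr.2, Matrix.mulVec_smul, hτv, smul_smul,
      inv_mul_cancel₀ hcv, one_smul]
  -- elements over the conjugates
  have hconj : ∀ y : X, φ (k₀ * y * k₀⁻¹) = φ k₀ * φ y * (φ k₀)⁻¹ := fun y => by
    rw [map_mul, map_mul, map_inv]
  set t₂ := k₀ * t₁ * k₀⁻¹ with ht₂
  have ht₂N : φ t₂ ∈ normalizer (P' : Set SL(2, F)) := by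
    rw [ht₂, hconj, ht₁, ← hkP, ← conjMap_normalizer]
    exact conj_mem_conjMap hP₁norm
  set Pre := P'.comap φ with hPre
  have hPP : (P : Subgroup X) ≤ Pre := le_comap_map φ _
  have hPs : SylowIn p (P : Subgroup X) Pre :=
    ⟨hPP, P.2, fun h => P.not_dvd_index (h.trans (relIndex_dvd_index_of_le hPP))⟩
  have hPs' : SylowIn p (conjMap t₂ (P : Subgroup X)) Pre := by
    refine hPs.of_card_le (P.2.map _) ?_ (card_conjMap _ _).ge
    rintro _ ⟨y, hy, rfl⟩
    show φ (t₂ * y * t₂⁻¹) ∈ P'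
    rw [map_mul, map_mul, map_inv]
    exact (mem_normalizer_iff.1 ht₂N _).1 ⟨y, hy, rfl⟩
  obtain ⟨e, he, heP⟩ := hPs.exists_conj_eq hPs'
  rw [conjMap_conjMap, conjMap_eq_self_iff] at heP
  obtain ⟨q, hq, hqe⟩ := he
  have htN : q⁻¹ * (e * t₂) ∈ normalizer ((P : Subgroup X) : Set X) :=
    mul_mem (inv_mem (le_normalizer hq)) heP
  obtain ⟨u, huP, hu⟩ : φ (k₀ * u₁ * k₀⁻¹) ∈ P' := by
    rw [hconj, hu₁, ← hkP]; exact conj_mem_conjMap hA₁
  set ki := ((φ k₀ : SL(2, F)) : Matrix (Fin 2) (Fin 2) F) with hki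
  have hinv : ∀ z, ((φ k₀)⁻¹ : SL(2, F)).1.mulVec (ki.mulVec z) = z := fun z => by
    rw [Matrix.mulVec_mulVec, hki, ← Matrix.SpecialLinearGroup.coe_mul, inv_mul_cancel,
      Matrix.SpecialLinearGroup.coe_one, Matrix.one_mulVec]
  have hmv : ∀ (M : SL(2, F)) (z : Fin 2 → F),
      ((φ k₀ * M * (φ k₀)⁻¹ : SL(2, F)) : Matrix (Fin 2) (Fin 2) F).mulVec (ki.mulVec z) =
        ki.mulVec ((M : Matrix (Fin 2) (Fin 2) F).mulVec z) := fun M z => by
    rw [Matrix.SpecialLinearGroup.coe_mul, Matrix.SpecialLinearGroup.coe_mul, ← Matrix.mulVec_mulVec,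
      ← Matrix.mulVec_mulVec, hinv]
  refine ⟨q⁻¹ * (e * t₂), htN, u, huP, k₀ * l₁ * k₀⁻¹, ki.mulVec v, ki.mulVec w,
    fun h0 => hv (by rw [← hinv v, h0, Matrix.mulVec_zero]), ?_, ?_, ?_, ?_, ?_, ?_, ?_⟩
  · rw [LinearIndependent.pair_iff]
    intro s r h
    refine LinearIndependent.pair_iff.1 hli s r ?_
    rw [← hinv (s • v + r • w), Matrix.mulVec_add, Matrix.mulVec_smul, Matrix.mulVec_smul, h,
      Matrix.mulVec_zero]
  · rw [hu, hconj, hu₁, hmv, r1]
  · rw [hu, hconj, hu₁, hmv, r2, Matrix.mulVec_add]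
  · rw [hconj, hl₁, hmv, r3, Matrix.mulVec_add]
  · rw [hconj, hl₁, hmv, r4]
  all_goals
    rw [show φ (q⁻¹ * (e * t₂)) = φ k₀ * ψ δ * (φ k₀)⁻¹ by
      rw [map_mul, map_mul, map_inv, hqe, inv_mul_cancel_left, ht₂, hconj, ht₁], hmv]
  · rw [hτv, Matrix.mulVec_smul]
  · rw [hτw, Matrix.mulVec_smul]

end CfsgLib.PLocal.ZJFail
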