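import Mathlib
import Cfsg.Agent.Lib.PLocal.ZJFailBorel
import Cfsg.Agent.Lib.PLocal.ZJFailSLTwo

/-!
# A natural section and an eigenvector for a torus element, from a quadratic pair

`T = NM + MN` commutes with the group. On the kernel of a high power of `T` the group acts as a
`p`-group; an irreducible section of the range has dimension two.
-/

set_option autoImplicit false

namespace CfsgLib.PLocal.ZJFail

open Subgroup
open scoped MatrixGroups

universe u v

variable {p : ℕ} [hp : Fact p.Prime]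

theorem quad_pair_identities {A : Type*} [Ring A] {N M : A} (hN : N * N = 0) (hM : M * M = 0) :
    (1 - M) * (1 - N) * ((1 + N) * (1 + M)) = 1 ∧
      N * M + M * N = (1 + N) * (1 + M) + (1 - M) * (1 - N) - 1 - 1 := by
  refine ⟨?_, by noncomm_ring⟩
  calc (1 - M) * (1 - N) * ((1 + N) * (1 + M)) = (1 - M) * (1 - N * N) * (1 + M) := by
        noncomm_ring
    _ = 1 := by rw [hN]; calc (1 - M) * (1 - 0) * (1 + M) = 1 - M * M := by noncomm_ring
                  _ = 1 := by rw [hM, sub_zero]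

section Kernel

variable {K : Type} [Field K] [Fintype K] [CharP K p]

/-- On the kernel of a power of `NM + MN` a quadratic pair acts as a `p`-group. -/
theorem pImage_on_ker {X : Type u} [Group X] [Finite X] {a b : X}
    (hgen : Subgroup.closure {a, b} = ⊤) {W : Type v} [AddCommGroup W] [Module K W]
    [FiniteDimensional K W] (ρ : X →* Module.End K W) (ha : (ρ a - 1) * (ρ a - 1) = 0)
    (hb : (ρ b - 1) * (ρ b - 1) = 0)
    (hk : ∃ e k : ℕ, (a * b) ^ (p ^ e * k) = 1 ∧ k ∣ Fintype.card K - 1) {Y : Submodule K W}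
    (hY : ∀ g, ∀ z ∈ Y, ρ g z ∈ Y) {n : ℕ}
    (hn : ∀ z ∈ Y, (((ρ a - 1) * (ρ b - 1) + (ρ b - 1) * (ρ a - 1)) ^ n) z = 0) (g : X) :
    ∃ k : ℕ, ∀ z ∈ Y, ρ (g ^ p ^ k) z = z := by
  let ρY : X →* Module.End K Y :=
    { toFun := fun g => (ρ g).restrict (hY g)
      map_one' := by ext; simp
      map_mul' := fun x y => by ext; simp [Module.End.mul_apply] }
  have hq : ∀ g, (ρ g - 1) * (ρ g - 1) = 0 → (ρY g - 1) * (ρY g - 1) = 0 := fun g hg => by
    ext w
    simpa [ρY, Module.End.mul_apply] using LinearMap.congr_fun hg w.1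
  by_contra hcon
  have hnp : ¬ ∀ g, ∃ k : ℕ, ρY g ^ p ^ k = 1 := fun hall => hcon (by
    obtain ⟨k, hk'⟩ := hall g
    refine ⟨k, fun z hz => ?_⟩
    rw [← map_pow] at hk'
    exact congrArg Subtype.val (LinearMap.congr_fun hk' ⟨z, hz⟩))
  obtain ⟨φ, x, hx, hφa, hφb, U, v₀, w₀, hv₀, hU, hrel⟩ :=
    exists_slTwo_hom (p := p) hgen ρY (hq a ha) (hq b hb) hnp hk
  set N := ρY a - 1 with hN
  set M := ρY b - 1 with hM
  have h1 : N v₀ ∈ U := by
    have := (hrel a).1
    rw [hφa] at this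
    simpa [hN, upU_coe] using this
  have h2 : N w₀ - x • v₀ ∈ U := by
    have := (hrel a).2
    rw [hφa] at this
    simp [upU_coe] at this
    have e : N w₀ - x • v₀ = ρY a w₀ - (x • v₀ + w₀) := by
      rw [hN, LinearMap.sub_apply, Module.End.one_apply]; abel
    rw [e]; exact this
  have h3 : M v₀ - w₀ ∈ U := by
    have := (hrel b).1
    rw [hφb] at this
    simp [loL_coe] at this
    have e : M v₀ - w₀ = ρY b v₀ - (v₀ + w₀) := by
      rw [hM, LinearMap.sub_apply, Module.End.one_apply]; abel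
    rw [e]; exact this
  have hNU : ∀ z ∈ U, N z ∈ U := fun z hz => by
    rw [hN, LinearMap.sub_apply, Module.End.one_apply]; exact U.sub_mem (hU a z hz) hz
  have hMU : ∀ z ∈ U, M z ∈ U := fun z hz => by
    rw [hM, LinearMap.sub_apply, Module.End.one_apply]; exact U.sub_mem (hU b z hz) hz
  set T := N * M + M * N with hT
  have hTU : ∀ z ∈ U, T z ∈ U := fun z hz => U.add_mem (hNU _ (hMU z hz)) (hMU _ (hNU z hz))
  have h4 : T v₀ - x • v₀ ∈ U := by
    have e : T v₀ - x • v₀ = N (M v₀ - w₀) + (N w₀ - x • v₀) + M (N v₀) := by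
      rw [hT, LinearMap.add_apply, Module.End.mul_apply, Module.End.mul_apply, map_sub]; abel
    rw [e]; exact U.add_mem (U.add_mem (hNU _ h3) h2) (hMU _ h1)
  have h5 : ∀ i, (T ^ i) v₀ - x ^ i • v₀ ∈ U := by
    intro i
    induction i with
    | zero => simp
    | succ i ih =>
      have e : (T ^ (i + 1)) v₀ - x ^ (i + 1) • v₀ =
          T ((T ^ i) v₀ - x ^ i • v₀) + x ^ i • (T v₀ - x • v₀) := by
        rw [pow_succ', Module.End.mul_apply, map_sub, map_smul, pow_succ, mul_smul]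
        module
      rw [e]; exact U.add_mem (hTU _ ih) (U.smul_mem _ h4)
  have h6 : ∀ i (z : Y), (((T ^ i) z : Y) : W) =
      (((ρ a - 1) * (ρ b - 1) + (ρ b - 1) * (ρ a - 1)) ^ i) z := by
    intro i
    induction i with
    | zero => simp
    | succ i ih =>
      intro z
      rw [pow_succ', pow_succ', Module.End.mul_apply, Module.End.mul_apply, ← ih]
      simp [hT, hN, hM, ρY, Module.End.mul_apply]
  have h7 : (T ^ n) v₀ = 0 := Subtype.ext (by rw [h6, hn _ v₀.2]; rfl)
  have h8 := h5 n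
  rw [h7, zero_sub, neg_mem_iff] at h8
  exact hv₀ ((U.smul_mem_iff (pow_ne_zero n hx)).1 h8)

end Kernel

/-- The linear core. -/
theorem exists_borel_core (h2 : p ≠ 2) {X : Type u} [Group X] [Finite X] {a b : X}
    (hgen : Subgroup.closure {a, b} = ⊤) {V : Type v} [AddCommGroup V] [Module (ZMod p) V]
    [Finite V] (ρ : X →* Module.End (ZMod p) V) (ha : (ρ a - 1) * (ρ a - 1) = 0)
    (hb : (ρ b - 1) * (ρ b - 1) = 0) (P : Sylow p X) (E : Submodule (ZMod p) V)
    (hE : ∀ t ∈ normalizer ((P : Subgroup X) : Set X), ∀ e ∈ E, ρ t e ∈ E) {g : X}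
    (hg : ∀ k : ℕ, ∃ e ∈ E, ρ (g ^ p ^ k) e ≠ e) {c : ZMod p} (hc : c ≠ 0) :
    (∃ t ∈ normalizer ((P : Subgroup X) : Set X), ∃ e ∈ E, e ≠ 0 ∧
        (ρ t e = c • e ∨ ρ t e = c⁻¹ • e)) ∧
      ∃ t ∈ normalizer ((P : Subgroup X) : Set X), ∃ u ∈ (P : Subgroup X),
        ∃ (l : X) (U : Submodule (ZMod p) V) (v w : V),
          IsBorelPair (ρ u) (ρ l) (ρ t) c c⁻¹ U v w := by
  classical
  set N₀ := orderOf (a * b) with hN₀
  have hn0 : N₀ ≠ 0 := (orderOf_pos (a * b)).ne'
  set k₀ := ordCompl[p] N₀ with hk₀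
  have hkpos : 0 < k₀ := Nat.ordCompl_pos p hn0
  set m := Nat.totient k₀ with hm
  have hm0 : m ≠ 0 := (Nat.totient_pos.2 hkpos).ne'
  haveI : Fintype (GaloisField p m) := Fintype.ofFinite _
  have hdvd : k₀ ∣ Fintype.card (GaloisField p m) - 1 := by
    rw [← Nat.card_eq_fintype_card, GaloisField.card p m hm0,
      ← Nat.modEq_iff_dvd' (Nat.one_le_pow _ _ hp.out.pos)]
    exact (Nat.ModEq.pow_totient (Nat.coprime_ordCompl hp.out hn0)).symm
  have hk : ∃ e k : ℕ, (a * b) ^ (p ^ e * k) = 1 ∧ k ∣ Fintype.card (GaloisField p m) - 1 :=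
    ⟨N₀.factorization p, k₀, by rw [hk₀, Nat.ordProj_mul_ordCompl_eq_self, hN₀, pow_orderOf_eq_one],
      hdvd⟩
  obtain ⟨nV, d, Φ, ι, π, hΦ, hιinj, hΦι, hπΦ, hπinj, hπι⟩ :=
    exists_extension (p := p) (V := V) (GaloisField p m)
  let ρK : X →* Module.End (GaloisField p m) (Fin nV → GaloisField p m) := Φ.toMonoidHom.comp ρ
  have hρι : ∀ g x, ρK g (ι x) = ι (ρ g x) := fun g x => hΦι (ρ g) x
  have hρπ : ∀ g j z, π j (ρK g z) = ρ g (π j z) := fun g j z => hπΦ (ρ g) j z
  have hqK : ∀ g, (ρ g - 1) * (ρ g - 1) = 0 → (ρK g - 1) * (ρK g - 1) = 0 := fun g hg' => by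
    show (Φ (ρ g) - 1) * (Φ (ρ g) - 1) = 0
    rw [← map_one Φ, ← map_sub, ← map_mul, hg', map_zero]
  set N := ρK a - 1 with hN
  set M := ρK b - 1 with hM
  set T := N * M + M * N with hT
  have hTN : T * N = N * T := by
    rw [hT, add_mul, mul_add, mul_assoc M N N, hqK a ha, ← mul_assoc N N M, hqK a ha]
    simp [mul_assoc]
  have hTM : T * M = M * T := by
    rw [hT, add_mul, mul_add, mul_assoc N M M, hqK b hb, ← mul_assoc M M N, hqK b hb]
    simp [mul_assoc]
  have hTc : ∀ g, Commute T (ρK g) := fun g => closure_pair_induction hgen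
    (P := fun g => Commute T (ρK g)) (by simp)
    (by
      have : ρK a = N + 1 := by rw [hN, sub_add_cancel]
      rw [this]; exact (show Commute T N from hTN).add_right (Commute.one_right T))
    (by
      have : ρK b = M + 1 := by rw [hM, sub_add_cancel]
      rw [this]; exact (show Commute T M from hTM).add_right (Commute.one_right T))
    (fun x y hx hy => by rw [map_mul]; exact hx.mul_right hy) g
  set n := Module.finrank (GaloisField p m) (Fin nV → GaloisField p m) with hn
  set R := LinearMap.range (T ^ n) with hR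
  have hRker : ∀ z ∈ R, T z = 0 → z = 0 := by
    rintro _ ⟨z, rfl⟩ hz
    rw [← Module.End.mul_apply, ← pow_succ'] at hz
    have h1 : LinearMap.ker (T ^ (n + 1)) = LinearMap.ker (T ^ n) :=
      Module.End.ker_pow_eq_ker_pow_finrank_of_le (Nat.le_succ n)
    exact LinearMap.mem_ker.1 (h1 ▸ LinearMap.mem_ker.2 hz : z ∈ LinearMap.ker (T ^ n))
  -- the extended subspace
  set E' : Submodule (GaloisField p m) (Fin nV → GaloisField p m) :=
    Submodule.span (GaloisField p m) (ι '' E) with hE'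
  have hE'inv : ∀ t ∈ normalizer ((P : Subgroup X) : Set X), ∀ z ∈ E', ρK t z ∈ E' := by
    intro t ht z hz
    refine (Submodule.span_le.2 ?_ : E' ≤ E'.comap (ρK t)) hz
    rintro _ ⟨e, he, rfl⟩
    exact Submodule.subset_span ⟨ρ t e, hE t ht e he, (hρι t e).symm⟩
  set E'' := E'.map (T ^ n) with hE''
  have hE''ne : E'' ≠ ⊥ := by
    intro h0
    obtain ⟨k, hk'⟩ := pImage_on_ker (p := p) hgen ρK (hqK a ha) (hqK b hb) hk
      (Y := LinearMap.ker (T ^ n)) (fun g z hz => by
        rw [LinearMap.mem_ker, ← Module.End.mul_apply, ((hTc g).pow_left n).eq,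
          Module.End.mul_apply, LinearMap.mem_ker.1 hz, map_zero])
      (n := n) (fun z hz => LinearMap.mem_ker.1 hz) g
    obtain ⟨e, he, hne⟩ := hg k
    refine hne (hιinj ?_)
    rw [← hρι]
    refine hk' _ (LinearMap.mem_ker.2 ?_)
    have := Submodule.mem_map_of_mem (f := T ^ n)
      (Submodule.subset_span ⟨e, he, rfl⟩ : ι e ∈ E')
    rw [← hE'', h0] at this
    exact (Submodule.mem_bot _).1 this
  have hRinv : ∀ g, ∀ z ∈ R, ρK g z ∈ R := by
    rintro g _ ⟨z, rfl⟩
    exact ⟨ρK g z, by rw [← Module.End.mul_apply, ((hTc g).pow_left n).eq, Module.End.mul_apply]⟩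
  obtain ⟨U, ⟨hUR, hUinv, hUE⟩, hUmax⟩ := Set.exists_max_image
    {U : Submodule (GaloisField p m) (Fin nV → GaloisField p m) |
      U ≤ R ∧ (∀ g, ∀ z ∈ U, ρK g z ∈ U) ∧ ¬ E'' ≤ U}
    (fun U => Nat.card U) (Set.toFinite _) ⟨⊥, bot_le, fun g z hz => by
      rw [Submodule.mem_bot] at hz ⊢; rw [hz, map_zero], fun h => hE''ne (le_bot_iff.1 h)⟩
  set Mi := U ⊔ ⨆ g, E''.map (ρK g) with hMi
  have hE''Mi : E'' ≤ Mi := fun z hz => Submodule.mem_sup_right
    (Submodule.mem_iSup_of_mem 1 ⟨z, hz, by simp⟩)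
  have hMiR : Mi ≤ R := sup_le hUR (iSup_le fun g => by
    rintro _ ⟨z, ⟨y, -, rfl⟩, rfl⟩
    exact hRinv g _ ⟨y, rfl⟩)
  have hMiinv : ∀ g, ∀ z ∈ Mi, ρK g z ∈ Mi := by
    intro g z hz
    refine (sup_le ?_ ?_ : Mi ≤ Mi.comap (ρK g)) hz
    · exact fun y hy => Submodule.mem_sup_left (hUinv g y hy)
    · refine iSup_le fun g' => ?_
      rintro _ ⟨y, hy, rfl⟩
      exact Submodule.mem_sup_right (Submodule.mem_iSup_of_mem (g * g') ⟨y, hy, by
        rw [map_mul, Module.End.mul_apply]⟩)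
  have hTinv : ∀ Y : Submodule (GaloisField p m) (Fin nV → GaloisField p m),
      (∀ g, ∀ z ∈ Y, ρK g z ∈ Y) → ∀ z ∈ Y, T z ∈ Y := by
    intro Y hY z hz
    have hN' : ∀ y ∈ Y, N y ∈ Y := fun y hy => by
      rw [hN, LinearMap.sub_apply, Module.End.one_apply]; exact Y.sub_mem (hY a y hy) hy
    have hM' : ∀ y ∈ Y, M y ∈ Y := fun y hy => by
      rw [hM, LinearMap.sub_apply, Module.End.one_apply]; exact Y.sub_mem (hY b y hy) hy
    exact Y.add_mem (hN' _ (hM' z hz)) (hM' _ (hN' z hz))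
  -- the section
  set U₁ : Submodule (GaloisField p m) Mi := U.comap Mi.subtype with hU₁
  let ρQ : X →* Module.End (GaloisField p m) (Mi ⧸ U₁) :=
    { toFun := fun g => U₁.mapQ U₁ ((ρK g).restrict (hMiinv g)) (fun z hz => hUinv g _ hz)
      map_one' := Submodule.linearMap_qext _
        (LinearMap.ext fun z => congrArg Submodule.Quotient.mk (Subtype.ext (by simp)))
      map_mul' := fun x y => Submodule.linearMap_qext _
        (LinearMap.ext fun z => congrArg Submodule.Quotient.mk (Subtype.ext (by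
          simp [Module.End.mul_apply]))) }
  have hρQ : ∀ g (z : Mi), ρQ g (Submodule.Quotient.mk z) =
      Submodule.Quotient.mk ⟨ρK g z, hMiinv g z z.2⟩ := fun g z => rfl
  have hqQ : ∀ g, (ρ g - 1) * (ρ g - 1) = 0 → (ρQ g - 1) * (ρQ g - 1) = 0 := fun g hg' => by
    refine Submodule.linearMap_qext _ ?_
    ext z
    have hz := LinearMap.congr_fun (hqK g hg') (z : Fin nV → GaloisField p m)
    simp only [Module.End.mul_apply, LinearMap.sub_apply, Module.End.one_apply,
      LinearMap.zero_apply] at hz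
    simp only [LinearMap.comp_apply, Submodule.mkQ_apply, Module.End.mul_apply, LinearMap.sub_apply,
      Module.End.one_apply, LinearMap.zero_apply, hρQ, ← Submodule.Quotient.mk_sub]
    rw [Submodule.Quotient.mk_eq_zero]
    show _ ∈ U
    convert U.zero_mem using 1
    simpa [map_sub] using hz
  have hTQ : ∀ q, (((ρQ a - 1) * (ρQ b - 1) + (ρQ b - 1) * (ρQ a - 1) : Module.End _ _)) q = 0 →
      q = 0 := by
    intro q hq
    obtain ⟨z, rfl⟩ := Submodule.Quotient.mk_surjective U₁ q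
    have hTz : T (z : Fin nV → GaloisField p m) ∈ U := by
      simp only [Module.End.mul_apply, LinearMap.add_apply, LinearMap.sub_apply,
        Module.End.one_apply, hρQ, ← Submodule.Quotient.mk_sub, ← Submodule.Quotient.mk_add] at hq
      rw [Submodule.Quotient.mk_eq_zero] at hq
      exact hq
    have hinj : Function.Injective (T.restrict (hTinv U hUinv)) := by
      intro y y' h
      have := hRker ((y : Fin nV → GaloisField p m) - y') (R.sub_mem (hUR y.2) (hUR y'.2)) (by
        rw [map_sub, sub_eq_zero]; exact congrArg Subtype.val h)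
      exact Subtype.ext (sub_eq_zero.1 this)
    obtain ⟨y, hy⟩ := (LinearMap.injective_iff_surjective.1 hinj) ⟨_, hTz⟩
    have := hRker ((z : Fin nV → GaloisField p m) - y) (R.sub_mem (hMiR z.2) (hUR y.2)) (by
      rw [map_sub, sub_eq_zero]; exact (congrArg Subtype.val hy).symm)
    rw [Submodule.Quotient.mk_eq_zero]
    show (z : Fin nV → GaloisField p m) ∈ U
    rw [sub_eq_zero.1 this]; exact y.2
  haveI : Nontrivial (Mi ⧸ U₁) := by
    obtain ⟨z, hz, hzU⟩ := SetLike.not_le_iff_exists.1 hUE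
    exact ⟨⟨Submodule.Quotient.mk ⟨z, hE''Mi hz⟩, 0, fun h =>
      hzU ((Submodule.Quotient.mk_eq_zero U₁).1 h)⟩⟩
  have hnp : ¬ ∀ g, ∃ k : ℕ, ρQ g ^ p ^ k = 1 := by
    intro hall
    obtain ⟨k, hk'⟩ := hall (a * b)
    haveI : CharP (Module.End (GaloisField p m) (Mi ⧸ U₁)) p := charP_of_injective_algebraMap
      (FaithfulSMul.algebraMap_injective (GaloisField p m) _) p
    have hnil : (ρQ (a * b) - 1) ^ p ^ k = 0 := by
      rw [sub_pow_char_pow_of_commute _ _ (Commute.one_right _), hk', one_pow, sub_self]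
    have hnu : ¬ IsUnit (ρQ (a * b) - 1) := fun hu => by
      have h0 := hu.pow (p ^ k)
      rw [hnil, isUnit_zero_iff] at h0
      exact zero_ne_one h0
    obtain ⟨q, hq, hq0⟩ := Submodule.exists_mem_ne_zero_of_ne_bot
      (fun hbot => hnu ((LinearMap.isUnit_iff_ker_eq_bot _).2 hbot))
    have hq1 : ρQ (a * b) q = q := by
      have := LinearMap.mem_ker.1 hq
      rwa [LinearMap.sub_apply, Module.End.one_apply, sub_eq_zero] at this
    refine hq0 (hTQ q ?_)
    set N' := ρQ a - 1 with hN'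
    set M' := ρQ b - 1 with hM'
    have hN2 : N' * N' = 0 := hqQ a ha
    have hM2 : M' * M' = 0 := hqQ b hb
    have hC : ρQ (a * b) = (1 + N') * (1 + M') := by
      rw [map_mul, hN', hM', add_sub_cancel, add_sub_cancel]
    obtain ⟨hCi', he'⟩ := quad_pair_identities hN2 hM2
    have hCi : (1 - M') * (1 - N') * ρQ (a * b) = 1 := by rw [hC]; exact hCi'
    have hq2 : ((1 - M') * (1 - N')) q = q := by
      have := LinearMap.congr_fun hCi q
      rwa [Module.End.mul_apply, hq1, Module.End.one_apply] at this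
    have e : N' * M' + M' * N' = ρQ (a * b) + (1 - M') * (1 - N') - 1 - 1 := by
      rw [hC]; exact he'
    rw [e, LinearMap.sub_apply, LinearMap.sub_apply, LinearMap.add_apply, hq1, hq2,
      Module.End.one_apply]
    abel
  have hirr : ∀ Y : Submodule (GaloisField p m) (Mi ⧸ U₁), (∀ g, ∀ q ∈ Y, ρQ g q ∈ Y) →
      Y = ⊥ ∨ Y = ⊤ := by
    intro Y hY
    set Y₀ := (Y.comap U₁.mkQ).map Mi.subtype with hY₀
    have hUY : U ≤ Y₀ := fun z hz =>
      ⟨⟨z, Submodule.mem_sup_left hz⟩, by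
        show Submodule.Quotient.mk _ ∈ Y
        rw [(Submodule.Quotient.mk_eq_zero U₁).2 hz]; exact Y.zero_mem, rfl⟩
    have hY₀inv : ∀ g, ∀ z ∈ Y₀, ρK g z ∈ Y₀ := by
      rintro g _ ⟨z, hz, rfl⟩
      exact ⟨⟨ρK g z, hMiinv g z z.2⟩, hY g _ hz, rfl⟩
    by_cases hEY : E'' ≤ Y₀
    · right
      refine eq_top_iff.2 fun q _ => ?_
      obtain ⟨z, rfl⟩ := Submodule.Quotient.mk_surjective U₁ q
      have hle : Mi ≤ Y₀ := sup_le hUY (iSup_le fun g => by
        rintro _ ⟨y, hy, rfl⟩
        exact hY₀inv g y (hEY hy))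
      obtain ⟨z', hz', he⟩ := hle z.2
      rwa [Subtype.ext he] at hz'
    · left
      have hle : Nat.card Y₀ ≤ Nat.card U := hUmax Y₀
        ⟨(Submodule.map_subtype_le _ _).trans hMiR, hY₀inv, hEY⟩
      have heq : Y₀.toAddSubgroup = U.toAddSubgroup :=
        (AddSubgroup.eq_of_le_of_card_ge (H := U.toAddSubgroup) (K := Y₀.toAddSubgroup) hUY hle).symm
      refine eq_bot_iff.2 fun q hq => ?_
      obtain ⟨z, rfl⟩ := Submodule.Quotient.mk_surjective U₁ q
      rw [Submodule.mem_bot, Submodule.Quotient.mk_eq_zero]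
      exact (show (z : Fin nV → GaloisField p m) ∈ U.toAddSubgroup from heq ▸ ⟨z, hq, rfl⟩)
  obtain ⟨φ, x, hx, hφa, hφb, U₂, v₀, w₀, hv₀, hU₂, hrel⟩ :=
    exists_slTwo_hom_of_irreducible (p := p) hgen ρQ (hqQ a ha) (hqQ b hb) hnp hk hirr
  obtain rfl : U₂ = ⊥ := (hirr U₂ hU₂).resolve_right fun h => hv₀ (h ▸ Submodule.mem_top)
  simp only [Submodule.mem_bot, sub_eq_zero] at hrel hv₀
  let lift : (Fin 2 → GaloisField p m) →ₗ[GaloisField p m] (Mi ⧸ U₁) :=
    (LinearMap.proj 0).smulRight v₀ + (LinearMap.proj 1).smulRight w₀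
  have hlift : ∀ g c, ρQ g (lift c) =
      lift ((φ g : Matrix (Fin 2) (Fin 2) (GaloisField p m)).mulVec c) := by
    intro g c
    simp only [lift, LinearMap.add_apply, LinearMap.smulRight_apply, LinearMap.proj_apply, map_add,
      map_smul, (hrel g).1, (hrel g).2, Matrix.mulVec, dotProduct, Fin.sum_univ_two]
    module
  have hinjl : ∀ c, lift c = 0 → c = 0 := by
    intro c hc'
    have h1 := hlift a c
    rw [hφa, hc', map_zero] at h1
    have h3 : (x * c 1) • v₀ = 0 := by
      have e : lift ((upU x : Matrix (Fin 2) (Fin 2) (GaloisField p m)).mulVec c) =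
          (x * c 1) • v₀ + lift c := by
        simp [lift, upU_coe, dotProduct, Fin.sum_univ_two]
        module
      rw [e, hc', add_zero] at h1
      exact h1.symm
    have hc1 : c 1 = 0 := (mul_eq_zero.1 ((smul_eq_zero.1 h3).resolve_right hv₀)).resolve_left hx
    have hc0 : c 0 = 0 := by
      have : c 0 • v₀ = 0 := by simpa [lift, hc1] using hc'
      exact (smul_eq_zero.1 this).resolve_right hv₀
    funext i; fin_cases i <;> simp [hc0, hc1]
  have hsurj : ∀ q, ∃ c, lift c = q := by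
    intro q
    rcases hirr (LinearMap.range lift) (by
      rintro g _ ⟨c, rfl⟩; exact ⟨_, (hlift g c).symm⟩) with h | h
    · have hmem : v₀ ∈ LinearMap.range lift := ⟨![1, 0], by simp [lift]⟩
      rw [h, Submodule.mem_bot] at hmem
      exact absurd hmem hv₀
    · exact (h ▸ Submodule.mem_top : q ∈ LinearMap.range lift)
  obtain ⟨t, ht, u, hu, l, vv, ww, hvv, hli, r1, r2, r3, r4, r5, r6⟩ :=
    exists_borel_preimages h2 φ hx hφa hφb P hc
  have hcast : ∀ (y : ZMod p) {W : Type} [AddCommGroup W] [Module (GaloisField p m) W]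
      [Module (ZMod p) W] (z : W), (ZMod.castHom (dvd_refl p) (GaloisField p m) y) • z = y • z := by
    intro y W _ _ _ z
    rw [← ZMod.natCast_zmod_val y, map_natCast, Nat.cast_smul_eq_nsmul, Nat.cast_smul_eq_nsmul]
  set c₁ := ZMod.castHom (dvd_refl p) (GaloisField p m) c with hc₁
  set c₂ := ZMod.castHom (dvd_refl p) (GaloisField p m) c⁻¹ with hc₂
  have hF : ∀ z ∈ Mi, ρK t (ρK t z - c₂ • z) - c₁ • (ρK t z - c₂ • z) ∈ U := by
    intro z hz
    have h : ρQ t (ρQ t (Submodule.Quotient.mk ⟨z, hz⟩) - c₂ • Submodule.Quotient.mk ⟨z, hz⟩) -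
        c₁ • (ρQ t (Submodule.Quotient.mk ⟨z, hz⟩) - c₂ • Submodule.Quotient.mk ⟨z, hz⟩) = 0 := by
      obtain ⟨e, he⟩ := hsurj (Submodule.Quotient.mk ⟨z, hz⟩)
      have hsp := hli.span_eq_top_of_card_eq_finrank (by simp)
      rw [Matrix.range_cons_cons_empty] at hsp
      obtain ⟨s, r, hsr⟩ := Submodule.mem_span_pair.1 (hsp ▸ Submodule.mem_top : e ∈ _)
      rw [← he, ← hsr]
      simp only [map_add, map_smul, map_sub, hlift, r5, r6]
      module
    simp only [hρQ, ← Submodule.Quotient.mk_sub, ← Submodule.Quotient.mk_smul] at h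
    rw [Submodule.Quotient.mk_eq_zero] at h
    exact h
  refine ⟨⟨t, ht, ?_⟩, ⟨t, ht, u, hu, l, ?_⟩⟩
  · -- the eigenvector
    obtain ⟨e', he', he'0, he'c⟩ : ∃ e' ∈ E', e' ≠ 0 ∧
        (ρK t e' = c₁ • e' ∨ ρK t e' = c₂ • e') := by
      by_contra hall
      push Not at hall
      refine hUE ?_
      let F : E' →ₗ[GaloisField p m] E' :=
        ((ρK t - c₁ • (1 : Module.End _ _)) * (ρK t - c₂ • (1 : Module.End _ _))).restrict
          (fun z hz => by
            have h1 : ρK t z - c₂ • z ∈ E' := E'.sub_mem (hE'inv t ht z hz) (E'.smul_mem _ hz)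
            show ρK t (ρK t z - c₂ • z) - c₁ • (ρK t z - c₂ • z) ∈ E'
            exact E'.sub_mem (hE'inv t ht _ h1) (E'.smul_mem _ h1))
      have hFinj : Function.Injective F := by
        refine (injective_iff_map_eq_zero F).2 fun z hz => ?_
        have h0 : ρK t (ρK t z - c₂ • (z : Fin nV → GaloisField p m)) -
            c₁ • (ρK t z - c₂ • (z : Fin nV → GaloisField p m)) = 0 := congrArg Subtype.val hz
        by_contra hz0
        have h1 : ρK t z - c₂ • (z : Fin nV → GaloisField p m) ∈ E' :=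
          E'.sub_mem (hE'inv t ht z z.2) (E'.smul_mem _ z.2)
        by_cases h2' : ρK t z - c₂ • (z : Fin nV → GaloisField p m) = 0
        · exact (hall z z.2 (fun h => hz0 (Subtype.ext h))).2 (sub_eq_zero.1 h2')
        · exact (hall _ h1 h2').1 (sub_eq_zero.1 h0)
      rintro _ ⟨y, hy, rfl⟩
      obtain ⟨y', hy'⟩ := (LinearMap.injective_iff_surjective.1 hFinj) ⟨y, hy⟩
      have hy'' : ρK t (ρK t y' - c₂ • (y' : Fin nV → GaloisField p m)) -
          c₁ • (ρK t y' - c₂ • (y' : Fin nV → GaloisField p m)) = y := congrArg Subtype.val hy'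
      have hcm : ∀ z, (T ^ n) (ρK t z) = ρK t ((T ^ n) z) := fun z => by
        rw [← Module.End.mul_apply, ((hTc t).pow_left n).eq, Module.End.mul_apply]
      rw [← hy'']
      simp only [map_sub, map_smul, hcm]
      have := hF ((T ^ n) y') (hE''Mi ⟨y', y'.2, rfl⟩)
      simpa only [map_sub, map_smul] using this
    obtain ⟨j, hj⟩ : ∃ j, π j e' ≠ 0 := by
      by_contra hall; push Not at hall; exact he'0 (hπinj _ hall)
    have hπE : ∀ j (s : GaloisField p m), π j (s • e') ∈ E := by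
      refine Submodule.span_induction (p := fun z _ => ∀ j (s : GaloisField p m), π j (s • z) ∈ E)
        ?_ ?_ ?_ ?_ he'
      · rintro _ ⟨e, he, rfl⟩ j s
        obtain ⟨r, hr⟩ := hπι j s e
        rw [hr]; exact E.smul_mem r he
      · intro j s; rw [smul_zero, map_zero]; exact E.zero_mem
      · intro y z _ _ hy hz j s; rw [smul_add, map_add]; exact E.add_mem (hy j s) (hz j s)
      · intro r z _ hz j s; rw [smul_smul]; exact hz j _
    refine ⟨π j e', by simpa using hπE j 1, hj, he'c.imp (fun h => ?_) (fun h => ?_)⟩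
    · rw [← hρπ, h, hc₁, hcast, map_smul]
    · rw [← hρπ, h, hc₂, hcast, map_smul]
  · -- the natural pair with the torus element
    obtain ⟨zv, hzv⟩ := Submodule.Quotient.mk_surjective U₁ (lift vv)
    obtain ⟨zw, hzw⟩ := Submodule.Quotient.mk_surjective U₁ (lift ww)
    have key : ∀ g (z z' : Mi), ρQ g (Submodule.Quotient.mk z) = Submodule.Quotient.mk z' →
        ρK g z - (z' : Fin nV → GaloisField p m) ∈ U := fun g z z' h =>
      (Submodule.Quotient.eq U₁).1 ((hρQ g z).symm.trans h)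
    have hpair : IsBorelPair ((ρK u).restrictScalars (ZMod p)) ((ρK l).restrictScalars (ZMod p))
        ((ρK t).restrictScalars (ZMod p)) c c⁻¹ (U.restrictScalars (ZMod p))
        (zv : Fin nV → GaloisField p m) (zw : Fin nV → GaloisField p m) := by
      refine ⟨⟨fun h => hvv (hinjl _ (by
        rw [← hzv]; exact (Submodule.Quotient.mk_eq_zero U₁).2 h)),
        fun z hz => ⟨hUinv u z hz, hUinv l z hz⟩, ?_, ?_, ?_, ?_⟩, fun z hz => hUinv t z hz, ?_, ?_⟩
      · exact key u zv zv (by rw [hzv, hlift, r1])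
      · exact key u zw (zv + zw) (by rw [hzw, hlift, r2, map_add, Submodule.Quotient.mk_add, hzv, hzw])
      · exact key l zv (zv + zw) (by rw [hzv, hlift, r3, map_add, Submodule.Quotient.mk_add, hzv, hzw])
      · exact key l zw zw (by rw [hzw, hlift, r4])
      · rw [← hcast c (zv : Fin nV → GaloisField p m)]
        exact key t zv (c₁ • zv) (by rw [hzv, hlift, r5, map_smul, Submodule.Quotient.mk_smul, hzv])
      · rw [← hcast c⁻¹ (zw : Fin nV → GaloisField p m)]
        exact key t zw (c₂ • zw) (by rw [hzw, hlift, r6, map_smul, Submodule.Quotient.mk_smul, hzw])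
    exact borelPair_descend π hπinj (A' := ρ u) (B' := ρ l) (T' := ρ t)
      (fun j z => hρπ u j z) (fun j z => hρπ l j z) (fun j z => hρπ t j z) hpair

end CfsgLib.PLocal.ZJFail
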