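import Mathlib
import Cfsg.Prelude.Def_PLocal
import Cfsg.Agent.Lib.PLocal.ChainGen
import Cfsg.Agent.Lib.Solvable.PCore

/-!
# A pair generating a subgroup outside the unique maximal subgroup above a Sylow subgroup
-/

set_option autoImplicit false

namespace CfsgLib.PLocal.ZJFail

open Subgroup

universe u

variable {Q : Type u} [Group Q] [Finite Q] {p : ℕ} [hp : Fact p.Prime]

/-- Let `M` be the only maximal subgroup above the Sylow subgroup `P₀` and `D` a conjugation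
invariant set meeting `P₀` outside `O_p`. Then two elements of `D` generate `X ≰ M` having a Sylow
subgroup whose normalizer in `X` lies in `M`. -/
theorem exists_pair (P₀ : Sylow p Q) {M : Subgroup Q} (hP₀ : (P₀ : Subgroup Q) ≤ M)
    (hmax : ∀ K : Subgroup Q, (P₀ : Subgroup Q) ≤ K → K ≠ ⊤ → K ≤ M) (hM : M ≠ ⊤) {D : Set Q}
    (hD : ∀ g, ∀ d ∈ D, g * d * g⁻¹ ∈ D) {y : Q} (hyD : y ∈ D) (hyP : y ∈ (P₀ : Subgroup Q))
    (hyO : y ∉ Cfsg.pCore p Q) :
    ∃ a ∈ D, ∃ b ∈ D, ¬ closure ({a, b} : Set Q) ≤ M ∧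
      ∃ P : Subgroup Q, SylowIn p P (closure ({a, b} : Set Q)) ∧
        closure ({a, b} : Set Q) ⊓ normalizer (P : Set Q) ≤ M := by
  classical
  set P : Subgroup Q := (P₀ : Subgroup Q) with hPdef
  have hPp : IsPGroup p P := P₀.2
  -- `N(⟨D ∩ P⟩) ≤ M`
  set J := closure (D ∩ (P : Set Q)) with hJ
  have hJP : J ≤ P := (closure_le _).2 Set.inter_subset_right
  have hNJ : normalizer (J : Set Q) ≤ M := by
    refine hmax _ (fun r hr => ?_) (fun htop => ?_)
    · refine mem_normalizer_iff_map_conj_eq.2 (Subgroup.eq_of_le_of_card_ge ?_ (card_conjMap r J).ge)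
      rw [hJ, MonoidHom.map_closure, closure_le]
      rintro _ ⟨d, ⟨hd, hdP⟩, rfl⟩
      exact subset_closure ⟨hD r d hd, P.mul_mem (P.mul_mem hr hdP) (P.inv_mem hr)⟩
    · exact hyO (CfsgLib.Solvable.le_pCore (normalizer_eq_top_iff.1 htop) (hPp.to_le hJP)
        (subset_closure ⟨hyD, hyP⟩))
  let T : Q → Q → Set Q := fun x z => D ∩ ((conjMap x P : Subgroup Q) : Set Q) ∩ (conjMap z P : Subgroup Q)
  obtain ⟨g, hgM, hgmax⟩ := Set.exists_max_image {g : Q | g ∉ M} (fun g => (T 1 g).ncard)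
    (Set.toFinite _) (by
      by_contra hne
      exact hM (eq_top_iff.2 fun g _ => by_contra fun hg => hne ⟨g, hg⟩))
  set I₀ := T 1 g with hI₀
  -- two distinct points share at most `I₀`
  have hsame : ∀ (x z : Q) (s : Set Q), s ⊆ D → s ⊆ (conjMap x P : Subgroup Q) →
      s ⊆ (conjMap z P : Subgroup Q) → I₀.ncard < s.ncard → x⁻¹ * z ∈ M := by
    intro x z s h1 h2 h3 hlt
    by_contra hn
    have hle := hgmax _ hn
    have hsub : (fun d => x⁻¹ * d * x) '' s ⊆ T 1 (x⁻¹ * z) := by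
      rintro _ ⟨d, hd, rfl⟩
      refine ⟨⟨?_, ?_⟩, ?_⟩
      · simpa using hD x⁻¹ d (h1 hd)
      · rw [conjMap_one]; exact mem_conjMap.1 (h2 hd)
      · refine mem_conjMap.2 ?_
        have := mem_conjMap.1 (h3 hd)
        rwa [show (x⁻¹ * z)⁻¹ * (x⁻¹ * d * x) * (x⁻¹ * z) = z⁻¹ * d * z by group]
    have h4 := Set.ncard_le_ncard hsub (Set.toFinite _)
    rw [Set.ncard_image_of_injective s fun a b hab => mul_left_cancel (mul_right_cancel hab)] at h4
    omega
  set I := closure I₀ with hI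
  have hI₀P : I₀ ⊆ (P : Set Q) := fun d hd => by simpa using hd.1.2
  have hI₀g : I₀ ⊆ (conjMap g P : Subgroup Q) := fun d hd => hd.2
  have hI₀D : I₀ ⊆ D := fun d hd => hd.1.1
  have hIP : I ≤ P := (closure_le _).2 hI₀P
  have hIg : I ≤ conjMap g P := (closure_le _).2 hI₀g
  have hDI : D ∩ (I : Set Q) = I₀ := Set.Subset.antisymm
    (fun d hd => ⟨⟨hd.1, by rw [conjMap_one]; exact hIP hd.2⟩, hIg hd.2⟩)
    (fun d hd => ⟨hI₀D hd, subset_closure hd⟩)
  have hout : ∀ x : Q, I ≤ conjMap x P → ¬ D ∩ ((conjMap x P : Subgroup Q) : Set Q) ⊆ I₀ →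
      ∃ a ∈ D, a ∈ conjMap x P ∧ a ∉ I ∧ a ∈ normalizer (I : Set Q) := by
    intro x hIx hne
    set E := closure (D ∩ ((conjMap x P : Subgroup Q) : Set Q)) with hE
    have hEx : E ≤ conjMap x P := (closure_le _).2 Set.inter_subset_right
    have hlt : I < E := lt_of_le_of_ne
      ((closure_le _).2 fun d hd => subset_closure ⟨hI₀D hd, hIx (subset_closure hd)⟩)
      fun he => hne fun d hd => hDI ▸ ⟨hd.1, he.ge (subset_closure hd)⟩
    obtain ⟨d, hd, hdI, hdN⟩ := exists_mem_set_normalizer (p := p) (K := I)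
      (D := D ∩ ((conjMap x P : Subgroup Q) : Set Q)) ((hPp.map _).to_le hEx) rfl
      (fun e he d hd => ⟨hD e d hd.1,
        mul_mem (mul_mem (hEx he) hd.2) (inv_mem (hEx he))⟩) (by
        refine le_antisymm ((closure_le _).2 fun d hd => hd.2) ((closure_le _).2 fun d hd => ?_)
        exact subset_closure ⟨⟨hI₀D hd, hIx (subset_closure hd)⟩, subset_closure hd⟩) hlt
    exact ⟨d, hd.1, hd.2, hdI, hdN⟩
  obtain ⟨a, haD, haP, haI, haN⟩ := hout 1 (by rwa [conjMap_one]) fun hsub => hgM (by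
    rw [conjMap_one] at hsub
    refine hNJ (conjMap_eq_self_iff.1 ?_)
    have hle : J ≤ conjMap g J := by
      refine (closure_le _).2 fun d hd => mem_conjMap.2 (subset_closure ⟨?_, ?_⟩)
      · simpa using hD g⁻¹ d hd.1
      · exact mem_conjMap.1 (hI₀g (hsub hd))
    exact (eq_of_le_of_card_ge hle (card_conjMap g J).le).symm)
  rw [conjMap_one] at haP
  obtain ⟨b, hbD, hbP, hbI, hbN⟩ := hout g hIg fun hsub => hgM (by
    refine hNJ (conjMap_eq_self_iff.1 ?_)
    have hle : conjMap g J ≤ J := by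
      rw [hJ, conjMap, MonoidHom.map_closure, closure_le]
      rintro _ ⟨d, hd, rfl⟩
      have h1 : g * d * g⁻¹ ∈ I₀ := hsub ⟨hD g d hd.1, conj_mem_conjMap hd.2⟩
      exact subset_closure ⟨hI₀D h1, hI₀P h1⟩
    exact eq_of_le_of_card_ge hle (card_conjMap g J).ge)
  set N := normalizer (I : Set Q) with hN
  have hlt : ∀ c, c ∉ I → I₀.ncard < (insert c I₀).ncard := fun c hc => by
    rw [Set.ncard_insert_of_notMem (fun h => hc (subset_closure h)) (Set.toFinite _)]; omega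
  have hsylM : SylowIn p P M :=
    ⟨hP₀, hPp, fun h => P₀.not_dvd_index (h.trans (relIndex_dvd_index_of_le hP₀))⟩
  obtain ⟨n, hnN, hn⟩ : ∃ n ∈ N, n * a * n⁻¹ ∉ M := by
    by_contra hall
    push Not at hall
    set Kn := closure {z | ∃ n ∈ N, n * a * n⁻¹ = z} ⊔ I with hKn
    have hKM : Kn ≤ M := sup_le ((closure_le _).2 (by rintro _ ⟨n, hn, rfl⟩; exact hall n hn))
      (hIP.trans hP₀)
    have hKnN : ∀ n ∈ N, conjMap n Kn = Kn := fun n hn => by
      refine eq_of_le_of_card_ge ?_ (card_conjMap n Kn).ge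
      show Subgroup.map _ (closure {z | ∃ n ∈ N, n * a * n⁻¹ = z} ⊔ I) ≤ _
      rw [Subgroup.map_sup, MonoidHom.map_closure]
      refine sup_le_sup ((closure_le _).2 ?_) (conjMap_eq_self_iff.2 hn).le
      rintro _ ⟨_, ⟨m, hm, rfl⟩, rfl⟩
      exact subset_closure ⟨n * m, mul_mem hn hm, by simp [mul_assoc]⟩
    have haK : a ∈ Kn := mem_sup_left (subset_closure ⟨1, one_mem _, by simp⟩)
    obtain ⟨PK, hPK, hPKle⟩ := exists_sylowIn_le (p := p) (H := Kn)
      (hPp.to_le (sup_le (zpowers_le.2 haP) hIP : zpowers a ⊔ I ≤ P))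
      (sup_le (zpowers_le.2 haK) le_sup_right)
    obtain ⟨m, hmM, hm⟩ := hsylM.exists_conj_le hPK.2.1 (hPK.1.trans hKM)
    have hPKm : PK ≤ conjMap m⁻¹ P := fun z hz => mem_conjMap.2 (by
      simpa using hm (conj_mem_conjMap hz))
    have hs : insert a I₀ ⊆ (PK : Set Q) := Set.insert_subset (hPKle (mem_sup_left (mem_zpowers a)))
      fun d hd => hPKle (mem_sup_right (subset_closure hd))
    have hNM : N ≤ M := by
      intro n hn
      have h1 : SylowIn p (conjMap n PK) Kn := by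
        have := hPK.conj n
        rwa [hKnN n hn] at this
      obtain ⟨c, hcK, hc⟩ := hPK.exists_conj_eq h1
      rw [conjMap_conjMap] at hc
      have h2 : (m⁻¹)⁻¹ * (c * n * m⁻¹) ∈ M := by
        refine hsame _ _ _ (Set.insert_subset haD hI₀D) (hs.trans hPKm) ?_ (hlt a haI)
        refine hs.trans ?_
        rw [← conjMap_conjMap]
        exact hc.ge.trans (conjMap_mono hPKm)
      have h3 : c * n ∈ M := by
        have := M.mul_mem (M.mul_mem (M.inv_mem hmM) h2) hmM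
        simpa [mul_assoc] using this
      simpa using M.mul_mem (M.inv_mem (hKM hcK)) h3
    obtain ⟨m', hm'M, hm'⟩ := hsylM.exists_conj_le
      (((hPp.map _).to_le (sup_le (zpowers_le.2 hbP) hIg : zpowers b ⊔ I ≤ conjMap g P)))
      (sup_le (zpowers_le.2 (hNM hbN)) (hIP.trans hP₀))
    have hb' : zpowers b ⊔ I ≤ conjMap m'⁻¹ P := fun z hz => mem_conjMap.2 (by
      simpa using hm' (conj_mem_conjMap hz))
    have h4 : (m'⁻¹)⁻¹ * g ∈ M := hsame _ _ _ (Set.insert_subset hbD hI₀D)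
      (Set.insert_subset (hb' (mem_sup_left (mem_zpowers b)))
        fun d hd => hb' (mem_sup_right (subset_closure hd)))
      (Set.insert_subset hbP hI₀g) (hlt b hbI)
    rw [inv_inv] at h4
    exact hgM (by simpa using M.mul_mem (M.inv_mem hm'M) h4)
  refine ⟨a, haD, n * a * n⁻¹, hD n a haD,
    fun hX => hn (hX (subset_closure (Set.mem_insert_of_mem a rfl))), ?_⟩
  set X := closure ({a, n * a * n⁻¹} : Set Q) with hX
  have hXN : X ≤ N := (closure_le _).2 (Set.insert_subset haN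
    (Set.singleton_subset_iff.2 (mul_mem (mul_mem hnN haN) (inv_mem hnN))))
  obtain ⟨P', hP', hP'le⟩ := exists_sylowIn_le (p := p) (H := X) (hPp.to_le (zpowers_le.2 haP))
    (zpowers_le.2 (subset_closure (Set.mem_insert _ _)))
  refine ⟨P', hP', fun k hk => ?_⟩
  have hp1 : IsPGroup p ↥(P' ⊔ I) :=
    hP'.2.1.to_sup_of_normal_right' (hPp.to_le hIP) (hP'.1.trans hXN)
  obtain ⟨k₀, -, hk₀⟩ := (sylowIn_top P₀).exists_conj_le hp1 le_top
  have hle : P' ⊔ I ≤ conjMap k₀⁻¹ P := fun z hz => mem_conjMap.2 (by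
    simpa using hk₀ (conj_mem_conjMap hz))
  have hs : insert a I₀ ⊆ ((P' ⊔ I : Subgroup Q) : Set Q) :=
    Set.insert_subset (mem_sup_left (hP'le (mem_zpowers a)))
      fun d hd => mem_sup_right (subset_closure hd)
  have hh : (1 : Q)⁻¹ * k₀⁻¹ ∈ M := hsame _ _ _ (Set.insert_subset haD hI₀D)
    (by rw [conjMap_one]; exact Set.insert_subset haP hI₀P) (hs.trans hle) (hlt a haI)
  rw [inv_one, one_mul] at hh
  have hk1 : conjMap k (P' ⊔ I) = P' ⊔ I := by
    show Subgroup.map _ (P' ⊔ I) = _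
    rw [Subgroup.map_sup]
    exact congrArg₂ (· ⊔ ·) (conjMap_eq_self_iff.2 hk.2) (conjMap_eq_self_iff.2 (hXN hk.1))
  have h5 : (k₀⁻¹)⁻¹ * (k * k₀⁻¹) ∈ M := hsame _ _ _ (Set.insert_subset haD hI₀D) (hs.trans hle)
    (hs.trans (by rw [← conjMap_conjMap]; exact hk1.ge.trans (conjMap_mono hle))) (hlt a haI)
  have := M.mul_mem (M.mul_mem hh h5) (M.inv_mem hh)
  simpa [mul_assoc] using this

end CfsgLib.PLocal.ZJFail
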