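import Mathlib
import Cfsg.Prelude.Def_LocalEven
import Cfsg.Agent.Lib.PLocal.SLTwoInvolve
import Cfsg.Agent.Lib.PLocal.ZJFailSection
import Cfsg.Agent.Lib.PLocal.SylowIn
import Cfsg.Agent.Lib.PLocal.ThompsonA

/-!
# Representations on sections; eigenvectors; transport of a section into a subgroup
-/

set_option autoImplicit false

namespace CfsgLib.PLocal.ZJFail

open Subgroup
open scoped commutatorElement MatrixGroups

universe u

variable {p : ℕ} [hp : Fact p.Prime] {G : Type u} [Group G] [Finite G]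

/-- A group acting by endomorphisms on an abelian group of exponent `p`, as a linear representation. -/
theorem exists_rep_of_homs {L : Type u} [Group L] {Q : Type u} [CommGroup Q] [Finite Q]
    (hexp : ∀ q : Q, q ^ p = 1) (f : L → Q →* Q) (h1 : ∀ q, f 1 q = q)
    (hm : ∀ l m q, f (l * m) q = f l (f m q)) :
    ∃ (V : Type u) (_ : AddCommGroup V) (_ : Module (ZMod p) V) (_ : Finite V)
      (ρ : L →* Module.End (ZMod p) V) (e : Q → V), Function.Bijective e ∧
      (∀ x y, e (x * y) = e x + e y) ∧ ∀ l q, ρ l (e q) = e (f l q) := by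
  haveI iM : Module (ZMod p) (Additive Q) := AddCommGroup.zmodModule (n := p) fun x => by
    show Additive.ofMul ((Additive.toMul x) ^ p) = 0
    rw [hexp, ofMul_one]
  exact ⟨Additive Q, inferInstance, iM, inferInstanceAs (Finite Q),
    { toFun := fun l => AddMonoidHom.toZModLinearMap p (MonoidHom.toAdditive (f l))
      map_one' := LinearMap.ext fun z => congrArg Additive.ofMul (h1 (Additive.toMul z))
      map_mul' := fun l m => LinearMap.ext fun z =>
        congrArg Additive.ofMul (hm l m (Additive.toMul z)) },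
    Additive.ofMul, Additive.ofMul.bijective, fun _ _ => rfl, fun _ _ => rfl⟩

/-- The action of `L` on an elementary abelian section `X / X₁`, with the projection. -/
theorem exists_sectionRep {L X X₁ : Subgroup G} (hX₁X : X₁ ≤ X)
    (hX : L ≤ normalizer (X : Set G)) (hX₁ : L ≤ normalizer (X₁ : Set G))
    (hcomm : ⁅X, X⁆ ≤ X₁) (hpow : ∀ v ∈ X, v ^ p ∈ X₁) :
    ∃ (V : Type u) (_ : AddCommGroup V) (_ : Module (ZMod p) V) (_ : Finite V)
      (ρ : L →* Module.End (ZMod p) V) (mk : X → V), Function.Surjective mk ∧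
      (∀ x y : X, mk (x * y) = mk x + mk y) ∧ (∀ x : X, mk x = 0 ↔ (x : G) ∈ X₁) ∧
      ∀ (l : L) (x : X) (hlx : (l : G) * x * (l : G)⁻¹ ∈ X), ρ l (mk x) = mk ⟨_, hlx⟩ := by
  set N := X₁.subgroupOf X with hN
  haveI hNn : N.Normal := ⟨fun a ha g => by
    have h1 : ⁅(g : G), (a : G)⁆ ∈ X₁ := hcomm (commutator_mem_commutator g.2 a.2)
    have := X₁.mul_mem h1 (show (a : G) ∈ X₁ from ha)
    rw [mem_subgroupOf]
    simpa [commutatorElement_def] using this⟩
  letI iC : CommGroup (X ⧸ N) := { (inferInstance : Group (X ⧸ N)) with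
    mul_comm := fun a b => by
      obtain ⟨a, rfl⟩ := QuotientGroup.mk_surjective a
      obtain ⟨b, rfl⟩ := QuotientGroup.mk_surjective b
      refine QuotientGroup.eq.2 ?_
      rw [mem_subgroupOf]
      have h1 : ⁅(b : G)⁻¹, (a : G)⁻¹⁆ ∈ X₁ :=
        hcomm (commutator_mem_commutator (X.inv_mem b.2) (X.inv_mem a.2))
      simpa [commutatorElement_def, mul_assoc] using h1 }
  have hexp : ∀ q : X ⧸ N, q ^ p = 1 := fun q => by
    obtain ⟨a, rfl⟩ := QuotientGroup.mk_surjective q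
    rw [← QuotientGroup.mk_pow]
    refine (QuotientGroup.eq_one_iff (a ^ p)).2 ?_
    rw [mem_subgroupOf]; simpa using hpow a a.2
  let c : L → X →* X := fun l =>
    { toFun := fun x => ⟨(l : G) * x * (l : G)⁻¹, (mem_normalizer_iff.1 (hX l.2) x).1 x.2⟩
      map_one' := Subtype.ext (by simp)
      map_mul' := fun a b => Subtype.ext (by simp [mul_assoc]) }
  have hcN : ∀ l, N ≤ N.comap (c l) := fun l x hx =>
    (mem_normalizer_iff.1 (hX₁ l.2) (x : G)).1 hx
  obtain ⟨V, i1, i2, i3, ρ, e, he, hmul, heq⟩ := exists_rep_of_homs (p := p) (L := ↥L) hexp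
    (fun l => QuotientGroup.map N N (c l) (hcN l))
    (fun q => by
      obtain ⟨a, rfl⟩ := QuotientGroup.mk_surjective q
      rw [QuotientGroup.map_mk]
      exact congrArg _ (Subtype.ext (by simp [c])))
    (fun l m q => by
      obtain ⟨a, rfl⟩ := QuotientGroup.mk_surjective q
      rw [QuotientGroup.map_mk, QuotientGroup.map_mk, QuotientGroup.map_mk]
      exact congrArg _ (Subtype.ext (by simp [c, mul_assoc])))
  have he1 : e 1 = 0 := by
    have := hmul 1 1
    rw [mul_one] at this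
    simpa using this
  refine ⟨V, i1, i2, i3, ρ, fun x => e (QuotientGroup.mk x), fun z => ?_,
    fun x y => hmul (QuotientGroup.mk x) (QuotientGroup.mk y), fun x => ?_, fun l x hlx => ?_⟩
  · obtain ⟨q, rfl⟩ := he.2 z
    obtain ⟨a, rfl⟩ := QuotientGroup.mk_surjective q
    exact ⟨a, rfl⟩
  · constructor
    · intro h
      have := (QuotientGroup.eq_one_iff x).1 (he.1 (h.trans he1.symm))
      rwa [hN, mem_subgroupOf] at this
    · intro h
      show e _ = 0
      rw [(QuotientGroup.eq_one_iff x).2 (by rw [hN, mem_subgroupOf]; exact h), he1]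
  · show ρ l (e _) = e _
    rw [heq, QuotientGroup.map_mk]
    rfl

/-- An element with eigenvalue `c'` on a section of the abelian group `A` has it on a subgroup of
order `p`. -/
theorem exists_eigen_subgroup {A A₁ : Subgroup G} (hA : IsMulCommutative A) (hAp : IsPGroup p A)
    (hA₁ : A₁ ≤ A) {h z : G} (hhA : h ∈ normalizer (A : Set G))
    (hhA₁ : h ∈ normalizer (A₁ : Set G)) (hz : z ∈ A) (hz₁ : z ∉ A₁) {j : ℕ}
    (hzj : h * z * h⁻¹ * (z ^ j)⁻¹ ∈ A₁) :
    ∃ e ∈ A, orderOf e = p ∧ h * e * h⁻¹ = e ^ j := by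
  have hmem : ∀ x ∈ A, h * x * h⁻¹ * (x ^ j)⁻¹ ∈ A := fun x hx =>
    A.mul_mem ((mem_normalizer_iff.1 hhA x).1 hx) (A.inv_mem (A.pow_mem hx j))
  have hmem₁ : ∀ x ∈ A₁, h * x * h⁻¹ * (x ^ j)⁻¹ ∈ A₁ := fun x hx =>
    A₁.mul_mem ((mem_normalizer_iff.1 hhA₁ x).1 hx) (A₁.inv_mem (A₁.pow_mem hx j))
  have hmul : ∀ x ∈ A, ∀ y ∈ A, h * (x * y) * h⁻¹ * ((x * y) ^ j)⁻¹ =
      (h * x * h⁻¹ * (x ^ j)⁻¹) * (h * y * h⁻¹ * (y ^ j)⁻¹) := by
    intro x hx y hy
    have hc : Commute x y := comm_of_isMulCommutative hA hx hy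
    have h1 : (x ^ j)⁻¹ * (h * y * h⁻¹) = (h * y * h⁻¹) * (x ^ j)⁻¹ :=
      comm_of_isMulCommutative hA (A.inv_mem (A.pow_mem hx j)) ((mem_normalizer_iff.1 hhA y).1 hy)
    calc h * (x * y) * h⁻¹ * ((x * y) ^ j)⁻¹
        = h * x * h⁻¹ * (h * y * h⁻¹) * ((x ^ j)⁻¹ * (y ^ j)⁻¹) := by
          rw [hc.mul_pow, mul_inv_rev,
            comm_of_isMulCommutative hA (A.inv_mem (A.pow_mem hy j)) (A.inv_mem (A.pow_mem hx j))]
          group
      _ = h * x * h⁻¹ * ((h * y * h⁻¹) * (x ^ j)⁻¹) * (y ^ j)⁻¹ := by group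
      _ = _ := by rw [← h1]; group
  let D : A →* A := MonoidHom.mk' (fun x => ⟨_, hmem x x.2⟩)
    fun x y => Subtype.ext (hmul x x.2 y y.2)
  obtain ⟨x, hx, hx1⟩ : ∃ x ∈ A, h * x * h⁻¹ * (x ^ j)⁻¹ = 1 ∧ x ≠ 1 := by
    by_contra hall
    push Not at hall
    have hinj : Function.Injective D := (injective_iff_map_eq_one D).2 fun x hx =>
      Subtype.ext (hall x x.2 (congrArg Subtype.val hx))
    let D₁ : A₁ → A₁ := fun x => ⟨_, hmem₁ x x.2⟩
    have hinj₁ : Function.Injective D₁ := fun x y hxy => by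
      have := @hinj ⟨x, hA₁ x.2⟩ ⟨y, hA₁ y.2⟩ (Subtype.ext (congrArg (fun q : A₁ => (q : G)) hxy))
      exact Subtype.ext (congrArg (fun q : A => (q : G)) this)
    obtain ⟨y, hy⟩ := Finite.surjective_of_injective hinj₁ ⟨_, hzj⟩
    have := @hinj ⟨y, hA₁ y.2⟩ ⟨z, hz⟩ (Subtype.ext (congrArg (fun q : A₁ => (q : G)) hy))
    have e : (y : G) = z := congrArg Subtype.val this
    exact hz₁ (e ▸ y.2)
  obtain ⟨k, hk⟩ := (IsPGroup.iff_orderOf (G := A) (p := p)).1 hAp ⟨x, hx⟩
  rw [Subgroup.orderOf_mk] at hk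
  rcases k with _ | k
  · rw [pow_zero, orderOf_eq_one_iff] at hk; exact absurd hk hx1.2
  refine ⟨x ^ p ^ k, A.pow_mem hx _, ?_, ?_⟩
  · rw [orderOf_pow' _ (pow_ne_zero k hp.out.ne_zero), hk,
      Nat.gcd_eq_right (pow_dvd_pow p k.le_succ), pow_succ,
      Nat.mul_div_cancel_left p (pow_pos hp.out.pos k)]
  · rw [← conj_pow, mul_inv_eq_one.1 hx1.1, ← pow_mul, ← pow_mul, mul_comm]

/-- `|N_H(C) : C_H(C)| = p - 1` from an element inducing a generating power. -/
theorem relIndex_of_eigen {H : Subgroup G} {h e : G} (hh : h ∈ H) (he : orderOf e = p) {j : ℕ}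
    (hej : h * e * h⁻¹ = e ^ j) (hj : orderOf (j : ZMod p) = p - 1) :
    (H ⊓ centralizer (zpowers e : Set G)).relIndex (H ⊓ normalizer (zpowers e : Set G)) = p - 1 := by
  set C := zpowers e with hC
  have hcard : Nat.card C = p := by rw [hC, Nat.card_zpowers, he]
  have hhN : h ∈ normalizer (C : Set G) := by
    rw [← conjMap_eq_self_iff]
    refine eq_of_le_of_card_ge ?_ (card_conjMap _ _).ge
    rw [conjMap, hC, MonoidHom.map_zpowers, zpowers_le]
    show h * e * h⁻¹ ∈ zpowers e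
    rw [hej]; exact pow_mem (mem_zpowers e) j
  let ψ : ↥(H ⊓ normalizer (C : Set G)) →* MulAut C :=
    C.normalizerMonoidHom.comp (Subgroup.inclusion inf_le_right)
  have hker : ψ.ker = (H ⊓ centralizer (C : Set G)).subgroupOf (H ⊓ normalizer (C : Set G)) := by
    rw [show ψ.ker = C.normalizerMonoidHom.ker.comap (Subgroup.inclusion inf_le_right) from
      (MonoidHom.comap_ker _ _).symm, Subgroup.normalizerMonoidHom_ker]
    ext x
    simp only [mem_comap, mem_subgroupOf, mem_inf, Subgroup.coe_inclusion]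
    exact ⟨fun hx => ⟨x.2.1, hx⟩, fun hx => hx.2⟩
  haveI : IsCyclic C := isCyclic_of_prime_card hcard
  have haut : Nat.card (MulAut C) = p - 1 := by
    rw [IsCyclic.card_mulAut, hcard, Nat.totient_prime hp.out]
  have hord : p - 1 ∣ Nat.card ψ.range := by
    rw [← hj]
    set a : ↥(H ⊓ normalizer (C : Set G)) := ⟨h, hh, hhN⟩
    refine dvd_trans ?_ (ψ.range.orderOf_dvd_natCard (MonoidHom.mem_range.2 ⟨a, rfl⟩))
    refine orderOf_dvd_of_pow_eq_one ?_
    set i := orderOf (ψ a)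
    have h1 : ψ (a ^ i) = 1 := by rw [map_pow]; exact pow_orderOf_eq_one _
    have h2 : h ^ i * e * (h ^ i)⁻¹ = e := by
      have := congrArg (fun f : MulAut C => ((f ⟨e, mem_zpowers e⟩ : C) : G)) h1
      rw [← SubmonoidClass.coe_pow a i |>.trans rfl] at *
      exact this
    have hit : ∀ n : ℕ, h ^ n * e * (h ^ n)⁻¹ = e ^ j ^ n := by
      intro n
      induction n with
      | zero => simp
      | succ n ih =>
        rw [show h ^ (n + 1) * e * (h ^ (n + 1))⁻¹ = h * (h ^ n * e * (h ^ n)⁻¹) * h⁻¹ by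
          rw [pow_succ']; group, ih, ← conj_pow, hej, ← pow_mul, pow_succ']
    have h3 : e ^ j ^ i = e ^ 1 := by rw [← hit, h2, pow_one]
    rw [pow_eq_pow_iff_modEq, he] at h3
    have := (ZMod.natCast_eq_natCast_iff _ _ p).2 h3
    simpa using this
  have hle : Nat.card ψ.range ∣ p - 1 := haut ▸ Subgroup.card_subgroup_dvd_card _
  rw [relIndex, ← hker, Subgroup.index_ker]
  exact Nat.dvd_antisymm hle hord

end CfsgLib.PLocal.ZJFail
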