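import Mathlib
import Cfsg.Agent.Lib.PLocal.ZJFailQuad
import Cfsg.Agent.Lib.PLocal.ZJTheorem

/-!
# The case `W = Z(J(S)) ≤ U` with `U` normalized by `S`: replacement
-/

set_option autoImplicit false

namespace CfsgLib.PLocal.ZJFail

open Subgroup
open scoped commutatorElement Pointwise

universe u

variable {G : Type u} [Group G] [Finite G] {p : ℕ} [hp : Fact p.Prime]

variable {S H U L : Subgroup G} (hS : Setting p S H U L)
include hS

/-- The third case. -/
theorem Setting.exists_quad_of_normalized (hp2 : p ≠ 2) (hSN : S ≤ normalizer (U : Set G))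
    (hWU : Cfsg.centerThompsonAOf S ≤ U)
    (hWL : ¬ L ≤ normalizer (Cfsg.centerThompsonAOf S : Set G)) :
    ∃ X X₁ y, QuadData p S U L (Cfsg.centerThompsonAOf S) X X₁ y := by
  classical
  set W := Cfsg.centerThompsonAOf S with hWdef
  have hRS : S ⊓ normalizer (U : Set G) = S := inf_eq_left.2 hSN
  have hSL : S ≤ L := hRS ▸ hS.sylow_le
  have hW : S ≤ normalizer (W : Set G) :=
    le_normalizer.trans (normalizer_le_normalizer_centerThompsonAOf S)
  let 𝒯 : Set (Subgroup G) :=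
    {T | T ≤ U ∧ L ≤ normalizer (T : Set G) ∧ ¬ L ≤ normalizer ((W ⊓ T : Subgroup G) : Set G)}
  obtain ⟨B, ⟨hBU, hBn, hBW⟩, hBmin⟩ := Set.exists_min_image 𝒯 (fun T => Nat.card T)
    (Set.toFinite _) ⟨U, le_rfl, hS.norm, by rwa [inf_eq_left.2 hWU]⟩
  have hBS : B ≤ S := hBU.trans hS.le
  have hBp : IsPGroup p B := hS.pgroup.to_le hBS
  have hsmall : ∀ T ≤ B, L ≤ normalizer (T : Set G) → T ≠ B →
      L ≤ normalizer ((W ⊓ T : Subgroup G) : Set G) := fun T hT hTn hne => by
    by_contra hn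
    exact hne (eq_of_le_of_card_ge hT (hBmin T ⟨hT.trans hBU, hTn, hn⟩))
  set N := closure {z | ∃ g ∈ L, ∃ w ∈ W ⊓ B, g * w * g⁻¹ = z} with hN
  have hNB : N = B := by
    have hNB : N ≤ B := (closure_le _).2 (by
      rintro _ ⟨g, hg, w, hw, rfl⟩; exact (mem_normalizer_iff.1 (hBn hg) w).1 hw.2)
    have hNn : L ≤ normalizer (N : Set G) := le_normalizer_of_conj fun g hg x hx => by
      refine ((closure_le _).2 ?_ : N ≤ N.comap (MulAut.conj g).toMonoidHom) hx
      rintro _ ⟨g', hg', w, hw, rfl⟩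
      exact subset_closure ⟨g * g', L.mul_mem hg hg', w, hw, by simp [mul_assoc]⟩
    by_contra hne
    refine hBW ?_
    have h := hsmall N hNB hNn hne
    have e : W ⊓ N = W ⊓ B := le_antisymm (inf_le_inf_left W hNB)
      (le_inf inf_le_left fun w hw => subset_closure ⟨1, L.one_mem, w, hw, by simp⟩)
    rwa [e] at h
  have hB1 : B ≠ ⊥ := fun h0 => hBW (by
    rw [h0, inf_bot_eq]
    exact le_normalizer_of_conj fun g _ x hx => by
      rw [mem_bot] at hx ⊢; rw [hx]; simp)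
  have hDlt : ⁅B, B⁆ ≠ B := fun hBB => by
    have : Nontrivial B := (nontrivial_iff_ne_bot B).mpr hB1
    have := hBp.isNilpotent
    refine (Group.IsSolvable.commutator_lt_top_of_nontrivial (G := B)).ne ?_
    apply Subgroup.map_injective B.subtype_injective
    rw [← MonoidHom.range_eq_map, range_subtype, _root_.commutator_def,
      map_commutator, ← MonoidHom.range_eq_map, range_subtype, hBB]
  have hDn : L ≤ normalizer ((⁅B, B⁆ : Subgroup G) : Set G) := fun g hg => by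
    rw [mem_normalizer_iff_map_conj_eq, map_commutator,
      mem_normalizer_iff_map_conj_eq.1 (hBn hg)]
  set W₁ := W ⊓ ⁅B, B⁆ with hW₁
  have hW₁n : L ≤ normalizer (W₁ : Set G) := hsmall _ (commutator_le_self B) hDn hDlt
  have hDW : ⁅B, B⁆ ≤ W := by
    have hcent : B ≤ modKer B B W₁ := by
      conv_lhs => rw [← hNB]
      refine (closure_le _).2 ?_
      rintro _ ⟨g, hg, w, hw, rfl⟩
      refine ⟨(mem_normalizer_iff.1 (hBn hg) w).1 hw.2, hW₁n (L.mul_mem (L.mul_mem hg
        (hSL (hBS hw.2))) (L.inv_mem hg)), fun v hv => ?_⟩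
      have hv' : g⁻¹ * v * g ∈ B := (mem_normalizer_iff''.1 (hBn hg) v).1 hv
      rw [show g * w * g⁻¹ * v * (g * w * g⁻¹)⁻¹ * v⁻¹ =
        g * ((g⁻¹ * v * g) * w * (g⁻¹ * v * g)⁻¹ * w⁻¹)⁻¹ * g⁻¹ by group]
      refine (mem_normalizer_iff.1 (hW₁n hg) _).1 (W₁.inv_mem ⟨W.mul_mem
        ((mem_normalizer_iff.1 (hW (hBS hv')) w).1 hw.1) (W.inv_mem hw.1), ?_⟩)
      rw [show (g⁻¹ * v * g) * w * (g⁻¹ * v * g)⁻¹ * w⁻¹ = ⁅g⁻¹ * v * g, w⁆ from
        (commutatorElement_def _ _).symm]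
      exact commutator_mem_commutator hv' hw.2
    exact commutator_le.2 fun a ha b hb => by
      rw [commutatorElement_def]; exact ((hcent ha).2.2 b hb).1
  have hpn := hS.le_normalizer_phi hBn
  have hmoved := hS.exists_moved hW hBn hpn hBU (W := W) (Or.inl fun hn => hBW (by
    have h1 : B ≤ (W ⊓ B) ⊔ phi B := by
      conv_lhs => rw [← hNB]
      refine (closure_le _).2 ?_
      rintro _ ⟨g, hg, w, hw, rfl⟩
      exact (mem_normalizer_iff.1 (hn hg) w).1 (mem_sup_left hw)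
    rw [inf_eq_right.2 ((le_of_le_sup_phi inf_le_right h1).trans inf_le_left)]
    exact hBn))
  -- an abelian subgroup of largest order outside `U`
  have hAL : ∃ A ∈ maxAbIn S, ¬ A ≤ U := by
    by_contra hall
    push Not at hall
    refine hWL (hS.norm.trans ?_)
    have hJ : Cfsg.thompsonSubgroupAOf S ≤ U := by
      rw [thompsonAOf_eq]; exact sSup_le hall
    have e : Cfsg.centerThompsonAOf U = W := by
      rw [hWdef, Cfsg.centerThompsonAOf, Cfsg.centerThompsonAOf, thompsonAOf_eq_of_le hJ hS.le]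
    rw [← e]
    exact normalizer_le_normalizer_centerThompsonAOf U
  obtain ⟨A, ⟨hA, hAU⟩, hAmax⟩ := Set.exists_max_image {A | A ∈ maxAbIn S ∧ ¬ A ≤ U}
    (fun A => Nat.card ↥(A ⊓ B)) (Set.toFinite _) (by obtain ⟨A, h1, h2⟩ := hAL; exact ⟨A, h1, h2⟩)
  have hDA : ⁅B, B⁆ ≤ A := fun w hw => mem_maxAbIn_of_centralizes hA
    (hBS (commutator_le_self B hw)) (centralizer_le (le_thompsonAOf hA) (hDW hw).2)
  have hBA : B ≤ normalizer (A : Set G) := by
    by_contra hnn
    obtain ⟨x, hR', hx, -⟩ := exists_replData hS.pgroup hA.2.1 hA.1 hBS (hSL.trans hBn) hDA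
      (fun h => absurd h hp2) hnn
    set A' := replA A x with hA'def
    have hA'S : A' ≤ S := by
      refine hR'.le_sup_conj.trans (sup_le hA.1 ?_)
      rintro _ ⟨b, hb, rfl⟩
      exact S.mul_mem (S.mul_mem (hBS hR'.mem) (hA.1 hb)) (S.inv_mem (hBS hR'.mem))
    have hA' : A' ∈ maxAbIn S :=
      ⟨hA'S, hR'.isMulCommutative, fun E hE hEc => (hA.2.2 E hE hEc).trans hR'.card_eq.ge⟩
    have hA'U : A' ≤ U := by
      by_contra h
      exact absurd (eq_of_le_of_card_ge (hR'.inf_lt hx).le (hAmax A' ⟨hA', h⟩)) (hR'.inf_lt hx).ne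
    set JU := Cfsg.thompsonSubgroupAOf U
    have hJU : JU ≤ Cfsg.thompsonSubgroupAOf S := by
      rw [show JU = _ from thompsonAOf_eq U, thompsonAOf_eq]
      exact sSup_le fun E hE => le_sSup ((maxAbIn_of_le hS.le hA' hA'U).mp hE).1
    have hA'J : A' ≤ JU := le_thompsonAOf ((maxAbIn_of_le hS.le hA' hA'U).mpr ⟨hA', hA'U⟩)
    have hBc : B ≤ centralizer (JU : Set G) := by
      conv_lhs => rw [← hNB]
      refine (closure_le _).2 ?_
      rintro _ ⟨g, hg, w, hw, rfl⟩ j hj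
      have h3 : g⁻¹ * j * g ∈ JU :=
        (mem_normalizer_iff''.1 (normalizer_le_normalizer_thompsonAOf U (hS.norm hg)) j).1 hj
      have h4 : Commute (g⁻¹ * j * g) w := hw.1.2 _ (hJU h3)
      have := (h4.map (MulAut.conj g).toMonoidHom).eq
      simpa [mul_assoc] using this
    have hBA' : B ≤ A' := fun z hz => mem_maxAbIn_of_centralizes hA' (hBS hz)
      (centralizer_le hA'J (hBc hz))
    exact hx (hR'.le_normalizer_self (hBA' hR'.mem))
  obtain ⟨a, haA, haU⟩ := SetLike.not_le_iff_exists.mp hAU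
  refine ⟨B, phi B, a, hBU, phi_le B, hBn, hpn, (phi_comm hBp).1, (phi_comm hBp).2,
    by rw [hRS]; exact hA.1 haA, haU, fun v hv => ?_, hmoved⟩
  have h1 : ⁅v, a⁆ ∈ A := by
    rw [commutatorElement_def]
    exact A.mul_mem ((mem_normalizer_iff.1 (hBA hv) a).1 haA) (A.inv_mem haA)
  rw [commutatorElement_eq_one_iff_mul_comm.2 (comm_of_isMulCommutative hA.2.1 h1 haA)]
  exact one_mem _

end CfsgLib.PLocal.ZJFail
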