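import Mathlib
import Cfsg.Prelude.Def_LocalEven
import Cfsg.Agent.Lib.PLocal.ZJFailAmalgam
import Cfsg.Agent.Lib.PLocal.ZJFailSylow
import Cfsg.Agent.Lib.PLocal.ZJFailPoint
import Cfsg.Agent.Lib.PLocal.ZJFailCore
import Cfsg.Agent.Lib.PLocal.ZJFailRep

/-!
# Failure of `Z(J(S))` to control strong fusion: `F(p)` and a torus
-/

set_option autoImplicit false

namespace CfsgLib.PLocal.ZJFail

open Subgroup
open scoped commutatorElement MatrixGroups

universe u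

variable {p : ℕ} [hp : Fact p.Prime] {G : Type u} [Group G] [Finite G]

/-- A configuration with a quadratic layer gives `F(p)` in `H` and the torus on a subgroup of `W`. -/
theorem Setting.conclusion (h2 : p ≠ 2) {S H U L W X X₁ : Subgroup G} {y : G}
    (hS : Setting p S H U L) (hW : H ≤ normalizer (W : Set G)) (hWc : IsMulCommutative W)
    (hq : QuadData p S U L W X X₁ y) :
    Cfsg.Involves ↥(Cfsg.fOver (ZMod p)) ↥H ∧
      ∃ C : Subgroup G, C ≤ W ∧ Nat.card C = p ∧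
        (H ⊓ centralizer (C : Set G)).relIndex (H ⊓ normalizer (C : Set G)) = p - 1 := by
  classical
  set R := S ⊓ normalizer (U : Set G) with hR
  obtain ⟨V, iV1, iV2, iV3, ρ, mk, hsurj, hmkmul, hmk0, hmkρ⟩ :=
    exists_sectionRep (p := p) (L := L) hq.X₁X hq.normX hq.normX₁ hq.comm hq.powMem
  have hmk1 : mk 1 = 0 := (hmk0 1).2 (by simp)
  have hmkinv : ∀ x, mk x⁻¹ = - mk x := fun x => eq_neg_of_add_eq_zero_left (by
    rw [← hmkmul, inv_mul_cancel, hmk1])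
  have hmkpow : ∀ (x : X) (n : ℕ), mk (x ^ n) = n • mk x := fun x n => by
    induction n with
    | zero => simp [hmk1]
    | succ n ih => rw [pow_succ, hmkmul, ih, succ_nsmul]
  have hmksub : ∀ a b : X, mk a = mk b → (a : G) * (b : G)⁻¹ ∈ X₁ := fun a b h => by
    have := (hmk0 (a * b⁻¹)).1 (by rw [hmkmul, hmkinv, h, add_neg_cancel])
    simpa using this
  have hconjX : ∀ (l : L) (x : X), (l : G) * x * (l : G)⁻¹ ∈ X := fun l x =>
    (mem_normalizer_iff.1 (hq.normX l.2) x).1 x.2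
  -- elements trivial on the image of `W ⊓ X`
  obtain ⟨Kp, hKpL, hRKp, hkKp, x₁, hx₁, hx₁K⟩ := hq.moved
  have hCKp : centralizer (U : Set G) ≤ Kp :=
    (centralizer_le_modKer hS.cent (inf_le_right.trans hq.XU) hq.normX₁).trans hkKp
  have hKpM : Kp ≤ agreeGroup H U ⊓ L :=
    le_inf (hS.agree_of_proper hKpL hRKp hCKp ⟨x₁, hx₁, hx₁K⟩) hKpL
  have htriv : ∀ l : L, (∀ x : X, (x : G) ∈ W → ρ l (mk x) = mk x) → (l : G) ∈ Kp := by
    intro l hl
    refine hkKp ⟨l.2, hq.normX₁ l.2, fun v hv => ?_⟩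
    have h1 := hl ⟨v, hv.2⟩ hv.1
    rw [hmkρ l ⟨v, hv.2⟩ (hconjX l _)] at h1
    exact hmksub _ _ h1
  set Kr : Subgroup L := ρ.ker with hKr
  have hKrC : ∀ l : L, (l : G) ∈ centralizer (U : Set G) → l ∈ Kr := fun l hl => by
    refine MonoidHom.mem_ker.2 (LinearMap.ext fun z => ?_)
    obtain ⟨x, rfl⟩ := hsurj z
    rw [hmkρ l x (hconjX l x), Module.End.one_apply]
    congr 1
    refine Subtype.ext ?_
    show (l : G) * x * (l : G)⁻¹ = x
    rw [← mem_centralizer_iff.1 hl x (hq.XU x.2), mul_inv_cancel_right]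
  set π := QuotientGroup.mk' Kr with hπ
  let ρQ : (↥L ⧸ Kr) →* Module.End (ZMod p) V := QuotientGroup.lift Kr ρ le_rfl
  have hρQ : ∀ l, ρQ (π l) = ρ l := fun l => rfl
  have hRl : SylowIn p R L := hS.sylowL
  let SL : Sylow p L := (hRl.2.1.of_equiv (subgroupOfEquivOfLe hS.sylow_le).symm).toSylow hRl.2.2
  have hSLc : (SL : Subgroup L) = R.subgroupOf L := rfl
  let P₀ := SL.mapSurjective (f := π) (QuotientGroup.mk'_surjective Kr)
  have hP₀ : (P₀ : Subgroup (↥L ⧸ Kr)) = (R.subgroupOf L).map π := Sylow.coe_mapSurjective _ _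
  set Mt : Subgroup L := (agreeGroup H U ⊓ L).subgroupOf L with hMt
  set M := Mt.map π with hM
  have hMmem : ∀ l : L, π l ∈ M → (l : G) ∈ agreeGroup H U := fun l hl => by
    obtain ⟨m, hm, hme⟩ := hl
    have h1 : m⁻¹ * l ∈ Kr := QuotientGroup.eq.1 hme
    have h2 : ((m⁻¹ * l : L) : G) ∈ Kp := htriv _ fun x _ => by
      rw [MonoidHom.mem_ker.1 h1, Module.End.one_apply]
    have := mul_mem (hm : (m : G) ∈ agreeGroup H U ⊓ L).1 (hKpM h2).1
    simpa using this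
  have hP₀M : (P₀ : Subgroup (↥L ⧸ Kr)) ≤ M := by
    rw [hP₀]
    exact map_mono fun r hr => hKpM (hRKp hr)
  have hMtop : M ≠ ⊤ := by
    intro h
    obtain ⟨z, hz, hzn⟩ := hS.not_agree
    exact hzn (hMmem ⟨z, hz⟩ (h ▸ mem_top _)).2
  have hmax : ∀ K : Subgroup (↥L ⧸ Kr), (P₀ : Subgroup (↥L ⧸ Kr)) ≤ K → K ≠ ⊤ → K ≤ M := by
    intro K hK hne q hqK
    obtain ⟨l, rfl⟩ := QuotientGroup.mk'_surjective Kr q
    have hag := hS.minimal ((K.comap π).map L.subtype) (map_subtype_le _)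
      (fun r hr => ⟨⟨r, hS.sylow_le hr⟩, hK (hP₀ ▸ ⟨_, hr, rfl⟩), rfl⟩)
      (fun r hr => ⟨⟨r, hS.cent hr⟩, by
        show π _ ∈ K
        rw [(QuotientGroup.eq_one_iff _).2 (hKrC _ hr) |> fun h => (h : π ⟨r, hS.cent hr⟩ = 1)]
        exact one_mem K, rfl⟩) (by
        obtain ⟨q', hq'⟩ : ∃ q', q' ∉ K := by
          by_contra h; push Not at h; exact hne (eq_top_iff.2 fun q _ => h q)
        obtain ⟨l', rfl⟩ := QuotientGroup.mk'_surjective Kr q'
        refine ⟨l', l'.2, fun h => hq' ?_⟩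
        obtain ⟨m, hm, he⟩ := h
        rwa [← Subtype.ext he]) l ⟨l, hqK, rfl⟩
    exact ⟨l, ⟨⟨hS.norm l.2, hag⟩, l.2⟩, rfl⟩
  -- the invariant set of quadratic elements
  set D : Set (↥L ⧸ Kr) := {q | (ρQ q - 1) * (ρQ q - 1) = 0} with hD
  have hDc : ∀ g, ∀ d ∈ D, g * d * g⁻¹ ∈ D := by
    intro g d hd
    show (ρQ (g * d * g⁻¹) - 1) * (ρQ (g * d * g⁻¹) - 1) = 0
    have e : ρQ (g * d * g⁻¹) - 1 = ρQ g * (ρQ d - 1) * ρQ g⁻¹ := by
      rw [map_mul, map_mul, mul_sub, sub_mul, mul_one, ← map_mul ρQ g g⁻¹, mul_inv_cancel, map_one]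
    rw [e, show ρQ g * (ρQ d - 1) * ρQ g⁻¹ * (ρQ g * (ρQ d - 1) * ρQ g⁻¹) =
      ρQ g * (ρQ d - 1) * (ρQ g⁻¹ * ρQ g) * (ρQ d - 1) * ρQ g⁻¹ by simp only [mul_assoc],
      ← map_mul ρQ g⁻¹ g, inv_mul_cancel, map_one, mul_one, mul_assoc (ρQ g), hd, mul_zero,
      zero_mul]
  set yL : L := ⟨y, hS.sylow_le hq.yR⟩ with hyL
  have hyD : π yL ∈ D := by
    refine LinearMap.ext fun z => ?_
    obtain ⟨x, rfl⟩ := hsurj z
    have hyX := hq.normX (hS.sylow_le hq.yR)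
    set cx : G := y * x * y⁻¹ * (x : G)⁻¹ with hcx
    have hcxX : cx ∈ X := X.mul_mem ((mem_normalizer_iff.1 hyX x).1 x.2) (X.inv_mem x.2)
    have hycxX : y * cx * y⁻¹ ∈ X := (mem_normalizer_iff.1 hyX _).1 hcxX
    have e1 : ρ yL (mk x) - mk x = mk ⟨cx, hcxX⟩ := by
      rw [hmkρ yL x (hconjX yL x), sub_eq_add_neg, ← hmkinv, ← hmkmul]
      rfl
    rw [Module.End.mul_apply, LinearMap.sub_apply, LinearMap.sub_apply, Module.End.one_apply,
      Module.End.one_apply, hρQ, e1, hmkρ yL ⟨cx, hcxX⟩ (hconjX yL _), LinearMap.zero_apply,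
      sub_eq_add_neg, ← hmkinv, ← hmkmul, hmk0]
    show y * cx * y⁻¹ * cx⁻¹ ∈ X₁
    -- `[[x, y], y]` differs from this by a commutator
    have h1 : ⁅⁅(x : G), y⁆, y⁆ ∈ X₁ := hq.quad x x.2
    rw [commutatorElement_def, commutatorElement_def] at h1
    have h2 : cx⁻¹ * (y * cx * y⁻¹) ∈ X₁ := by
      rw [hcx]
      have e : (y * ↑x * y⁻¹ * (↑x)⁻¹)⁻¹ * (y * (y * ↑x * y⁻¹ * (↑x)⁻¹) * y⁻¹) =
          ↑x * y * (↑x)⁻¹ * y⁻¹ * y * (↑x * y * (↑x)⁻¹ * y⁻¹)⁻¹ * y⁻¹ := by group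
      rw [e]; exact h1
    have hc : ⁅y * cx * y⁻¹, cx⁻¹⁆ ∈ X₁ :=
      hq.comm (commutator_mem_commutator hycxX (X.inv_mem hcxX))
    have h3 := X₁.mul_mem hc h2
    rw [commutatorElement_def] at h3
    simpa [mul_assoc] using h3
  have hmov : ∃ x : L, (orderOf (x : G)).Coprime p ∧ x ∉ Kr := by
    by_contra hall
    push Not at hall
    refine hx₁K (le_of_coprime_mem hRl hRKp (fun z hz hzc => htriv ⟨z, hz⟩ fun x _ => ?_) hx₁)
    rw [MonoidHom.mem_ker.1 (hall ⟨z, hz⟩ hzc), Module.End.one_apply]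
  have hyO : π yL ∉ Cfsg.pCore p (↥L ⧸ Kr) := by
    intro hO
    haveI := Cfsg.pCore_normal p (↥L ⧸ Kr)
    set N : Subgroup G := ((Cfsg.pCore p (↥L ⧸ Kr)).comap π).map L.subtype with hN
    have hmemN : ∀ l : L, π l ∈ Cfsg.pCore p (↥L ⧸ Kr) → (l : G) ∈ N := fun l hl => ⟨l, hl, rfl⟩
    refine hq.yU (hS.inf_le_of_not_cover (N := N) (map_subtype_le _) ?_ ?_ ?_ ?_
      ⟨hq.yR, hmemN yL hO⟩)
    · refine le_normalizer_of_conj fun g hg x hx => ?_
      obtain ⟨l, hl, rfl⟩ := hx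
      refine ⟨⟨g, hg⟩ * l * ⟨g, hg⟩⁻¹, ?_, rfl⟩
      simp only [SetLike.mem_coe, mem_comap] at hl ⊢
      rw [map_mul, map_mul, map_inv]
      exact Normal.conj_mem inferInstance _ hl _
    · intro r hr
      haveI : (U.subgroupOf L).Normal := normal_subgroupOf_of_le_normalizer hS.norm
      refine hmemN ⟨r, hS.le_L hr⟩ (CfsgLib.Solvable.le_pCore
        (Normal.map inferInstance π (QuotientGroup.mk'_surjective Kr))
        ((hS.isPGroup_U.of_equiv (subgroupOfEquivOfLe hS.le_L).symm).map π) ?_)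
      exact ⟨⟨r, hS.le_L hr⟩, hr, rfl⟩
    · intro r hr
      refine hmemN ⟨r, hS.cent hr⟩ ?_
      rw [show π ⟨r, hS.cent hr⟩ = 1 from (QuotientGroup.eq_one_iff _).2 (hKrC _ hr)]
      exact one_mem _
    · obtain ⟨x, hxc, hxk⟩ := hmov
      refine ⟨x, x.2, hxc, fun hxN => hxk ?_⟩
      obtain ⟨l, hl, he⟩ := hxN
      obtain rfl : l = x := Subtype.ext he
      obtain ⟨k, hk⟩ := CfsgLib.Solvable.pCore_isPGroup (G := ↥L ⧸ Kr) p ⟨_, hl⟩
      have h1 : (π l) ^ p ^ k = 1 := by simpa using congrArg Subtype.val hk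
      refine (QuotientGroup.eq_one_iff _).1 (orderOf_eq_one_iff.1 (Nat.eq_one_of_dvd_coprimes
        (hxc.pow_right k) ?_ (orderOf_dvd_of_pow_eq_one h1)))
      rw [Subgroup.orderOf_coe]
      exact orderOf_map_dvd π l
  obtain ⟨a, haD, b, hbD, hXM, P, hP, hNP⟩ :=
    exists_pair P₀ hP₀M hmax hMtop hDc hyD (hP₀ ▸ ⟨yL, hq.yR, rfl⟩) hyO
  set Xb := closure ({a, b} : Set (↥L ⧸ Kr)) with hXb
  have haX : a ∈ Xb := subset_closure (Set.mem_insert _ _)
  have hbX : b ∈ Xb := subset_closure (Set.mem_insert_of_mem _ rfl)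
  have hgen : Subgroup.closure {(⟨a, haX⟩ : Xb), ⟨b, hbX⟩} = ⊤ := by
    apply Subgroup.map_injective Xb.subtype_injective
    rw [MonoidHom.map_closure, Set.image_pair, ← MonoidHom.range_eq_map, Subgroup.range_subtype]
    rfl
  let Pb : Sylow p Xb := (hP.2.1.of_equiv (subgroupOfEquivOfLe hP.1).symm).toSylow hP.2.2
  have hPbN : ∀ t ∈ normalizer ((Pb : Subgroup Xb) : Set Xb), (t : ↥L ⧸ Kr) ∈ M := by
    intro t ht
    refine hNP ⟨t.2, ?_⟩
    refine mem_normalizer_iff.2 fun z => ⟨fun hz => ?_, fun hz => ?_⟩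
    · exact (mem_normalizer_iff.1 ht ⟨z, hP.1 hz⟩).1 hz
    · have hzX : z ∈ Xb := by
        have := Xb.mul_mem (Xb.mul_mem (Xb.inv_mem t.2) (hP.1 hz)) t.2
        simpa [mul_assoc] using this
      exact (mem_normalizer_iff.1 ht ⟨z, hzX⟩).2 hz
  -- realise elements of the normalizer in `H`
  have hreal : ∀ t ∈ normalizer ((Pb : Subgroup Xb) : Set Xb), ∃ h ∈ H, h ∈ normalizer (X : Set G) ∧
      h ∈ normalizer (X₁ : Set G) ∧ ∀ (x : X) (hhx : h * x * h⁻¹ ∈ X),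
        ρQ (t : ↥L ⧸ Kr) (mk x) = mk ⟨_, hhx⟩ := by
    intro t ht
    obtain ⟨l, hl⟩ := QuotientGroup.mk'_surjective Kr (t : ↥L ⧸ Kr)
    obtain ⟨-, h, hh, he⟩ := hMmem l (by rw [hl]; exact hPbN t ht)
    have key : ∀ T : Subgroup G, T ≤ U → L ≤ normalizer (T : Set G) →
        h ∈ normalizer (T : Set G) := fun T hTU hTn => by
      refine conjMap_eq_self_iff.1 (eq_of_le_of_card_ge ?_ (card_conjMap h T).ge)
      rintro _ ⟨x, hx, rfl⟩
      show h * x * h⁻¹ ∈ T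
      rw [he x (hTU hx)]
      exact (mem_normalizer_iff.1 (hTn l.2) x).1 hx
    refine ⟨h, hh, key X hq.XU hq.normX, key X₁ (hq.X₁X.trans hq.XU) hq.normX₁, fun x hhx => ?_⟩
    rw [← hl, hρQ, hmkρ l x (hconjX l x)]
    exact congrArg mk (Subtype.ext (he x (hq.XU x.2)).symm)
  let E : Submodule (ZMod p) V := AddSubgroup.toZModSubmodule p
    { carrier := {z | ∃ x : X, (x : G) ∈ W ∧ mk x = z}
      zero_mem' := ⟨1, W.one_mem, hmk1⟩
      add_mem' := by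
        rintro _ _ ⟨x, hx, rfl⟩ ⟨x', hx', rfl⟩
        exact ⟨x * x', W.mul_mem hx hx', hmkmul x x'⟩
      neg_mem' := by
        rintro _ ⟨x, hx, rfl⟩
        exact ⟨x⁻¹, W.inv_mem hx, hmkinv x⟩ }
  have hEmem : ∀ z, z ∈ E ↔ ∃ x : X, (x : G) ∈ W ∧ mk x = z := fun z => Iff.rfl
  have hEinv : ∀ t ∈ normalizer ((Pb : Subgroup Xb) : Set Xb), ∀ e ∈ E,
      (ρQ.comp Xb.subtype) t e ∈ E := by
    intro t ht e he
    obtain ⟨x, hxW, rfl⟩ := (hEmem e).1 he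
    obtain ⟨h, hh, hhX, -, hhe⟩ := hreal t ht
    have hhx : h * x * h⁻¹ ∈ X := (mem_normalizer_iff.1 hhX x).1 x.2
    exact (hEmem _).2 ⟨⟨_, hhx⟩, (mem_normalizer_iff.1 (hW hh) x).1 hxW, (hhe x hhx).symm⟩
  obtain ⟨g, hg⟩ : ∃ g : Xb, ∀ k : ℕ, ∃ e ∈ E, (ρQ.comp Xb.subtype) (g ^ p ^ k) e ≠ e := by
    by_contra hall
    push Not at hall
    refine hXM (le_of_coprime_mem hP (fun z hz => ?_) fun z hz hzc => ?_)
    · exact hPbN ⟨z, hP.1 hz⟩ (le_normalizer (show (⟨z, hP.1 hz⟩ : Xb) ∈ (Pb : Subgroup Xb) from hz))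
    · obtain ⟨k, hk⟩ := hall ⟨z, hz⟩
      obtain ⟨m, hm⟩ := exists_pow_eq_self_of_coprime (x := z) (hzc.pow_right k).symm
      obtain ⟨l, rfl⟩ := QuotientGroup.mk'_surjective Kr z
      refine ⟨l, hKpM (htriv l fun x hx => ?_), rfl⟩
      have hfix : ρQ ((π l) ^ p ^ k) (mk x) = mk x := hk _ ((hEmem _).2 ⟨x, hx, rfl⟩)
      have hpow : ∀ i : ℕ, ρQ (((π l) ^ p ^ k) ^ i) (mk x) = mk x := fun i => by
        induction i with
        | zero => simp
        | succ i ih => rw [pow_succ, map_mul, Module.End.mul_apply, hfix, ih]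
      rw [← hρQ, ← hm]; exact hpow m
  -- the generator of the multiplicative group
  obtain ⟨γ, hγ⟩ := IsCyclic.exists_generator (α := (ZMod p)ˣ)
  have hγgen : ∀ z : ZMod p, z ≠ 0 → ∃ i : ℕ, (γ : ZMod p) ^ i = z := fun z hz => by
    obtain ⟨i, hi⟩ := (IsOfFinOrder.mem_powers_iff_mem_zpowers (isOfFinOrder_of_finite γ)).2
      (hγ (Units.mk0 z hz))
    exact ⟨i, by simpa using congrArg Units.val hi⟩
  have hγord : orderOf (γ : ZMod p) = p - 1 := by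
    rw [orderOf_units, orderOf_eq_card_of_forall_mem_zpowers hγ, Nat.card_eq_fintype_card,
      ZMod.card_units]
  obtain ⟨⟨t₁, ht₁, e, heE, he0, hev⟩, t, ht, uu, huu, ll, U', v', w', hpair⟩ :=
    exists_borel_core h2 hgen (ρQ.comp Xb.subtype) haD hbD Pb E hEinv hg (Units.ne_zero γ)
  have hXS : X ≤ S := hq.XU.trans hS.le
  refine ⟨?_, ?_⟩
  · -- `F(p)`
    obtain ⟨⟨hvU, hUinv, huv, huw, -, -⟩, hTinv, htv, htw⟩ := hpair
    obtain ⟨hu, hhu, huX, -, hue⟩ := hreal uu (le_normalizer huu)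
    obtain ⟨ht', hht, htX, -, hte⟩ := hreal t ht
    obtain ⟨v, rfl⟩ := hsurj v'
    obtain ⟨w, rfl⟩ := hsurj w'
    let Y₁ : Subgroup G :=
      { carrier := {z | ∃ hz : z ∈ X, mk ⟨z, hz⟩ ∈ U'}
        one_mem' := ⟨X.one_mem, by
          rw [show (⟨1, X.one_mem⟩ : X) = 1 from rfl, hmk1]; exact U'.zero_mem⟩
        mul_mem' := by
          rintro z z' ⟨hz, h⟩ ⟨hz', h'⟩
          refine ⟨X.mul_mem hz hz', ?_⟩
          rw [show (⟨z * z', X.mul_mem hz hz'⟩ : X) = ⟨z, hz⟩ * ⟨z', hz'⟩ from rfl, hmkmul]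
          exact U'.add_mem h h'
        inv_mem' := by
          rintro z ⟨hz, h⟩
          refine ⟨X.inv_mem hz, ?_⟩
          rw [show (⟨z⁻¹, X.inv_mem hz⟩ : X) = (⟨z, hz⟩ : X)⁻¹ from rfl, hmkinv]
          exact U'.neg_mem h }
    have hY₁X : Y₁ ≤ X := fun z hz => hz.1
    have hX₁Y : X₁ ≤ Y₁ := fun z hz => ⟨hq.X₁X hz, by
      rw [(hmk0 ⟨z, hq.X₁X hz⟩).2 hz]; exact U'.zero_mem⟩
    have hnorm : ∀ (k : G) (s : Xb), k ∈ normalizer (X : Set G) →
        (∀ (x : X) (hkx : k * x * k⁻¹ ∈ X), ρQ (s : ↥L ⧸ Kr) (mk x) = mk ⟨_, hkx⟩) →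
        (∀ z ∈ U', (ρQ.comp Xb.subtype) s z ∈ U') → k ∈ normalizer (Y₁ : Set G) := by
      intro k s hkX hk hsU
      refine conjMap_eq_self_iff.1 (eq_of_le_of_card_ge ?_ (card_conjMap k Y₁).ge)
      rintro _ ⟨z, ⟨hz, hzU⟩, rfl⟩
      have hkz : k * z * k⁻¹ ∈ X := (mem_normalizer_iff.1 hkX z).1 hz
      refine ⟨hkz, ?_⟩
      have := hsU _ hzU
      rwa [MonoidHom.comp_apply, Subgroup.coe_subtype, hk ⟨z, hz⟩ hkz] at this
    have hXn : X ≤ normalizer (Y₁ : Set G) := le_normalizer_of_conj fun g hg z hz => by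
      have h1 : ⁅g, z⁆ ∈ Y₁ := hX₁Y (hq.comm (commutator_mem_commutator hg (hY₁X hz)))
      have := Y₁.mul_mem h1 hz
      rwa [commutatorElement_def, inv_mul_cancel_right] at this
    set N := H ⊓ normalizer (Y₁ : Set G) with hN
    have hXN : X ≤ N := le_inf (hXS.trans hS.sylowH) hXn
    have huN : hu ∈ N := ⟨hhu, hnorm hu uu huX hue fun z hz => (hUinv z hz).1⟩
    have htN : ht' ∈ N := ⟨hht, hnorm ht' t htX hte hTinv⟩
    haveI : (Y₁.subgroupOf N).Normal := normal_subgroupOf_of_le_normalizer inf_le_right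
    set q := QuotientGroup.mk' (Y₁.subgroupOf N) with hqdef
    have hqeq : ∀ (a b : N) (haX : (a : G) ∈ X) (hbX : (b : G) ∈ X),
        mk ⟨a, haX⟩ - mk ⟨b, hbX⟩ ∈ U' → q a = q b := by
      intro a b haX hbX hab
      have h1 : (a : G) * (b : G)⁻¹ ∈ Y₁ := ⟨X.mul_mem haX (X.inv_mem hbX), by
        rw [show (⟨(a : G) * (b : G)⁻¹, X.mul_mem haX (X.inv_mem hbX)⟩ : X) =
          ⟨a, haX⟩ * (⟨b, hbX⟩ : X)⁻¹ from rfl, hmkmul, hmkinv, ← sub_eq_add_neg]
        exact hab⟩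
      have h2 : q (a * b⁻¹) = 1 := (QuotientGroup.eq_one_iff _).2 h1
      rwa [map_mul, map_inv, mul_inv_eq_one] at h2
    set vN : N := ⟨v, hXN v.2⟩
    set wN : N := ⟨w, hXN w.2⟩
    have hone : ∀ (z : X), q (⟨z, hXN z.2⟩ : N) ^ p = 1 := fun z => by
      rw [← map_pow]
      refine (QuotientGroup.eq_one_iff _).2 ?_
      exact hX₁Y (by simpa using hq.powMem z z.2)
    have hvw : Commute (q vN) (q wN) := by
      show q vN * q wN = q wN * q vN
      rw [← map_mul, ← map_mul]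
      exact hqeq _ _ (X.mul_mem v.2 w.2) (X.mul_mem w.2 v.2) (by
        rw [show (⟨((vN * wN : N) : G), X.mul_mem v.2 w.2⟩ : X) = v * w from rfl,
          show (⟨((wN * vN : N) : G), X.mul_mem w.2 v.2⟩ : X) = w * v from rfl, hmkmul, hmkmul,
          add_comm, sub_self]
        exact U'.zero_mem)
    have hv1 : q vN ≠ 1 := fun h1 => by
      obtain ⟨hz, hzU⟩ : (v : G) ∈ Y₁ := (QuotientGroup.eq_one_iff vN).1 h1
      exact hvU hzU
    have hcs : ∀ (c : ZMod p) (z : X), mk (z ^ c.val) = c • mk z := fun c z => by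
      rw [hmkpow, ← Nat.cast_smul_eq_nsmul (ZMod p), ZMod.natCast_zmod_val]
    have huv' : q ⟨hu, huN⟩ * q vN * (q ⟨hu, huN⟩)⁻¹ = q vN := by
      rw [← map_mul, ← map_inv, ← map_mul]
      have hhx := (mem_normalizer_iff.1 huX v).1 v.2
      refine hqeq _ _ hhx v.2 ?_
      show mk ⟨hu * v * hu⁻¹, hhx⟩ - mk v ∈ U'
      rw [← hue v hhx]; exact huv
    have huw' : q ⟨hu, huN⟩ * q wN * (q ⟨hu, huN⟩)⁻¹ = q vN * q wN := by
      rw [← map_mul, ← map_inv, ← map_mul, ← map_mul]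
      have hhx := (mem_normalizer_iff.1 huX w).1 w.2
      refine hqeq _ _ hhx (X.mul_mem v.2 w.2) ?_
      show mk ⟨hu * w * hu⁻¹, hhx⟩ - _ ∈ U'
      rw [← hue w hhx, show (⟨((vN * wN : N) : G), X.mul_mem v.2 w.2⟩ : X) = v * w from rfl, hmkmul]
      exact huw
    have htv' : q ⟨ht', htN⟩ * q vN * (q ⟨ht', htN⟩)⁻¹ = q vN ^ (γ : ZMod p).val := by
      rw [← map_mul, ← map_inv, ← map_mul, ← map_pow]
      have hhx := (mem_normalizer_iff.1 htX v).1 v.2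
      refine hqeq _ _ hhx (X.pow_mem v.2 _) ?_
      show mk ⟨ht' * v * ht'⁻¹, hhx⟩ - _ ∈ U'
      rw [← hte v hhx,
        show (⟨((vN ^ (γ : ZMod p).val : N) : G), X.pow_mem v.2 _⟩ : X) = v ^ (γ : ZMod p).val from
          Subtype.ext rfl, hcs]
      exact htv
    have htw' : q ⟨ht', htN⟩ * q wN * (q ⟨ht', htN⟩)⁻¹ = q wN ^ (γ : ZMod p)⁻¹.val := by
      rw [← map_mul, ← map_inv, ← map_mul, ← map_pow]
      have hhx := (mem_normalizer_iff.1 htX w).1 w.2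
      refine hqeq _ _ hhx (X.pow_mem w.2 _) ?_
      show mk ⟨ht' * w * ht'⁻¹, hhx⟩ - _ ∈ U'
      rw [← hte w hhx,
        show (⟨((wN ^ (γ : ZMod p)⁻¹.val : N) : G), X.pow_mem w.2 _⟩ : X) =
          w ^ (γ : ZMod p)⁻¹.val from Subtype.ext rfl, hcs]
      exact htw
    obtain ⟨K, f, hf⟩ := fOver_sec_of_elements h2 (Units.ne_zero γ) hγgen (hone v) (hone w) hvw hv1
      huv' huw' htv' htw'
    obtain ⟨K₁, f₁, -, hf₁⟩ := sec_of_quotient (Y₁.subgroupOf N) f hf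
    obtain ⟨K₂, f₂, hK₂, hf₂⟩ := sec_of_subgroup N f₁ hf₁
    have hK₂H : K₂ ≤ H := hK₂.trans inf_le_left
    obtain ⟨K', R', hn', -, hiso⟩ := sec_quotient_form (H := (⊤ : Subgroup H)) (le_top)
      (f₂.comp (subgroupOfEquivOfLe hK₂H).toMonoidHom)
      (hf₂.comp (subgroupOfEquivOfLe hK₂H).surjective)
    exact ⟨K', R', hn', hiso⟩
  · -- the torus
    obtain ⟨x, hxW, rfl⟩ := (hEmem e).1 heE
    obtain ⟨h, hh, hhX, hhX₁, hhe⟩ := hreal t₁ ht₁
    have hhWX : ∀ T : Subgroup G, h ∈ normalizer (T : Set G) →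
        h ∈ normalizer ((W ⊓ T : Subgroup G) : Set G) := fun T hT => by
      rw [← conjMap_eq_self_iff, conjMap_inf, conjMap_eq_self_iff.2 (hW hh),
        conjMap_eq_self_iff.2 hT]
    obtain ⟨c', hc', hec⟩ : ∃ c' : ZMod p, orderOf c' = p - 1 ∧
        ρQ (t₁ : ↥L ⧸ Kr) (mk x) = c' • mk x := by
      rcases hev with h' | h'
      · exact ⟨γ, hγord, h'⟩
      · refine ⟨(γ : ZMod p)⁻¹, ?_, h'⟩
        rw [← Units.val_inv_eq_inv_val, orderOf_units, orderOf_inv, ← orderOf_units, hγord]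
    have hhx : h * x * h⁻¹ ∈ X := (mem_normalizer_iff.1 hhX x).1 x.2
    have hzj : h * x * h⁻¹ * ((x : G) ^ c'.val)⁻¹ ∈ W ⊓ X₁ := by
      refine ⟨W.mul_mem ((mem_normalizer_iff.1 (hW hh) x).1 hxW) (W.inv_mem (W.pow_mem hxW _)), ?_⟩
      have := hmksub ⟨_, hhx⟩ (x ^ c'.val) (by
        rw [← hhe x hhx, hec, hmkpow, ← Nat.cast_smul_eq_nsmul (ZMod p), ZMod.natCast_zmod_val])
      simpa using this
    have hA : IsMulCommutative ↥(W ⊓ X) := ⟨⟨fun a b => Subtype.ext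
      (comm_of_isMulCommutative hWc a.2.1 b.2.1)⟩⟩
    obtain ⟨z, hz, hzo, hzh⟩ := exists_eigen_subgroup (p := p) hA
      (hS.pgroup.to_le (inf_le_right.trans hXS)) (inf_le_inf_left W hq.X₁X) (hhWX X hhX)
      (hhWX X₁ hhX₁) ⟨hxW, x.2⟩ (fun hx => he0 ((hmk0 x).2 hx.2)) hzj
    refine ⟨zpowers z, zpowers_le.2 hz.1, by rw [Nat.card_zpowers, hzo],
      relIndex_of_eigen hh hzo hzh ?_⟩
    rw [ZMod.natCast_zmod_val, hc']

/-- The theorem. -/
theorem main (h2 : p ≠ 2) (S : Sylow p G)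
    (h : ¬ Cfsg.ControlsStrongFusion p (Cfsg.centerThompsonAOf (S : Subgroup G))) :
    Cfsg.Involves ↥(Cfsg.fOver (ZMod p))
        ↥(normalizer (Cfsg.centerThompsonAOf (S : Subgroup G) : Set G)) ∧
      ∃ C : Subgroup G, C ≤ Cfsg.centerThompsonAOf (S : Subgroup G) ∧ Nat.card C = p ∧
        (normalizer (Cfsg.centerThompsonAOf (S : Subgroup G) : Set G) ⊓
            centralizer (C : Set G)).relIndex
          (normalizer (Cfsg.centerThompsonAOf (S : Subgroup G) : Set G) ⊓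
            normalizer (C : Set G)) = p - 1 := by
  set W := Cfsg.centerThompsonAOf (S : Subgroup G) with hWdef
  set H := normalizer (W : Set G) with hH
  have hN : normalizer ((S : Subgroup G) : Set G) ≤ H :=
    normalizer_le_normalizer_centerThompsonAOf _
  have hWS : W ≤ (S : Subgroup G) := centerThompsonAOf_le _
  have hW : (S : Subgroup G) ≤ normalizer (W : Set G) := le_normalizer.trans hN
  have hWc : IsMulCommutative W := centerThompsonAOf_comm _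
  obtain ⟨A, hA, hfail⟩ : ∃ A : Set G, A ⊆ (S : Subgroup G) ∧
      ¬ Cfsg.ControlsStrongFusionOf H (S : Subgroup G) A := by
    by_contra hall
    push Not at hall
    exact h ⟨S, hWS, hall⟩
  obtain ⟨U, L, hS⟩ := exists_setting S hN hA hfail
  have hWL : ¬ L ≤ normalizer (W : Set G) := fun hle => by
    obtain ⟨x, hx, hxn⟩ := hS.not_agree
    exact hxn (agreesOn_of_mem U (hle hx))
  obtain ⟨X, X₁, y, hq⟩ : ∃ X X₁ y, QuadData p (S : Subgroup G) U L W X X₁ y := by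
    by_cases hWU : W ≤ U
    · rcases eq_or_lt_of_le (inf_le_left :
        (S : Subgroup G) ⊓ normalizer (U : Set G) ≤ (S : Subgroup G)) with heq | hlt
      · exact hS.exists_quad_of_normalized h2 (inf_eq_left.1 heq) hWU hWL
      · exact hS.exists_quad_of_lt hW hWc le_rfl hWL hWU hlt
    · exact hS.exists_quad_of_not_le hWS hW hWc hWU
  exact hS.conclusion h2 le_rfl hWc hq

end CfsgLib.PLocal.ZJFail
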